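import Mathlib.AlgebraicGeometry.Morphisms.SchemeTheoreticallyDominant
import Mathlib.AlgebraicGeometry.Morphisms.ClosedImmersion

universe u
open CategoryTheory AlgebraicGeometry

namespace Groth.Flatmor4

lemma isSchemeTheoreticallyDominant_toImage {X Y : Scheme.{u}} (f : X ⟶ Y) [QuasiCompact f] :
    IsSchemeTheoreticallyDominant f.toImage := by
  constructor
  refine Scheme.IdealSheafData.ext_of_iSup_eq_top
    (U := fun V : Y.affineOpens => (⟨f.imageι ⁻¹ᵁ V.1, V.2.preimage f.imageι⟩ : f.image.affineOpens))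
    ?_ fun V => ?_
  · refine eq_top_iff.mpr fun x _ => TopologicalSpace.Opens.mem_iSup.mpr ?_
    obtain ⟨V, hV, hxV, -⟩ := exists_isAffineOpen_mem_and_subset (x := f.imageι x) (U := ⊤) trivial
    exact ⟨⟨V, hV⟩, hxV⟩
  · rw [Scheme.Hom.ker_apply, Scheme.IdealSheafData.ideal_bot]
    exact (RingHom.injective_iff_ker_eq_bot _).mp (f.toImage_app_injective V)

end Groth.Flatmor4
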