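import Mathlib.AlgebraicGeometry.Morphisms.UniversallyOpen
import Mathlib.AlgebraicGeometry.Stalk
import Mathlib.AlgebraicGeometry.FunctionField
import Mathlib.AlgebraicGeometry.Properties
import Mathlib.RingTheory.DiscreteValuationRing.TFAE
import Mathlib.RingTheory.RegularLocalRing.Defs
import Mathlib.RingTheory.Flat.TorsionFree
import Mathlib.RingTheory.Ideal.MinimalPrime.Basic

universe u
open CategoryTheory AlgebraicGeometry

namespace Groth.Flatmor4

variable {X Y : Scheme.{u}}

lemma ringKrullDim_stalk_le (y : Y) :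
    ringKrullDim (Y.presheaf.stalk y) ≤ topologicalKrullDim Y := by
  rw [← PrimeSpectrum.topologicalKrullDim_eq_ringKrullDim]
  exact (Y.fromSpecStalk y).isEmbedding.isInducing.topologicalKrullDim_le

lemma isBezout_of_regular_dim_le_one {A : Type u} [CommRing A] [IsDomain A] [IsRegularLocalRing A]
    (h : ringKrullDim A ≤ 1) : IsBezout A := by
  have h1 : (IsLocalRing.maximalIdeal A).spanFinrank ≤ 1 := by
    have := IsRegularLocalRing.spanFinrank_maximalIdeal (R := A)
    rw [← this] at h
    exact_mod_cast h
  have hp : (IsLocalRing.maximalIdeal A).IsPrincipal := by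
    have hfg : (IsLocalRing.maximalIdeal A).FG := IsNoetherian.noetherian _
    obtain hc := Submodule.FG.exists_span_set_encard_eq_spanFinrank hfg
    obtain ⟨s, hs, hspan⟩ := hc
    have hsub : s.Subsingleton := by
      rw [← Set.encard_le_one_iff_subsingleton, hs]
      exact_mod_cast h1
    rcases hsub.eq_empty_or_singleton with rfl | ⟨a, rfl⟩
    · exact ⟨0, by rw [← hspan]; simp⟩
    · exact ⟨a, hspan.symm⟩
  haveI : IsPrincipalIdealRing A :=
    ((tfae_of_isNoetherianRing_of_isLocalRing_of_isDomain (R := A)).out 0 4).mpr hp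
  infer_instance

theorem flat_iff_components_dominate [IsIntegral Y]
    (hreg : ∀ y : Y, IsRegularLocalRing (Y.presheaf.stalk y)) (hdim : topologicalKrullDim Y ≤ 1)
    (f : X ⟶ Y) [IsReduced X] :
    Flat f ↔ ∀ Z ∈ irreducibleComponents (X : Type u), Dense (f.base '' Z) := by
  constructor
  · intro hf Z hZ
    obtain ⟨ζ, hζ⟩ := QuasiSober.sober hZ.1 (isClosed_of_mem_irreducibleComponents Z hZ)
    obtain ⟨w, hw, hfw⟩ := (Flat.generalizingMap f)
      ((genericPoint_spec Y).specializes (Set.mem_univ (f ζ)) : genericPoint Y ⤳ f ζ)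
    have hsub : Z ⊆ closure {w} := by
      rw [← hζ.def]
      exact closure_minimal (Set.singleton_subset_iff.mpr (hw : w ⤳ ζ).mem_closure) isClosed_closure
    have hwZ : w ∈ Z := hZ.2 isIrreducible_singleton.closure hsub (subset_closure rfl)
    refine Dense.mono (Set.singleton_subset_iff.mpr ⟨w, hwZ, hfw⟩) ?_
    rw [dense_iff_closure_eq]
    exact genericPoint_spec Y
  · intro H
    refine Flat.of_stalkMap f fun x => ?_
    letI := (f.stalkMap x).hom.toAlgebra
    haveI := hreg (f x)
    haveI : IsBezout (Y.presheaf.stalk (f x)) :=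
      isBezout_of_regular_dim_le_one ((ringKrullDim_stalk_le _).trans hdim)
    show Module.Flat (Y.presheaf.stalk (f x)) (X.presheaf.stalk x)
    rw [Module.Flat.flat_iff_torsion_eq_bot_of_isBezout, Submodule.eq_bot_iff]
    intro b hb
    obtain ⟨⟨a, ha⟩, hab⟩ := hb
    have hab' : (f.stalkMap x).hom a * b = 0 := hab
    suffices hq : ∀ q ∈ minimalPrimes (X.presheaf.stalk x), b ∈ q by
      have h1 : b ∈ (⊥ : Ideal (X.presheaf.stalk x)).radical := by
        rw [← Ideal.sInf_minimalPrimes, Ideal.mem_sInf]
        exact fun {q} hq' => hq q hq'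
      exact h1.elim fun n hn => eq_zero_of_pow_eq_zero hn
    intro q hq
    haveI : q.IsPrime := hq.1.1
    refine (hq.1.1.mem_or_mem (hab'.symm ▸ q.zero_mem)).resolve_left fun haq => ?_
    let qq : Spec (X.presheaf.stalk x) := ⟨q, inferInstance⟩
    let ζ := X.fromSpecStalk x qq
    have hmax : ∀ z, z ⤳ ζ → z = ζ := fun z hz => by
      obtain ⟨p, rfl⟩ : z ∈ Set.range (X.fromSpecStalk x) := by
        have hζ : ζ ⤳ x := by
          have : ζ ∈ Set.range (X.fromSpecStalk x) := ⟨qq, rfl⟩
          rwa [Scheme.range_fromSpecStalk] at this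
        rw [Scheme.range_fromSpecStalk]
        exact hz.trans hζ
      have hp : p ⤳ qq := (X.fromSpecStalk x).isEmbedding.isInducing.specializes_iff.mp hz
      have hle : p.asIdeal ≤ q := (PrimeSpectrum.le_iff_specializes p qq).mpr hp
      have : p = qq := PrimeSpectrum.ext (le_antisymm hle (hq.2 ⟨p.isPrime, bot_le⟩ hle))
      rw [this]
    have hcomp : closure {ζ} ∈ irreducibleComponents (X : Type u) := by
      refine ⟨isIrreducible_singleton.closure, fun T hT hsub => ?_⟩
      obtain ⟨g, hg⟩ := QuasiSober.sober hT.closure isClosed_closure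
      have : g = ζ := hmax g (hg.specializes (subset_closure (hsub (subset_closure rfl))))
      calc T ⊆ closure T := subset_closure
        _ = closure {ζ} := by rw [← hg.def, this]
    have hgen : f ζ = genericPoint Y := by
      refine IsGenericPoint.eq ?_ (genericPoint_spec Y)
      rw [IsGenericPoint, Set.eq_univ_iff_forall]
      intro y
      refine closure_minimal ?_ isClosed_closure (H _ hcomp y)
      rintro _ ⟨z, hz, rfl⟩
      exact ((specializes_iff_mem_closure.mpr hz).map f.continuous).mem_closed isClosed_closure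
        (subset_closure rfl)
    let b0 : Spec (Y.presheaf.stalk (f x)) := ⟨⊥, Ideal.isPrime_bot⟩
    have e1 : Y.fromSpecStalk (f x) (Spec.map (f.stalkMap x) qq) = f ζ := by
      rw [← Scheme.Hom.comp_apply, Scheme.SpecMap_stalkMap_fromSpecStalk]; rfl
    have e2 : Y.fromSpecStalk (f x) b0 = genericPoint Y := by
      have hr : genericPoint Y ∈ Set.range (Y.fromSpecStalk (f x)) := by
        rw [Scheme.range_fromSpecStalk]
        exact (genericPoint_spec Y).specializes (Set.mem_univ (f x))
      obtain ⟨g, hg⟩ := hr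
      have hs : b0 ⤳ g := (PrimeSpectrum.le_iff_specializes b0 g).mp (show b0.asIdeal ≤ g.asIdeal from bot_le)
      have := hs.map (Y.fromSpecStalk (f x)).continuous
      rw [hg] at this
      exact (this.antisymm ((genericPoint_spec Y).specializes (Set.mem_univ _))).eq
    have e3 : Spec.map (f.stalkMap x) qq = b0 :=
      (Y.fromSpecStalk (f x)).isEmbedding.injective (by rw [e1, e2, hgen])
    have e4 : a ∈ (Spec.map (f.stalkMap x) qq).asIdeal := haq
    rw [e3] at e4
    exact nonZeroDivisors.ne_zero ha (Ideal.mem_bot.mp e4)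

end Groth.Flatmor4
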