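import Groth.Prelude.Def_FlatMod2
import Groth.Agent.QCohMod.Affine
import Groth.Agent.QCohMod.QCQS
import Groth.Agent.QCohMod.Pullback
import Mathlib.RingTheory.Flat.Localization
import Mathlib.RingTheory.Flat.FaithfullyFlat.Algebra
import Mathlib.RingTheory.RingHom.Flat
import Mathlib.AlgebraicGeometry.Morphisms.Affine

/-!
Flatness of a quasi-coherent module over a base, read off on affine opens and through inverse images.
-/

set_option autoImplicit false
set_option linter.style.haveILetI false

universe u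

open CategoryTheory AlgebraicGeometry Opposite TopologicalSpace Groth.QCohMod TensorProduct

namespace Groth.Flatmor4

/-- A localization (in the variable ring) of a flat module is flat. -/
theorem flat_of_isLocalizedModule_tower {R A M M' : Type u} [CommRing R] [CommRing A] [Algebra R A]
    [AddCommGroup M] [Module R M] [Module A M] [IsScalarTower R A M]
    [AddCommGroup M'] [Module R M'] [Module A M'] [IsScalarTower R A M'] (p : Submonoid A)
    (f : M →ₗ[A] M') [IsLocalizedModule p f] [Module.Flat R M] : Module.Flat R M' := by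
  rw [Module.Flat.iff_lTensor_injectiveₛ]
  intro P _ _ N
  have h : Function.Injective (AlgebraTensorModule.lTensor A M N.subtype) :=
    Module.Flat.lTensor_preserves_injective_linearMap _ Subtype.val_injective
  rw [← AlgebraTensorModule.coe_lTensor (A := A)]
  have := IsLocalizedModule.map_injective p (AlgebraTensorModule.rTensor R N f)
    (AlgebraTensorModule.rTensor R P f) (AlgebraTensorModule.lTensor A M N.subtype) h
  rwa [IsLocalizedModule.map_lTensor] at this

/-- Descent of flatness over the base along a faithfully flat change of the variable ring. -/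
theorem flat_tensor_iff {R A B M : Type u} [CommRing R] [CommRing A] [CommRing B] [Algebra R A]
    [Algebra A B] [Algebra R B] [IsScalarTower R A B] [AddCommGroup M] [Module R M] [Module A M]
    [IsScalarTower R A M] [Module.FaithfullyFlat A B] :
    Module.Flat R (B ⊗[A] M) ↔ Module.Flat R M := by
  simp_rw [Module.Flat.iff_lTensor_injectiveₛ]
  refine forall_congr' fun P => forall_congr' fun _ => forall_congr' fun _ =>
    forall_congr' fun N => ?_
  rw [← AlgebraTensorModule.coe_lTensor (A := A) (M := M),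
    ← Module.FaithfullyFlat.lTensor_injective_iff_injective A B]
  let eN := AlgebraTensorModule.assoc R A B B M N
  let eP := AlgebraTensorModule.assoc R A B B M P
  have hsq : ∀ z, eP (LinearMap.lTensor (B ⊗[A] M) N.subtype z) =
      LinearMap.lTensor B (AlgebraTensorModule.lTensor A M N.subtype) (eN z) := by
    intro z
    induction z with
    | zero => simp
    | tmul w n =>
      induction w with
      | zero => simp [zero_tmul]
      | tmul b m => simp [eN, eP]
      | add v w hv hw => simp only [add_tmul, map_add, hv, hw]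
    | add v w hv hw => simp only [map_add, hv, hw]
  constructor
  · intro h z w hzw
    obtain ⟨z, rfl⟩ := eN.surjective z
    obtain ⟨w, rfl⟩ := eN.surjective w
    rw [← hsq, ← hsq] at hzw
    exact congrArg eN (h (eP.injective hzw))
  · intro h z w hzw
    apply eN.injective
    apply h
    rw [← hsq, ← hsq, hzw]

variable {X S : Scheme.{u}} (f : X ⟶ S) (F : X.Modules)

/-- The `Γ(S, V)`-module of sections over `U`. -/
noncomputable abbrev sectionModule {U : X.Opens} {V : S.Opens} (e : U ≤ f ⁻¹ᵁ V) :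
    Module Γ(S, V) Γ(F, U) :=
  Module.compHom _ (f.appLE V U e).hom

variable [F.IsQuasicoherent]

/-- Flatness at the points of an affine open. -/
theorem flat_sections_iff {U : X.Opens} (hU : IsAffineOpen U) {V : S.Opens} (hV : IsAffineOpen V)
    (e : U ≤ f ⁻¹ᵁ V) :
    (letI := sectionModule f F e; Module.Flat Γ(S, V) Γ(F, U)) ↔
      ∀ x ∈ U, FlatMod.IsFlatOverAt f F x := by
  letI := (f.appLE V U e).hom.toAlgebra
  letI := sectionModule f F e
  haveI : IsScalarTower Γ(S, V) Γ(X, U) Γ(F, U) := .of_algebraMap_smul fun _ _ => rfl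
  have key : ∀ (x : X) (hx : x ∈ U),
      letI := stalkModule F x hx
      letI : Module Γ(S, V) (F.presheaf.stalk x) :=
        Module.compHom _ ((X.presheaf.germ U x hx).hom.comp (f.appLE V U e).hom)
      FlatMod.IsFlatOverAt f F x ↔ Module.Flat Γ(S, V) (F.presheaf.stalk x) := by
    intro x hx
    letI : Module Γ(S, V) (F.presheaf.stalk x) :=
      Module.compHom _ ((X.presheaf.germ U x hx).hom.comp (f.appLE V U e).hom)
    letI := FlatMod.moduleStalkOver f F x
    letI := TopCat.Presheaf.algebra_section_stalk S.presheaf ⟨f x, e hx⟩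
    haveI : IsScalarTower Γ(S, V) (S.presheaf.stalk (f x)) (F.presheaf.stalk x) :=
      .of_algebraMap_smul fun r t => by
        change f.stalkMap x (S.presheaf.germ V (f x) (e hx) r) • t =
          X.presheaf.germ U x hx (f.appLE V U e r) • t
        rw [Scheme.Hom.germ_stalkMap_apply]
        congr 1
        exact (TopCat.Presheaf.germ_res_apply X.presheaf (homOfLE e) x hx _).symm
    haveI := hV.isLocalization_stalk ⟨f x, e hx⟩
    exact Module.flat_iff_of_isLocalization (S.presheaf.stalk (f x))
      (hV.primeIdealOf ⟨f x, e hx⟩).asIdeal.primeCompl (F.presheaf.stalk x)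
  constructor
  · intro h x hx
    letI := stalkModule F x hx
    letI : Module Γ(S, V) (F.presheaf.stalk x) :=
      Module.compHom _ ((X.presheaf.germ U x hx).hom.comp (f.appLE V U e).hom)
    haveI : IsScalarTower Γ(S, V) Γ(X, U) (F.presheaf.stalk x) := .of_algebraMap_smul fun _ _ => rfl
    haveI := isLocalizedModule_germ F hU x hx
    exact (key x hx).mpr
      (flat_of_isLocalizedModule_tower (hU.primeIdealOf ⟨x, hx⟩).asIdeal.primeCompl (germₗ F x hx))
  · intro h
    have hpt : ∀ P : Ideal Γ(X, U), P.IsMaximal →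
        ∃ (x : X) (hx : x ∈ U), (hU.primeIdealOf ⟨x, hx⟩).asIdeal = P := by
      intro P hP
      let q : PrimeSpectrum Γ(X, U) := ⟨P, hP.isPrime⟩
      have hqU : hU.fromSpec q ∈ U := by
        change hU.fromSpec q ∈ (U : Set X)
        rw [← hU.range_fromSpec]; exact ⟨q, rfl⟩
      exact ⟨_, hqU, congrArg PrimeSpectrum.asIdeal
        (hU.fromSpec.isOpenEmbedding.injective (hU.fromSpec_primeIdealOf ⟨_, hqU⟩))⟩
    choose pt hmem heq using hpt
    let Mp : ∀ (P : Ideal Γ(X, U)) [P.IsMaximal], Type u := fun P hP =>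
      F.presheaf.stalk (pt P hP)
    letI : ∀ (P : Ideal Γ(X, U)) [P.IsMaximal], AddCommGroup (Mp P) := fun P hP =>
      inferInstanceAs (AddCommGroup (F.presheaf.stalk (pt P hP)))
    letI : ∀ (P : Ideal Γ(X, U)) [P.IsMaximal], Module Γ(X, U) (Mp P) := fun P hP =>
      stalkModule F _ (hmem P hP)
    letI : ∀ (P : Ideal Γ(X, U)) [P.IsMaximal], Module Γ(S, V) (Mp P) := fun P hP =>
      Module.compHom (F.presheaf.stalk (pt P hP))
        ((X.presheaf.germ U _ (hmem P hP)).hom.comp (f.appLE V U e).hom)
    haveI : ∀ (P : Ideal Γ(X, U)) [P.IsMaximal], IsScalarTower Γ(S, V) Γ(X, U) (Mp P) :=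
      fun P hP => .of_algebraMap_smul fun _ _ => rfl
    let gm : ∀ (P : Ideal Γ(X, U)) [P.IsMaximal], Γ(F, U) →ₗ[Γ(X, U)] Mp P := fun P hP =>
      germₗ F _ (hmem P hP)
    haveI : ∀ (P : Ideal Γ(X, U)) [P.IsMaximal], IsLocalizedModule.AtPrime P (gm P) :=
      fun P hP => by
        have := isLocalizedModule_germ F hU _ (hmem P hP)
        convert this using 2
        exact (heq P hP).symm
    exact Module.flat_of_isLocalized_maximal (R := Γ(S, V)) Γ(X, U) Γ(F, U) Mp gm
      fun P hP => (key _ (hmem P hP)).mp (h _ (hmem P hP))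

/-- Flatness over the base is flatness of sections on affine opens. -/
theorem isFlatOver_iff_affine : FlatMod.IsFlatOver f F ↔
    ∀ (U : X.Opens) (V : S.Opens) (e : U ≤ f ⁻¹ᵁ V), IsAffineOpen U → IsAffineOpen V →
      letI := sectionModule f F e; Module.Flat Γ(S, V) Γ(F, U) := by
  refine ⟨fun h U V e hU hV => (flat_sections_iff f F hU hV e).mpr fun x _ => h x, fun h x => ?_⟩
  obtain ⟨_, ⟨V, hV, rfl⟩, hxV, -⟩ :=
    S.isBasis_affineOpens.exists_subset_of_mem_open (Set.mem_univ (f x)) isOpen_univ
  obtain ⟨_, ⟨U, hU, rfl⟩, hxU, hUV⟩ :=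
    X.isBasis_affineOpens.exists_subset_of_mem_open (a := x) hxV (f ⁻¹ᵁ V).isOpen
  exact (flat_sections_iff f F hU hV hUV).mp (h U V hUV hU hV) x hxU

omit [F.IsQuasicoherent]

/-- Direct images by affine morphisms. -/
theorem isFlatOver_push_iff {Y : Scheme.{u}} (g : X ⟶ Y) [IsAffineHom g] (q : Y ⟶ S)
    [F.IsQuasicoherent] :
    FlatMod.IsFlatOver (g ≫ q) F ↔ FlatMod.IsFlatOver q ((Coh.push g).obj F) := by
  haveI : ((Scheme.Modules.pushforward g).obj F).IsQuasicoherent := isQCoh_pushforward (M := F) g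
  have key : ∀ (W : Y.Opens) (V : S.Opens) (e : W ≤ q ⁻¹ᵁ V),
      IsAffineOpen W → IsAffineOpen V →
      ((∀ x ∈ g ⁻¹ᵁ W, FlatMod.IsFlatOverAt (g ≫ q) F x) ↔
        ∀ y ∈ W, FlatMod.IsFlatOverAt q ((Scheme.Modules.pushforward g).obj F) y) := by
    intro W V e hW hV
    rw [← flat_sections_iff (g ≫ q) F (hW.preimage g) hV (g.preimage_mono e),
      ← flat_sections_iff q _ hW hV e]
    have : sectionModule (g ≫ q) F (U := g ⁻¹ᵁ W) (V := V) (g.preimage_mono e) =
        sectionModule q ((Scheme.Modules.pushforward g).obj F) e := by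
      refine Module.ext' _ _ fun r m => ?_
      change (g ≫ q).appLE V (g ⁻¹ᵁ W) (g.preimage_mono e) r • (show Γ(F, g ⁻¹ᵁ W) from m) =
        g.app W (q.appLE V W e r) • (show Γ(F, g ⁻¹ᵁ W) from m)
      rw [Scheme.Hom.comp_appLE, Scheme.Hom.app_eq_appLE, Scheme.Hom.app_eq_appLE,
        ← CommRingCat.comp_apply, Scheme.Hom.appLE_comp_appLE, Scheme.Hom.appLE_comp_appLE]
    constructor <;> intro h
    · exact this ▸ h
    · exact this.symm ▸ h
  constructor
  · intro h y
    obtain ⟨_, ⟨V, hV, rfl⟩, hyV, -⟩ :=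
      S.isBasis_affineOpens.exists_subset_of_mem_open (Set.mem_univ (q y)) isOpen_univ
    obtain ⟨_, ⟨W, hW, rfl⟩, hyW, hWV⟩ :=
      Y.isBasis_affineOpens.exists_subset_of_mem_open (a := y) hyV (q ⁻¹ᵁ V).isOpen
    exact (key W V hWV hW hV).mp (fun x _ => h x) y hyW
  · intro h x
    obtain ⟨_, ⟨V, hV, rfl⟩, hxV, -⟩ :=
      S.isBasis_affineOpens.exists_subset_of_mem_open (Set.mem_univ (q (g x))) isOpen_univ
    obtain ⟨_, ⟨W, hW, rfl⟩, hxW, hWV⟩ :=
      Y.isBasis_affineOpens.exists_subset_of_mem_open (a := g x) hxV (q ⁻¹ᵁ V).isOpen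
    exact (key W V hWV hW hV).mpr (fun y _ => h y) x hxW

/-- Inverse image along a morphism flat at the point. -/
theorem isFlatOverAt_pullback_iff {Y : Scheme.{u}} (h : X ⟶ Y) (q : Y ⟶ S) (G : Y.Modules)
    [G.IsQuasicoherent] (x : X) (hflat : (h.stalkMap x).hom.Flat) :
    FlatMod.IsFlatOverAt q G (h x) ↔
      FlatMod.IsFlatOverAt (h ≫ q) ((Scheme.Modules.pullback h).obj G) x := by
  letI := stalkAlg h x
  haveI : Module.Flat (Y.presheaf.stalk (h x)) (X.presheaf.stalk x) := hflat
  haveI : IsLocalHom (algebraMap (Y.presheaf.stalk (h x)) (X.presheaf.stalk x)) :=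
    inferInstanceAs (IsLocalHom (h.stalkMap x).hom)
  haveI : Module.FaithfullyFlat (Y.presheaf.stalk (h x)) (X.presheaf.stalk x) :=
    Module.FaithfullyFlat.of_flat_of_isLocalHom
  letI := (q.stalkMap (h x)).hom.toAlgebra
  letI : Algebra (S.presheaf.stalk (q (h x))) (X.presheaf.stalk x) :=
    ((h.stalkMap x).hom.comp (q.stalkMap (h x)).hom).toAlgebra
  haveI : IsScalarTower (S.presheaf.stalk (q (h x))) (Y.presheaf.stalk (h x))
      (X.presheaf.stalk x) := .of_algebraMap_eq' rfl
  letI := FlatMod.moduleStalkOver q G (h x)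
  haveI : IsScalarTower (S.presheaf.stalk (q (h x))) (Y.presheaf.stalk (h x))
      (G.presheaf.stalk (h x)) := .of_algebraMap_smul fun _ _ => rfl
  let P := (Scheme.Modules.pullback h).obj G
  letI : Module (S.presheaf.stalk (q (h x))) (P.presheaf.stalk x) :=
    Module.compHom _ ((h.stalkMap x).hom.comp (q.stalkMap (h x)).hom)
  haveI : IsScalarTower (S.presheaf.stalk (q (h x))) (X.presheaf.stalk x)
      (P.presheaf.stalk x) := .of_algebraMap_smul fun _ _ => rfl
  have h1 : FlatMod.IsFlatOverAt (h ≫ q) P x ↔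
      Module.Flat (S.presheaf.stalk (q (h x))) (P.presheaf.stalk x) := by
    have : FlatMod.moduleStalkOver (h ≫ q) P x =
        (inferInstance : Module (S.presheaf.stalk (q (h x))) (P.presheaf.stalk x)) := by
      refine Module.ext' _ _ fun r m => ?_
      change (h ≫ q).stalkMap x r • m = h.stalkMap x (q.stalkMap (h x) r) • m
      rw [Scheme.Hom.stalkMap_comp]
      rfl
    rw [FlatMod.IsFlatOverAt]
    exact this ▸ Iff.rfl
  rw [h1, ← Module.Flat.equiv_iff
    ((pullStalkEquiv h G x).restrictScalars (S.presheaf.stalk (q (h x)))), flat_tensor_iff]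
  exact Iff.rfl

end Groth.Flatmor4
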