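import Groth.Agent.FlatMorOne.GoodLocus
import Groth.Agent.DescentBase.FlatTower
import Groth.Agent.QCohMod.Stalk
import Groth.Prelude.Def_FlatFun
import Groth.Prelude.Def_QuotSh

/-!
The flattening functors are sheaves for the fpqc topology: flat jointly surjective families of
test schemes suffice, and everything is checked on stalks.
-/

set_option autoImplicit false
set_option linter.style.haveILetI false

universe u

open CategoryTheory CategoryTheory.Limits AlgebraicGeometry TensorProduct Opposite Groth.QCohMod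

namespace Groth.Flatmor4

/-- A stable condition which is local for jointly surjective flat families gives an fpqc sheaf. -/
theorem isSheaf_genPSp {S : Scheme.{u}} (P : Over S → Prop)
    (hst : ∀ ⦃T T₀ : Over S⦄ (_ : T ⟶ T₀), P T₀ → P T)
    (hdesc : ∀ T : Over S, (∀ t : T.left, ∃ (T' : Over S) (g : T' ⟶ T) (t' : T'.left),
      Flat g.left ∧ g.left t' = t ∧ P T') → P T) :
    Presheaf.IsSheaf (QuotSh.J Scheme.fpqcPrecoverage S) (FlatFun.genPSp S P) := by
  rw [isSheaf_iff_isSheaf_of_type]
  intro T R hR x hx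
  have hR' : Sieve.overEquiv T R ∈ Scheme.fpqcPrecoverage.toGrothendieck T.left :=
    (GrothendieckTopology.mem_over_iff _ _).mp hR
  obtain ⟨R₀, hR₀, hle⟩ :=
    Precoverage.mem_toGrothendieck_iff_of_isStableUnderComposition.mp hR'
  have hR₁ : R₀ ∈ Scheme.precoverage @Flat T.left := hR₀.2
  rw [← Presieve.ofArrows_category R₀, Scheme.ofArrows_mem_precoverage_iff] at hR₁
  obtain ⟨hs, hfl⟩ := hR₁
  have hT : P T := hdesc T fun t => by
    obtain ⟨i, z, hz⟩ := hs t
    have hg' : R (Over.homMk i.obj.hom : Over.mk (i.obj.hom ≫ T.hom) ⟶ T) :=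
      (Sieve.overEquiv_iff _ _).mp (hle _ _ i.property)
    exact ⟨Over.mk (i.obj.hom ≫ T.hom), Over.homMk i.obj.hom, z, hfl i, hz,
      (FlatFun.genPSp_nonempty_iff_of_stable P hst _).mp ⟨x _ hg'⟩⟩
  obtain ⟨t⟩ := FlatFun.genPSp_nonempty_of P hT
  exact ⟨t, fun _ g _ => @Subsingleton.elim _ (FlatFun.genPSp_subsingleton _ _ _) _ _,
    fun _ _ => @Subsingleton.elim _ (FlatFun.genPSp_subsingleton _ _ _) _ _⟩

section Stalks

variable {X Y : Scheme.{u}}

/-- The map on stalks, as a linear map. -/
noncomputable def stalkLin {F G : X.Modules} (u : F ⟶ G) (x : X) :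
    F.presheaf.stalk x →ₗ[X.presheaf.stalk x] G.presheaf.stalk x where
  toFun := (stalk x).map u
  map_add' := map_add ((stalk x).map u).hom
  map_smul' r t := Groth.OmegaSheaf.stalk_map_smul u x r t

theorem stalk_map_pullGerm (g : Y ⟶ X) {F G : X.Modules} (u : F ⟶ G) (y : Y)
    (t : F.presheaf.stalk (g y)) :
    (stalk y).map ((Scheme.Modules.pullback g).map u) (pullGerm g F y t) =
      pullGerm g G y ((stalk (g y)).map u t) := by
  obtain ⟨U, hU, m, rfl⟩ := exists_germ F (g y) t
  have h1 : (stalk (g y)).map u (germ F (g y) hU m) = germ G (g y) hU (u.app U m) :=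
    TopCat.Presheaf.stalkFunctor_map_germ_apply U (g y) hU u.mapPresheaf m
  rw [h1, pullGerm_germ, pullGerm_germ]
  refine (TopCat.Presheaf.stalkFunctor_map_germ_apply (g ⁻¹ᵁ U) y hU
    ((Scheme.Modules.pullback g).map u).mapPresheaf (Groth.PicAux.pullSec g F m)).trans ?_
  exact congrArg (germ _ y hU) (Groth.PicAux.pullSec_map g u m)

/-- The map on stalks of an inverse image is the base change of the map on stalks. -/
theorem stalk_map_pullback (g : Y ⟶ X) {F G : X.Modules} (u : F ⟶ G) (y : Y) :
    letI := stalkAlg g y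
    ((stalk y).map ((Scheme.Modules.pullback g).map u) : _ → _) =
      (pullStalkEquiv g G y) ∘ ((stalkLin u (g y)).lTensor (Y.presheaf.stalk y)) ∘
        (pullStalkEquiv g F y).symm := by
  letI := stalkAlg g y
  funext s
  obtain ⟨z, rfl⟩ := (pullStalkEquiv g F y).surjective s
  simp only [Function.comp_apply, LinearEquiv.symm_apply_apply]
  show (stalk y).map ((Scheme.Modules.pullback g).map u) (pullStalkHom g F y z) =
    pullStalkHom g G y ((stalkLin u (g y)).lTensor (Y.presheaf.stalk y) z)
  induction z using TensorProduct.induction_on with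
  | zero => simp only [map_zero]; exact map_zero _
  | add a b ha hb => erw [map_add, map_add, map_add, map_add, ha, hb]; rfl
  | tmul b t =>
    rw [LinearMap.lTensor_tmul, pullStalkHom_tmul, pullStalkHom_tmul]
    refine (Groth.OmegaSheaf.stalk_map_smul _ y b _).trans ?_
    exact congrArg (b • ·) (stalk_map_pullGerm g u y t)

theorem faithfullyFlat_stalk (g : Y ⟶ X) [Flat g] (y : Y) :
    letI := stalkAlg g y
    Module.FaithfullyFlat (X.presheaf.stalk (g y)) (Y.presheaf.stalk y) := by
  letI := stalkAlg g y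
  haveI : IsLocalHom (algebraMap (X.presheaf.stalk (g y)) (Y.presheaf.stalk y)) :=
    inferInstanceAs (IsLocalHom (g.stalkMap y).hom)
  haveI : Module.Flat (X.presheaf.stalk (g y)) (Y.presheaf.stalk y) := Flat.stalkMap g y
  exact Module.FaithfullyFlat.of_flat_of_isLocalHom

theorem stalk_surjective_of_pullback (g : Y ⟶ X) [Flat g] {F G : X.Modules} (u : F ⟶ G) (y : Y)
    (h : Function.Surjective ((stalk y).map ((Scheme.Modules.pullback g).map u))) :
    Function.Surjective ((stalk (g y)).map u) := by
  letI := stalkAlg g y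
  haveI := faithfullyFlat_stalk g y
  rw [stalk_map_pullback] at h
  exact (Module.FaithfullyFlat.lTensor_surjective_iff_surjective (X.presheaf.stalk (g y)) (Y.presheaf.stalk y) _).mp
    ((EquivLike.surjective_comp (pullStalkEquiv g F y).symm _).mp
      ((EquivLike.comp_surjective _ (pullStalkEquiv g G y)).mp h))

theorem stalk_bijective_of_pullback (g : Y ⟶ X) [Flat g] {F G : X.Modules} (u : F ⟶ G) (y : Y)
    (h : Function.Bijective ((stalk y).map ((Scheme.Modules.pullback g).map u))) :
    Function.Bijective ((stalk (g y)).map u) := by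
  letI := stalkAlg g y
  haveI := faithfullyFlat_stalk g y
  rw [stalk_map_pullback] at h
  exact (Module.FaithfullyFlat.lTensor_bijective_iff_bijective (X.presheaf.stalk (g y)) (Y.presheaf.stalk y) _).mp
    ((EquivLike.bijective_comp (pullStalkEquiv g F y).symm _).mp
      ((EquivLike.comp_bijective _ (pullStalkEquiv g G y)).mp h))

theorem stalk_zero_of_pullback (g : Y ⟶ X) [Flat g] {F G : X.Modules} (u : F ⟶ G) (y : Y)
    (h : (stalk y).map ((Scheme.Modules.pullback g).map u) = 0) (t : F.presheaf.stalk (g y)) :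
    (stalk (g y)).map u t = 0 := by
  letI := stalkAlg g y
  haveI := faithfullyFlat_stalk g y
  apply Module.FaithfullyFlat.one_tmul_eq_zero_iff (X.presheaf.stalk (g y)) (G.presheaf.stalk (g y))
    (A := Y.presheaf.stalk y) _ |>.mp
  apply (pullStalkEquiv g G y).injective
  have h1 := congrFun (stalk_map_pullback g u y) (pullStalkEquiv g F y (1 ⊗ₜ t))
  rw [h] at h1
  simp only [Function.comp_apply, LinearEquiv.symm_apply_apply] at h1
  rw [map_zero]
  exact h1.symm

/-- Flatness over the base descends along flat base change. -/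
theorem isFlatOverAt_of_flat_baseChange {S S' : Scheme.{u}} {f : X ⟶ S} {f' : Y ⟶ S'} {g : S' ⟶ S}
    {g' : Y ⟶ X} (H : IsPullback g' f' f g) [Flat g] (F : X.Modules) (y : Y)
    (h : FlatMod.IsFlatOverAt f' ((Scheme.Modules.pullback g').obj F) y) :
    FlatMod.IsFlatOverAt f F (g' y) := by
  haveI : Flat g' := MorphismProperty.of_isPullback H.flip inferInstance
  let B := X.presheaf.stalk (g' y)
  let B' := Y.presheaf.stalk y
  let A := S.presheaf.stalk (f (g' y))
  let A' := S'.presheaf.stalk (f' y)
  let M := F.presheaf.stalk (g' y)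
  let M' := ((Scheme.Modules.pullback g').obj F).presheaf.stalk y
  letI : Algebra B B' := stalkAlg g' y
  haveI := faithfullyFlat_stalk g' y
  let e : g (f' y) = f (g' y) := by rw [← Scheme.Hom.comp_apply, ← H.w]; rfl
  let σ : A →+* A' :=
    (g.stalkMap (f' y)).hom.comp (S.presheaf.stalkCongr (.of_eq e)).inv.hom
  letI : Algebra A A' := σ.toAlgebra
  letI : Algebra A B := (f.stalkMap (g' y)).hom.toAlgebra
  letI : Algebra A' B' := (f'.stalkMap y).hom.toAlgebra
  letI : Algebra A B' := ((g'.stalkMap y).hom.comp (f.stalkMap (g' y)).hom).toAlgebra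
  haveI : IsScalarTower A B B' := .of_algebraMap_eq fun _ => rfl
  have hsq : ∀ a, algebraMap A B' a = algebraMap A' B' (algebraMap A A' a) := by
    intro a
    have hc := Scheme.Hom.stalkMap_congr_hom _ _ H.w y
    rw [Scheme.Hom.stalkMap_comp, Scheme.Hom.stalkMap_comp] at hc
    have hc' : f.stalkMap (g' y) ≫ g'.stalkMap y =
        (S.presheaf.stalkCongr (.of_eq e)).inv ≫ g.stalkMap (f' y) ≫ f'.stalkMap y := hc
    exact congr($(hc') a)
  haveI : IsScalarTower A A' B' := .of_algebraMap_eq hsq
  haveI : Module.Flat A A' :=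
    RingHom.Flat.comp (RingHom.Flat.of_bijective
      (ConcreteCategory.bijective_of_isIso (S.presheaf.stalkCongr (.of_eq e)).inv))
      (Flat.stalkMap g (f' y))
  letI : Module A M := FlatMod.moduleStalkOver f F (g' y)
  haveI : IsScalarTower A B M := .of_algebraMap_smul fun _ _ => rfl
  letI : Module A' M' := FlatMod.moduleStalkOver f' _ y
  haveI : Module.Flat A' M' := h
  haveI : IsScalarTower A' B' M' := .of_algebraMap_smul fun _ _ => rfl
  letI : Module A M' := Module.compHom M' σ
  haveI : IsScalarTower A A' M' := .of_algebraMap_smul fun _ _ => rfl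
  haveI : Module.Flat A M' := Module.Flat.trans A A' M'
  haveI : Module.Flat A (B' ⊗[B] M) := Module.Flat.of_linearEquiv
    ({ pullStalkEquiv g' F y with
       map_smul' := fun a z => by
        show pullStalkEquiv g' F y (a • z) = σ a • pullStalkEquiv g' F y z
        rw [← IsScalarTower.algebraMap_smul B' a z, map_smul, hsq]
        rfl } : B' ⊗[B] M ≃ₗ[A] M')
  exact Groth.DescentBase.flat_of_flat_baseChange A B B' M

end Stalks

end Groth.Flatmor4

namespace Groth.Flatmor4

section XT

variable {X S : Scheme.{u}} (f : X ⟶ S)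

theorem isPullback_XTmap {T T' : Over S} (g : T' ⟶ T) :
    IsPullback (PicF.XTmap f g) (PicF.XTproj f T') (PicF.XTproj f T) g.left := by
  refine IsPullback.of_right ?_ (pullback.lift_snd _ _ _) (IsPullback.of_hasPullback f T.hom)
  rw [FGA.XTmap_fst f g]
  have e : g.left ≫ T.hom = T'.hom := Over.w g
  exact e.symm ▸ IsPullback.of_hasPullback f T'.hom

theorem flat_XTmap {T T' : Over S} (g : T' ⟶ T) [Flat g.left] : Flat (PicF.XTmap f g) :=
  MorphismProperty.of_isPullback (isPullback_XTmap f g).flip inferInstance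

theorem exists_XT_over {T T' : Over S} (g : T' ⟶ T) (x : PicF.XT f T) (t' : T'.left)
    (h : g.left t' = PicF.XTproj f T x) :
    ∃ x' : PicF.XT f T', PicF.XTmap f g x' = x ∧ PicF.XTproj f T' x' = t' := by
  obtain ⟨z, hz1, hz2⟩ := Scheme.Pullback.exists_preimage_pullback x t' h.symm
  refine ⟨(isPullback_XTmap f g).isoPullback.inv z, ?_, ?_⟩
  · rw [← Scheme.Hom.comp_apply, IsPullback.isoPullback_inv_fst, hz1]
  · rw [← Scheme.Hom.comp_apply, IsPullback.isoPullback_inv_snd, hz2]

variable {F G : X.Modules} (u : F ⟶ G)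

/-- The base change of a morphism of modules to a bigger test scheme, up to isomorphism. -/
theorem map_pullback_XTmap {T T' : Over S} (g : T' ⟶ T) :
    (Scheme.Modules.pullback (PicF.XTmap f g)).map
        ((Scheme.Modules.pullback (pullback.fst f T.hom)).map u) ≫ (FGA.ETiso f G g).hom =
      (FGA.ETiso f F g).hom ≫ (Scheme.Modules.pullback (pullback.fst f T'.hom)).map u :=
  ((Scheme.Modules.pullbackComp (PicF.XTmap f g) (pullback.fst f T.hom)) ≪≫
    Scheme.Modules.pullbackCongr (FGA.XTmap_fst f g)).hom.naturality u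

theorem isFlatOverAt_ET {T T' : Over S} (g : T' ⟶ T) (F : X.Modules) (x : PicF.XT f T') :
    FlatMod.IsFlatOverAt (PicF.XTproj f T')
        ((Scheme.Modules.pullback (PicF.XTmap f g)).obj (FGA.ET f F T)) x ↔
      FlatMod.IsFlatOverAt (PicF.XTproj f T') (FGA.ET f F T') x :=
  Groth.FlatMorOne.isFlatOverAt_congr _ (FGA.ETiso f F g) x

end XT

end Groth.Flatmor4

namespace Groth.Flatmor4

theorem eq_zero_of_stalk {X : Scheme.{u}} {F G : X.Modules} (u : F ⟶ G)
    (h : ∀ x t, (stalk x).map u t = 0) : u = 0 := by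
  rw [← cancel_mono (𝟙 G), zero_comp, Category.comp_id]
  haveI : Epi (kernel.ι u) := (Groth.QCohMod.epi_iff_stalk _).mpr fun x t => by
    have hS := ((ShortComplex.exact_kernel u).map (stalk x))
    rw [ShortComplex.ab_exact_iff] at hS
    exact hS t (h x t)
  rw [← cancel_epi (kernel.ι u), kernel.condition, comp_zero]

end Groth.Flatmor4

namespace Groth.Flatmor4

variable {X Y : Scheme.{u}}

theorem stalk_injective_of_pullback (g : Y ⟶ X) [Flat g] {F G : X.Modules} (u : F ⟶ G) (y : Y)
    (h : Function.Injective ((stalk y).map ((Scheme.Modules.pullback g).map u))) :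
    Function.Injective ((stalk (g y)).map u) := by
  letI := stalkAlg g y
  haveI := faithfullyFlat_stalk g y
  rw [stalk_map_pullback] at h
  exact (Module.FaithfullyFlat.lTensor_injective_iff_injective (X.presheaf.stalk (g y))
    (Y.presheaf.stalk y) _).mp
    ((EquivLike.injective_comp (pullStalkEquiv g F y).symm _).mp
      ((EquivLike.comp_injective _ (pullStalkEquiv g G y)).mp h))

theorem stalk_injective_pullback (g : Y ⟶ X) [Flat g] {F G : X.Modules} (u : F ⟶ G) (y : Y)
    (h : Function.Injective ((stalk (g y)).map u)) :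
    Function.Injective ((stalk y).map ((Scheme.Modules.pullback g).map u)) := by
  letI := stalkAlg g y
  haveI := faithfullyFlat_stalk g y
  rw [stalk_map_pullback]
  exact (EquivLike.comp_injective _ (pullStalkEquiv g G y)).mpr
    ((EquivLike.injective_comp (pullStalkEquiv g F y).symm _).mpr
      ((Module.FaithfullyFlat.lTensor_injective_iff_injective (X.presheaf.stalk (g y))
        (Y.presheaf.stalk y) (stalkLin u (g y))).mpr h))

end Groth.Flatmor4
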