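import Groth.Agent.FlatMor2.FibCrit.Fibrewise
import Groth.Agent.S1386

/-!
The locus of the base over which a morphism of proper flat schemes is an isomorphism.
-/

set_option autoImplicit false
set_option linter.style.haveILetI false

universe u

open CategoryTheory CategoryTheory.Limits AlgebraicGeometry TopologicalSpace

namespace Groth.Flatmor4

open Groth.FlatMor2.FibCrit

variable {X Y S : Scheme.{u}}

theorem formallyUnramified_of_le_iSup (f : X ⟶ Y) (W : X.Opens)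
    (h : ∀ x ∈ W, ∃ U : X.Opens, x ∈ U ∧ FormallyUnramified (U.ι ≫ f)) :
    FormallyUnramified (W.ι ≫ f) := by
  choose U hxU hU using fun x : W => h x.1 x.2
  refine (IsZariskiLocalAtSource.iff_of_iSup_eq_top (P := @FormallyUnramified)
    (fun x : W => W.ι ⁻¹ᵁ U x) ?_).mpr fun x => ?_
  · exact top_le_iff.mp fun a _ => Opens.mem_iSup.mpr ⟨⟨W.ι a, a.2⟩, hxU ⟨W.ι a, a.2⟩⟩
  · haveI := hU x
    have hr : Set.range ⇑((W.ι ⁻¹ᵁ U x).ι ≫ W.ι) ⊆ Set.range ⇑(U x).ι := by
      rintro _ ⟨a, rfl⟩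
      rw [Scheme.Opens.range_ι]
      exact a.2
    rw [← Category.assoc, ← IsOpenImmersion.lift_fac (U x).ι _ hr, Category.assoc]
    haveI : IsOpenImmersion (IsOpenImmersion.lift (U x).ι ((W.ι ⁻¹ᵁ U x).ι ≫ W.ι) hr) := by
      haveI : IsOpenImmersion (IsOpenImmersion.lift (U x).ι ((W.ι ⁻¹ᵁ U x).ι ≫ W.ι) hr ≫ (U x).ι) := by
        rw [IsOpenImmersion.lift_fac]; infer_instance
      exact IsOpenImmersion.of_comp _ (U x).ι
    exact MorphismProperty.comp_mem @FormallyUnramified _ _ inferInstance (hU x)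

theorem diagonal_mem_interior_range (f : X ⟶ Y) [LocallyOfFiniteType f] {x : X} {U : X.Opens}
    (hxU : x ∈ U) [FormallyUnramified (U.ι ≫ f)] :
    pullback.diagonal f x ∈ interior (Set.range (pullback.diagonal f)) := by
  let φ := pullback.map (U.ι ≫ f) (U.ι ≫ f) f f U.ι U.ι (𝟙 Y) (by simp) (by simp)
  have e : pullback.diagonal (U.ι ≫ f) ≫ φ = U.ι ≫ pullback.diagonal f := by
    apply pullback.hom_ext
    · rw [Category.assoc, Category.assoc, pullback.diagonal_fst, Category.comp_id]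
      erw [pullback.lift_fst, pullback.diagonal_fst_assoc]
    · rw [Category.assoc, Category.assoc, pullback.diagonal_snd, Category.comp_id]
      erw [pullback.lift_snd, pullback.diagonal_snd_assoc]
  refine mem_interior.mpr ⟨Set.range ⇑(pullback.diagonal (U.ι ≫ f) ≫ φ), ?_,
    (pullback.diagonal (U.ι ≫ f) ≫ φ).isOpenEmbedding.isOpen_range, ⟨⟨x, hxU⟩, ?_⟩⟩
  · rw [e]
    rintro _ ⟨a, rfl⟩
    exact ⟨U.ι a, rfl⟩
  · rw [e]
    rfl

/-- An iso on fibres in the form of the fibre map. -/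
theorem exists_iso_iff_isIso_fiberMap (f : X ⟶ Y) (h : Y ⟶ S) (s : S) :
    (∃ e : (f ≫ h).fiber s ≅ h.fiber s, e.hom ≫ h.fiberι s = (f ≫ h).fiberι s ≫ f) ↔
      IsIso (MoreMor.fiberMap f h s) := by
  have hfac : MoreMor.fiberMap f h s ≫ h.fiberι s = (f ≫ h).fiberι s ≫ f := pullback.lift_fst _ _ _
  constructor
  · rintro ⟨e, he⟩
    rw [show MoreMor.fiberMap f h s = e.hom from (cancel_mono (h.fiberι s)).mp (hfac.trans he.symm)]
    infer_instance
  · intro _
    exact ⟨asIso (MoreMor.fiberMap f h s), hfac⟩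

theorem mem_range_diagonal_of_mono_fiberMap (f : X ⟶ Y) (g : Y ⟶ S) (z : ↑(pullback f f))
    [Mono (MoreMor.fiberMap f g (g (f (pullback.fst f f z))))] :
    z ∈ Set.range (pullback.diagonal f) := by
  let m := pullback.fst f f ≫ f
  let s := g (m z)
  have hc := isPullback_fiberMap f g s
  obtain ⟨p, hp, -⟩ := Scheme.Pullback.exists_preimage_pullback (f := m) (g := g.fiberι s) z
    (g.asFiber (m z)) (g.fiberι_asFiber (m z)).symm
  let π := pullback.fst m (g.fiberι s)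
  let a := hc.lift (π ≫ pullback.fst f f) (pullback.snd m (g.fiberι s))
    (by rw [Category.assoc]; exact pullback.condition)
  let b := hc.lift (π ≫ pullback.snd f f) (pullback.snd m (g.fiberι s))
    (by rw [Category.assoc, ← pullback.condition (f := f) (g := f)]; exact pullback.condition)
  have hab : a = b := by
    haveI : Mono (MoreMor.fiberMap f g s) := ‹_›
    rw [← cancel_mono (MoreMor.fiberMap f g s), hc.lift_snd, hc.lift_snd]
  have hπ : π ≫ pullback.fst f f = π ≫ pullback.snd f f := by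
    simpa [a, b] using congr($hab ≫ (f ≫ g).fiberι s)
  have hfac : (π ≫ pullback.fst f f) ≫ pullback.diagonal f = π := by
    apply pullback.hom_ext
    · rw [Category.assoc, pullback.diagonal_fst, Category.comp_id]
    · rw [Category.assoc, pullback.diagonal_snd, Category.comp_id, hπ]
  refine ⟨(π ≫ pullback.fst f f) p, ?_⟩
  rw [← Scheme.Hom.comp_apply, hfac]
  exact hp

/-- Over an open neighbourhood of a point with iso fibre map, the morphism is an isomorphism. -/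
theorem exists_nhds_isIso_restrict (f : X ⟶ Y) (h : Y ⟶ S) [IsProper (f ≫ h)]
    [LocallyOfFinitePresentation (f ≫ h)] [Flat (f ≫ h)] [IsProper h] [LocallyOfFinitePresentation h]
    (s : S) (hs : IsIso (MoreMor.fiberMap f h s)) :
    ∃ V : S.Opens, s ∈ V ∧ IsIso (f ∣_ h ⁻¹ᵁ V) := by
  haveI := lfp_of_comp f h
  haveI : IsProper f := IsProper.of_comp f h
  let Wu : X.Opens := ⨆ U : {U : X.Opens // FormallyUnramified (U.ι ≫ f)}, U.1
  let Wf : X.Opens := ⟨_, (Groth.Agent.S1386.result f h).2⟩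
  let W : X.Opens := Wu ⊓ Wf
  have hu : ∀ x ∈ W, ∃ U : X.Opens, x ∈ U ∧ FormallyUnramified (U.ι ≫ f) := fun x hx => by
    obtain ⟨U, hU⟩ := Opens.mem_iSup.mp hx.1
    exact ⟨U.1, hU, U.2⟩
  have hfl : ∀ x ∈ W, (f.stalkMap x).hom.Flat := fun x hx => hx.2.2
  have hWs : ∀ x, h (f x) = s → x ∈ W := by
    intro x hx
    subst hx
    refine ⟨?_, ((Groth.Agent.S1386.result f h).1 x).1
      ⟨Flat.stalkMap _ x, Flat.stalkMap (MoreMor.fiberMap f h _) _⟩⟩
    obtain ⟨U, hxU, hU⟩ := (exists_formallyUnramified_iff_fiberMap f h x _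
      ((f ≫ h).fiberι_asFiber x)).mpr ⟨⊤, trivial, by
        haveI : IsIso (MoreMor.fiberMap f h ((f ≫ h) x)) := hs
        infer_instance⟩
    exact Opens.mem_iSup.mpr ⟨⟨U, hU⟩, hxU⟩
  haveI : Flat (W.ι ≫ f) := Flat.of_stalkMap _ fun a => by
    rw [Scheme.Hom.stalkMap_comp]
    exact RingHom.Flat.comp (hfl _ a.2) (Flat.stalkMap W.ι a)
  let O : Set Y := Set.range ⇑(W.ι ≫ f)
  have hO : IsOpen O := (W.ι ≫ f).isOpenMap.isOpen_range
  let m : pullback f f ⟶ S := pullback.fst f f ≫ f ≫ h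
  let C : Set ↑(pullback f f) := (interior (Set.range (pullback.diagonal f)))ᶜ
  let T : Set S := (f ≫ h) '' (W : Set X)ᶜ ∪ m '' C ∪ h '' Oᶜ
  have hT : IsClosed T :=
    ((Scheme.Hom.isClosedMap (f ≫ h) _ W.isOpen.isClosed_compl).union
      (m.isClosedMap _ isOpen_interior.isClosed_compl)).union (h.isClosedMap _ hO.isClosed_compl)
  have hsT : s ∉ T := by
    rintro ((⟨x, hx, hxs⟩ | ⟨z, hz, hzs⟩) | ⟨y, hy, hys⟩)
    · exact hx (hWs x hxs)
    · refine hz ?_
      have hms : h (f (pullback.fst f f z)) = s := hzs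
      haveI : Mono (MoreMor.fiberMap f h (h (f (pullback.fst f f z)))) := by
        rw [hms]; infer_instance
      obtain ⟨x, rfl⟩ := mem_range_diagonal_of_mono_fiberMap f h z
      have hxs : h (f x) = s := by
        rw [← hms, ← Scheme.Hom.comp_apply (pullback.diagonal f), pullback.diagonal_fst]
        rfl
      obtain ⟨U, hxU, hU⟩ := hu x (hWs x hxs)
      exact diagonal_mem_interior_range f hxU
    · obtain rfl := hys
      haveI := hs
      obtain ⟨a, ha⟩ := (MoreMor.fiberMap f h (h y)).surjective (h.asFiber y)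
      have hy' : f ((f ≫ h).fiberι (h y) a) = y := by
        rw [← Scheme.Hom.comp_apply, (isPullback_fiberMap f h (h y)).w, Scheme.Hom.comp_apply, ha,
          h.fiberι_asFiber]
      exact hy ⟨⟨_, hWs _ (congrArg _ hy')⟩, hy'⟩
  refine ⟨⟨Tᶜ, hT.isOpen_compl⟩, hsT, ?_⟩
  set V : S.Opens := ⟨Tᶜ, hT.isOpen_compl⟩
  let f' := f ∣_ h ⁻¹ᵁ V
  have hW' : ∀ x, h (f x) ∈ V → x ∈ W := fun x hx => by
    by_contra hc
    exact hx (Or.inl (Or.inl ⟨x, hc, rfl⟩))
  haveI : FormallyUnramified ((f ⁻¹ᵁ h ⁻¹ᵁ V).ι ≫ f) :=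
    formallyUnramified_of_le_iSup f _ fun x hx => hu x (hW' x hx)
  haveI : FormallyUnramified (f' ≫ (h ⁻¹ᵁ V).ι) := by rw [morphismRestrict_ι]; infer_instance
  haveI : FormallyUnramified f' := FormallyUnramified.of_comp f' (h ⁻¹ᵁ V).ι
  haveI : Flat f' := Flat.of_stalkMap _ fun a => by
    refine (RingHom.Flat.respectsIso.arrow_mk_iso_iff (morphismRestrictStalkMap f _ a)).mpr ?_
    exact hfl _ (hW' _ a.2)
  haveI : LocallyOfFinitePresentation f' := IsZariskiLocalAtTarget.restrict ‹_› _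
  haveI : Surjective f' := ⟨fun y => by
    have hy : y.1 ∈ O := by
      by_contra hc
      exact y.2 (Or.inr ⟨y.1, hc, rfl⟩)
    obtain ⟨a, ha⟩ := hy
    refine ⟨⟨W.ι a, show f (W.ι a) ∈ h ⁻¹ᵁ V from ?_⟩, Subtype.ext (Eq.trans (by rw [← Scheme.Opens.ι_apply, ← Scheme.Hom.comp_apply, morphismRestrict_ι]; rfl) ha)⟩
    rw [show f (W.ι a) = y.1 from ha]
    exact y.2⟩
  haveI : Surjective (pullback.diagonal f') := ⟨fun z => by
    let φ := pullback.map f' f' f f (f ⁻¹ᵁ h ⁻¹ᵁ V).ι (f ⁻¹ᵁ h ⁻¹ᵁ V).ι (h ⁻¹ᵁ V).ι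
      (morphismRestrict_ι f _) (morphismRestrict_ι f _)
    have hmV : h (f (pullback.fst f f (φ z))) ∈ V := by
      rw [show pullback.fst f f (φ z) = (f ⁻¹ᵁ h ⁻¹ᵁ V).ι (pullback.fst f' f' z) by
        rw [← Scheme.Hom.comp_apply, pullback.lift_fst, Scheme.Hom.comp_apply]]
      exact (pullback.fst f' f' z).2
    have hzi : φ z ∈ interior (Set.range (pullback.diagonal f)) := by
      by_contra hc
      exact hmV (Or.inl (Or.inr ⟨φ z, hc, rfl⟩))
    obtain ⟨x, hx⟩ := interior_subset hzi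
    have hxV : x ∈ f ⁻¹ᵁ h ⁻¹ᵁ V := by
      rw [← hx, ← Scheme.Hom.comp_apply (pullback.diagonal f), pullback.diagonal_fst] at hmV
      exact hmV
    have e : pullback.diagonal f' ≫ φ = (f ⁻¹ᵁ h ⁻¹ᵁ V).ι ≫ pullback.diagonal f := by
      apply pullback.hom_ext
      · rw [Category.assoc, Category.assoc, pullback.diagonal_fst, Category.comp_id]
        erw [pullback.lift_fst, pullback.diagonal_fst_assoc]
      · rw [Category.assoc, Category.assoc, pullback.diagonal_snd, Category.comp_id]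
        erw [pullback.lift_snd, pullback.diagonal_snd_assoc]
    refine ⟨⟨x, hxV⟩, φ.injective ?_⟩
    rw [← Scheme.Hom.comp_apply, e]
    exact hx⟩
  haveI : IsIso (pullback.diagonal f') :=
    (isIso_iff_isOpenImmersion_and_surjective _).mpr ⟨inferInstance, inferInstance⟩
  haveI : Mono f' := (pullback.isIso_diagonal_iff f').mp inferInstance
  haveI : IsOpenImmersion f' := IsOpenImmersion.of_flat_of_mono f'
  exact (isIso_iff_isOpenImmersion_and_surjective _).mpr ⟨inferInstance, inferInstance⟩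

theorem exists_open_fibreIso (f : X ⟶ Y) (h : Y ⟶ S) [IsProper (f ≫ h)]
    [LocallyOfFinitePresentation (f ≫ h)] [Flat (f ≫ h)] [IsProper h] [LocallyOfFinitePresentation h] :
    ∃ U : S.Opens, (∀ s : S, s ∈ U ↔ IsIso (MoreMor.fiberMap f h s)) ∧ IsIso (f ∣_ (h ⁻¹ᵁ U)) := by
  choose V hsV hV using fun s : {s : S // IsIso (MoreMor.fiberMap f h s)} =>
    exists_nhds_isIso_restrict f h s.1 s.2
  refine ⟨⨆ s, V s, fun s => ⟨fun hs => ?_, fun hs => Opens.mem_iSup.mpr ⟨⟨s, hs⟩, hsV _⟩⟩, ?_⟩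
  · obtain ⟨t, ht⟩ := Opens.mem_iSup.mp hs
    haveI := hV t
    have hr : Set.range ⇑(h.fiberι s) ⊆ Set.range ⇑(h ⁻¹ᵁ V t).ι := by
      rw [Scheme.Opens.range_ι, h.range_fiberι]
      exact fun y (hy : h y = s) => show h y ∈ V t from hy ▸ ht
    let k := IsOpenImmersion.lift (h ⁻¹ᵁ V t).ι (h.fiberι s) hr
    have hk : k ≫ (h ⁻¹ᵁ V t).ι = h.fiberι s := IsOpenImmersion.lift_fac _ _ _
    have hsq := (isPullback_morphismRestrict f (h ⁻¹ᵁ V t)).flip
    let n := hsq.lift ((f ≫ h).fiberι s) (MoreMor.fiberMap f h s ≫ k) (by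
      rw [Category.assoc, hk]; exact (isPullback_fiberMap f h s).w)
    have hp : IsPullback n (MoreMor.fiberMap f h s) (f ∣_ h ⁻¹ᵁ V t) k := by
      refine IsPullback.of_right ?_ (hsq.lift_snd _ _ _) hsq
      rw [hsq.lift_fst, hk]
      exact isPullback_fiberMap f h s
    exact MorphismProperty.of_isPullback (P := MorphismProperty.isomorphisms Scheme) hp
      (MorphismProperty.isomorphisms.infer_property _)
  · refine (IsZariskiLocalAtTarget.iff_of_iSup_eq_top (P := MorphismProperty.isomorphisms Scheme)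
      (fun s => (h ⁻¹ᵁ ⨆ s, V s).ι ⁻¹ᵁ (h ⁻¹ᵁ V s)) ?_).mpr fun s => ?_
    · refine top_le_iff.mp fun a _ => ?_
      obtain ⟨t, ht⟩ := Opens.mem_iSup.mp (show h ((h ⁻¹ᵁ ⨆ s, V s).ι a) ∈ ⨆ s, V s from a.2)
      exact Opens.mem_iSup.mpr ⟨t, ht⟩
    · rw [(MorphismProperty.isomorphisms Scheme).arrow_mk_iso_iff (morphismRestrictRestrict f _ _)]
      have e : (h ⁻¹ᵁ ⨆ s, V s).ι ''ᵁ ((h ⁻¹ᵁ ⨆ s, V s).ι ⁻¹ᵁ (h ⁻¹ᵁ V s)) = h ⁻¹ᵁ V s := by
        rw [Scheme.Hom.image_preimage_eq_opensRange_inf, Scheme.Opens.opensRange_ι, inf_eq_right]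
        exact fun y hy => le_iSup V s hy
      rw [e]
      exact hV s

end Groth.Flatmor4
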