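import Mathlib.AlgebraicGeometry.Geometrically.Reduced
import Mathlib.AlgebraicGeometry.Geometrically.Irreducible
import Mathlib.AlgebraicGeometry.Geometrically.Connected
import Mathlib.AlgebraicGeometry.Morphisms.Flat
import Mathlib.AlgebraicGeometry.Fiber

universe u
open CategoryTheory Limits AlgebraicGeometry

namespace Groth.Flatmor4

lemma flat_to_specField {K : Type u} [Field K] {X : Scheme.{u}} (f : X ⟶ Spec (.of K)) : Flat f :=
  inferInstance

/-- Geometric properties descend along surjective base change, if the property itself descends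
along flat surjective morphisms. -/
lemma geometrically_of_surjective_base_change {P : ObjectProperty Scheme.{u}}
    [P.IsClosedUnderIsomorphisms]
    (hP : ∀ {A B : Scheme.{u}} (q : A ⟶ B), Flat q → Surjective q → P A → P B)
    {X Y X' Y' : Scheme.{u}} {f : X ⟶ Y} {h : Y' ⟶ Y} {f' : X' ⟶ Y'} {h' : X' ⟶ X}
    (hc : IsPullback h' f' f h) [Surjective h] (hf' : geometrically P f') : geometrically P f := by
  rw [geometrically_iff_of_isClosedUnderIsomorphisms]
  intro K _ y
  obtain ⟨z⟩ : Nonempty ↥(pullback y h) := by
    obtain ⟨w, -⟩ := (pullback.fst y h).surjective (IsLocalRing.closedPoint K)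
    exact ⟨w⟩
  let W := pullback y h
  let a := W.fromSpecResidueField z ≫ pullback.fst y h
  let b := W.fromSpecResidueField z ≫ pullback.snd y h
  have hab : a ≫ y = b ≫ h := by simp [a, b, W, pullback.condition]
  haveI : Surjective a := ⟨fun p => ⟨IsLocalRing.closedPoint _, Subsingleton.elim _ _⟩⟩
  have h1 : P (pullback f (b ≫ h)) :=
    P.prop_of_iso (((IsPullback.of_hasPullback f' b).paste_horiz hc).isoPullback) (hf' b _ _ (IsPullback.of_hasPullback f' b))
  have h2 : P (pullback (pullback.snd f y) a) :=
    P.prop_of_iso ((pullback.congrHom (rfl : f = f) hab.symm) ≪≫ (pullbackLeftPullbackSndIso f y a).symm) h1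
  exact hP (pullback.fst (pullback.snd f y) a) inferInstance inferInstance h2

lemma fibre_iff_of_isPullback {P : ObjectProperty Scheme.{u}}
    [P.IsClosedUnderIsomorphisms]
    (hP : ∀ {A B : Scheme.{u}} (q : A ⟶ B), Flat q → Surjective q → P A → P B)
    {X Y X' Y' : Scheme.{u}} (f : X ⟶ Y) (g : Y' ⟶ Y) (f' : X' ⟶ Y') (g' : X' ⟶ X)
    (hc : IsPullback g' f' f g) (y' : Y') :
    geometrically P (f'.fiberToSpecResidueField y') ↔
      geometrically P (f.fiberToSpecResidueField (g y')) := by
  have H := isPullback_fiberToSpecResidueField_of_isPullback hc y'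
  haveI : Surjective (Spec.map (g.residueFieldMap y')) :=
    ⟨fun p => ⟨IsLocalRing.closedPoint _, Subsingleton.elim _ _⟩⟩
  exact ⟨fun h => geometrically_of_surjective_base_change hP H h,
    fun h => MorphismProperty.of_isPullback (P := geometrically P) H h⟩

lemma isReduced_of_flat_of_surjective {A B : Scheme.{u}} (q : A ⟶ B) (_ : Flat q)
    (_ : Surjective q) (_ : IsReduced A) : IsReduced B := by
  haveI : ∀ b : B, _root_.IsReduced (B.presheaf.stalk b) := fun b => by
    obtain ⟨a, rfl⟩ := q.surjective b
    letI := (q.stalkMap a).hom.toAlgebra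
    haveI : Module.Flat (B.presheaf.stalk (q a)) (A.presheaf.stalk a) := Flat.stalkMap q a
    haveI : IsLocalHom (algebraMap (B.presheaf.stalk (q a)) (A.presheaf.stalk a)) :=
      inferInstanceAs (IsLocalHom (q.stalkMap a).hom)
    haveI := Module.FaithfullyFlat.of_flat_of_isLocalHom (A := B.presheaf.stalk (q a))
      (B := A.presheaf.stalk a)
    exact isReduced_of_injective (algebraMap (B.presheaf.stalk (q a)) (A.presheaf.stalk a))
      (FaithfulSMul.algebraMap_injective _ _)
  exact isReduced_of_isReduced_stalk B

lemma irreducibleSpace_of_surjective {A B : Scheme.{u}} (q : A ⟶ B) (_ : Flat q)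
    (_ : Surjective q) (_ : IrreducibleSpace A) : IrreducibleSpace B :=
  Function.Surjective.irreducibleSpace q.continuous q.surjective

lemma connectedSpace_of_surjective {A B : Scheme.{u}} (q : A ⟶ B) (_ : Flat q)
    (_ : Surjective q) (_ : ConnectedSpace A) : ConnectedSpace B :=
  q.surjective.connectedSpace q.continuous

end Groth.Flatmor4
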