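import Groth.Agent.Flatmor4.EtaleSplit
import Groth.Agent.SchemeMorphisms.Points
import Mathlib.FieldTheory.Normal.Closure
import Mathlib.FieldTheory.SeparableClosure
import Mathlib.FieldTheory.IsAlgClosed.AlgebraicClosure

/-!
After an etale neighbourhood, quasi-finite points split into points with purely inseparable
residue field extensions lying in finite opens.
-/

set_option autoImplicit false

universe u

open CategoryTheory CategoryTheory.Limits AlgebraicGeometry

namespace Groth.Flatmor4

variable {X S : Scheme.{u}}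

theorem finite_residueFieldMap (f : X ⟶ S) [LocallyOfFiniteType f] {x : X}
    (hx : f.QuasiFiniteAt x) : (f.residueFieldMap x).hom.Finite :=
  (Groth.SchemeMorphisms.isClosed_asFiber_iff_finite f x).mp hx.isClopen_singleton_asFiber.isClosed

theorem quasiFiniteAt_snd (f : X ⟶ S) [LocallyOfFiniteType f] {U : Scheme.{u}} (g : U ⟶ S)
    (w : ↑(pullback f g)) (h : f.QuasiFiniteAt (pullback.fst f g w)) :
    (pullback.snd f g).QuasiFiniteAt w := by
  let W := pullback.fst f g ⁻¹ᵁ f.quasiFiniteLocus
  have hqf : LocallyQuasiFinite (W.ι ≫ pullback.snd f g) :=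
    MorphismProperty.of_isPullback
      ((isPullback_morphismRestrict (pullback.fst f g) f.quasiFiniteLocus).paste_vert
        (IsPullback.of_hasPullback f g)) inferInstance
  exact (Scheme.Hom.quasiFiniteAt_comp_iff_of_isOpenImmersion (f := W.ι) (x := ⟨w, h⟩)).mp
    ((W.ι ≫ pullback.snd f g).quasiFiniteAt _)

open IntermediateField in
/-- A finite separable normal extension splitting the separable elements of finitely many
algebraic extensions. -/
theorem exists_splitting_field {F : Type u} [Field F] {ι : Type*} [Finite ι] (E : ι → Type u)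
    [∀ i, Field (E i)] [∀ i, Algebra F (E i)] [∀ i, FiniteDimensional F (E i)] :
    ∃ (k : Type u) (_ : Field k) (_ : Algebra F k), FiniteDimensional F k ∧ Algebra.IsSeparable F k ∧
      ∀ i, ∀ b : E i, IsSeparable F b → ((minpoly F b).map (algebraMap F k)).Splits := by
  let Ω := AlgebraicClosure F
  let N : ι → IntermediateField F Ω := fun i => normalClosure F (separableClosure F (E i)) Ω
  have hsep : ∀ i, Algebra.IsSeparable F (N i) := fun i =>
    (le_separableClosure_iff F Ω _).mp (normalClosure_le_iff.2 fun φ =>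
      have : Algebra.IsSeparable F φ.fieldRange :=
        (AlgEquiv.Algebra.isSeparable (AlgEquiv.ofInjectiveField φ))
      le_separableClosure F Ω _)
  refine ⟨↥(⨆ i, N i), inferInstance, inferInstance, inferInstance, inferInstance, fun i b hb => ?_⟩
  have : Normal F ↥(⨆ i, N i) := IntermediateField.normal_iSup F Ω N
  let b' : separableClosure F (E i) := ⟨b, mem_separableClosure_iff.mpr hb⟩
  let φ : separableClosure F (E i) →ₐ[F] Ω := IsAlgClosed.lift
  let c : ↥(⨆ i, N i) :=
    ⟨φ b', le_iSup N i (φ.fieldRange_le_normalClosure ⟨b', rfl⟩)⟩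
  have hc : minpoly F c = minpoly F b := by
    have h1 : minpoly F c = minpoly F (φ b') :=
      (minpoly.algHom_eq (⨆ i, N i).val Subtype.val_injective c).symm
    have h2 : minpoly F (φ b') = minpoly F b' := minpoly.algHom_eq φ φ.toRingHom.injective b'
    have h3 : minpoly F b = minpoly F b' :=
      minpoly.algHom_eq (separableClosure F (E i)).val Subtype.val_injective b'
    rw [h1, h2, ← h3]
  exact hc ▸ Normal.splits this c

/-- The splitting theorem. -/
theorem exists_split_purelyInseparable (f : X ⟶ S) [LocallyOfFiniteType f] (s : S) {ι : Type}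
    [Finite ι] (x : ι → X) (hinj : Function.Injective x) (hs : ∀ i, f (x i) = s)
    (hx : ∀ i, f.QuasiFiniteAt (x i)) :
    ∃ (U : Scheme.{u}) (g : U ⟶ S) (u : U), Etale g ∧ g u = s ∧
      ∃ (J : ι → Type) (_ : ∀ i, Finite (J i)) (V : ∀ i, J i → (pullback f g).Opens)
        (v : ∀ i, J i → ↑(pullback f g)),
        (∀ i j, v i j ∈ V i j ∧ IsFinite ((V i j).ι ≫ pullback.snd f g) ∧
          pullback.snd f g (v i j) = u ∧
          (∀ w : ↑(pullback f g), w ∈ V i j → pullback.snd f g w = u → w = v i j) ∧
          (letI := ((pullback.snd f g).residueFieldMap (v i j)).hom.toAlgebra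
           Module.Finite ↑(U.residueField (pullback.snd f g (v i j)))
             ↑((pullback f g).residueField (v i j)) ∧
           IsPurelyInseparable ↑(U.residueField (pullback.snd f g (v i j)))
             ↑((pullback f g).residueField (v i j))) ∧
          pullback.fst f g (v i j) = x i) ∧
        (∀ i j i' j', v i j = v i' j' → i = i' ∧ HEq j j') ∧
        (∀ (w : ↑(pullback f g)) (i : ι), pullback.snd f g w = u → pullback.fst f g w = x i →
          ∃ j, w = v i j) := by
  cases nonempty_fintype ι
  let r : ∀ i, S.residueField s ⟶ X.residueField (x i) :=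
    fun i => (S.residueFieldCongr (hs i)).inv ≫ f.residueFieldMap (x i)
  let : ∀ i, Algebra (S.residueField s) (X.residueField (x i)) := fun i => (r i).hom.toAlgebra
  have hfd : ∀ i, FiniteDimensional (S.residueField s) (X.residueField (x i)) := fun i => by
    have h1 : (r i).hom.Finite :=
      RingHom.Finite.comp (finite_residueFieldMap f (hx i))
        (RingHom.Finite.of_surjective _
          (ConcreteCategory.bijective_of_isIso (S.residueFieldCongr (hs i)).inv).2)
    exact h1
  obtain ⟨k, _, _, hkfin, hksep, hsplit⟩ := exists_splitting_field (F := S.residueField s)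
    (fun i => X.residueField (x i))
  obtain ⟨U₁, g₁, u₁, hu₁, hg₁, ⟨e₁⟩⟩ := exists_etale_residueField S s k
  let : Algebra (S.residueField s) (U₁.residueField u₁) :=
    ((S.residueFieldCongr hu₁).inv ≫ g₁.residueFieldMap u₁).hom.toAlgebra
  let P := Σ i, {w : ↑(pullback f g₁) // pullback.fst f g₁ w = x i ∧ pullback.snd f g₁ w = u₁}
  have : ∀ i, Finite {w : ↑(pullback f g₁) // pullback.fst f g₁ w = x i ∧ pullback.snd f g₁ w = u₁} :=
    fun i => (finite_points_over (x i) u₁ (finite_residueFieldMap f (hx i))).to_subtype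
  obtain ⟨U, h, u, hu, hsplit'⟩ := exists_split (pullback.snd f g₁) u₁
    (fun p : P => p.2.1) (fun p => p.2.2.2)
    (fun p => quasiFiniteAt_snd f g₁ _ (p.2.2.1.symm ▸ hx p.1))
  choose V v hvV hVfin hvfst hvsnd huniq using hsplit'
  have : Etale h := hu.etale
  let e := pullbackLeftPullbackSndIso f g₁ h
  have efst : ∀ w, pullback.fst f (h ≫ g₁) (e.hom w) =
      pullback.fst f g₁ (pullback.fst _ h w) := fun w => by
    rw [← Scheme.Hom.comp_apply, pullbackLeftPullbackSndIso_hom_fst, Scheme.Hom.comp_apply]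
  have esnd : ∀ w, pullback.snd f (h ≫ g₁) (e.hom w) = pullback.snd _ h w := fun w => by
    rw [← Scheme.Hom.comp_apply, pullbackLeftPullbackSndIso_hom_snd]
  have hgu : (h ≫ g₁) u = s := by rw [Scheme.Hom.comp_apply, hu.base_eq, hu₁]
  have key : ∀ (i : ι) (w : ↑(pullback f (h ≫ g₁))), pullback.fst f (h ≫ g₁) w = x i →
      pullback.snd f (h ≫ g₁) w = u →
      (letI := ((pullback.snd f (h ≫ g₁)).residueFieldMap w).hom.toAlgebra
       Module.Finite ↑(U.residueField (pullback.snd f (h ≫ g₁) w))
         ↑((pullback f (h ≫ g₁)).residueField w) ∧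
       IsPurelyInseparable ↑(U.residueField (pullback.snd f (h ≫ g₁) w))
         ↑((pullback f (h ≫ g₁)).residueField w)) := by
    intro i w hwx hwu
    let F := S.residueField ((h ≫ g₁) (pullback.snd f (h ≫ g₁) w))
    have hws : f (pullback.fst f (h ≫ g₁) w) = (h ≫ g₁) (pullback.snd f (h ≫ g₁) w) :=
      congr($(pullback.condition (f := f) (g := h ≫ g₁)) w)
    let r' : S.residueField ((h ≫ g₁) (pullback.snd f (h ≫ g₁) w)) ⟶
        X.residueField (pullback.fst f (h ≫ g₁) w) :=
      (S.residueFieldCongr hws).inv ≫ f.residueFieldMap _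
    have hr : r' ≫ (pullback.fst f (h ≫ g₁)).residueFieldMap w =
        (h ≫ g₁).residueFieldMap _ ≫ (pullback.snd f (h ≫ g₁)).residueFieldMap w := by
      simp only [r', Category.assoc]
      rw [← Scheme.residueFieldMap_comp, ← Scheme.residueFieldMap_comp,
        Scheme.Hom.residueFieldMap_congr pullback.condition]
      simp
    subst hwu
    have hfin : r'.hom.Finite := by
      refine RingHom.Finite.comp (finite_residueFieldMap f (hwx.symm ▸ hx i))
        (RingHom.Finite.of_surjective _
          (ConcreteCategory.bijective_of_isIso (S.residueFieldCongr hws).inv).2)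
    refine ⟨?_, ?_⟩
    · -- finiteness
      have h1 : ((pullback.snd f (h ≫ g₁)).residueFieldMap w).hom.Finite := by
        have hqf : (pullback.snd f (h ≫ g₁)).QuasiFiniteAt w :=
          quasiFiniteAt_snd f (h ≫ g₁) w (hwx.symm ▸ hx i)
        exact finite_residueFieldMap _ hqf
      exact h1
    · let : Algebra F (X.residueField (pullback.fst f (h ≫ g₁) w)) := r'.hom.toAlgebra
      have : Module.Finite F (X.residueField (pullback.fst f (h ≫ g₁) w)) := hfin
      refine isPurelyInseparable_residueField w r' hr inferInstance fun b hb => ?_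
      -- transport to `x i` and `k`
      let ρ := (S.residueFieldCongr hgu).hom
      let σ := (X.residueFieldCongr hwx).hom
      have hcomm : r' ≫ σ = ρ ≫ r i := by
        simp only [r', r, σ, ρ, Category.assoc]
        rw [Scheme.Hom.residueFieldMap_congr' hwx]
        simp only [← Category.assoc]
        congr 1
        simp [Scheme.residueFieldCongr_inv]
      have hρ : Function.Bijective ρ.hom := ConcreteCategory.bijective_of_isIso ρ
      have hσ : Function.Bijective σ.hom := ConcreteCategory.bijective_of_isIso σ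
      let ρe := RingEquiv.ofBijective ρ.hom hρ
      have hmin : (minpoly F b).map ρ.hom = minpoly (S.residueField s) (σ b) :=
        minpoly.map_eq_of_equiv_equiv (f := ρe) (g := RingEquiv.ofBijective σ.hom hσ)
          congr(CommRingCat.Hom.hom $hcomm).symm b
      have hbsep : IsSeparable (S.residueField s) (σ b) := by
        unfold IsSeparable
        rw [← hmin]
        exact Polynomial.Separable.map hb
      have hsp := hsplit i (σ b) hbsep
      rw [← hmin, Polynomial.map_map] at hsp
      -- `k` maps to `κ(u)` over `κ(s)`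
      have hu1 : h (pullback.snd f (h ≫ g₁) w) = u₁ := hu.base_eq
      let τ : CommRingCat.of k ⟶ U.residueField (pullback.snd f (h ≫ g₁) w) :=
        CommRingCat.ofHom e₁.toRingEquiv.toRingHom ≫
          (U₁.residueFieldCongr hu1).inv ≫ h.residueFieldMap _
      have hτ : ρ ≫ CommRingCat.ofHom (algebraMap (S.residueField s) k) ≫ τ =
          (h ≫ g₁).residueFieldMap (pullback.snd f (h ≫ g₁) w) := by
        have hcomm1 : CommRingCat.ofHom (algebraMap (S.residueField s) k) ≫
            CommRingCat.ofHom e₁.toRingEquiv.toRingHom =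
            (S.residueFieldCongr hu₁).inv ≫ g₁.residueFieldMap u₁ := by
          ext a
          exact e₁.commutes a
        simp only [τ, ← Category.assoc]
        simp only [Category.assoc]
        refine (congrArg (fun m => ρ ≫ m) ((Category.assoc _ _ _).symm.trans
          ((congrArg (fun m => m ≫ _) hcomm1).trans (Category.assoc _ _ _)))).trans ?_
        rw [Scheme.residueFieldMap_comp]
        subst hu1
        simp [ρ, Scheme.residueFieldCongr_inv]
        erw [Category.id_comp]
      have := hsp.map τ.hom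
      rw [Polynomial.map_map] at this
      rw [← hτ]
      exact this
  refine ⟨U, h ≫ g₁, u, inferInstance, hgu,
    fun i => Fin (Nat.card {w : ↑(pullback f g₁) //
      pullback.fst f g₁ w = x i ∧ pullback.snd f g₁ w = u₁}), inferInstance,
    fun i j => e.inv ⁻¹ᵁ V ⟨i, (Finite.equivFin _).symm j⟩,
    fun i j => e.hom (v ⟨i, (Finite.equivFin _).symm j⟩), fun i j => ?_, ?_, ?_⟩
  · dsimp only
    set p : P := ⟨i, (Finite.equivFin _).symm j⟩
    refine ⟨show e.inv (e.hom (v p)) ∈ V p from ?_, ?_, (esnd _).trans (hvsnd p), ?_, ?_, ?_⟩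
    · rw [← Scheme.Hom.comp_apply, e.hom_inv_id]; exact hvV p
    · have hf := hVfin p
      have e2 : (e.inv ⁻¹ᵁ V p).ι ≫ pullback.snd f (h ≫ g₁) =
          (e.inv ∣_ V p) ≫ (V p).ι ≫ pullback.snd (pullback.snd f g₁) h := by
        rw [morphismRestrict_ι_assoc, pullbackLeftPullbackSndIso_inv_snd_snd]
      rw [e2]
      infer_instance
    · intro w hw hwu
      have hww : e.hom (e.inv w) = w := by rw [← Scheme.Hom.comp_apply, e.inv_hom_id]; rfl
      have h2 := huniq p (e.inv w) hw (by rw [← esnd, hww]; exact hwu)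
      exact hww.symm.trans (congrArg e.hom h2)
    · exact key i _ ((efst _).trans (by rw [hvfst p]; exact p.2.2.1)) ((esnd _).trans (hvsnd p))
    · rw [efst, hvfst p]; exact p.2.2.1
  · intro i j i' j' hjj
    have h0 := e.hom.homeomorph.injective hjj
    have h1 := (hvfst ⟨i, (Finite.equivFin _).symm j⟩).symm.trans
      ((congr(pullback.fst (pullback.snd f g₁) h $h0)).trans (hvfst _))
    have h2 := ((Finite.equivFin _).symm j).2.1.symm.trans
      ((congr(pullback.fst f g₁ $h1)).trans ((Finite.equivFin _).symm j').2.1)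
    obtain rfl := hinj h2
    exact ⟨rfl, heq_of_eq ((Finite.equivFin _).symm.injective (Subtype.ext h1))⟩
  · intro w i hwu hwx
    obtain ⟨w, rfl⟩ := e.hom.homeomorph.surjective w
    change pullback.fst f (h ≫ g₁) (e.hom w) = x i at hwx
    change pullback.snd f (h ≫ g₁) (e.hom w) = u at hwu
    rw [efst] at hwx
    rw [esnd] at hwu
    have hcond : pullback.snd f g₁ (pullback.fst _ h w) = u₁ := by
      rw [← Scheme.Hom.comp_apply, pullback.condition, Scheme.Hom.comp_apply, hwu]
      exact hu.base_eq
    let p₀ : {w : ↑(pullback f g₁) // pullback.fst f g₁ w = x i ∧ pullback.snd f g₁ w = u₁} :=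
      ⟨_, hwx, hcond⟩
    refine ⟨Finite.equivFin _ p₀, congrArg e.hom ?_⟩
    simp only [Equiv.symm_apply_apply]
    exact eq_of_residueFieldMap_bijective (hvfst ⟨i, p₀⟩).symm (hwu.trans (hvsnd _).symm)
      (hwu.symm ▸ hu.residue_bijective)

/-- A finite union of opens, each finite over the base, is finite over the base. -/
theorem isFinite_iSup {Y T : Scheme.{u}} (p : Y ⟶ T) [IsSeparated p] [LocallyOfFiniteType p]
    {ι : Type*} [Finite ι] (V : ι → Y.Opens) (hfin : ∀ i, IsFinite ((V i).ι ≫ p)) :
    IsFinite ((⨆ i, V i : Y.Opens).ι ≫ p) := by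
  let W : Y.Opens := ⨆ i, V i
  have : UniversallyClosed (W.ι ≫ p) := by
    refine ⟨fun X' T' i₁ i₂ p' h => fun C hC => ?_⟩
    have hcov : p' '' C = ⋃ i, (((i₁ ≫ W.ι) ⁻¹ᵁ V i).ι ≫ p') '' (((i₁ ≫ W.ι) ⁻¹ᵁ V i).ι ⁻¹' C) := by
      ext t
      simp only [Set.mem_image, Set.mem_iUnion, Set.mem_preimage]
      constructor
      · rintro ⟨c, hc, rfl⟩
        obtain ⟨i, hi⟩ := TopologicalSpace.Opens.mem_iSup.mp
          (show W.ι (i₁ c) ∈ W from (i₁ c).2)
        exact ⟨i, ⟨c, hi⟩, hc, rfl⟩
      · rintro ⟨i, c, hc, rfl⟩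
        exact ⟨_, hc, rfl⟩
    rw [hcov]
    refine isClosed_iUnion_of_finite fun i => ?_
    have := hfin i
    have hres : IsPullback (((i₁ ≫ W.ι) ⁻¹ᵁ V i).ι ≫ p') (i₁ ∣_ (W.ι ⁻¹ᵁ V i)) i₂
        ((W.ι ⁻¹ᵁ V i).ι ≫ W.ι ≫ p) :=
      ((isPullback_morphismRestrict i₁ (W.ι ⁻¹ᵁ V i)).paste_vert h.flip).flip
    have hfin' : IsFinite ((W.ι ⁻¹ᵁ V i).ι ≫ W.ι ≫ p) := by
      rw [← morphismRestrict_ι_assoc]
      have : IsFinite (W.ι ∣_ V i) := by
        have : IsClosedImmersion (W.ι ∣_ V i) := by
          refine .of_isPreimmersion _ ?_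
          convert isClosed_univ
          refine Set.eq_univ_of_forall fun ⟨y, hy⟩ => ?_
          refine ⟨⟨⟨y, TopologicalSpace.Opens.mem_iSup.mpr ⟨i, hy⟩⟩, hy⟩, Subtype.ext ?_⟩
          have h := congr($(morphismRestrict_ι W.ι (V i))
            ⟨⟨y, TopologicalSpace.Opens.mem_iSup.mpr ⟨i, hy⟩⟩, hy⟩)
          rw [Scheme.Hom.comp_apply, Scheme.Hom.comp_apply] at h
          exact h
        infer_instance
      infer_instance
    have : IsFinite (((i₁ ≫ W.ι) ⁻¹ᵁ V i).ι ≫ p') := MorphismProperty.of_isPullback hres.flip hfin'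
    exact Scheme.Hom.isClosedMap _ _ (hC.preimage ((i₁ ≫ W.ι) ⁻¹ᵁ V i).ι.continuous)
  have : IsProper (W.ι ≫ p) := ⟨⟩
  have : LocallyQuasiFinite (W.ι ≫ p) := by
    rw [← Scheme.Hom.quasiFiniteLocus_eq_top_iff, eq_top_iff]
    intro w _
    obtain ⟨i, hi⟩ := TopologicalSpace.Opens.mem_iSup.mp w.2
    have := hfin i
    have h1 := ((V i).ι ≫ p).quasiFiniteAt (⟨w.1, hi⟩ : V i)
    rw [Scheme.Hom.quasiFiniteAt_comp_iff_of_isOpenImmersion] at h1
    rw [Scheme.Hom.mem_quasiFiniteLocus, Scheme.Hom.quasiFiniteAt_comp_iff_of_isOpenImmersion]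
    exact h1
  exact IsFinite.of_isProper_of_locallyQuasiFinite _

end Groth.Flatmor4
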