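import Mathlib

/-!
Representability of a functor on schemes over a base which is covered by representable open subfunctors.
-/

set_option autoImplicit false
set_option linter.style.haveILetI false

universe u

open CategoryTheory CategoryTheory.Limits AlgebraicGeometry Opposite

noncomputable section

namespace Groth.Flatmor4.OverRep

variable {S : Scheme.{u}} {F : (Over S)ᵒᵖ ⥤ Type u}

variable (F) in
/-- Restriction of a section of `F`. -/
abbrev res {T T' : Over S} (g : T' ⟶ T) (a : F.obj (op T)) : F.obj (op T') := F.map g.op a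

lemma res_res {T T' T'' : Over S} (g : T'' ⟶ T') (h : T' ⟶ T) (a : F.obj (op T)) :
    res F g (res F h a) = res F (g ≫ h) a := by
  simp [res]

lemma res_id {T : Over S} (a : F.obj (op T)) : res F (𝟙 T) a = a := by
  simp [res]

/-- A piece of an open cover of `T` over `S`. -/
abbrev piece (T : Over S) (𝒰 : Scheme.OpenCover.{u} T.left) (i : 𝒰.I₀) : Over S :=
  Over.mk (𝒰.f i ≫ T.hom)

/-- The inclusion of a piece. -/
abbrev pieceHom (T : Over S) (𝒰 : Scheme.OpenCover.{u} T.left) (i : 𝒰.I₀) : piece T 𝒰 i ⟶ T :=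
  Over.homMk (𝒰.f i) rfl

variable (F) in
/-- The sheaf condition for an open cover. -/
def IsSheafCover {T : Over S} (𝒰 : Scheme.OpenCover.{u} T.left) : Prop :=
  ∀ a : ∀ i, F.obj (op (piece T 𝒰 i)),
    (∀ (i j : 𝒰.I₀) (W : Over S) (p : W ⟶ piece T 𝒰 i) (q : W ⟶ piece T 𝒰 j),
      p ≫ pieceHom T 𝒰 i = q ≫ pieceHom T 𝒰 j → res F p (a i) = res F q (a j)) →
    ∃! b : F.obj (op T), ∀ i, res F (pieceHom T 𝒰 i) b = a i

lemma eq_of_pieces {T : Over S} (hF : ∀ 𝒰 : Scheme.OpenCover.{u} T.left, IsSheafCover F 𝒰)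
    (𝒰 : Scheme.OpenCover.{u} T.left) {a b : F.obj (op T)}
    (h : ∀ i, res F (pieceHom T 𝒰 i) a = res F (pieceHom T 𝒰 i) b) : a = b :=
  (hF 𝒰 (fun i => res F (pieceHom T 𝒰 i) b) fun i j W p q e => by
    rw [res_res, res_res, e]).unique h fun _ => rfl

variable (F) in
/-- A cover of `F` by representable open subfunctors: `loc i a` is the locus where `a` lies in the
`i`-th piece, and `H i` with `Z i` represents that piece. -/
structure Atlas where
  /-- The index type. -/
  ι : Type u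
  /-- The representing objects. -/
  H : ι → Over S
  /-- The universal sections. -/
  Z : ∀ i, F.obj (op (H i))
  /-- The open locus of a piece. -/
  loc : ι → ∀ {T : Over S}, F.obj (op T) → T.left.Opens
  loc_map : ∀ i {T T' : Over S} (g : T' ⟶ T) (a : F.obj (op T)), loc i (res F g a) = g.left ⁻¹ᵁ loc i a
  loc_self : ∀ i, loc i (Z i) = ⊤
  univ : ∀ i (T : Over S) (a : F.obj (op T)), loc i a = ⊤ → ∃! t : T ⟶ H i, res F t (Z i) = a
  cover : ∀ (T : Over S) (a : F.obj (op T)) (t : T.left), ∃ i, t ∈ loc i a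

namespace Atlas

variable (D : Atlas F)

lemma inP_pull_iff (i : D.ι) {T T' : Over S} (g : T' ⟶ T) (a : F.obj (op T)) :
    D.loc i (res F g a) = ⊤ ↔ Set.range g.left ⊆ D.loc i a := by
  rw [D.loc_map, Set.range_subset_iff]
  exact ⟨fun h y => h.ge (Set.mem_univ y), fun h => top_le_iff.1 fun y _ => h y⟩

/-- the open locus of a piece -/
abbrev lc {T : Over S} (W : F.obj (op T)) (i : D.ι) : T.left.Opens := D.loc i W

/-- the overlap of two charts -/
abbrev O (i k : D.ι) : (D.H i).left.Opens := D.lc (D.Z i) k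

/-- the overlap over `S` -/
abbrev Vo (i k : D.ι) : Over S := Over.mk ((D.O i k).ι ≫ (D.H i).hom)

/-- the inclusion of the overlap -/
abbrev incl (i k : D.ι) : D.Vo i k ⟶ D.H i := Over.homMk (D.O i k).ι rfl

lemma range_incl (i k : D.ι) : Set.range (D.incl i k).left ⊆ D.O i k :=
  (Scheme.Opens.range_ι _).subset

lemma exists_t0 (i k : D.ι) :
    ∃! t : D.Vo i k ⟶ D.H k,
      res F t (D.Z k) = res F (D.incl i k) (D.Z i) :=
  D.univ k (D.Vo i k) (res F (D.incl i k) (D.Z i))
    ((D.inP_pull_iff k (D.incl i k) (D.Z i)).2 (D.range_incl i k))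

/-- the classifying map on an overlap -/
def t0 (i k : D.ι) : D.Vo i k ⟶ D.H k := (D.exists_t0 i k).choose

lemma pull_t0 (i k : D.ι) :
    res F (D.t0 i k) (D.Z k) = res F (D.incl i k) (D.Z i) :=
  (D.exists_t0 i k).choose_spec.1

lemma hom_ext {T : Over S} {i : D.ι} (a b : T ⟶ D.H i)
    (h : res F a (D.Z i) = res F b (D.Z i)) : a = b :=
  (D.univ i T (res F a (D.Z i)) ((D.inP_pull_iff i a (D.Z i)).2 (by rw [D.loc_self]; exact fun _ _ => trivial))).unique rfl h.symm

lemma range_subset {T : Over S} {i k : D.ι} (a : T ⟶ D.H i) (b : T ⟶ D.H k)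
    (h : res F a (D.Z i) = res F b (D.Z k)) : Set.range a.left ⊆ D.O i k :=
  (D.inP_pull_iff k a (D.Z i)).1 (h ▸ (D.inP_pull_iff k b (D.Z k)).2 (by rw [D.loc_self]; exact fun _ _ => trivial))

lemma range_t0 (i k : D.ι) : Set.range (D.t0 i k).left ⊆ D.O k i :=
  D.range_subset (D.t0 i k) (D.incl i k) (D.pull_t0 i k)

/-- the transition map -/
def tr (i k : D.ι) : (D.O i k).toScheme ⟶ (D.O k i).toScheme :=
  IsOpenImmersion.lift (D.O k i).ι (D.t0 i k).left
    (by rw [Scheme.Opens.range_ι]; exact D.range_t0 i k)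

@[reassoc]
lemma tr_ι (i k : D.ι) : D.tr i k ≫ (D.O k i).ι = (D.t0 i k).left :=
  IsOpenImmersion.lift_fac _ _ _

lemma tr_id (i : D.ι) : D.tr i i = 𝟙 _ := by
  rw [← cancel_mono (D.O i i).ι, tr_ι, Category.id_comp,
    show D.t0 i i = D.incl i i from D.hom_ext _ _ (D.pull_t0 i i)]
  rfl

/-- the triple overlap over `S` -/
abbrev Vt (i k l : D.ι) : Over S :=
  Over.mk (pullback.fst (D.O i k).ι (D.O i l).ι ≫ (D.O i k).ι ≫ (D.H i).hom)

/-- the triple overlap inside the chart -/
abbrev pi3 (i k l : D.ι) : D.Vt i k l ⟶ D.H i :=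
  Over.homMk (pullback.fst (D.O i k).ι (D.O i l).ι ≫ (D.O i k).ι) (Category.assoc _ _ _)

/-- the triple overlap in the second chart -/
abbrev tau (i k l : D.ι) : D.Vt i k l ⟶ D.H k :=
  Over.homMk (pullback.fst (D.O i k).ι (D.O i l).ι ≫ (D.t0 i k).left)
    (by rw [Category.assoc, Over.w (D.t0 i k)]; rfl)

lemma pull_tau (i k l : D.ι) :
    res F (D.tau i k l) (D.Z k) = res F (D.pi3 i k l) (D.Z i) := by
  let a : D.Vt i k l ⟶ D.Vo i k := Over.homMk (pullback.fst _ _) rfl
  have e1 : D.tau i k l = a ≫ D.t0 i k := by ext; rfl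
  have e2 : D.pi3 i k l = a ≫ D.incl i k := by ext; rfl
  rw [e1, e2, ← res_res, pull_t0, res_res]

lemma range_tau (i k l : D.ι) : Set.range (D.tau i k l).left ⊆ D.O k l := by
  refine (D.inP_pull_iff l (D.tau i k l) (D.Z k)).1 ?_
  rw [pull_tau]
  refine (D.inP_pull_iff l (D.pi3 i k l) (D.Z i)).2 ?_
  rintro _ ⟨p, rfl⟩
  show (pullback.fst (D.O i k).ι (D.O i l).ι ≫ (D.O i k).ι) p ∈ (D.O i l : Set (D.H i).left)
  rw [pullback.condition, ← Scheme.Opens.range_ι]
  exact ⟨pullback.snd (D.O i k).ι (D.O i l).ι p, rfl⟩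

/-- the transition map of triple overlaps -/
def tr3 (i k l : D.ι) :
    pullback (D.O i k).ι (D.O i l).ι ⟶ pullback (D.O k l).ι (D.O k i).ι :=
  pullback.lift
    (IsOpenImmersion.lift (D.O k l).ι (D.tau i k l).left
      (by rw [Scheme.Opens.range_ι]; exact D.range_tau i k l))
    (pullback.fst _ _ ≫ D.tr i k)
    (by rw [IsOpenImmersion.lift_fac, Category.assoc, tr_ι]; rfl)

lemma tr3_snd (i k l : D.ι) :
    D.tr3 i k l ≫ pullback.snd _ _ = pullback.fst _ _ ≫ D.tr i k :=
  pullback.lift_snd _ _ _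

/-- the transition map of triple overlaps over `S` -/
def tr3o (i k l : D.ι) : D.Vt i k l ⟶ D.Vt k l i :=
  Over.homMk (D.tr3 i k l) (by
    show D.tr3 i k l ≫ pullback.fst _ _ ≫ (D.O k l).ι ≫ (D.H k).hom = _
    rw [tr3, pullback.lift_fst_assoc, IsOpenImmersion.lift_fac_assoc]
    exact Over.w (D.tau i k l))

lemma tr3o_pi3 (i k l : D.ι) : D.tr3o i k l ≫ D.pi3 k l i = D.tau i k l := by
  ext
  show D.tr3 i k l ≫ pullback.fst _ _ ≫ (D.O k l).ι = _
  rw [tr3, pullback.lift_fst_assoc, IsOpenImmersion.lift_fac]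

lemma cocycle (i k l : D.ι) : D.tr3 i k l ≫ D.tr3 k l i ≫ D.tr3 l i k = 𝟙 _ := by
  have step : ∀ (a b c : D.ι) {T : Over S} (u : T ⟶ D.Vt a b c),
      res F ((u ≫ D.tr3o a b c) ≫ D.pi3 b c a) (D.Z b) =
        res F (u ≫ D.pi3 a b c) (D.Z a) := by
    intro a b c T u
    rw [Category.assoc, tr3o_pi3, ← res_res, pull_tau, res_res]
  have h := D.hom_ext ((((𝟙 _ ≫ D.tr3o i k l) ≫ D.tr3o k l i) ≫ D.tr3o l i k) ≫ D.pi3 i k l)
    (𝟙 _ ≫ D.pi3 i k l) (by rw [step, step, step])
  rw [← cancel_mono (pullback.fst (D.O i k).ι (D.O i l).ι ≫ (D.O i k).ι)]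
  have h' := congrArg (fun m : D.Vt i k l ⟶ D.H i => m.left) h
  simpa [tr3o] using h'

lemma O_self (i : D.ι) : D.O i i = ⊤ := D.loc_self i

/-- the glue data -/
def glueData : Scheme.GlueData.{u} where
  J := D.ι
  U i := (D.H i).left
  V p := (D.O p.1 p.2).toScheme
  f i k := (D.O i k).ι
  f_mono i k := inferInstance
  f_id i := by
    haveI : Surjective (D.O i i).ι := ⟨fun x => ⟨⟨x, by rw [D.O_self i]; trivial⟩, rfl⟩⟩
    exact (isIso_iff_isOpenImmersion_and_epi_base _).mpr
      ⟨inferInstance, (TopCat.epi_iff_surjective _).mpr (Scheme.Hom.surjective _)⟩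
  f_hasPullback i k l := inferInstance
  t i k := D.tr i k
  t_id i := D.tr_id i
  t' i k l := D.tr3 i k l
  t_fac i k l := D.tr3_snd i k l
  cocycle i k l := D.cocycle i k l
  f_open i k := inferInstanceAs (IsOpenImmersion (D.O i k).ι)

/-- a chart of the glued scheme -/
abbrev chart (i : D.ι) : (D.H i).left ⟶ D.glueData.glued := D.glueData.ι i

lemma glue_cond (i k : D.ι) :
    (D.t0 i k).left ≫ D.chart k = (D.O i k).ι ≫ D.chart i := by
  rw [← D.tr_ι i k, Category.assoc]
  exact D.glueData.glue_condition i k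

lemma exists_factor {W : Scheme.{u}} {i k : D.ι} (a : W ⟶ (D.H i).left) (b : W ⟶ (D.H k).left)
    (h : a ≫ D.chart i = b ≫ D.chart k) :
    ∃ l : W ⟶ (D.O i k).toScheme, l ≫ (D.O i k).ι = a ∧ l ≫ (D.t0 i k).left = b := by
  obtain ⟨l, hl1, hl2⟩ := PullbackCone.IsLimit.lift' (D.glueData.vPullbackConeIsLimit i k) a b h
  refine ⟨l, hl1, ?_⟩
  rw [← D.tr_ι i k]
  exact hl2

/-- the structure map of the glued scheme -/
def toBase : D.glueData.glued ⟶ S :=
  Scheme.Cover.glueMorphisms D.glueData.openCover (fun i => (D.H i).hom) fun i k => by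
    obtain ⟨l, hl1, hl2⟩ := D.exists_factor _ _ (pullback.condition (f := D.chart i) (g := D.chart k))
    show pullback.fst (D.chart i) (D.chart k) ≫ (D.H i).hom = pullback.snd (D.chart i) (D.chart k) ≫ _
    rw [← hl1, ← hl2, Category.assoc, Category.assoc, Over.w (D.t0 i k)]
    rfl

lemma chart_toBase (i : D.ι) : D.chart i ≫ D.toBase = (D.H i).hom :=
  Scheme.Cover.ι_glueMorphisms D.glueData.openCover _ _ i

/-- the glued scheme over `S` -/
abbrev glued : Over S := Over.mk D.toBase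

/-- a chart over `S` -/
abbrev ch (i : D.ι) : D.H i ⟶ D.glued := Over.homMk (D.chart i) (D.chart_toBase i)

lemma ch_eq {T : Over S} {i k : D.ι} (a : T ⟶ D.H i) (b : T ⟶ D.H k)
    (h : res F a (D.Z i) = res F b (D.Z k)) : a ≫ D.ch i = b ≫ D.ch k := by
  have hr := D.range_subset a b h
  let l : T ⟶ D.Vo i k := Over.homMk
    (IsOpenImmersion.lift (D.O i k).ι a.left (by rw [Scheme.Opens.range_ι]; exact hr))
    (by show _ ≫ _ ≫ _ = _; rw [IsOpenImmersion.lift_fac_assoc, Over.w a])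
  have hl : l ≫ D.incl i k = a := by ext; exact IsOpenImmersion.lift_fac _ _ _
  have hb : l ≫ D.t0 i k = b := D.hom_ext _ _ (by rw [← res_res, pull_t0, res_res, hl, h])
  rw [← hl, ← hb, Category.assoc, Category.assoc]
  congr 1
  ext
  exact (D.glue_cond i k).symm

lemma pull_eq_of_ch_eq {T : Over S} {i k : D.ι} (a : T ⟶ D.H i) (b : T ⟶ D.H k)
    (h : a ≫ D.ch i = b ≫ D.ch k) : res F a (D.Z i) = res F b (D.Z k) := by
  obtain ⟨l, hl1, hl2⟩ := D.exists_factor a.left b.left (congrArg (fun m => m.left) h)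
  let l' : T ⟶ D.Vo i k := Over.homMk l (by
    show l ≫ _ ≫ _ = _; rw [reassoc_of% hl1, Over.w a])
  have e1 : a = l' ≫ D.incl i k := by ext; exact hl1.symm
  have e2 : b = l' ≫ D.t0 i k := by ext; exact hl2.symm
  rw [e1, e2, ← res_res, ← res_res, pull_t0]

/-- the cover of the glued scheme by the charts -/
def chCover : Scheme.OpenCover.{u} D.glued.left :=
  Scheme.Cover.mkOfCovers D.ι (fun i => (D.H i).left) (fun i => D.chart i)
    (fun x => by obtain ⟨i, y, hy⟩ := D.glueData.ι_jointly_surjective x; exact ⟨i, y, hy⟩)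
    fun i => D.glueData.ι_isOpenImmersion i

/-- a piece of the chart cover is the chart -/
def toH (i : D.ι) : piece D.glued D.chCover i ⟶ D.H i :=
  Over.homMk (𝟙 _) (by
    show 𝟙 _ ≫ (D.H i).hom = D.chart i ≫ D.toBase
    rw [Category.id_comp, chart_toBase])

lemma toH_ch (i : D.ι) : D.toH i ≫ D.ch i = pieceHom D.glued D.chCover i := by
  ext
  exact Category.id_comp _

include D in
theorem representable (hF : ∀ (T : Over S) (𝒰 : Scheme.OpenCover.{u} T.left), IsSheafCover F 𝒰) :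
    F.IsRepresentable := by
  obtain ⟨Z, hZ, -⟩ := hF D.glued D.chCover (fun i => res F (D.toH i) (D.Z i))
    fun i k W a b hab => by
      show res F a (res F (D.toH i) _) = res F b (res F (D.toH k) _)
      rw [res_res, res_res]
      refine D.pull_eq_of_ch_eq _ _ ?_
      rw [Category.assoc, Category.assoc, toH_ch, toH_ch, hab]
  have key : ∀ (i : D.ι) {T : Over S} (a : T ⟶ D.H i),
      res F (a ≫ D.ch i) Z = res F a (D.Z i) := by
    intro i T a
    let β : D.H i ⟶ piece D.glued D.chCover i := Over.homMk (𝟙 _) (by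
      show 𝟙 _ ≫ D.chart i ≫ D.toBase = _
      rw [Category.id_comp, chart_toBase])
    have hβ : β ≫ D.toH i = 𝟙 _ := by ext; exact Category.id_comp _
    have e : D.ch i = β ≫ pieceHom D.glued D.chCover i := by ext; exact (Category.id_comp _).symm
    rw [← res_res, e, ← res_res β, hZ i]
    show res F a (res F β (res F (D.toH i) (D.Z i))) = _
    rw [res_res β, hβ, res_id]
  suffices huniv : ∀ (T : Over S) (W : F.obj (op T)), ∃! g : T ⟶ D.glued, res F g Z = W from
    Functor.RepresentableBy.isRepresentable (Y := D.glued)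
      { homEquiv := fun {T} => Equiv.ofBijective (fun g : T ⟶ D.glued => res F g Z)
          ((Function.bijective_iff_existsUnique _).2 (huniv T))
        homEquiv_comp := fun g h => (res_res g h Z).symm }
  intro T W
  let 𝒰 : Scheme.OpenCover.{u} T.left := Scheme.Cover.mkOfCovers D.ι
    (fun i => (D.lc W i).toScheme) (fun i => (D.lc W i).ι)
    (fun x => by obtain ⟨i, hi⟩ := D.cover T W x; exact ⟨i, ⟨x, hi⟩, rfl⟩) fun i => inferInstance
  have hP : ∀ i : D.ι, D.loc i (res F (pieceHom T 𝒰 i) W) = ⊤ := fun i =>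
    (D.inP_pull_iff i (pieceHom T 𝒰 i) W).2 (Scheme.Opens.range_ι _).subset
  choose c hc hcu using fun i => D.univ i _ (res F (pieceHom T 𝒰 i) W) (hP i)
  have hcompat : ∀ i k, pullback.fst (𝒰.f i) (𝒰.f k) ≫ (c i).left ≫ D.chart i =
      pullback.snd (𝒰.f i) (𝒰.f k) ≫ (c k).left ≫ D.chart k := by
    intro i k
    let P : Over S := Over.mk (pullback.fst (𝒰.f i) (𝒰.f k) ≫ (piece T 𝒰 i).hom)
    let p : P ⟶ piece T 𝒰 i := Over.homMk (pullback.fst _ _) rfl
    let q : P ⟶ piece T 𝒰 k := Over.homMk (pullback.snd _ _) (by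
      show pullback.snd _ _ ≫ 𝒰.f k ≫ T.hom = pullback.fst _ _ ≫ 𝒰.f i ≫ T.hom
      rw [pullback.condition_assoc])
    have hpq : p ≫ pieceHom T 𝒰 i = q ≫ pieceHom T 𝒰 k := by ext; exact pullback.condition
    have h := D.ch_eq (p ≫ c i) (q ≫ c k) (by
      rw [← res_res, ← res_res, hc, hc]
      show res F p (res F (pieceHom T 𝒰 i) W) =
        res F q (res F (pieceHom T 𝒰 k) W)
      rw [res_res, res_res, hpq])
    have h' := congrArg (fun m : P ⟶ D.glued => m.left) h
    exact (Category.assoc _ _ _).symm.trans (h'.trans (Category.assoc _ _ _))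
  let g₀ := Scheme.Cover.glueMorphisms 𝒰 (fun i => (c i).left ≫ D.chart i) hcompat
  let g : T ⟶ D.glued := Over.homMk g₀ (Scheme.Cover.hom_ext 𝒰 _ _ fun i => by
    show 𝒰.f i ≫ g₀ ≫ D.toBase = 𝒰.f i ≫ T.hom
    rw [Scheme.Cover.ι_glueMorphisms_assoc, Category.assoc, chart_toBase]
    exact Over.w (c i))
  have hg : ∀ i, pieceHom T 𝒰 i ≫ g = c i ≫ D.ch i := fun i => by
    ext
    exact Scheme.Cover.ι_glueMorphisms 𝒰 _ hcompat i
  have hgW : res F g Z = W := eq_of_pieces (hF T) 𝒰 fun i => by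
    rw [res_res, hg, key, hc]
  refine ⟨g, hgW, fun g' hg' => ?_⟩
  ext
  refine Scheme.Cover.hom_ext (D.chCover.pullback₁ g'.left) _ _ fun i => ?_
  refine Scheme.Cover.hom_ext (D.chCover.pullback₁ (pullback.fst g'.left (D.chart i) ≫ g.left))
    _ _ fun k => ?_
  let r := pullback.fst (pullback.fst g'.left (D.chart i) ≫ g.left) (D.chart k)
  let P : Over S := Over.mk (r ≫ pullback.fst g'.left (D.chart i) ≫ T.hom)
  let p : P ⟶ T := Over.homMk (r ≫ pullback.fst g'.left (D.chart i)) (Category.assoc _ _ _)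
  let a : P ⟶ D.H i := Over.homMk (r ≫ pullback.snd g'.left (D.chart i)) (by
    show _ = r ≫ pullback.fst g'.left (D.chart i) ≫ T.hom
    rw [← Over.w g', pullback.condition_assoc, ← D.chart_toBase i, Category.assoc]
    rfl)
  let b : P ⟶ D.H k := Over.homMk (pullback.snd (pullback.fst g'.left (D.chart i) ≫ g.left) (D.chart k)) (by
    show _ = r ≫ pullback.fst g'.left (D.chart i) ≫ T.hom
    rw [← Over.w g, ← D.chart_toBase k, ← pullback.condition_assoc, Category.assoc]
    rfl)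
  have ha : p ≫ g' = a ≫ D.ch i := by
    ext
    show (r ≫ _) ≫ g'.left = (r ≫ _) ≫ D.chart i
    rw [Category.assoc, Category.assoc, pullback.condition]
  have hb : p ≫ g = b ≫ D.ch k := by
    ext
    show (r ≫ _) ≫ g.left = _
    rw [Category.assoc]
    exact pullback.condition
  have h := D.ch_eq a b (by rw [← key, ← key, ← ha, ← hb, ← res_res, ← res_res, hg', hgW])
  rw [← ha, ← hb] at h
  have h' := congrArg (fun m => m.left) h
  simp only [Over.comp_left] at h'
  exact (Category.assoc _ _ _).symm.trans (h'.trans (Category.assoc _ _ _))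


end Atlas

end Groth.Flatmor4.OverRep
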