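import Mathlib.AlgebraicGeometry.Noetherian
import Mathlib.AlgebraicGeometry.Morphisms.UniversallyOpen

universe u
open CategoryTheory AlgebraicGeometry TopologicalSpace

namespace Groth.Flatmor4

/-- In a locally Noetherian scheme every dense open contains all points with no proper generization. -/
lemma mem_of_dense_of_maximal {Y : Scheme.{u}} [IsLocallyNoetherian Y] (U : Y.Opens)
    (hU : Dense (U : Set Y)) (η : Y) (hη : ∀ z : Y, z ⤳ η → z = η) : η ∈ U := by
  obtain ⟨V, hV, hηV, -⟩ := exists_isAffineOpen_mem_and_subset (x := η) (U := ⊤) trivial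
  haveI : IsAffine V.toScheme := hV
  haveI : IsLocallyNoetherian V.toScheme := isLocallyNoetherian_of_isOpenImmersion V.ι
  haveI : IsNoetherian V.toScheme := {}
  haveI : NoetherianSpace (V : Set Y) := inferInstanceAs (NoetherianSpace V.toScheme)
  obtain ⟨S, hSfin, hScl, hSirr, hS⟩ :=
    NoetherianSpace.exists_finite_set_isClosed_irreducible (α := (V : Set Y)) isClosed_univ
  let W : Set (V : Set Y) := (⋃ s ∈ {s ∈ S | (⟨η, hηV⟩ : (V : Set Y)) ∉ s}, id s)ᶜ
  have hW : IsOpen W :=
    ((hSfin.subset (Set.sep_subset _ _)).isClosed_biUnion (f := id)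
      fun s hs => hScl s hs.1 |>.preimage continuous_id).isOpen_compl
  have hηW : ⟨η, hηV⟩ ∈ W := fun h => by
    obtain ⟨s, hs, hmem⟩ := Set.mem_iUnion₂.mp h
    exact hs.2 hmem
  obtain ⟨z, hzW, hzU⟩ := hU.inter_open_nonempty _
    (V.isOpen.isOpenEmbedding_subtypeVal.isOpenMap _ hW) ⟨η, _, hηW, rfl⟩
  obtain ⟨z', hz', rfl⟩ := hzW
  obtain ⟨s, hs, hzs⟩ : z' ∈ ⋃₀ S := hS ▸ Set.mem_univ _
  have hηs : ⟨η, hηV⟩ ∈ s := by
    by_contra h
    exact hz' (Set.mem_biUnion (show s ∈ {s ∈ S | (⟨η, hηV⟩ : (V : Set Y)) ∉ s} from ⟨hs, h⟩) hzs)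
  have hirr : IsIrreducible (closure (Subtype.val '' s)) :=
    ((hSirr s hs).image _ continuous_subtype_val.continuousOn).closure
  obtain ⟨g, hg⟩ := QuasiSober.sober hirr isClosed_closure
  have hgη : g = η := hη g (hg.specializes (subset_closure ⟨_, hηs, rfl⟩))
  exact ((hgη ▸ hg).specializes (subset_closure ⟨z', hzs, rfl⟩)).mem_open U.isOpen hzU

theorem dense_preimage_of_flat {X Y : Scheme.{u}} [IsLocallyNoetherian Y] (f : X ⟶ Y) [Flat f]
    (U : Y.Opens) (hU : Dense (U : Set Y)) : Dense ((f ⁻¹ᵁ U : X.Opens) : Set X) := by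
  refine dense_iff_inter_open.mpr fun W hW ⟨x, hx⟩ => ?_
  obtain ⟨ζ, hζ⟩ := QuasiSober.sober (S := irreducibleComponent x) isIrreducible_irreducibleComponent
    isClosed_irreducibleComponent
  have hζx : ζ ⤳ x := hζ.specializes mem_irreducibleComponent
  refine ⟨ζ, hζx.mem_open hW hx, mem_of_dense_of_maximal U hU _ fun z hz => ?_⟩
  obtain ⟨w, hw, rfl⟩ := (Flat.generalizingMap f) hz
  have hsub : irreducibleComponent x ⊆ closure {w} := by
    rw [← hζ.def]
    exact closure_minimal (Set.singleton_subset_iff.mpr (hw : w ⤳ ζ).mem_closure) isClosed_closure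
  have h1 : w ∈ irreducibleComponent x :=
    (irreducibleComponent_mem_irreducibleComponents x).2 isIrreducible_singleton.closure hsub
      (subset_closure rfl)
  have heq : w = ζ := ((hw : w ⤳ ζ).antisymm (hζ.specializes h1)).eq
  rw [heq]

theorem isRetract_flat {R M N : Type*} [CommRing R] [AddCommGroup M] [Module R M]
    [AddCommGroup N] [Module R N] (i : N →ₗ[R] M) (r : M →ₗ[R] N) (h : r.comp i = LinearMap.id)
    [Module.Flat R M] : Module.Flat R N :=
  Module.Flat.of_retract i r h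

end Groth.Flatmor4
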