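import Groth.Agent.Flatmor4.FPSections
import Groth.Agent.PropsBasic2.TildePullback
import Groth.Agent.QCohMod.PullbackQCoh
import Groth.Agent.QCohMod.FTCriterion
import Mathlib.RingTheory.Extension.Presentation.Core
import Mathlib.RingTheory.RingHom.FiniteType
import Groth.Prelude.Def_CohB1

/-!
Noetherian approximation of a finitely presented morphism of affine schemes with a module.
-/

set_option autoImplicit false
set_option linter.style.haveILetI false

universe u

open CategoryTheory AlgebraicGeometry TopologicalSpace TensorProduct Groth.QCohMod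

namespace Groth.Flatmor4

/-- A finitely presented module descends to any subring containing the entries of its relations. -/
theorem exists_model_of_lifts {B₀ B M : Type u} [CommRing B₀] [CommRing B] [Algebra B₀ B]
    [AddCommGroup M] [Module B M] {n : ℕ} (π : (Fin n → B) →ₗ[B] M) (hπ : Function.Surjective π)
    (s : Finset (Fin n → B)) (hs : Submodule.span B (s : Set (Fin n → B)) = LinearMap.ker π)
    (hlift : ∀ v ∈ s, ∀ i, ∃ b, algebraMap B₀ B b = v i) :
    ∃ (N : Type u) (_ : AddCommGroup N) (_ : Module B₀ N), Module.Finite B₀ N ∧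
      Nonempty ((B ⊗[B₀] N) ≃ₗ[B] M) := by
  classical
  choose w hw using hlift
  let K : Submodule B₀ (Fin n → B₀) := Submodule.span B₀ (Set.range fun v : s => w v.1 v.2)
  let N := (Fin n → B₀) ⧸ K
  refine ⟨N, inferInstance, inferInstance, inferInstance, ⟨?_⟩⟩
  letI : Module B₀ M := Module.compHom M (algebraMap B₀ B)
  haveI : IsScalarTower B₀ B M := .of_algebraMap_smul fun _ _ => rfl
  let c : (Fin n → B₀) →ₗ[B₀] (Fin n → B) := (Algebra.linearMap B₀ B).compLeft (Fin n)
  let g : N →ₗ[B₀] M := K.liftQ ((π.restrictScalars B₀).comp c) (by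
    rw [Submodule.span_le]
    rintro _ ⟨⟨v, hv⟩, rfl⟩
    have h1 : c (w v hv) = v := funext fun i => hw v hv i
    change π (c (w v hv)) = 0
    rw [h1]
    exact (hs.le (Submodule.subset_span hv) : v ∈ LinearMap.ker π))
  let F : B ⊗[B₀] N →ₗ[B] M := g.liftBaseChange B
  let e : Fin n → B ⊗[B₀] N := fun i => (1 : B) ⊗ₜ Submodule.Quotient.mk (Pi.single i 1)
  let G' : (Fin n → B) →ₗ[B] B ⊗[B₀] N := Fintype.linearCombination B e
  have hG' : ∀ a : Fin n → B₀, G' (c a) = (1 : B) ⊗ₜ Submodule.Quotient.mk a := by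
    intro a
    rw [Fintype.linearCombination_apply]
    conv_rhs => rw [← Finset.univ_sum_single a]
    rw [show Submodule.Quotient.mk (∑ i, Pi.single i (a i)) =
      K.mkQ (∑ i, Pi.single i (a i)) from rfl, map_sum, TensorProduct.tmul_sum]
    refine Finset.sum_congr rfl fun i _ => ?_
    have : (Pi.single i (a i) : Fin n → B₀) = a i • Pi.single i 1 := by
      rw [← Pi.single_smul, smul_eq_mul, mul_one]
    rw [this, map_smul, TensorProduct.tmul_smul, ← algebraMap_smul B (a i)]
    rfl
  have hker : LinearMap.ker π ≤ LinearMap.ker G' := by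
    rw [← hs, Submodule.span_le]
    intro v hv
    have h1 : c (w v hv) = v := funext fun i => hw v hv i
    rw [SetLike.mem_coe, LinearMap.mem_ker, ← h1, hG',
      (Submodule.Quotient.mk_eq_zero K).mpr (Submodule.subset_span ⟨⟨v, hv⟩, rfl⟩), tmul_zero]
  refine LinearEquiv.ofBijective F ⟨?_, ?_⟩
  · have key : ∀ z, ∃ x, π x = F z ∧ G' x = z := by
      intro z
      induction z using TensorProduct.induction_on with
      | zero => exact ⟨0, by simp, map_zero _⟩
      | tmul b m =>
        obtain ⟨a, rfl⟩ := Submodule.Quotient.mk_surjective K m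
        refine ⟨b • c a, ?_, ?_⟩
        · rw [map_smul, LinearMap.liftBaseChange_tmul]; rfl
        · rw [map_smul, hG', TensorProduct.smul_tmul', smul_eq_mul, mul_one]
      | add x y hx hy =>
        obtain ⟨x', hx1, hx2⟩ := hx
        obtain ⟨y', hy1, hy2⟩ := hy
        exact ⟨x' + y', by rw [map_add, map_add, hx1, hy1], by rw [map_add, hx2, hy2]⟩
    rw [injective_iff_map_eq_zero]
    intro z hz
    obtain ⟨x, hx1, hx2⟩ := key z
    rw [← hx2]
    exact hker (show x ∈ LinearMap.ker π by rw [LinearMap.mem_ker, hx1, hz])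
  · intro m
    obtain ⟨x, rfl⟩ := hπ m
    refine ⟨G' x, ?_⟩
    have : F.comp G' = π := by
      refine LinearMap.pi_ext fun i b => ?_
      rw [LinearMap.comp_apply, Fintype.linearCombination_apply_single, map_smul,
        LinearMap.liftBaseChange_tmul, one_smul]
      change b • π (c (Pi.single i 1)) = _
      have : c (Pi.single i 1) = Pi.single i 1 := funext fun j => by
        rcases eq_or_ne j i with rfl | hj
        · simp [c]
        · simp [c, hj]
      rw [this, ← map_smul, ← Pi.single_smul, smul_eq_mul, mul_one]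
    exact LinearMap.congr_fun this x

/-- The sheaf of a finite module is of finite type. -/
theorem isFT_tilde {R : CommRingCat.{u}} (N : ModuleCat.{u} R) [Module.Finite R N] :
    CohB1.IsFT (tilde N) := by
  refine isFT_of_affine_cover (tilde N) fun x => ⟨⊤, isAffineOpen_top _, trivial, ?_⟩
  letI : Algebra R Γ(Spec R, ⊤) := (Scheme.ΓSpecIso R).inv.hom.toAlgebra
  letI : Module R Γ(tilde N, (⊤ : (Spec R).Opens)) :=
    inferInstanceAs (Module R (moduleSpecΓFunctor.obj (tilde N)))
  haveI : IsScalarTower R Γ(Spec R, ⊤) Γ(tilde N, (⊤ : (Spec R).Opens)) :=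
    .of_algebraMap_smul fun r x => by
      rw [Scheme.Modules.smul_Spec_def]
      congr 1
  haveI : Module.Finite R (moduleSpecΓFunctor.obj (tilde N)) :=
    Module.Finite.equiv (tilde.isoTop N).toLinearEquiv
  haveI : Module.Finite R Γ(tilde N, (⊤ : (Spec R).Opens)) := this
  exact Module.Finite.of_restrictScalars_finite R _ _

/-- Noetherian approximation with a module. -/
theorem exists_approximation_module {X S : Scheme.{u}} (f : X ⟶ S) [IsAffine X] [IsAffine S]
    [LocallyOfFinitePresentation f] (F : X.Modules) [F.IsQuasicoherent] (hF : CohB1.IsFP F) :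
    ∃ (X₀ S₀ : Scheme.{u}) (f₀ : X₀ ⟶ S₀) (g : S ⟶ S₀) (g' : X ⟶ X₀),
      IsAffine X₀ ∧ IsAffine S₀ ∧ IsPullback g' f f₀ g ∧
      Algebra.FiniteType ℤ Γ(S₀, ⊤) ∧ LocallyOfFiniteType f₀ ∧
      ∃ F₀ : X₀.Modules, Coh.IsCoh F₀ ∧
        Nonempty ((Scheme.Modules.pullback g').obj F₀ ≅ F) := by
  classical
  let A := Γ(S, ⊤)
  let B := Γ(X, ⊤)
  letI : Algebra A B := f.appTop.hom.toAlgebra
  haveI : Algebra.FinitePresentation A B :=
    (HasRingHomProperty.iff_of_isAffine (P := @LocallyOfFinitePresentation)).mp ‹_›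
  -- the module
  let F' := (Scheme.Modules.pullback X.isoSpec.inv).obj F
  haveI hF'q : F'.IsQuasicoherent := isQCoh_pullback_obj X.isoSpec.inv F
  have hF' : CohB1.IsFP F' := isFP_pullback X.isoSpec.inv F hF
  let M : ModuleCat.{u} B := moduleSpecΓFunctor.obj F'
  haveI : Module.FinitePresentation B M := by
    haveI := finitePresentation_sections_of_isFP F' hF' (isAffineOpen_top (Spec B))
    letI : Algebra B Γ(Spec B, ⊤) := (Scheme.ΓSpecIso B).inv.hom.toAlgebra
    letI : Module B Γ(F', (⊤ : (Spec B).Opens)) := inferInstanceAs (Module B M)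
    haveI : IsScalarTower B Γ(Spec B, ⊤) Γ(F', (⊤ : (Spec B).Opens)) :=
      .of_algebraMap_smul fun r x => by
        rw [Scheme.Modules.smul_Spec_def]
        congr 1
    have hbij : Function.Bijective (algebraMap B Γ(Spec B, ⊤)) :=
      (Scheme.ΓSpecIso B).commRingCatIsoToRingEquiv.symm.bijective
    haveI : Module.FinitePresentation B Γ(Spec B, ⊤) :=
      Module.FinitePresentation.of_equiv (LinearEquiv.ofBijective (Algebra.linearMap B _) hbij)
    exact Module.FinitePresentation.trans B Γ(F', (⊤ : (Spec B).Opens)) Γ(Spec B, ⊤)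
  obtain ⟨n, π, hπ⟩ := Module.Finite.exists_fin' B M
  obtain ⟨s, hs⟩ := Module.FinitePresentation.fg_ker π hπ
  -- the ring model
  let P := Algebra.Presentation.ofFinitePresentation A B
  have hsurj : Function.Surjective (MvPolynomial.aeval (R := A) P.val) := P.aeval_val_surjective
  choose q hq using hsurj
  let T : Finset A := s.biUnion fun v => Finset.univ.biUnion fun i => (q (v i)).coeffs
  let R₀ := Algebra.adjoin P.Core (T : Set A)
  haveI : Algebra.FiniteType P.Core R₀ := .adjoin_of_finite T.finite_toSet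
  haveI : Algebra.FiniteType ℤ R₀ := Algebra.FiniteType.trans (R := ℤ) (S := P.Core) inferInstance inferInstance
  let B₀ := P.ModelOfHasCoeffs R₀
  let e := P.tensorModelOfHasCoeffsEquiv R₀
  letI : Algebra B₀ B := (e.toAlgHom.toRingHom.comp
    Algebra.TensorProduct.includeRight.toRingHom).toAlgebra
  haveI : IsScalarTower R₀ B₀ B := IsScalarTower.of_algebraMap_eq (R := R₀) (S := B₀) (A := B) fun r => by
    conv_lhs => rw [IsScalarTower.algebraMap_apply R₀ A B]
    show _ = e (1 ⊗ₜ algebraMap R₀ B₀ r)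
    rw [← e.commutes (algebraMap R₀ A r)]
    congr 1
    rw [Algebra.TensorProduct.algebraMap_apply, Algebra.algebraMap_self, RingHom.id_apply,
      Algebra.algebraMap_eq_smul_one r, TensorProduct.smul_tmul, ← Algebra.algebraMap_eq_smul_one]
  have hp : Algebra.IsPushout R₀ A B₀ B :=
    ⟨IsBaseChange.of_equiv e.toLinearEquiv fun x => rfl⟩
  have hlift : ∀ v ∈ s, ∀ i, ∃ b, algebraMap B₀ B b = v i := by
    intro v hv i
    have hsub : (↑(q (v i)).coeffs : Set A) ⊆ Set.range (algebraMap R₀ A) := fun a ha =>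
      ⟨⟨a, Algebra.subset_adjoin (Finset.mem_biUnion.mpr ⟨v, hv,
        Finset.mem_biUnion.mpr ⟨i, Finset.mem_univ i, ha⟩⟩)⟩, rfl⟩
    obtain ⟨p, hp'⟩ := (MvPolynomial.mem_range_map_iff_coeffs_subset).mpr hsub
    refine ⟨Ideal.Quotient.mk _ p, ?_⟩
    change e (1 ⊗ₜ Ideal.Quotient.mk _ p) = _
    rw [Algebra.Presentation.tensorModelOfHasCoeffsEquiv_tmul, map_one, one_mul,
      ← MvPolynomial.aeval_map_algebraMap A, hp', hq]
  obtain ⟨N, _, _, hN, ⟨eN⟩⟩ := exists_model_of_lifts π hπ s hs hlift
  have hpb := isPullback_SpecMap_of_isPushout _ _ _ _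
    ((CommRingCat.isPushout_iff_isPushout (R' := A) (S := B₀) (S' := B)).mpr hp)
  let φ : CommRingCat.of B₀ ⟶ B := CommRingCat.ofHom (algebraMap B₀ B)
  refine ⟨Spec (.of B₀), Spec (.of R₀), Spec.map (CommRingCat.ofHom (algebraMap R₀ B₀)),
    S.isoSpec.hom ≫ Spec.map (CommRingCat.ofHom (algebraMap R₀ A)),
    X.isoSpec.hom ≫ Spec.map φ, inferInstance, inferInstance,
    ?_, ?_, ?_, ?_⟩
  · refine (IsPullback.of_horiz_isIso ⟨?_⟩).paste_horiz hpb.flip
    exact Scheme.isoSpec_hom_naturality f
  · rw [← RingHom.finiteType_algebraMap, RingHom.ext_int (algebraMap ℤ Γ(Spec (.of R₀), ⊤))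
      ((Scheme.ΓSpecIso (.of R₀)).inv.hom.comp (algebraMap ℤ R₀))]
    exact RingHom.FiniteType.comp_surjective (f := algebraMap ℤ R₀)
      (g := (Scheme.ΓSpecIso (.of R₀)).inv.hom) (RingHom.finiteType_algebraMap.mpr inferInstance)
      (Scheme.ΓSpecIso (.of R₀)).commRingCatIsoToRingEquiv.symm.surjective
  · rw [HasRingHomProperty.Spec_iff (P := @LocallyOfFiniteType)]
    exact RingHom.finiteType_algebraMap.mpr inferInstance
  let N' : ModuleCat.{u} (CommRingCat.of B₀) := ModuleCat.of B₀ N
  let F₀ : (Spec (CommRingCat.of B₀)).Modules := tilde N'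
  haveI hq0 : F₀.IsQuasicoherent := inferInstanceAs (tilde N').IsQuasicoherent
  refine ⟨F₀, ⟨hq0, ?_⟩, ⟨?_⟩⟩
  · haveI : Module.Finite (CommRingCat.of B₀) N' := hN
    exact isFT_tilde N'
  · let i0 : tilde M ≅ F' := @asIso _ _ _ _ (Scheme.Modules.fromTildeΓ (R := B) F')
      (Scheme.Modules.isIso_fromTildeΓ_of_isQuasicoherent (R := B) F')
    let i1 : (Scheme.Modules.pullback (Spec.map φ)).obj F₀ ≅ F' :=
      (Groth.PropsBasic2.TildePullback.iso φ).app N' ≪≫
        (tilde.functor B).mapIso eN.toModuleIso ≪≫ i0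
    exact ((Scheme.Modules.pullbackComp X.isoSpec.hom (Spec.map φ)).app F₀).symm ≪≫
      (Scheme.Modules.pullback X.isoSpec.hom).mapIso i1 ≪≫
      (Scheme.Modules.pullbackComp X.isoSpec.hom X.isoSpec.inv).app F ≪≫
      (Scheme.Modules.pullbackCongr X.isoSpec.hom_inv_id).app F ≪≫
      (Scheme.Modules.pullbackId X).app F

end Groth.Flatmor4
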