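import Groth.Prelude.Def_MoreMor
import Mathlib.AlgebraicGeometry.ZariskisMainTheorem
import Mathlib.AlgebraicGeometry.Morphisms.FinitePresentation
import Mathlib.RingTheory.FinitePresentation
import Groth.Agent.FlatMor2.Thickening

universe u
open CategoryTheory Limits AlgebraicGeometry

namespace Groth.Flatmor4

lemma finiteType_of_comp_surjective {R A B : Type*} [CommRing R] [CommRing A] [CommRing B]
    {φ : R →+* A} {π : A →+* B} (hπ : Function.Surjective π) (hI : (RingHom.ker π).FG)
    (hnil : IsNilpotent (RingHom.ker π)) (h : (π.comp φ).FiniteType) : φ.FiniteType := by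
  classical
  letI := φ.toAlgebra
  letI := (π.comp φ).toAlgebra
  obtain ⟨t, ht⟩ := hI
  obtain ⟨n, hn⟩ := hnil
  obtain ⟨s, hs⟩ := (h : Algebra.FiniteType R B).out
  choose l hl using hπ
  let S : Finset A := s.image l ∪ t
  refine ⟨⟨S, ?_⟩⟩
  set C := Algebra.adjoin R (S : Set A) with hC
  have h1 : ∀ a : A, ∃ c ∈ C, a - c ∈ RingHom.ker π := by
    intro a
    have hmap : ∀ b ∈ Algebra.adjoin R (s : Set B), ∃ c ∈ C, π c = b := by
      intro b hb
      induction hb using Algebra.adjoin_induction with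
      | mem x hx => exact ⟨l x, Algebra.subset_adjoin (by simp [S]; exact Or.inl ⟨x, hx, rfl⟩), hl x⟩
      | algebraMap r => exact ⟨algebraMap R A r, C.algebraMap_mem r, rfl⟩
      | add x y _ _ hx hy =>
        obtain ⟨c, hc, rfl⟩ := hx; obtain ⟨d, hd, rfl⟩ := hy
        exact ⟨c + d, C.add_mem hc hd, map_add _ _ _⟩
      | mul x y _ _ hx hy =>
        obtain ⟨c, hc, rfl⟩ := hx; obtain ⟨d, hd, rfl⟩ := hy
        exact ⟨c * d, C.mul_mem hc hd, map_mul _ _ _⟩
    obtain ⟨c, hc, hca⟩ := hmap (π a) (hs ▸ Algebra.mem_top)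
    exact ⟨c, hc, by simp [RingHom.mem_ker, hca]⟩
  have h2 : ∀ k, ∀ x ∈ RingHom.ker π ^ k, ∃ c ∈ C, x - c ∈ RingHom.ker π ^ (k + 1) := by
    intro k
    induction k with
    | zero => intro x _; simpa using h1 x
    | succ k ih =>
      intro x hx
      rw [pow_succ] at hx
      induction hx using Submodule.mul_induction_on' with
      | mem_mul_mem p hp q hq =>
        rw [← ht] at hq
        induction hq using Submodule.span_induction generalizing p with
        | mem g hg =>
          obtain ⟨c, hc, hc'⟩ := ih p hp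
          refine ⟨c * g, C.mul_mem hc (Algebra.subset_adjoin (by simp [S]; exact Or.inr hg)), ?_⟩
          rw [← sub_mul, pow_succ _ (k + 1)]
          exact Ideal.mul_mem_mul hc' (ht ▸ Submodule.subset_span hg)
        | zero => exact ⟨0, C.zero_mem, by simp⟩
        | add a b _ _ ha hb =>
          obtain ⟨c, hc, hc'⟩ := ha p hp; obtain ⟨d, hd, hd'⟩ := hb p hp
          refine ⟨c + d, C.add_mem hc hd, ?_⟩
          rw [mul_add, add_sub_add_comm]
          exact add_mem hc' hd'
        | smul r a _ ha =>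
          obtain ⟨c, hc, hc'⟩ := ha (p * r) (Ideal.mul_mem_right _ _ hp)
          exact ⟨c, hc, by rwa [smul_eq_mul, ← mul_assoc]⟩
      | add a _ b _ ha hb =>
        obtain ⟨c, hc, hc'⟩ := ha; obtain ⟨d, hd, hd'⟩ := hb
        refine ⟨c + d, C.add_mem hc hd, ?_⟩
        rw [add_sub_add_comm]
        exact add_mem hc' hd'
  have h3 : ∀ k, ∀ a : A, ∃ c ∈ C, a - c ∈ RingHom.ker π ^ k := by
    intro k
    induction k with
    | zero => intro a; exact ⟨0, C.zero_mem, by simp⟩
    | succ k ih =>
      intro a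
      obtain ⟨c, hc, hc'⟩ := ih a
      obtain ⟨d, hd, hd'⟩ := h2 k _ hc'
      exact ⟨c + d, C.add_mem hc hd, by rwa [← sub_sub]⟩
  refine eq_top_iff.mpr fun a _ => ?_
  obtain ⟨c, hc, hc'⟩ := h3 n a
  rw [hn] at hc'
  rwa [sub_eq_zero.mp (by simpa using hc' : a - c = 0)]

variable {X Y Z : Scheme.{u}}

lemma locallyOfFiniteType_of_comp_thickening (i : Z ⟶ Y) [IsClosedImmersion i]
    (hnil : ∀ U : Y.affineOpens, IsNilpotent (i.ker.ideal U))
    (hfg : ∀ U : Y.affineOpens, (i.ker.ideal U).FG) (F : Y ⟶ X) [LocallyOfFiniteType (i ≫ F)] :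
    LocallyOfFiniteType F := by
  constructor
  intro U hU V hV e
  have h := (i ≫ F).finiteType_appLE hU (hV.preimage i) (fun z hz => e hz)
  rw [show (i ≫ F).appLE U (i ⁻¹ᵁ V) (fun z hz => e hz) = F.appLE U V e ≫ i.app V by
    rw [i.app_eq_appLE, Scheme.Hom.appLE_comp_appLE], CommRingCat.hom_comp] at h
  refine finiteType_of_comp_surjective (i.app_surjective V hV) ?_ ?_ h
  · simpa [Scheme.Hom.ker_apply] using hfg ⟨V, hV⟩
  · simpa [Scheme.Hom.ker_apply] using hnil ⟨V, hV⟩

lemma ker_fg_of_lfp (i : Z ⟶ Y) [IsClosedImmersion i] [LocallyOfFinitePresentation i]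
    (U : Y.affineOpens) : (i.ker.ideal U).FG := by
  rw [Scheme.Hom.ker_apply]
  have hfp : (i.app U.1).hom.FinitePresentation := by
    have h1 := i.finitePresentation_appLE U.2 (U.2.preimage i) le_rfl
    rwa [← Scheme.Hom.app_eq_appLE] at h1
  letI := (i.app U.1).hom.toAlgebra
  haveI : Algebra.FinitePresentation Γ(Y, U.1) Γ(Z, i ⁻¹ᵁ U.1) := hfp
  exact Algebra.FinitePresentation.ker_fG_of_surjective
    (Algebra.ofId Γ(Y, U.1) Γ(Z, i ⁻¹ᵁ U.1)) (i.app_surjective U.1 U.2)

lemma lfp_of_ker_fg (i : Z ⟶ Y) [IsClosedImmersion i]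
    (hfg : ∀ U : Y.affineOpens, (i.ker.ideal U).FG) : LocallyOfFinitePresentation i := by
  rw [IsZariskiLocalAtTarget.iff_of_iSup_eq_top (P := @LocallyOfFinitePresentation)
    (fun U : Y.affineOpens => (U : Y.Opens)) (iSup_affineOpens_eq_top Y)]
  intro U
  haveI : IsAffine (U : Y.Opens).toScheme := U.2
  haveI : IsAffine (i ⁻¹ᵁ (U : Y.Opens)).toScheme := U.2.preimage i
  rw [HasRingHomProperty.iff_of_isAffine (P := @LocallyOfFinitePresentation)]
  have h : ∀ W : Y.Opens, W = U.1 → (i.app W).hom.FinitePresentation := by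
    rintro W rfl
    exact RingHom.FinitePresentation.of_surjective _ (i.app_surjective U.1 U.2)
      (by simpa [Scheme.Hom.ker_apply] using hfg U)
  rw [morphismRestrict_appTop]
  exact RingHom.FinitePresentation.comp (RingHom.FinitePresentation.of_bijective
    (ConcreteCategory.bijective_of_isIso _)) (h _ (Scheme.Opens.ι_image_top _))

lemma isSeparated_of_thickening {X X₀ Y Y₀ : Scheme.{u}} (F : Y ⟶ X) (F₀ : Y₀ ⟶ X₀) (i : Y₀ ⟶ Y)
    (j : X₀ ⟶ X) [IsClosedImmersion i] [Surjective i] [IsClosedImmersion j]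
    (w : F₀ ≫ j = i ≫ F) [IsSeparated F₀] : IsSeparated F := by
  have hs : IsSeparated (i ≫ F) := by rw [← w]; infer_instance
  let m : pullback (i ≫ F) (i ≫ F) ⟶ pullback F F :=
    pullback.map _ _ _ _ i i (𝟙 _) (by simp) (by simp)
  have hm : IsClosedImmersion m := MorphismProperty.pullbackMap ‹_› ‹_› rfl rfl
  constructor
  refine IsClosedImmersion.of_isPreimmersion _ ?_
  have e : i ≫ pullback.diagonal F = pullback.diagonal (i ≫ F) ≫ m := by
    apply pullback.hom_ext
    · rw [Category.assoc, Category.assoc, pullback.diagonal_fst, Category.comp_id,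
        pullback.lift_fst, pullback.diagonal_fst_assoc]
    · rw [Category.assoc, Category.assoc, pullback.diagonal_snd, Category.comp_id,
        pullback.lift_snd, pullback.diagonal_snd_assoc]
  have h1 : Set.range (pullback.diagonal F) = m '' Set.range (pullback.diagonal (i ≫ F)) := by
    rw [← Set.range_comp, ← TopCat.coe_comp, ← Scheme.Hom.comp_base, ← e, Scheme.Hom.comp_base,
      TopCat.coe_comp, Set.range_comp, i.surjective.range_eq, Set.image_univ]
  rw [h1]
  exact m.isClosedEmbedding.isClosedMap _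
    (pullback.diagonal (i ≫ F)).isClosedEmbedding.isClosed_range

lemma isFinite_of_thickening {X X₀ Y Y₀ : Scheme.{u}} (F : Y ⟶ X) (F₀ : Y₀ ⟶ X₀) (i : Y₀ ⟶ Y)
    (j : X₀ ⟶ X) (hi : MoreMor.IsThickening i) (hj : MoreMor.IsThickening j)
    (hinil : ∀ U : Y.affineOpens, IsNilpotent (i.ker.ideal U))
    (hfg : ∀ U : X.affineOpens, (j.ker.ideal U).FG)
    (hc : IsPullback F₀ i j F) [IsFinite F₀] : IsFinite F := by
  obtain ⟨_, _⟩ := hi
  obtain ⟨_, _⟩ := hj
  haveI := lfp_of_ker_fg j hfg
  haveI : LocallyOfFinitePresentation i :=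
    MorphismProperty.of_isPullback (P := @LocallyOfFinitePresentation) hc ‹_›
  haveI : LocallyOfFiniteType (i ≫ F) := by rw [← hc.w]; infer_instance
  haveI := locallyOfFiniteType_of_comp_thickening i hinil (ker_fg_of_lfp i) F
  haveI := isSeparated_of_thickening F F₀ i j hc.w
  haveI : UniversallyClosed F := by
    have : UniversallyClosed (i ≫ F) := by rw [← hc.w]; infer_instance
    exact UniversallyClosed.of_comp_surjective i F
  haveI : IsProper F := {}
  haveI : LocallyQuasiFinite F := by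
    refine .of_finite_preimage_singleton F fun x => ?_
    rw [← Set.image_preimage_eq (F ⁻¹' {x}) i.surjective]
    refine Set.Finite.image _ ?_
    rw [← Set.preimage_comp, ← TopCat.coe_comp, ← Scheme.Hom.comp_base, ← hc.w,
      Scheme.Hom.comp_base, TopCat.coe_comp, Set.preimage_comp]
    exact F₀.finite_preimage (Set.subsingleton_singleton.preimage j.isClosedEmbedding.injective).finite
  exact IsFinite.of_isProper_of_locallyQuasiFinite F

end Groth.Flatmor4
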