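import Groth.Agent.Flatmor4.EtaleNbhd
import Mathlib.AlgebraicGeometry.ZariskisMainTheorem
import Mathlib.RingTheory.Etale.QuasiFinite
import Mathlib.RingTheory.Etale.StandardEtale
import Mathlib.FieldTheory.PrimitiveElement

/-!
Splitting off the finite part of a quasi-finite morphism after an elementary etale neighbourhood,
and etale neighbourhoods with prescribed separable residue field extension.
-/

set_option autoImplicit false

universe u

open CategoryTheory CategoryTheory.Limits AlgebraicGeometry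

namespace Groth.Flatmor4

variable {X S : Scheme.{u}}

lemma evaluation_eq_zero_iff {W : S.Opens} (hW : IsAffineOpen W) {s : S} (hs : s ∈ W)
    (a : Γ(S, W)) : S.evaluation W s hs a = 0 ↔ a ∈ (hW.primeIdealOf ⟨s, hs⟩).asIdeal := by
  let := S.presheaf.algebra_section_stalk ⟨s, hs⟩
  have := hW.isLocalization_stalk ⟨s, hs⟩
  rw [Scheme.evaluation_eq_zero_iff_notMem_basicOpen, Scheme.mem_basicOpen S a s hs, ← not_iff_not,
    not_not]
  exact IsLocalization.AtPrime.isUnit_to_map_iff (S.presheaf.stalk s) _ a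

lemma fromSpecResidueField_eq {W : S.Opens} (hW : IsAffineOpen W) {s : S} (hs : s ∈ W) :
    S.fromSpecResidueField s = Spec.map (S.evaluation W s hs) ≫ hW.fromSpec := by
  rw [Scheme.fromSpecResidueField, ← hW.fromSpecStalk_eq_fromSpecStalk hs,
    IsAffineOpen.fromSpecStalk, ← Spec.map_comp_assoc]
  rfl

set_option backward.isDefEq.respectTransparency false in
open TensorProduct in
/-- One point: after an elementary etale neighbourhood a quasi-finite point lies in an open
finite over the base which contains no other point of its fibre. -/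
theorem exists_split_one (f : X ⟶ S) [LocallyOfFiniteType f] {x : X} {s : S} (h : f x = s)
    (hx : f.QuasiFiniteAt x) :
    ∃ (U : Scheme.{u}) (g : U ⟶ S) (u : U), Hens2.IsEtaleNbhd g u s ∧
      ∃ (V : (pullback f g).Opens) (v : ↑(pullback f g)), v ∈ V ∧
        IsFinite (V.ι ≫ pullback.snd f g) ∧ pullback.fst f g v = x ∧ pullback.snd f g v = u ∧
        ∀ w ∈ V, pullback.snd f g w = u → w = v := by
  subst h
  obtain ⟨_, ⟨U, hU, rfl⟩, hxU, -⟩ := S.isBasis_affineOpens.exists_subset_of_mem_open
    (Set.mem_univ (f x)) isOpen_univ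
  obtain ⟨_, ⟨V, hV, rfl⟩, hxV, hUV : V ≤ f ⁻¹ᵁ U⟩ :=
    X.isBasis_affineOpens.exists_subset_of_mem_open hxU (f ⁻¹ᵁ U).2
  have : (f.appLE U V hUV).hom.FiniteType := f.finiteType_appLE hU hV hUV
  algebraize [(f.appLE U V hUV).hom]
  have : (hV.primeIdealOf ⟨x, hxV⟩).asIdeal.LiesOver (hU.primeIdealOf ⟨f x, hxU⟩).asIdeal :=
    ⟨congr($(IsAffineOpen.comap_primeIdealOf_appLE U hU V hV hUV hxV).1).symm⟩
  have : Algebra.QuasiFiniteAt Γ(S, U) (hV.primeIdealOf ⟨x, hxV⟩).asIdeal :=
    hx.quasiFiniteAt hV hU hUV hxV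
  obtain ⟨R, _, _, _, P, _, _, e, _, P', _, _, hP', heP', hbij, _, huniq⟩ :=
    Algebra.exists_etale_isIdempotentElem_forall_liesOver_eq
    (hU.primeIdealOf ⟨f x, hxU⟩).asIdeal (hV.primeIdealOf ⟨x, hxV⟩).asIdeal
  have : (algebraMap R (Localization.Away e)).Finite := RingHom.finite_algebraMap.mpr ‹_›
  let φ : Γ(S, U) ⟶ .of R := CommRingCat.ofHom <| algebraMap Γ(S, U) R
  have hφ : φ.hom.Etale := RingHom.etale_algebraMap.mpr ‹_›
  have : Etale (Spec.map φ) := HasRingHomProperty.Spec_iff.mpr hφ
  let e₁ : Spec (.of (R ⊗ Γ(X, V))) ≅ pullback (Spec.map (f.appLE U V hUV)) (Spec.map φ) :=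
    (pullbackSpecIso _ _ _).symm ≪≫ pullbackSymmetry _ _
  have he₁ : e₁.hom ≫ pullback.fst _ _ =
      Spec.map (CommRingCat.ofHom Algebra.TensorProduct.includeRight.toRingHom) := by
    dsimp [e₁, RingHom.algebraMap_toAlgebra]
    rw [Category.assoc, pullbackSymmetry_hom_comp_fst]
    exact pullbackSpecIso_inv_snd ..
  have he₁' : e₁.hom ≫ pullback.snd _ _ =
      Spec.map (CommRingCat.ofHom (Algebra.TensorProduct.includeLeftRingHom :
        R →+* R ⊗[Γ(S, U)] Γ(X, V))) := by
    dsimp [e₁, RingHom.algebraMap_toAlgebra]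
    rw [Category.assoc, pullbackSymmetry_hom_comp_snd]
    exact pullbackSpecIso_inv_fst ..
  let g : Spec (.of (R ⊗[Γ(S, U)] Γ(X, V))) ⟶ pullback f (Spec.map φ ≫ hU.fromSpec) :=
    e₁.hom ≫ pullback.map _ _ _ _ hV.fromSpec (𝟙 _) hU.fromSpec
      (IsAffineOpen.SpecMap_appLE_fromSpec ..) (by simp)
  have hgsnd : g ≫ pullback.snd f _ = Spec.map (CommRingCat.ofHom
      (Algebra.TensorProduct.includeLeftRingHom : R →+* R ⊗[Γ(S, U)] Γ(X, V))) := by
    rw [← he₁']; simp [g]
  let W₁ := g ''ᵁ PrimeSpectrum.basicOpen e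
  have hfin : IsFinite (W₁.ι ≫ pullback.snd f _) := by
    let ι : Spec (.of (Localization.Away e)) ⟶ pullback f (Spec.map φ ≫ hU.fromSpec) :=
      Spec.map (CommRingCat.ofHom <| algebraMap _ _) ≫ g
    have : ι.opensRange = W₁ := by
      simp only [Scheme.Hom.opensRange_comp, ι, W₁]
      congr 1
      exact TopologicalSpace.Opens.ext <| PrimeSpectrum.localization_away_comap_range _ _
    rw [← this, ← MorphismProperty.cancel_left_of_respectsIso @IsFinite
      (Scheme.Hom.isoOpensRange _).hom]
    have H : (pullbackSpecIso _ R _).inv ≫ pullback.fst _ (Spec.map (f.appLE U V hUV)) = _ :=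
      pullbackSpecIso_inv_fst ..
    simpa [Scheme.Hom.isoOpensRange, ι, g, e₁, RingHom.algebraMap_toAlgebra, φ, H,
      ← Spec.map_comp, IsFinite.SpecMap_iff]
  let p := (hU.primeIdealOf ⟨f x, hxU⟩).asIdeal
  let ev : Γ(S, U) →+* S.residueField (f x) := (S.evaluation U (f x) hxU).hom
  let L : p.ResidueField →+* S.residueField (f x) :=
    Ideal.ResidueField.lift p ev (fun a ha => (evaluation_eq_zero_iff hU hxU a).mpr ha)
      (fun a ha => isUnit_iff_ne_zero.mpr fun h => ha ((evaluation_eq_zero_iff hU hxU a).mp h))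
  let E := RingEquiv.ofBijective
    (Ideal.ResidueField.mapₐ p P (Algebra.ofId _ _) (P.over_def p)).toRingHom hbij
  let ψ : R →+* S.residueField (f x) :=
    (L.comp E.symm.toRingHom).comp (algebraMap R P.ResidueField)
  let m : Spec (S.residueField (f x)) ⟶ Spec (.of R) := Spec.map (CommRingCat.ofHom ψ)
  have hm : m ≫ Spec.map φ ≫ hU.fromSpec = S.fromSpecResidueField (f x) := by
    rw [fromSpecResidueField_eq hU hxU, ← Spec.map_comp_assoc]
    congr 2
    refine CommRingCat.hom_ext (RingHom.ext fun a => ?_)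
    have hEa : E.symm (algebraMap R P.ResidueField (algebraMap Γ(S, U) R a)) =
        algebraMap Γ(S, U) p.ResidueField a := by
      rw [RingEquiv.symm_apply_eq]
      exact ((Ideal.ResidueField.mapₐ p P (Algebra.ofId _ _) (P.over_def p)).commutes a).symm
    change L (E.symm (algebraMap R P.ResidueField (algebraMap Γ(S, U) R a))) = _
    rw [hEa]
    exact Ideal.ResidueField.lift_algebraMap (I := p) ev _ _ _
  obtain ⟨u, hu, hmu⟩ := exists_isEtaleNbhd_of_section (Spec.map φ ≫ hU.fromSpec) m hm
  have hPu : u = (⟨P, ‹_›⟩ : PrimeSpectrum R) := by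
    rw [← hmu default]
    generalize (default : Spec (S.residueField (f x))) = p0
    refine PrimeSpectrum.ext (Ideal.ext fun r => ?_)
    change ψ r ∈ p0.asIdeal ↔ r ∈ P
    rw [Ideal.eq_bot_of_prime p0.asIdeal, Ideal.mem_bot]
    simp only [ψ, RingHom.coe_comp, Function.comp_apply, map_eq_zero]
    exact Ideal.algebraMap_residueField_eq_zero
  subst hPu
  refine ⟨_, _, _, hu, W₁, g ⟨P', ‹_›⟩, ⟨⟨P', ‹_›⟩, heP', rfl⟩, hfin, ?_, ?_, ?_⟩
  · trans hV.fromSpec ⟨P'.comap Algebra.TensorProduct.includeRight.toRingHom, inferInstance⟩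
    · simp [← Scheme.Hom.comp_apply, -Scheme.Hom.comp_base, g, reassoc_of% he₁]; rfl
    convert! hV.fromSpec_primeIdealOf ⟨x, hxV⟩
  · rw [← Scheme.Hom.comp_apply, hgsnd]
    exact PrimeSpectrum.ext (P'.over_def P).symm
  · rintro _ ⟨q, hq, rfl⟩ hqu
    replace hqu := (congr($hgsnd q)).symm.trans hqu
    have : q.asIdeal.LiesOver P := ⟨congr(($hqu).asIdeal).symm⟩
    exact congr(g $(PrimeSpectrum.ext (huniq q.asIdeal q.isPrime this hq)))

theorem isClosed_of_isFinite_comp {Y T : Scheme.{u}} (p : Y ⟶ T) [IsSeparated p] (V : Y.Opens)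
    [IsFinite (V.ι ≫ p)] : IsClosed (V : Set Y) := by
  have : IsFinite V.ι := .of_comp _ p
  simpa using V.ι.isClosedMap.isClosed_range

/-- Finitely many points. -/
theorem exists_split (f : X ⟶ S) [LocallyOfFiniteType f] (s : S) {ι : Type*} [Finite ι]
    (x : ι → X) (hs : ∀ i, f (x i) = s) (hx : ∀ i, f.QuasiFiniteAt (x i)) :
    ∃ (U : Scheme.{u}) (g : U ⟶ S) (u : U), Hens2.IsEtaleNbhd g u s ∧
      ∀ i, ∃ (V : (pullback f g).Opens) (v : ↑(pullback f g)), v ∈ V ∧
        IsFinite (V.ι ≫ pullback.snd f g) ∧ pullback.fst f g v = x i ∧ pullback.snd f g v = u ∧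
        ∀ w ∈ V, pullback.snd f g w = u → w = v := by
  choose Ui gi ui hui hsplit using fun i => exists_split_one f (hs i) (hx i)
  obtain ⟨U, g, u, hu, ha⟩ : ∃ (U : Scheme.{u}) (g : U ⟶ S) (u : U), Hens2.IsEtaleNbhd g u s ∧
      ∀ i, ∃ a : U ⟶ Ui i, a ≫ gi i = g ∧ a u = ui i := by
    cases nonempty_fintype ι
    classical
    suffices ∀ t : Finset ι, ∃ (U : Scheme.{u}) (g : U ⟶ S) (u : U), Hens2.IsEtaleNbhd g u s ∧
        ∀ i ∈ t, ∃ a : U ⟶ Ui i, a ≫ gi i = g ∧ a u = ui i by
      obtain ⟨U, g, u, hu, ha⟩ := this Finset.univ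
      exact ⟨U, g, u, hu, fun i => ha i (Finset.mem_univ i)⟩
    intro t
    induction t using Finset.induction with
    | empty =>
      exact ⟨S, 𝟙 S, s, ⟨inferInstance, rfl, (ConcreteCategory.isIso_iff_bijective _).mp
        (inferInstance : IsIso ((𝟙 S : S ⟶ S).residueFieldMap s))⟩, by simp⟩
    | @insert i t hit ih =>
      obtain ⟨U, g, u, hu, ha⟩ := ih
      obtain ⟨W, a, b, w, hab, haw, hbw, hw⟩ := exists_isEtaleNbhd_refine hu (hui i)
      refine ⟨W, a ≫ g, w, hw, fun j hj => ?_⟩
      rcases Finset.mem_insert.mp hj with rfl | hj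
      · exact ⟨b, hab.symm, hbw⟩
      · obtain ⟨c, hc, hcu⟩ := ha j hj
        exact ⟨a ≫ c, by rw [Category.assoc, hc], by rw [Scheme.Hom.comp_apply, haw, hcu]⟩
  refine ⟨U, g, u, hu, fun i => ?_⟩
  obtain ⟨a, hag, hau⟩ := ha i
  obtain ⟨V, v, hvV, hVfin, hvx, hvu, huniq⟩ := hsplit i
  let q : pullback f g ⟶ pullback f (gi i) :=
    pullback.lift (pullback.fst f g) (pullback.snd f g ≫ a) (by
      rw [Category.assoc, hag, pullback.condition])
  have hq : IsPullback q (pullback.snd f g) (pullback.snd f (gi i)) a := by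
    refine .of_right (t := IsPullback.of_hasPullback f (gi i)) ?_ (pullback.lift_snd _ _ _)
    rw [pullback.lift_fst, hag]
    exact IsPullback.of_hasPullback f g
  obtain ⟨v', hv'x, hv'u⟩ := Scheme.Pullback.exists_preimage_pullback (x i) u
    (show f (x i) = g u from (hs i).trans hu.base_eq.symm)
  have hbu : Function.Bijective (g.residueFieldMap u) := hu.residue_bijective
  have hqv : ∀ w, pullback.fst f g w = x i → pullback.snd f g w = u → q w = v := by
    intro w hwx hwu
    have e : pullback.snd f (gi i) (q w) = ui i := by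
      rw [← Scheme.Hom.comp_apply, pullback.lift_snd, Scheme.Hom.comp_apply, hwu, hau]
    refine eq_of_residueFieldMap_bijective ?_ ?_ ?_
    · rw [hvx, ← Scheme.Hom.comp_apply, pullback.lift_fst, hwx]
    · rw [hvu, ← Scheme.Hom.comp_apply, pullback.lift_snd, Scheme.Hom.comp_apply, hwu, hau]
    · exact e.symm ▸ (hui i).residue_bijective
  refine ⟨q ⁻¹ᵁ V, v', show q v' ∈ V from (hqv v' hv'x hv'u).symm ▸ hvV, ?_, hv'x, hv'u, ?_⟩
  · exact MorphismProperty.of_isPullback
      ((isPullback_morphismRestrict q V).paste_vert hq) hVfin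
  · intro w hw hwu
    have h1 : q w = v := huniq (q w) hw (by
      rw [← Scheme.Hom.comp_apply, pullback.lift_snd, Scheme.Hom.comp_apply, hwu, hau])
    refine eq_of_residueFieldMap_bijective ?_ (hwu.trans hv'u.symm) (hwu.symm ▸ hbu)
    have h2 : pullback.fst f (gi i) (q w) = pullback.fst f g w := by
      rw [← Scheme.Hom.comp_apply, pullback.lift_fst]
    rw [← h2, h1, hvx, hv'x]

open Polynomial in
/-- Etale neighbourhoods with prescribed finite separable residue field extension. -/
theorem exists_etale_residueField (S : Scheme.{u}) (s : S) (k : Type u) [Field k]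
    [Algebra (S.residueField s) k] [FiniteDimensional (S.residueField s) k]
    [Algebra.IsSeparable (S.residueField s) k] :
    ∃ (U : Scheme.{u}) (g : U ⟶ S) (u : U) (hu : g u = s), Etale g ∧
      letI := ((S.residueFieldCongr hu).inv ≫ g.residueFieldMap u).hom.toAlgebra
      Nonempty (k ≃ₐ[S.residueField s] U.residueField u) := by
  obtain ⟨α, hα⟩ := Field.exists_primitive_element (S.residueField s) k
  obtain ⟨_, ⟨W, hW, rfl⟩, hsW, -⟩ := S.isBasis_affineOpens.exists_subset_of_mem_open
    (Set.mem_univ s) isOpen_univ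
  let ev : Γ(S, W) →+* S.residueField s := (S.evaluation W s hsW).hom
  have hfrac : ∀ z, ∃ a c, ev c ≠ 0 ∧ z * ev c = ev a := by
    intro z
    let := S.presheaf.algebra_section_stalk ⟨s, hsW⟩
    have := hW.isLocalization_stalk ⟨s, hsW⟩
    obtain ⟨z, rfl⟩ := S.residue_surjective s z
    obtain ⟨⟨a, c, hc⟩, hz⟩ := IsLocalization.surj (hW.primeIdealOf ⟨s, hsW⟩).asIdeal.primeCompl z
    refine ⟨a, c, fun h => hc ((evaluation_eq_zero_iff hW hsW c).mp h), ?_⟩
    exact (map_mul _ _ _).symm.trans (congrArg (S.residue s) hz)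
  choose num den hden hnum using hfrac
  let q := minpoly (S.residueField s) α
  have hq : q.Monic := minpoly.monic (IsIntegral.of_finite _ α)
  let c := ∏ n ∈ Finset.range q.natDegree, den (q.coeff n)
  have hc : ev c ≠ 0 := by
    rw [map_prod]; exact Finset.prod_ne_zero_iff.mpr fun n _ => hden _
  let β := algebraMap (S.residueField s) k (ev c) * α
  let q' := q.scaleRoots (ev c)
  have hq' : q'.Monic := (monic_scaleRoots_iff _).mpr hq
  have hlift : q' ∈ lifts ev := by
    rw [lifts_iff_coeff_lifts]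
    intro n
    rcases lt_trichotomy n q.natDegree with hn | rfl | hn
    · obtain ⟨d, hd⟩ : den (q.coeff n) ∣ c := Finset.dvd_prod_of_mem _ (Finset.mem_range.mpr hn)
      refine ⟨num (q.coeff n) * d * c ^ (q.natDegree - n - 1), ?_⟩
      have e : ev c ^ (q.natDegree - n) = ev c * ev c ^ (q.natDegree - n - 1) := by
        rw [← pow_succ']; congr 1; omega
      rw [coeff_scaleRoots, e, map_mul, map_mul, map_pow, ← hnum, hd, map_mul]
      ring
    · exact ⟨1, by rw [coeff_scaleRoots, hq.coeff_natDegree, map_one]; simp⟩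
    · exact ⟨0, by rw [coeff_scaleRoots, coeff_eq_zero_of_natDegree_lt hn, map_zero, zero_mul]⟩
  obtain ⟨Q, hQmap, -, hQ⟩ := lifts_and_degree_eq_and_monic hlift hq'
  let P : StandardEtalePair Γ(S, W) :=
    ⟨Q, hQ, derivative Q, 1, 0, 1, by simp⟩
  let : Algebra Γ(S, W) k := ((algebraMap (S.residueField s) k).comp ev).toAlgebra
  let : Algebra Γ(S, W) (S.residueField s) := ev.toAlgebra
  have : IsScalarTower Γ(S, W) (S.residueField s) k := IsScalarTower.of_algebraMap_eq' rfl
  have hroot : aeval β q' = 0 := scaleRoots_aeval_eq_zero (minpoly.aeval _ α)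
  have hmap : P.HasMap β := by
    refine ⟨?_, isUnit_iff_ne_zero.mpr ?_⟩
    · change Polynomial.aeval β Q = 0
      rw [← hroot, ← hQmap]; exact (aeval_map_algebraMap (S.residueField s) β Q).symm
    · change Polynomial.aeval β (derivative Q) ≠ 0
      rw [← aeval_map_algebraMap (S.residueField s) β (derivative Q),
        show algebraMap Γ(S, W) (S.residueField s) = ev from rfl, ← derivative_map, hQmap]
      have hsep : IsSeparable (S.residueField s) β := Algebra.IsSeparable.isSeparable _ β
      obtain ⟨r, hr⟩ := minpoly.dvd (S.residueField s) β hroot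
      have hdeg : r.natDegree = 0 := by
        have h1 : (minpoly (S.residueField s) β).natDegree = q.natDegree := by
          have htop : IntermediateField.adjoin (S.residueField s) {β} = ⊤ := by
            rw [eq_top_iff, ← hα, IntermediateField.adjoin_simple_le_iff]
            have hb := IntermediateField.mem_adjoin_simple_self (S.residueField s) β
            have hcm : algebraMap (S.residueField s) k (ev c) ∈
                IntermediateField.adjoin (S.residueField s) {β} :=
              IntermediateField.algebraMap_mem _ _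
            convert div_mem hb hcm using 1
            exact (mul_div_cancel_left₀ α ((_root_.map_ne_zero _).mpr hc)).symm
          rw [← IntermediateField.adjoin.finrank (IsIntegral.of_finite _ β),
            ← IntermediateField.adjoin.finrank (IsIntegral.of_finite _ α), htop, hα]
        have h2 := congrArg natDegree hr
        rw [natDegree_scaleRoots, natDegree_mul (minpoly.ne_zero (IsIntegral.of_finite _ β))
          (fun h => hq'.ne_zero (by rw [hr, h, mul_zero]))] at h2
        omega
      obtain ⟨r₀, rfl⟩ := natDegree_eq_zero.mp hdeg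
      have hr₀ : r₀ ≠ 0 := fun h => hq'.ne_zero (by rw [hr, h, map_zero, mul_zero])
      rw [hr, derivative_mul, derivative_C, mul_zero, add_zero, map_mul, aeval_C]
      exact mul_ne_zero (hsep.aeval_derivative_ne_zero (minpoly.aeval _ _)) ((_root_.map_ne_zero _).mpr hr₀)
  let h : P.Ring →ₐ[Γ(S, W)] k := P.lift β hmap
  let φ : Γ(S, W) ⟶ .of P.Ring := CommRingCat.ofHom (algebraMap Γ(S, W) P.Ring)
  have : Etale (Spec.map φ) := HasRingHomProperty.Spec_iff.mpr
    (RingHom.etale_algebraMap.mpr inferInstance)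
  let g : Spec (.of P.Ring) ⟶ S := Spec.map φ ≫ hW.fromSpec
  let m : Spec (.of k) ⟶ Spec (.of P.Ring) := Spec.map (CommRingCat.ofHom h.toRingHom)
  obtain ⟨u, ψ, hψ⟩ := exists_spec_field_factor m
  have hm : m ≫ g = Spec.map (CommRingCat.ofHom (algebraMap (S.residueField s) k)) ≫
      S.fromSpecResidueField s := by
    rw [fromSpecResidueField_eq hW hsW, ← Spec.map_comp_assoc, ← Spec.map_comp_assoc]
    congr 2
    ext a
    exact h.commutes a
  have hu : g u = s := by
    have := congr($hm default)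
    rwa [← hψ, Category.assoc, Scheme.Hom.comp_apply, Scheme.Hom.comp_apply,
      Scheme.fromSpecResidueField_apply, specMap_fromSpecResidueField_apply] at this
  refine ⟨_, g, u, hu, inferInstance, ?_⟩
  subst hu
  rw [← hψ, Category.assoc, ← Scheme.Hom.SpecMap_residueFieldMap_fromSpecResidueField,
    ← Spec.map_comp_assoc] at hm
  have hcomp : g.residueFieldMap u ≫ ψ =
      CommRingCat.ofHom (algebraMap (S.residueField (g u)) k) :=
    specMap_fromSpecResidueField_inj hm
  have hm' : CommRingCat.ofHom h.toRingHom =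
      ((Scheme.ΓSpecIso (.of P.Ring)).inv ≫ (Spec (.of P.Ring)).presheaf.germ ⊤ u trivial ≫
        (Spec (.of P.Ring)).residue u) ≫ ψ := by
    rw [← Scheme.Spec.algebraMap_residueFieldIso_inv, Category.assoc]
    apply Spec.map_injective
    simp only [Spec.map_comp, Category.assoc]
    exact hψ.symm.trans (congrArg (Spec.map ψ ≫ ·)
      (Scheme.Spec.map_residueFieldIso_inv_eq_fromSpecResidueField (.of P.Ring) u).symm)
  let alg := ((S.residueFieldCongr rfl).inv ≫ g.residueFieldMap u).hom.toAlgebra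
  let ψ' : (Spec (.of P.Ring)).residueField u →ₐ[S.residueField (g u)] k :=
    { ψ.hom with commutes' := fun a => ConcreteCategory.congr_hom hcomp a }
  refine ⟨(AlgEquiv.ofBijective ψ' ⟨ψ'.toRingHom.injective, ?_⟩).symm⟩
  rw [← AlgHom.range_eq_top, eq_top_iff,
    ← IntermediateField.top_toSubalgebra, ← hα, IntermediateField.adjoin_simple_toSubalgebra_of_isAlgebraic
      (IsIntegral.of_finite _ α).isAlgebraic,
    Algebra.adjoin_le_iff, Set.singleton_subset_iff]
  have hβ : β ∈ ψ'.range := ⟨_, ((ConcreteCategory.congr_hom hm' P.X).symm.trans (P.lift_X β hmap) :)⟩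
  have : α = algebraMap (S.residueField (g u)) k (ev c)⁻¹ * β := by
    rw [← mul_assoc, ← map_mul, inv_mul_cancel₀ hc, map_one, one_mul]
  rw [this]
  exact mul_mem (Subalgebra.algebraMap_mem _ _) hβ

end Groth.Flatmor4
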