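import Groth.Agent.VectorBundles.FPStalk
import Groth.Agent.RelFP.Scheme

/-!
Sections of a finitely presented quasi-coherent module over an affine open.
-/

set_option autoImplicit false
set_option linter.style.haveILetI false

universe u

open CategoryTheory AlgebraicGeometry TopologicalSpace Groth.QCohMod
open Groth.VectorBundles.RefHullStalk

namespace Groth.Flatmor4

/-- A member of a localized span lies in the span up to a denominator. -/
theorem exists_smul_mem_span {A B M N : Type u} [CommRing A] [CommRing B] [Algebra A B]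
    [AddCommGroup M] [Module A M] [AddCommGroup N] [Module A N] [Module B N] [IsScalarTower A B N]
    (S : Submonoid A) [IsLocalization S B] (f : M →ₗ[A] N) (s : Set M) (z : N)
    (hz : z ∈ Submodule.span B (f '' s)) :
    ∃ u ∈ S, ∃ n ∈ Submodule.span A s, f n = u • z := by
  induction hz using Submodule.span_induction with
  | mem x hx =>
    obtain ⟨m, hm, rfl⟩ := hx
    exact ⟨1, one_mem _, m, Submodule.subset_span hm, (one_smul _ _).symm⟩
  | zero => exact ⟨1, one_mem _, 0, zero_mem _, by simp⟩
  | add x y _ _ hx hy =>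
    obtain ⟨a, ha, n, hn, hx⟩ := hx
    obtain ⟨b, hb, k, hk, hy⟩ := hy
    refine ⟨a * b, mul_mem ha hb, b • n + a • k,
      add_mem (Submodule.smul_mem _ _ hn) (Submodule.smul_mem _ _ hk), ?_⟩
    rw [map_add, map_smul, map_smul, hx, hy, smul_add, smul_smul, smul_smul, mul_comm b a]
  | smul c x _ hx =>
    obtain ⟨a, ha, n, hn, hx⟩ := hx
    obtain ⟨⟨c₀, d⟩, hc⟩ := IsLocalization.surj S c
    refine ⟨a * d, mul_mem ha d.2, c₀ • n, Submodule.smul_mem _ _ hn, ?_⟩
    rw [map_smul, hx, ← IsScalarTower.algebraMap_smul B (c₀ : A) (a • x), ← hc,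
      ← IsScalarTower.algebraMap_smul B a x, ← IsScalarTower.algebraMap_smul B (a * (d : A)),
      smul_smul, smul_smul, map_mul]
    congr 1
    ring

variable {X : Scheme.{u}} (M : X.Modules) [M.IsQuasicoherent]

theorem finitePresentation_sections_of_data {V D : X.Opens} (hD : IsAffineOpen D) (hDV : D ≤ V)
    {ι κ : Type u} [Fintype ι] [Fintype κ] (s : ι → Γ(M, V)) (rel : κ → ι → Γ(X, V))
    (hs : Spans M s) (hr : Rels M s rel) : Module.FinitePresentation Γ(X, D) Γ(M, D) := by
  classical
  let t : ι → Γ(M, D) := fun i => res M hDV (s i)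
  let r : κ → ι → Γ(X, D) := fun j i => resFun X hDV (rel j i)
  let l := Fintype.linearCombination Γ(X, D) t
  have hloc : ∀ q : PrimeSpectrum Γ(X, D), ∃ (y : X) (hy : y ∈ D),
      hD.primeIdealOf ⟨y, hy⟩ = q := by
    intro q
    have hqD : hD.fromSpec q ∈ D := by
      change hD.fromSpec q ∈ (D : Set X)
      rw [← hD.range_fromSpec]; exact ⟨q, rfl⟩
    exact ⟨_, hqD, hD.fromSpec.isOpenEmbedding.injective (hD.fromSpec_primeIdealOf ⟨_, hqD⟩)⟩
  have hsurj : Function.Surjective l := by
    intro m
    let I : Ideal Γ(X, D) := (LinearMap.range l).comap (LinearMap.toSpanSingleton _ _ m)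
    suffices hI : I = ⊤ by
      obtain ⟨z, hz⟩ := hI.ge (Submodule.mem_top (x := (1 : Γ(X, D))))
      exact ⟨z, hz.trans (one_smul _ _)⟩
    by_contra hI
    obtain ⟨q, hq, hIq⟩ := Ideal.exists_le_maximal I hI
    obtain ⟨y, hy, hyq⟩ := hloc ⟨q, hq.isPrime⟩
    letI := stalkModule M y hy
    letI := TopCat.Presheaf.algebra_section_stalk X.presheaf ⟨y, hy⟩
    haveI : IsScalarTower Γ(X, D) (X.presheaf.stalk y) (M.presheaf.stalk y) :=
      .of_algebraMap_smul fun _ _ => rfl
    let p := (hD.primeIdealOf ⟨y, hy⟩).asIdeal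
    haveI : IsLocalization.AtPrime (X.presheaf.stalk y) p := hD.isLocalization_stalk ⟨y, hy⟩
    haveI := isLocalizedModule_germ M hD y hy
    have hz : germ M y hy m ∈
        Submodule.span (X.presheaf.stalk y) (germₗ M y hy '' Set.range t) := by
      have h1 : germₗ M y hy '' Set.range t = Set.range fun i => germ M y (hDV hy) (s i) := by
        rw [← Set.range_comp]
        exact congrArg Set.range (funext fun i => germ_res M hDV y hy (s i))
      rw [h1, hs y (hDV hy)]
      trivial
    obtain ⟨u, hu, n, hn, hnz⟩ := exists_smul_mem_span p.primeCompl (germₗ M y hy) _ _ hz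
    have hnz' : germₗ M y hy n = germₗ M y hy (u • m) := by rw [map_smul]; exact hnz
    obtain ⟨⟨w, hw⟩, hwn⟩ := IsLocalizedModule.exists_of_eq (S := p.primeCompl) hnz'
    have hmem : w * u ∈ I := by
      change (w * u) • m ∈ LinearMap.range l
      rw [mul_smul]
      have : w • u • m = w • n := hwn.symm
      rw [this]
      refine Submodule.smul_mem _ _ ?_
      rw [Fintype.range_linearCombination]
      exact hn
    have hpq : p = q := congrArg PrimeSpectrum.asIdeal hyq
    exact (mul_mem hw hu : w * u ∈ p.primeCompl) (hpq ▸ hIq hmem)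
  refine Module.finitePresentation_of_surjective l hsurj ?_
  have hker : LinearMap.ker l = Submodule.span Γ(X, D) (Set.range r) := by
    refine le_antisymm (fun c hc => ?_) ?_
    swap
    · rw [Submodule.span_le]
      rintro _ ⟨j, rfl⟩
      have h0 := congrArg (res M hDV) (hr.1 j)
      rw [map_zero, map_sum] at h0
      change l (r j) = 0
      rw [Fintype.linearCombination_apply]
      refine (Finset.sum_congr rfl fun i _ => ?_).trans h0
      exact (res_smul M hDV (rel j i) (s i)).symm
    let I : Ideal Γ(X, D) :=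
      (Submodule.span Γ(X, D) (Set.range r)).comap (LinearMap.toSpanSingleton _ _ c)
    suffices hI : I = ⊤ by
      have := hI.ge (Submodule.mem_top (x := (1 : Γ(X, D))))
      simpa [I] using this
    by_contra hI
    obtain ⟨q, hq, hIq⟩ := Ideal.exists_le_maximal I hI
    obtain ⟨y, hy, hyq⟩ := hloc ⟨q, hq.isPrime⟩
    letI := TopCat.Presheaf.algebra_section_stalk X.presheaf ⟨y, hy⟩
    let p := (hD.primeIdealOf ⟨y, hy⟩).asIdeal
    haveI : IsLocalization.AtPrime (X.presheaf.stalk y) p := hD.isLocalization_stalk ⟨y, hy⟩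
    let φ : (ι → Γ(X, D)) →ₗ[Γ(X, D)] (ι → X.presheaf.stalk y) :=
      (Algebra.linearMap Γ(X, D) (X.presheaf.stalk y)).compLeft ι
    have hφ : ∀ j, φ (r j) = fun i => X.presheaf.germ V y (hDV hy) (rel j i) := fun j =>
      funext fun i => X.presheaf.germ_res_apply (homOfLE hDV) y hy (rel j i)
    have hz : φ c ∈ Submodule.span (X.presheaf.stalk y) (φ '' Set.range r) := by
      rw [← Set.range_comp, show φ ∘ r = _ from funext hφ]
      refine hr.2 y (hDV hy) (φ c) ?_
      have h0 : germ M y hy (l c) = 0 := by rw [LinearMap.mem_ker.mp hc, map_zero]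
      rw [Fintype.linearCombination_apply, map_sum] at h0
      refine (Finset.sum_congr rfl fun i _ => ?_).trans h0
      rw [germ_smul, germ_res]
      rfl
    obtain ⟨u, hu, n, hn, hnz⟩ := exists_smul_mem_span p.primeCompl φ _ _ hz
    have hi : ∀ i, ∃ w ∈ p.primeCompl, w * n i = w * (u * c i) := fun i => by
      have h1 : algebraMap Γ(X, D) (X.presheaf.stalk y) (n i) =
          algebraMap Γ(X, D) (X.presheaf.stalk y) (u * c i) := by
        rw [map_mul, ← Algebra.smul_def]
        exact congrFun hnz i
      obtain ⟨⟨w, hw⟩, hwn⟩ := IsLocalization.exists_of_eq (M := p.primeCompl) h1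
      exact ⟨w, hw, hwn⟩
    choose w hw hwn using hi
    have hmem : (∏ i, w i) * u ∈ I := by
      change ((∏ i, w i) * u) • c ∈ Submodule.span _ _
      have : ((∏ i, w i) * u) • c = (∏ i, w i) • n := funext fun i => by
        simp only [Pi.smul_apply, smul_eq_mul]
        rw [← Finset.mul_prod_erase Finset.univ w (Finset.mem_univ i)]
        linear_combination -(∏ k ∈ Finset.univ.erase i, w k) * hwn i
      rw [this]
      exact Submodule.smul_mem _ _ hn
    have hpq : p = q := congrArg PrimeSpectrum.asIdeal hyq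
    exact (mul_mem (prod_mem fun i _ => hw i) hu : _ ∈ p.primeCompl) (hpq ▸ hIq hmem)
  rw [hker]
  exact Submodule.fg_span (Set.finite_range r)

/-- Sections of a finitely presented module over an affine open. -/
theorem finitePresentation_sections_of_isFP (hM : CohB1.IsFP M) {U : X.Opens}
    (hU : IsAffineOpen U) : Module.FinitePresentation Γ(X, U) Γ(M, U) := by
  let S : Set Γ(X, U) := {a | Module.FinitePresentation Γ(X, X.basicOpen a) Γ(M, X.basicOpen a)}
  have hS : Ideal.span S = ⊤ := by
    rw [← hU.self_le_iSup_basicOpen_iff]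
    intro x hx
    obtain ⟨V, hxV, ι, _, s, κ, _, rel, hs, hr⟩ := exists_data_of_isFP M hM x
    obtain ⟨a, hxa, haV⟩ := Groth.QCohMod.exists_basicOpen_mem hU hx hxV
    exact Opens.mem_iSup.mpr
      ⟨⟨a, finitePresentation_sections_of_data M (hU.basicOpen a) haV s rel hs hr⟩, hxa⟩
  letI : ∀ a : S, Module Γ(X, U) Γ(M, X.basicOpen a.1) := fun a => RelFP.basicModule M a.1
  haveI : ∀ a : S, IsScalarTower Γ(X, U) Γ(X, X.basicOpen a.1) Γ(M, X.basicOpen a.1) := fun a =>
    .of_algebraMap_smul fun _ _ => rfl
  haveI : ∀ a : S, IsLocalization.Away a.1 Γ(X, X.basicOpen a.1) := fun a =>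
    hU.isLocalization_basicOpen a.1
  haveI : ∀ a : S, IsLocalizedModule (Submonoid.powers a.1) (RelFP.basicRes M a.1) := fun a =>
    RelFP.isLocalizedModule_basicRes hU a.1
  exact Module.FinitePresentation.of_localizationSpan' S hS
    (Rₚ := fun a => Γ(X, X.basicOpen a.1)) (fun a => RelFP.basicRes M a.1) fun a => a.2

end Groth.Flatmor4
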