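import Groth.Agent.Calg4.RegularAscent
import Groth.Agent.Ega4Algebra2.CMEquiv
import Groth.Agent.FlatMor2.FibCrit.Fibre
import Groth.Agent.FlatMorOne.FlatnessCriteria

/-!
Cohen–Macaulay morphisms and composition.
-/

set_option autoImplicit false
set_option linter.style.haveILetI false

universe u

open CategoryTheory AlgebraicGeometry IsLocalRing

namespace Groth.Flatmor4

section Local

theorem exists_ringKrullDim_eq_natCast' (R : Type u) [CommRing R] [IsLocalRing R] [IsNoetherianRing R] :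
    ∃ n : ℕ, ringKrullDim R = n := by
  obtain ⟨n, hn⟩ := ENat.ne_top_iff_exists.1 ((maximalIdeal R).height_ne_top_of_isPrime)
  exact ⟨n, by rw [← maximalIdeal_height_eq_ringKrullDim, ← hn]; rfl⟩

/-- Cohen–Macaulayness descends along flat local maps, to the base and to the closed fibre. -/
theorem isCohenMacaulayLocalRing_and_of_flat (A B : Type u) [CommRing A] [IsLocalRing A]
    [IsNoetherianRing A] [CommRing B] [IsLocalRing B] [Algebra A B] [IsLocalHom (algebraMap A B)]
    [Module.Flat A B] (hB : LocCoh.IsCohenMacaulayLocalRing B) :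
    LocCoh.IsCohenMacaulayLocalRing A ∧
      LocCoh.IsCohenMacaulayLocalRing (B ⧸ (maximalIdeal A).map (algebraMap A B)) := by
  haveI : IsNoetherianRing B := by haveI := hB; infer_instance
  let F := B ⧸ (maximalIdeal A).map (algebraMap A B)
  have hle : (maximalIdeal A).map (algebraMap A B) ≤ maximalIdeal B :=
    ((local_hom_TFAE (algebraMap A B)).out 0 2 rfl rfl).mp inferInstance
  haveI : Nontrivial F := Ideal.Quotient.nontrivial_iff.mpr
    (ne_top_of_le_ne_top (maximalIdeal.isMaximal B).ne_top hle)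
  haveI : IsLocalRing F := IsLocalRing.of_surjective' _ Ideal.Quotient.mk_surjective
  have h1 := Calg4.depth_le_ringKrullDim A
  have h2 := Calg4.depth_le_ringKrullDim F
  rw [Calg4.isCohenMacaulayLocalRing_iff_dim_eq] at hB ⊢
  rw [Calg4.isCohenMacaulayLocalRing_iff_dim_eq]
  rw [Calg4.ringKrullDim_eq_add_of_flat A B, Ega4b.depth_eq_add_of_flat A B] at hB
  obtain ⟨a, ha⟩ := exists_ringKrullDim_eq_natCast' A
  obtain ⟨b, hb⟩ := exists_ringKrullDim_eq_natCast' F
  rw [ha] at h1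
  rw [hb] at h2
  obtain ⟨c, hc⟩ : ∃ c : ℕ, LocCoh.depth A A = c :=
    ENat.ne_top_iff_exists.mp (ne_top_of_le_ne_top (ENat.coe_ne_top a) (WithBot.coe_le_coe.mp h1))
      |>.imp fun _ h => h.symm
  obtain ⟨d, hd⟩ : ∃ d : ℕ, LocCoh.depth F F = d :=
    ENat.ne_top_iff_exists.mp (ne_top_of_le_ne_top (ENat.coe_ne_top b) (WithBot.coe_le_coe.mp h2))
      |>.imp fun _ h => h.symm
  rw [hc] at h1
  rw [hd] at h2
  rw [ha, hb, hc, hd] at hB
  rw [ha, hb, hc, hd]
  norm_cast at h1 h2 hB ⊢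
  omega

variable (A B C : Type u) [CommRing A] [IsLocalRing A] [CommRing B] [IsLocalRing B] [CommRing C]
  [IsLocalRing C] [Algebra A B] [Algebra B C] [Algebra A C] [IsScalarTower A B C]
  [IsLocalHom (algebraMap A B)] [IsLocalHom (algebraMap B C)] [Module.Flat B C]

/-- The closed fibre of `A → C` is flat over that of `A → B` with closed fibre that of `B → C`. -/
theorem exists_fibre_data : ∃ (_ : IsLocalRing (B ⧸ (maximalIdeal A).map (algebraMap A B)))
    (_ : IsLocalRing (C ⧸ (maximalIdeal A).map (algebraMap A C)))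
    (_ : Algebra (B ⧸ (maximalIdeal A).map (algebraMap A B)) (C ⧸ (maximalIdeal A).map (algebraMap A C)))
    (_ : IsLocalHom (algebraMap (B ⧸ (maximalIdeal A).map (algebraMap A B))
      (C ⧸ (maximalIdeal A).map (algebraMap A C))))
    (_ : Module.Flat (B ⧸ (maximalIdeal A).map (algebraMap A B))
      (C ⧸ (maximalIdeal A).map (algebraMap A C))),
    Nonempty (((C ⧸ (maximalIdeal A).map (algebraMap A C)) ⧸
      (maximalIdeal (B ⧸ (maximalIdeal A).map (algebraMap A B))).map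
        (algebraMap (B ⧸ (maximalIdeal A).map (algebraMap A B)) (C ⧸ (maximalIdeal A).map (algebraMap A C))))
      ≃+* C ⧸ (maximalIdeal B).map (algebraMap B C)) := by
  let I := (maximalIdeal A).map (algebraMap A B)
  let J := (maximalIdeal A).map (algebraMap A C)
  have hIm : I ≤ maximalIdeal B := ((local_hom_TFAE (algebraMap A B)).out 0 2 rfl rfl).mp inferInstance
  have hBCm : (maximalIdeal B).map (algebraMap B C) ≤ maximalIdeal C :=
    ((local_hom_TFAE (algebraMap B C)).out 0 2 rfl rfl).mp inferInstance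
  have hIJ : J = I.map (algebraMap B C) := by
    simp only [I, J, Ideal.map_map, ← IsScalarTower.algebraMap_eq]
  have hJm : J ≤ maximalIdeal C := hIJ.le.trans ((Ideal.map_mono hIm).trans hBCm)
  haveI : Nontrivial (B ⧸ I) := Ideal.Quotient.nontrivial_iff.mpr
    (ne_top_of_le_ne_top (maximalIdeal.isMaximal B).ne_top hIm)
  haveI : Nontrivial (C ⧸ J) := Ideal.Quotient.nontrivial_iff.mpr
    (ne_top_of_le_ne_top (maximalIdeal.isMaximal C).ne_top hJm)
  haveI h1 : IsLocalRing (B ⧸ I) := IsLocalRing.of_surjective' _ Ideal.Quotient.mk_surjective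
  haveI h2 : IsLocalRing (C ⧸ J) := IsLocalRing.of_surjective' _ Ideal.Quotient.mk_surjective
  let θ : B ⧸ I →+* C ⧸ J :=
    Ideal.quotientMap J (algebraMap B C) (Ideal.map_le_iff_le_comap.mp hIJ.ge)
  have hmax : maximalIdeal (B ⧸ I) = (maximalIdeal B).map (Ideal.Quotient.mk I) :=
    (IsLocalRing.map_maximalIdeal_of_surjective _ Ideal.Quotient.mk_surjective).symm
  have hloc : IsLocalHom θ := by
    refine ((local_hom_TFAE θ).out 0 2 rfl rfl).mpr ?_
    rw [hmax, Ideal.map_map, show θ.comp (Ideal.Quotient.mk I) =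
      (Ideal.Quotient.mk J).comp (algebraMap B C) from RingHom.ext fun _ => rfl, ← Ideal.map_map,
      ← IsLocalRing.map_maximalIdeal_of_surjective (Ideal.Quotient.mk J) Ideal.Quotient.mk_surjective]
    exact Ideal.map_mono hBCm
  have hflat : θ.Flat := by
    refine (FlatMor2.FibCrit.flat_quot_square_iff (Ideal.Quotient.mk I) (Ideal.Quotient.mk J) θ
      Ideal.Quotient.mk_surjective Ideal.Quotient.mk_surjective I Ideal.mk_ker
      (Ideal.mk_ker.trans hIJ) fun _ => rfl).mpr ?_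
    haveI : Module.Flat (B ⧸ I) (TensorProduct B (B ⧸ I) C) := inferInstance
    refine FlatMor2.FibCrit.flat_of_addEquiv
      (TensorProduct.quotTensorEquivQuotSMul C I).toAddEquiv fun z m => ?_
    obtain ⟨z, rfl⟩ := Ideal.Quotient.mk_surjective z
    rw [← Ideal.Quotient.algebraMap_eq, algebraMap_smul, algebraMap_smul]
    exact map_smul (TensorProduct.quotTensorEquivQuotSMul C I) z m
  letI := θ.toAlgebra
  refine ⟨h1, h2, θ.toAlgebra, hloc, hflat, ⟨?_⟩⟩
  refine (Ideal.quotEquivOfEq ?_).trans (DoubleQuot.quotQuotEquivQuotOfLE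
    (hIJ.le.trans (Ideal.map_mono hIm)))
  show (maximalIdeal (B ⧸ I)).map θ = _
  rw [hmax, Ideal.map_map, Ideal.map_map]
  rfl

/-- Cohen–Macaulay closed fibres compose. -/
theorem isCohenMacaulay_fibre_comp [IsNoetherianRing (C ⧸ (maximalIdeal A).map (algebraMap A C))]
    (hAB : LocCoh.IsCohenMacaulayLocalRing (B ⧸ (maximalIdeal A).map (algebraMap A B)))
    (hBC : LocCoh.IsCohenMacaulayLocalRing (C ⧸ (maximalIdeal B).map (algebraMap B C))) :
    LocCoh.IsCohenMacaulayLocalRing (C ⧸ (maximalIdeal A).map (algebraMap A C)) := by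
  obtain ⟨_, _, _, _, _, ⟨e⟩⟩ := exists_fibre_data A B C
  haveI : IsNoetherianRing (B ⧸ (maximalIdeal A).map (algebraMap A B)) := by
    haveI := hAB; infer_instance
  exact Calg4.isCohenMacaulayLocalRing_of_flat _ _ hAB
    (Ega4b.isCohenMacaulayLocalRing_of_ringEquiv e.symm hBC)

/-- Cohen–Macaulay closed fibres of a composition descend. -/
theorem isCohenMacaulay_fibre_descend [IsNoetherianRing (B ⧸ (maximalIdeal A).map (algebraMap A B))]
    (hAC : LocCoh.IsCohenMacaulayLocalRing (C ⧸ (maximalIdeal A).map (algebraMap A C))) :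
    LocCoh.IsCohenMacaulayLocalRing (B ⧸ (maximalIdeal A).map (algebraMap A B)) ∧
      LocCoh.IsCohenMacaulayLocalRing (C ⧸ (maximalIdeal B).map (algebraMap B C)) := by
  obtain ⟨_, _, _, _, _, ⟨e⟩⟩ := exists_fibre_data A B C
  obtain ⟨h1, h2⟩ := isCohenMacaulayLocalRing_and_of_flat (B ⧸ (maximalIdeal A).map (algebraMap A B))
    (C ⧸ (maximalIdeal A).map (algebraMap A C)) hAC
  exact ⟨h1, Ega4b.isCohenMacaulayLocalRing_of_ringEquiv e h2⟩

omit [IsLocalRing A] [IsLocalHom (algebraMap A B)] in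
theorem flat_of_flat_comp [Module.Flat A C] : Module.Flat A B := by
  haveI : Module.FaithfullyFlat B C := Module.FaithfullyFlat.of_flat_of_isLocalHom
  exact FlatMorOne.flat_of_faithfullyFlat_module C

end Local

section Scheme

variable {X Y S : Scheme.{u}}

theorem exists_fiberStalkEquiv (g : Y ⟶ S) (y : Y) :
    Nonempty ((Y.presheaf.stalk y ⧸ (maximalIdeal (S.presheaf.stalk (g y))).map (g.stalkMap y).hom) ≃+*
      ((g.fiber (g y)).presheaf.stalk (g.asFiber y))) := by
  obtain ⟨h1, h2⟩ := FlatMor2.FibCrit.fiber_stalk_of_eq g (g y) (g.asFiber y) y (g.fiberι_asFiber y)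
  exact ⟨(Ideal.quotEquivOfEq h2.symm).trans (RingHom.quotientKerEquivOfSurjective h1)⟩

theorem isNoetherianRing_fibre (g : Y ⟶ S) (y : Y) (h : IsLocallyNoetherian (g.fiber (g y))) :
    IsNoetherianRing (Y.presheaf.stalk y ⧸
      (maximalIdeal (S.presheaf.stalk (g y))).map (g.stalkMap y).hom) := by
  obtain ⟨e⟩ := exists_fiberStalkEquiv g y
  exact isNoetherianRing_of_ringEquiv _ e.symm

theorem isCMAt_iff (g : Y ⟶ S) (y : Y) : MoreMor.IsCMAt g y ↔ (g.stalkMap y).hom.Flat ∧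
    LocCoh.IsCohenMacaulayLocalRing (Y.presheaf.stalk y ⧸
      (maximalIdeal (S.presheaf.stalk (g y))).map (g.stalkMap y).hom) := by
  obtain ⟨e⟩ := exists_fiberStalkEquiv g y
  exact and_congr_right fun _ => ⟨Ega4b.isCohenMacaulayLocalRing_of_ringEquiv e.symm,
    Ega4b.isCohenMacaulayLocalRing_of_ringEquiv e⟩

theorem isCMAt_comp (f : X ⟶ Y) (g : Y ⟶ S) (x : X)
    (hN : IsLocallyNoetherian ((f ≫ g).fiber ((f ≫ g) x)))
    (hf : MoreMor.IsCMAt f x) (hg : MoreMor.IsCMAt g (f x)) : MoreMor.IsCMAt (f ≫ g) x := by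
  rw [isCMAt_iff] at hf hg
  haveI := isNoetherianRing_fibre (f ≫ g) x hN
  rw [isCMAt_iff]
  letI := (f.stalkMap x).hom.toAlgebra
  letI : Algebra (S.presheaf.stalk ((f ≫ g) x)) (Y.presheaf.stalk (f x)) :=
    (g.stalkMap (f x)).hom.toAlgebra
  letI := ((f ≫ g).stalkMap x).hom.toAlgebra
  have hc : ((f ≫ g).stalkMap x).hom = (f.stalkMap x).hom.comp (g.stalkMap (f x)).hom := by
    rw [Scheme.Hom.stalkMap_comp]; rfl
  haveI : IsScalarTower (S.presheaf.stalk ((f ≫ g) x)) (Y.presheaf.stalk (f x)) (X.presheaf.stalk x) :=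
    IsScalarTower.of_algebraMap_eq' hc
  refine ⟨hc ▸ hg.1.comp hf.1, ?_⟩
  haveI : Module.Flat (Y.presheaf.stalk (f x)) (X.presheaf.stalk x) := hf.1
  haveI : IsLocalHom (algebraMap (Y.presheaf.stalk (f x)) (X.presheaf.stalk x)) :=
    inferInstanceAs (IsLocalHom (f.stalkMap x).hom)
  haveI : IsLocalHom (algebraMap (S.presheaf.stalk ((f ≫ g) x)) (Y.presheaf.stalk (f x))) :=
    inferInstanceAs (IsLocalHom (g.stalkMap (f x)).hom)
  exact isCohenMacaulay_fibre_comp (S.presheaf.stalk ((f ≫ g) x)) (Y.presheaf.stalk (f x))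
    (X.presheaf.stalk x) hg.2 hf.2

theorem isCMAt_of_comp (f : X ⟶ Y) (g : Y ⟶ S) (x : X)
    (hNg : IsLocallyNoetherian (g.fiber (g (f x))))
    (h : MoreMor.IsCMAt (f ≫ g) x) (hfl : (f.stalkMap x).hom.Flat) :
    MoreMor.IsCMAt f x ∧ MoreMor.IsCMAt g (f x) := by
  rw [isCMAt_iff] at h
  haveI := isNoetherianRing_fibre g (f x) hNg
  rw [isCMAt_iff, isCMAt_iff]
  letI := (f.stalkMap x).hom.toAlgebra
  letI : Algebra (S.presheaf.stalk ((f ≫ g) x)) (Y.presheaf.stalk (f x)) :=
    (g.stalkMap (f x)).hom.toAlgebra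
  letI := ((f ≫ g).stalkMap x).hom.toAlgebra
  have hc : ((f ≫ g).stalkMap x).hom = (f.stalkMap x).hom.comp (g.stalkMap (f x)).hom := by
    rw [Scheme.Hom.stalkMap_comp]; rfl
  haveI : IsScalarTower (S.presheaf.stalk ((f ≫ g) x)) (Y.presheaf.stalk (f x)) (X.presheaf.stalk x) :=
    IsScalarTower.of_algebraMap_eq' hc
  haveI : Module.Flat (Y.presheaf.stalk (f x)) (X.presheaf.stalk x) := hfl
  haveI : IsLocalHom (algebraMap (Y.presheaf.stalk (f x)) (X.presheaf.stalk x)) :=
    inferInstanceAs (IsLocalHom (f.stalkMap x).hom)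
  haveI : IsLocalHom (algebraMap (S.presheaf.stalk ((f ≫ g) x)) (Y.presheaf.stalk (f x))) :=
    inferInstanceAs (IsLocalHom (g.stalkMap (f x)).hom)
  haveI : Module.Flat (S.presheaf.stalk ((f ≫ g) x)) (X.presheaf.stalk x) := h.1
  haveI : IsNoetherianRing (Y.presheaf.stalk (f x) ⧸ (maximalIdeal (S.presheaf.stalk ((f ≫ g) x))).map
      (algebraMap (S.presheaf.stalk ((f ≫ g) x)) (Y.presheaf.stalk (f x)))) := ‹_›
  obtain ⟨h1, h2⟩ := isCohenMacaulay_fibre_descend (S.presheaf.stalk ((f ≫ g) x))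
    (Y.presheaf.stalk (f x)) (X.presheaf.stalk x) h.2
  exact ⟨⟨hfl, h2⟩, flat_of_flat_comp (S.presheaf.stalk ((f ≫ g) x)) (Y.presheaf.stalk (f x))
    (X.presheaf.stalk x), h1⟩

theorem isCMAt_of_flat_of_cm (f : X ⟶ Y) (x : X) [IsNoetherianRing (Y.presheaf.stalk (f x))]
    (hfl : (f.stalkMap x).hom.Flat) (hX : LocCoh.IsCohenMacaulayLocalRing (X.presheaf.stalk x)) :
    MoreMor.IsCMAt f x ∧ LocCoh.IsCohenMacaulayLocalRing (Y.presheaf.stalk (f x)) := by
  rw [isCMAt_iff]
  letI := (f.stalkMap x).hom.toAlgebra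
  haveI : Module.Flat (Y.presheaf.stalk (f x)) (X.presheaf.stalk x) := hfl
  haveI : IsLocalHom (algebraMap (Y.presheaf.stalk (f x)) (X.presheaf.stalk x)) :=
    inferInstanceAs (IsLocalHom (f.stalkMap x).hom)
  obtain ⟨h1, h2⟩ := isCohenMacaulayLocalRing_and_of_flat (Y.presheaf.stalk (f x)) _ hX
  exact ⟨⟨hfl, h2⟩, h1⟩

end Scheme

end Groth.Flatmor4
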