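import Groth.Agent.Flatmor4.GenericDense
import Mathlib.AlgebraicGeometry.Morphisms.FlatMono
import Mathlib.AlgebraicGeometry.FunctionField

/-! Flat birational separated morphisms of integral schemes. -/

universe u

open AlgebraicGeometry CategoryTheory Limits

namespace Groth.Flatmor4

variable {X' X : Scheme.{u}} [IsIntegral X'] [IsIntegral X] (f : X' ⟶ X)
  (hK : IsIso (f.stalkMap (genericPoint X')))

include hK in
lemma map_genericPoint_of_birational : f (genericPoint X') = genericPoint X :=
  eq_genericPoint_of_isField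
    ((asIso (f.stalkMap (genericPoint X'))).commRingCatIsoToRingEquiv.toMulEquiv.isField
      (Field.toIsField X'.functionField))

include hK in
/-- The generic point is the only point over the generic point. -/
lemma eq_genericPoint_of_map_eq {z : X'} (hz : f z = genericPoint X) : z = genericPoint X' := by
  have hgen : genericPoint X' ⤳ z := (genericPoint_spec X').specializes (Set.mem_univ z)
  have hη := map_genericPoint_of_birational f hK
  refine eq_genericPoint_of_isField ⟨exists_pair_ne _, mul_comm, fun {a} ha => ?_⟩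
  obtain ⟨W, hzW, s, rfl⟩ := TopCat.Presheaf.exists_germ_eq X'.presheaf a
  have hηW : genericPoint X' ∈ W := hgen.mem_open W.2 hzW
  have hs : X'.presheaf.germ W (genericPoint X') hηW s ≠ 0 :=
    germ_ne_zero_of_specializes hzW hηW hgen s ha
  obtain ⟨c, hc⟩ := (asIso (f.stalkMap (genericPoint X'))).commRingCatIsoToRingEquiv.surjective
    (X'.presheaf.germ W (genericPoint X') hηW s)
  obtain ⟨V, hηV, c', rfl⟩ := TopCat.Presheaf.exists_germ_eq X.presheaf c
  have hzV : f z ∈ V := by rw [hz, ← hη]; exact hηV
  have hfield : IsField (X.presheaf.stalk (f z)) := by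
    rw [hz]; exact Field.toIsField X.functionField
  have hc0 : X.presheaf.germ V (f z) hzV c' ≠ 0 := by
    intro h0
    apply hs
    rw [← hc]
    have : X.presheaf.germ V (f (genericPoint X')) hηV c' = 0 := by
      by_contra hne
      exact germ_ne_zero_of_specializes hηV hzV (by rw [hz, ← hη]) c' hne h0
    rw [this]
    exact map_zero _
  have hu : IsUnit (f.stalkMap z (X.presheaf.germ V (f z) hzV c')) := by
    obtain ⟨d, hd⟩ := hfield.mul_inv_cancel hc0
    exact (IsUnit.of_mul_eq_one d hd).map (f.stalkMap z).hom
  suffices h : X'.presheaf.germ W z hzW s = f.stalkMap z (X.presheaf.germ V (f z) hzV c') by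
    rw [h]; exact hu.exists_right_inv
  have hc' : X'.presheaf.germ W (genericPoint X') hηW s =
      f.stalkMap (genericPoint X') (X.presheaf.germ V (f (genericPoint X')) hηV c') := hc.symm
  rw [Scheme.Hom.germ_stalkMap_apply] at hc' ⊢
  let U : X'.Opens := W ⊓ f ⁻¹ᵁ V
  rw [← TopCat.Presheaf.germ_res_apply X'.presheaf (homOfLE (inf_le_left : U ≤ W)) _ ⟨hηW, hηV⟩,
    ← TopCat.Presheaf.germ_res_apply X'.presheaf (homOfLE (inf_le_right : U ≤ f ⁻¹ᵁ V)) _ ⟨hηW, hηV⟩,
    ← sub_eq_zero, ← map_sub] at hc'
  rw [← TopCat.Presheaf.germ_res_apply X'.presheaf (homOfLE (inf_le_left : U ≤ W)) _ ⟨hzW, hzV⟩,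
    ← TopCat.Presheaf.germ_res_apply X'.presheaf (homOfLE (inf_le_right : U ≤ f ⁻¹ᵁ V)) _ ⟨hzW, hzV⟩,
    ← sub_eq_zero, ← map_sub]
  by_contra hne
  exact germ_ne_zero_of_specializes (show z ∈ U from ⟨hzW, hzV⟩)
    (show genericPoint X' ∈ U from ⟨hηW, hηV⟩) hgen _ hne hc'

lemma isIso_stalkMap_of_flat_preimmersion {A B : Scheme.{u}} (q : A ⟶ B) [Flat q] [IsPreimmersion q]
    (w : A) : IsIso (q.stalkMap w) := by
  letI := (q.stalkMap w).hom.toAlgebra
  have : Module.Flat (B.presheaf.stalk (q w)) (A.presheaf.stalk w) := Flat.stalkMap q w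
  haveI : IsLocalHom (algebraMap (B.presheaf.stalk (q w)) (A.presheaf.stalk w)) :=
    inferInstanceAs (IsLocalHom (q.stalkMap w).hom)
  haveI : Module.FaithfullyFlat (B.presheaf.stalk (q w)) (A.presheaf.stalk w) :=
    Module.FaithfullyFlat.of_flat_of_isLocalHom
  exact (ConcreteCategory.isIso_iff_bijective _).2
    ⟨FaithfulSMul.algebraMap_injective (B.presheaf.stalk (q w)) (A.presheaf.stalk w),
      q.stalkMap_surjective w⟩

include hK in
/-- The generic fibre of a surjective birational morphism is the generic point of the base. -/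
lemma isIso_pullback_snd_fromSpecStalk [Surjective f] :
    IsIso (pullback.snd f (X.fromSpecStalk (genericPoint X))) := by
  haveI : Flat (X.fromSpecStalk (genericPoint X)) := Groth.PropsBasic2.flat_fromSpecStalk _
  set q₀ := pullback.fst f (X.fromSpecStalk (genericPoint X))
  set s₀ := pullback.snd f (X.fromSpecStalk (genericPoint X))
  haveI : IsPreimmersion q₀ := MorphismProperty.pullback_fst _ _ inferInstance
  haveI hsubS : Subsingleton (Spec (X.presheaf.stalk (genericPoint X))) := by
    refine ⟨fun p q => (X.fromSpecStalk (genericPoint X)).isEmbedding.injective ?_⟩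
    have hall : ∀ r, X.fromSpecStalk (genericPoint X) r = genericPoint X := fun r => by
      have hr : X.fromSpecStalk (genericPoint X) r ⤳ genericPoint X := by
        have : X.fromSpecStalk (genericPoint X) r ∈ Set.range (X.fromSpecStalk (genericPoint X)) :=
          ⟨r, rfl⟩
        rwa [Scheme.range_fromSpecStalk] at this
      exact (hr.antisymm ((genericPoint_spec X).specializes (Set.mem_univ _))).eq
    rw [hall, hall]
  have hq : ∀ w, q₀ w = genericPoint X' := fun w => by
    refine eq_genericPoint_of_map_eq f hK ?_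
    rw [← Scheme.Hom.comp_apply, pullback.condition, Scheme.Hom.comp_apply,
      Subsingleton.elim (s₀ w) (IsLocalRing.closedPoint _), Scheme.fromSpecStalk_closedPoint]
  haveI : Subsingleton (pullback f (X.fromSpecStalk (genericPoint X)) : Scheme.{u}) :=
    ⟨fun a b => q₀.isEmbedding.injective ((hq a).trans (hq b).symm)⟩
  rw [isIso_iff_isIso_stalkMap]
  refine ⟨?_, fun w => ?_⟩
  · refine TopCat.isIso_of_bijective_of_isOpenMap _
      ⟨fun a b _ => Subsingleton.elim a b, s₀.surjective⟩ fun U hU => ?_
    rcases Set.eq_empty_or_nonempty (s₀.base '' U) with h | h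
    · rw [h]; exact isOpen_empty
    · have : s₀.base '' U = Set.univ :=
        Set.eq_univ_of_forall fun y => Subsingleton.elim h.choose y ▸ h.choose_spec
      rw [this]
      exact isOpen_univ
  · haveI : IsIso (q₀.stalkMap w) := isIso_stalkMap_of_flat_preimmersion q₀ w
    haveI : IsIso (f.stalkMap (q₀ w)) := by rw [hq w]; exact hK
    haveI : IsIso ((X.fromSpecStalk (genericPoint X)).stalkMap (s₀ w)) :=
      isIso_stalkMap_of_flat_preimmersion _ _
    have h1 : IsIso ((q₀ ≫ f).stalkMap w) := by
      rw [Scheme.Hom.stalkMap_comp]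
      exact IsIso.comp_isIso' ‹_› ‹_›
    rw [Scheme.Hom.stalkMap_congr_hom (q₀ ≫ f) (s₀ ≫ X.fromSpecStalk (genericPoint X))
      pullback.condition, isIso_comp_left_iff, Scheme.Hom.stalkMap_comp] at h1
    exact (isIso_comp_left_iff ((X.fromSpecStalk (genericPoint X)).stalkMap (s₀ w)) _).1 h1

include hK in
/-- A flat surjective birational separated morphism of integral schemes is a monomorphism. -/
theorem mono_of_flat_birational [Flat f] [Surjective f] [IsSeparated f] : Mono f := by
  rw [← pullback.isIso_diagonal_iff]
  haveI : Flat (X.fromSpecStalk (genericPoint X)) := Groth.PropsBasic2.flat_fromSpecStalk _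
  haveI := isIso_pullback_snd_fromSpecStalk f hK
  let p := pullback.fst f f ≫ f
  let q := pullback.fst p (X.fromSpecStalk (genericPoint X))
  haveI : Flat p := by dsimp [p]; infer_instance
  let la : pullback p (X.fromSpecStalk (genericPoint X)) ⟶ pullback f (X.fromSpecStalk (genericPoint X)) :=
    pullback.lift (q ≫ pullback.fst f f) (pullback.snd _ _) (by
      simp only [Category.assoc]; exact pullback.condition)
  let lb : pullback p (X.fromSpecStalk (genericPoint X)) ⟶ pullback f (X.fromSpecStalk (genericPoint X)) :=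
    pullback.lift (q ≫ pullback.snd f f) (pullback.snd _ _) (by
      simp only [Category.assoc, ← pullback.condition (f := f) (g := f)]; exact pullback.condition)
  have hl : la = lb := by
    rw [← cancel_mono (pullback.snd f (X.fromSpecStalk (genericPoint X)))]
    simp only [la, lb, pullback.lift_snd]
  have hab : q ≫ pullback.fst f f = q ≫ pullback.snd f f := by
    have := congrArg (· ≫ pullback.fst f (X.fromSpecStalk (genericPoint X))) hl
    simpa only [la, lb, pullback.lift_fst] using this
  have hq : q = (q ≫ pullback.fst f f) ≫ pullback.diagonal f := by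
    apply pullback.hom_ext
    · rw [Category.assoc, pullback.diagonal_fst, Category.comp_id]
    · rw [Category.assoc, pullback.diagonal_snd, Category.comp_id, hab]
  rw [IsClosedImmersion.isIso_iff_ker_eq_bot, eq_bot_iff]
  intro U s hs
  have h1 : (pullback.diagonal f).app U s = 0 :=
    RingHom.mem_ker.1 ((pullback.diagonal f).ideal_ker_le U hs)
  have h3 : q.app U.1 s = 0 := by
    rw [Scheme.Hom.congr_app hq U.1]
    erw [ConcreteCategory.comp_apply, ConcreteCategory.comp_apply, h1, map_zero, map_zero]
  have h4 := app_injective_of_generic_mem_range p q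
    (fun z hz => mem_range_pullback_fst_fromSpecStalk _ _ z hz) U.1
  exact (Submodule.mem_bot _).2 (h4 (h3.trans (map_zero _).symm))

end Groth.Flatmor4
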