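import Mathlib.RingTheory.Smooth.Kaehler
import Mathlib.RingTheory.Smooth.Flat
import Mathlib.RingTheory.Smooth.Locus
import Mathlib.RingTheory.Etale.Kaehler
import Mathlib.RingTheory.Kaehler.Polynomial
import Mathlib.RingTheory.LocalRing.Module
import Mathlib.RingTheory.Flat.LocallyFree
import Mathlib.Algebra.Module.FinitePresentation
import Mathlib.RingTheory.LocalRing.ResidueField.Ideal

/-!
A function with non-vanishing differential on a smooth algebra cuts out a smooth divisor.
-/

set_option autoImplicit false
set_option linter.style.haveILetI false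

universe u

open TensorProduct KaehlerDifferential

namespace Groth.Flatmor4

/-- Vectors whose images form a basis at a prime form a basis nearby. -/
theorem exists_away_bijective {A M : Type u} [CommRing A] [AddCommGroup M] [Module A M]
    [Module.Finite A M] [Module.Projective A M] (p : Ideal A) [p.IsPrime] {I : Type u} [Finite I]
    (v : I → M) (b : Module.Basis I p.ResidueField (p.ResidueField ⊗[A] M))
    (hb : ∀ i, b i = (1 : p.ResidueField) ⊗ₜ v i) :
    ∃ g, g ∉ p ∧ Function.Bijective
      (LocalizedModule.map (Submonoid.powers g) (Finsupp.linearCombination A v)) := by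
  haveI : Module.FinitePresentation A M := Module.finitePresentation_of_projective A M
  let Aₚ := Localization.AtPrime p
  let K := IsLocalRing.ResidueField Aₚ
  let Mₚ := Aₚ ⊗[A] M
  let w : I → Mₚ := fun i => (1 : Aₚ) ⊗ₜ v i
  let e : p.ResidueField ⊗[Aₚ] Mₚ ≃ₗ[p.ResidueField] p.ResidueField ⊗[A] M :=
    AlgebraTensorModule.cancelBaseChange A Aₚ p.ResidueField p.ResidueField M
  have hbij : Function.Bijective (Finsupp.linearCombination Aₚ w) := by
    refine Module.IsLocalRing.linearCombination_bijective_of_flat w ?_
    have : (Finsupp.linearCombination (IsLocalRing.ResidueField Aₚ)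
        (TensorProduct.mk Aₚ (IsLocalRing.ResidueField Aₚ) Mₚ 1 ∘ w)) =
        ((b.map e.symm).repr.symm).toLinearMap := by
      refine Finsupp.lhom_ext fun i c => ?_
      rw [Finsupp.linearCombination_single, LinearEquiv.coe_coe, Module.Basis.repr_symm_apply,
        Finsupp.linearCombination_single, Module.Basis.map_apply, hb]
      congr 1
    rw [this]
    exact (b.map e.symm).repr.symm.bijective
  let l₁ : (I →₀ A) →ₗ[A] (I →₀ Aₚ) := Finsupp.mapRange.linearMap (Algebra.linearMap A Aₚ)
  let l₂ : M →ₗ[A] Mₚ := TensorProduct.mk A Aₚ M 1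
  refine Module.FinitePresentation.exists_notMem_bijective (Finsupp.linearCombination A v) p l₁ l₂ ?_
  have heq : IsLocalizedModule.mapExtendScalars p.primeCompl l₁ l₂ Aₚ
      (Finsupp.linearCombination A v) = Finsupp.linearCombination Aₚ w := by
    ext i
    trans IsLocalizedModule.map p.primeCompl l₁ l₂ (Finsupp.linearCombination A v)
      (l₁ (Finsupp.single i 1))
    · simp [-IsLocalizedModule.map_apply, l₁]
    · simp only [l₂, w, Finsupp.linearCombination_single, IsLocalizedModule.map_apply, one_smul]
      simp
      try rfl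
  exact (congrArg DFunLike.coe heq) ▸ hbij

variable {R A : Type u} [CommRing R] [CommRing A] [Algebra R A]

/-- A polynomial map inducing an isomorphism on differentials into a formally smooth algebra is
formally étale. -/
theorem formallyEtale_of_mapBaseChange_bijective {P : Type u} [CommRing P] [Algebra R P]
    [Algebra P A] [IsScalarTower R P A] [Algebra.FormallySmooth R A]
    (h : Function.Bijective (mapBaseChange R P A)) : Algebra.FormallyEtale P A := by
  refine ⟨⟨fun x y => ?_⟩, ⟨fun x y => ?_⟩⟩
  · obtain ⟨x, rfl⟩ := KaehlerDifferential.map_surjective R P A x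
    obtain ⟨y, rfl⟩ := KaehlerDifferential.map_surjective R P A y
    obtain ⟨x, rfl⟩ := h.2 x
    obtain ⟨y, rfl⟩ := h.2 y
    rw [(exact_mapBaseChange_map R P A).apply_apply_eq_zero,
      (exact_mapBaseChange_map R P A).apply_apply_eq_zero]
  · have key : ∀ z : Algebra.H1Cotangent P A, z = 0 := fun z => by
      have h0 : Algebra.H1Cotangent.δ R P A z = 0 :=
        h.1 (((Algebra.H1Cotangent.exact_δ_mapBaseChange R P A).apply_apply_eq_zero z).trans
          (map_zero _).symm)
      obtain ⟨w, rfl⟩ := (Algebra.H1Cotangent.exact_map_δ R P A z).mp h0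
      rw [Subsingleton.elim w 0, map_zero]
    rw [key x, key y]

/-- A function with non-vanishing differential at a prime of a smooth algebra. -/
theorem exists_smooth_quotient [Algebra.Smooth R A] (p : Ideal A) [p.IsPrime] (h : A)
    (hd : (1 : p.ResidueField) ⊗ₜ[A] D R A h ≠ 0) :
    ∃ g, g ∉ p ∧ ∀ (L : Type u) [CommRing L] [Algebra A L] [Algebra R L] [IsScalarTower R A L]
      [IsLocalization.Away g L], IsSMulRegular L (algebraMap A L h) ∧
        Algebra.Smooth R (L ⧸ Ideal.span {algebraMap A L h}) := by
  classical
  -- choose a basis of differentials containing `dh`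
  let V := p.ResidueField ⊗[A] Ω[A⁄R]
  let v : A → V := fun a => (1 : p.ResidueField) ⊗ₜ D R A a
  have hs : LinearIndepOn p.ResidueField id ({v h} : Set V) := LinearIndepOn.singleton hd
  have hst : ({v h} : Set V) ⊆ Set.range v := Set.singleton_subset_iff.mpr ⟨h, rfl⟩
  have ht : ⊤ ≤ Submodule.span p.ResidueField (Set.range v) := by
    intro z hz
    clear hz
    induction z using TensorProduct.induction_on with
    | zero => exact zero_mem _
    | add x y hx hy => exact add_mem hx hy
    | tmul c ω =>
      have hω : ω ∈ Submodule.span A (Set.range (D R A)) := by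
        rw [KaehlerDifferential.span_range_derivation]; trivial
      induction hω using Submodule.span_induction with
      | mem ω hω =>
        obtain ⟨a, rfl⟩ := hω
        have : c ⊗ₜ D R A a = c • v a := ((congrArg (fun z => z ⊗ₜ[A] D R A a) (mul_one c).symm).trans (TensorProduct.smul_tmul' c (1 : p.ResidueField) (D R A a)).symm)
        rw [this]
        exact Submodule.smul_mem _ _ (Submodule.subset_span ⟨a, rfl⟩)
      | zero => rw [tmul_zero]; exact zero_mem _
      | add x y _ _ hx hy => rw [tmul_add]; exact add_mem hx hy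
      | smul a x _ hx =>
        have e : c ⊗ₜ[A] (a • x) = algebraMap A p.ResidueField a • (c ⊗ₜ[A] x) := by
          rw [algebraMap_smul, tmul_smul]
        rw [e]
        exact Submodule.smul_mem _ _ hx
  let b := Module.Basis.extendLe hs hst ht
  have hrange : ∀ i : hs.extend hst, ∃ a, v a = b i := fun i =>
    Module.Basis.extendLe_subset hs hst ht ⟨i, rfl⟩
  choose a₀ ha₀ using hrange
  let i₀ : hs.extend hst := ⟨v h, hs.subset_extend hst rfl⟩
  let a : hs.extend hst → A := Function.update a₀ i₀ h
  have ha : ∀ i, b i = v (a i) := fun i => by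
    rcases eq_or_ne i i₀ with rfl | hi
    · simp only [a, Function.update_self, b, Module.Basis.extendLe_apply_self, i₀]
    · simp only [a, Function.update_of_ne hi, ha₀]
  haveI : Finite (hs.extend hst) := Module.Finite.finite_basis b
  obtain ⟨g, hg, hbij⟩ := exists_away_bijective p (fun i => D R A (a i)) b ha
  refine ⟨g, hg, fun L _ _ _ _ _ => ?_⟩
  let I := hs.extend hst
  let l₁ : (I →₀ A) →ₗ[A] (I →₀ L) := Finsupp.mapRange.linearMap (Algebra.linearMap A L)
  let l₂ : Ω[A⁄R] →ₗ[A] Ω[L⁄R] := KaehlerDifferential.map R R A L
  rw [← IsLocalizedModule.map_bijective_iff_localizedModuleMap_bijective l₁ l₂] at hbij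
  let eL : (I →₀ L) →ₗ[L] Ω[L⁄R] :=
    IsLocalizedModule.mapExtendScalars (Submonoid.powers g) l₁ l₂ L
      (Finsupp.linearCombination A fun i => D R A (a i))
  let β : Module.Basis I L Ω[L⁄R] := .ofRepr (LinearEquiv.ofBijective eL hbij).symm
  have hβ : ∀ i, β i = D R L (algebraMap A L (a i)) := fun i => by
    simp [β, eL, l₁, l₂, IsLocalizedModule.map_linearCombination]
  haveI : Algebra.FinitePresentation A L := IsLocalization.Away.finitePresentation g
  haveI : Algebra.FinitePresentation R L := .trans R A L
  haveI : Algebra.FormallySmooth A L := Algebra.FormallySmooth.of_isLocalization (Submonoid.powers g)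
  haveI : Algebra.FormallySmooth R L := Algebra.FormallySmooth.comp R A L
  let P := MvPolynomial I R
  let φ : P →ₐ[R] L := MvPolynomial.aeval fun i => algebraMap A L (a i)
  letI := φ.toRingHom.toAlgebra
  haveI : IsScalarTower R P L := .of_algebraMap_eq' φ.comp_algebraMap.symm
  have hmbc : Function.Bijective (mapBaseChange R P L) := by
    let e := ((mvPolynomialBasis R I).baseChange L).equiv β (Equiv.refl I)
    have : mapBaseChange R P L = e.toLinearMap := by
      refine ((mvPolynomialBasis R I).baseChange L).ext fun i => ?_
      rw [LinearEquiv.coe_coe, Module.Basis.equiv_apply, Equiv.refl_apply, hβ,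
        Module.Basis.baseChange_apply, mvPolynomialBasis_apply, mapBaseChange_tmul, one_smul, map_D]
      change D R L (φ (MvPolynomial.X i)) = _
      rw [MvPolynomial.aeval_X]
    rw [this]
    exact e.bijective
  haveI := formallyEtale_of_mapBaseChange_bijective hmbc
  haveI : Algebra.FinitePresentation P L :=
    Algebra.FinitePresentation.of_restrict_scalars_finitePresentation R P L
  haveI : Algebra.Smooth P L := ⟨inferInstance, inferInstance⟩
  haveI : Module.Flat P L := inferInstance
  have hX : φ (MvPolynomial.X i₀) = algebraMap A L h := by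
    change MvPolynomial.aeval _ (MvPolynomial.X i₀) = _
    rw [MvPolynomial.aeval_X]
    simp only [a, Function.update_self]
  constructor
  · have hreg : IsSMulRegular P (MvPolynomial.X i₀ : P) := fun x y hxy => by
      refine MvPolynomial.ext _ _ fun m => ?_
      have := congrArg (MvPolynomial.coeff (Finsupp.single i₀ 1 + m)) hxy
      simpa [smul_eq_mul, MvPolynomial.coeff_X_mul] using this
    have := hreg.of_flat (S := L)
    rwa [show algebraMap P L (MvPolynomial.X i₀) = algebraMap A L h from hX] at this
  · let h' := algebraMap A L h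
    haveI : Algebra.FinitePresentation R (L ⧸ Ideal.span {h'}) :=
      .quotient (Submodule.fg_span_singleton h')
    refine ⟨?_, inferInstance⟩
    have hker : RingHom.ker (algebraMap L (L ⧸ Ideal.span {h'})) = Ideal.span {h'} :=
      Ideal.mk_ker
    have hmem : h' ∈ RingHom.ker (algebraMap L (L ⧸ Ideal.span {h'})) :=
      hker.ge (Ideal.mem_span_singleton_self h')
    rw [Algebra.FormallySmooth.iff_split_injection (P := L) Ideal.Quotient.mk_surjective]
    let C := (RingHom.ker (algebraMap L (L ⧸ Ideal.span {h'}))).Cotangent
    let c : C := Ideal.toCotangent _ ⟨h', hmem⟩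
    let t : (L ⧸ Ideal.span {h'}) →ₗ[L] C :=
      Submodule.liftQ (Ideal.span {h'}) (LinearMap.toSpanSingleton L C c) (by
        rw [Submodule.span_le, Set.singleton_subset_iff, SetLike.mem_coe, LinearMap.mem_ker,
          LinearMap.toSpanSingleton_apply, ← map_smul, Ideal.toCotangent_eq_zero, pow_two]
        exact Ideal.mul_mem_mul hmem hmem)
    let l : (L ⧸ Ideal.span {h'}) ⊗[L] Ω[L⁄R] →ₗ[L] C :=
      t.comp ((TensorProduct.rid L _).toLinearMap.comp
        ((β.coord i₀).lTensor (L ⧸ Ideal.span {h'})))
    refine ⟨l, LinearMap.ext fun x => ?_⟩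
    obtain ⟨⟨x, hx⟩, rfl⟩ := Ideal.toCotangent_surjective _ x
    obtain ⟨r, hr⟩ := Ideal.mem_span_singleton'.mp (hker.le hx)
    have e1 : (⟨x, hx⟩ : RingHom.ker (algebraMap L (L ⧸ Ideal.span {h'}))) = r • ⟨h', hmem⟩ :=
      Subtype.ext hr.symm
    rw [e1, map_smul, LinearMap.comp_apply, map_smul, map_smul, LinearMap.id_apply]
    congr 1
    rw [kerCotangentToTensor_toCotangent]
    have hD : β.coord i₀ (D R L h') = 1 := by
      have : D R L h' = β i₀ := by rw [hβ]; simp [h', a]
      rw [this, Module.Basis.coord_apply, Module.Basis.repr_self, Finsupp.single_eq_same]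
    simp only [l, LinearMap.comp_apply, LinearMap.lTensor_tmul, LinearEquiv.coe_coe,
      TensorProduct.rid_tmul, hD, one_smul]
    change t (Ideal.Quotient.mk _ 1) = c
    exact one_smul L c

end Groth.Flatmor4
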