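import Mathlib
import Groth.Agent.FlatMorOne.TorZero
import Groth.Agent.FlatMor2.FibCrit.Fibre
import Groth.Agent.QCohMod.Affine
import Groth.Agent.PropsBasic.FPSections

/-!
A finitely presented module flat over the base is free as soon as it is free on the fibre, and
freeness on the fibre descends along extensions of the residue field.
-/

set_option autoImplicit false
set_option linter.style.haveILetI false

universe u

open TensorProduct IsLocalRing

namespace Groth.Flatmor4

/-- A finitely presented `B`-module, flat over `A`, with free closed fibre is free. -/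
theorem free_of_flat_of_free_fibre {A B M : Type u} [CommRing A] [IsLocalRing A] [CommRing B]
    [IsLocalRing B] [Algebra A B] [IsLocalHom (algebraMap A B)] [AddCommGroup M] [Module A M]
    [Module B M] [IsScalarTower A B M] [Module.FinitePresentation B M] [Module.Flat A M]
    (h : Module.Free (B ⧸ (maximalIdeal A).map (algebraMap A B))
      ((B ⧸ (maximalIdeal A).map (algebraMap A B)) ⊗[B] M)) : Module.Free B M := by
  classical
  let I : Ideal B := (maximalIdeal A).map (algebraMap A B)
  have hIm : I ≤ maximalIdeal B :=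
    ((local_hom_TFAE (algebraMap A B)).out 0 2 rfl rfl).mp inferInstance
  let Mbar := (B ⧸ I) ⊗[B] M
  haveI : Nontrivial (B ⧸ I) := Ideal.Quotient.nontrivial_iff.mpr
    (ne_top_of_le_ne_top (maximalIdeal.isMaximal B).ne_top hIm)
  haveI : Module.Free (B ⧸ I) Mbar := h
  let ι := Module.Free.ChooseBasisIndex (B ⧸ I) Mbar
  let b : Module.Basis ι (B ⧸ I) Mbar := Module.Free.chooseBasis _ _
  haveI : Fintype ι := Module.Free.ChooseBasisIndex.fintype _ _
  have hmk : Function.Surjective (TensorProduct.mk B (B ⧸ I) M 1) :=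
    TensorProduct.mk_surjective _ _ _ Ideal.Quotient.mk_surjective
  choose m hm using fun i => hmk (b i)
  let φ : (ι → B) →ₗ[B] M := Fintype.linearCombination B m
  have hφ : ∀ v, (1 : B ⧸ I) ⊗ₜ[B] φ v = ∑ i, Ideal.Quotient.mk I (v i) • b i := by
    intro v
    rw [Fintype.linearCombination_apply, TensorProduct.tmul_sum]
    refine Finset.sum_congr rfl fun i _ => ?_
    rw [TensorProduct.tmul_smul, ← hm i, ← algebraMap_smul (B ⧸ I) (v i)]
    rfl
  have hker : ∀ {y : M}, (1 : B ⧸ I) ⊗ₜ[B] y = 0 → y ∈ I • (⊤ : Submodule B M) := by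
    intro y hy
    have h0 := congrArg (TensorProduct.quotTensorEquivQuotSMul M I) hy
    rw [map_zero, show (1 : B ⧸ I) = Ideal.Quotient.mk I 1 from rfl,
      TensorProduct.quotTensorEquivQuotSMul_mk_tmul, one_smul] at h0
    exact (Submodule.Quotient.mk_eq_zero _).mp h0
  have hjac : I ≤ Ideal.jacobson ⊥ := by
    rwa [IsLocalRing.jacobson_eq_maximalIdeal _ bot_ne_top]
  have hsurj : Function.Surjective φ := by
    rw [← LinearMap.range_eq_top, eq_top_iff]
    refine Submodule.le_of_le_smul_of_le_jacobson_bot Module.Finite.fg_top hjac fun y _ => ?_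
    choose c hc using fun i => Ideal.Quotient.mk_surjective (b.repr ((1 : B ⧸ I) ⊗ₜ[B] y) i)
    have h1 : (1 : B ⧸ I) ⊗ₜ[B] (y - φ c) = 0 := by
      rw [TensorProduct.tmul_sub, hφ, sub_eq_zero]
      simp only [hc]
      exact (b.sum_repr _).symm
    rw [← sub_add_cancel y (φ c), add_comm]
    exact Submodule.add_mem_sup ⟨c, rfl⟩ (hker h1)
  let m' := maximalIdeal A
  have hT : Function.Injective ((LinearMap.ker (φ.restrictScalars A)).subtype.lTensor (A ⧸ m')) :=
    Groth.FlatMorOne.ker_lTensor_injective_of_flat (φ.restrictScalars A) hsurj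
      (LinearMap.exact_subtype_mkQ m') (Submodule.mkQ_surjective m')
      (Module.Flat.lTensor_preserves_injective_linearMap _ Subtype.val_injective)
  have hK : LinearMap.ker φ ≤ I • LinearMap.ker φ := by
    intro k hk
    have hki : ∀ i, k i ∈ I := by
      have h1 : ∑ i, Ideal.Quotient.mk I (k i) • b i = 0 := by
        rw [← hφ, LinearMap.mem_ker.mp hk, TensorProduct.tmul_zero]
      intro i
      exact Ideal.Quotient.eq_zero_iff_mem.mp
        (Fintype.linearIndependent_iff.mp b.linearIndependent _ h1 i)
    have hkm : k ∈ m' • (⊤ : Submodule A (ι → B)) := by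
      rw [pi_eq_sum_univ k]
      refine Submodule.sum_mem _ fun i _ => ?_
      have hi : k i ∈ m' • (⊤ : Submodule A B) := by
        rw [Ideal.smul_top_eq_map]
        exact hki i
      have := Submodule.smul_top_le_comap_smul_top m'
        (((LinearMap.toSpanSingleton B (ι → B) fun j => if i = j then 1 else 0)).restrictScalars A) hi
      simpa using this
    have h0 : Ideal.Quotient.mk m' 1 ⊗ₜ[A] (⟨k, hk⟩ : LinearMap.ker (φ.restrictScalars A)) = 0 := by
      apply hT
      rw [LinearMap.lTensor_tmul, map_zero]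
      apply (TensorProduct.quotTensorEquivQuotSMul (ι → B) m').injective
      rw [map_zero, TensorProduct.quotTensorEquivQuotSMul_mk_tmul, one_smul]
      exact (Submodule.Quotient.mk_eq_zero _).mpr hkm
    have h2 := congrArg (TensorProduct.quotTensorEquivQuotSMul _ m') h0
    rw [map_zero, TensorProduct.quotTensorEquivQuotSMul_mk_tmul, one_smul,
      Submodule.Quotient.mk_eq_zero] at h2
    have h3 : ∀ (z : LinearMap.ker (φ.restrictScalars A)),
        z ∈ m' • (⊤ : Submodule A (LinearMap.ker (φ.restrictScalars A))) →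
        (z : ι → B) ∈ I • LinearMap.ker φ := by
      intro z hz
      refine Submodule.smul_induction_on hz (fun r hr w _ => ?_) (fun u v hu hv => ?_)
      · show r • (w : ι → B) ∈ _
        rw [← algebraMap_smul B r (w : ι → B)]
        exact Submodule.smul_mem_smul (Ideal.mem_map_of_mem _ hr) w.2
      · show (u : ι → B) + v ∈ _
        exact Submodule.add_mem _ hu hv
    exact h3 _ h2
  have hbot : LinearMap.ker φ = ⊥ := Submodule.eq_bot_of_le_smul_of_le_jacobson_bot I _
    (Module.FinitePresentation.fg_ker φ hsurj) hK hjac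
  exact Module.Free.of_equiv (LinearEquiv.ofBijective φ ⟨LinearMap.ker_eq_bot.mp hbot, hsurj⟩)

/-- Freeness on the fibre descends along a faithfully flat map of fibres. -/
theorem free_fibre_of_baseChange {B B' F F' M : Type u} [CommRing B] [CommRing B'] [CommRing F]
    [CommRing F'] [IsLocalRing F] [Algebra B B'] [Algebra B F] [Algebra B' F'] [Algebra F F']
    [Algebra B F'] [IsScalarTower B B' F'] [IsScalarTower B F F'] [Module.FaithfullyFlat F F']
    [AddCommGroup M] [Module B M] [Module.FinitePresentation B M]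
    (h : Module.Free B' (B' ⊗[B] M)) : Module.Free F (F ⊗[B] M) := by
  haveI : Module.Flat F' (F' ⊗[B'] (B' ⊗[B] M)) := inferInstance
  haveI : Module.Flat F' (F' ⊗[F] (F ⊗[B] M)) := Module.Flat.of_linearEquiv
    ((TensorProduct.AlgebraTensorModule.cancelBaseChange B F F' F' M).trans
      (TensorProduct.AlgebraTensorModule.cancelBaseChange B B' F' F' M).symm)
  haveI : Module.Flat F (F ⊗[B] M) := Module.Flat.of_flat_tensorProduct F (F ⊗[B] M) F'
  exact Module.free_of_flat_of_isLocalRing

section Scheme

open CategoryTheory CategoryTheory.Limits AlgebraicGeometry Groth.QCohMod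

/-- Stalks of a finitely presented module are finitely presented. -/
theorem finitePresentation_stalk {X : Scheme.{u}} (F : X.Modules) [F.IsQuasicoherent]
    (hF : CohB1.IsFP F) (x : X) :
    Module.FinitePresentation (X.presheaf.stalk x) (F.presheaf.stalk x) := by
  obtain ⟨U, hU, hxU, -⟩ := exists_isAffineOpen_mem_and_subset (U := ⊤) (x := x) trivial
  haveI := Groth.PropsBasic.FPSections.finitePresentation_sections F hF hU
  letI := stalkModule F x hxU
  letI : Algebra Γ(X, U) (X.presheaf.stalk x) :=
    TopCat.Presheaf.algebra_section_stalk X.presheaf ⟨x, hxU⟩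
  haveI : IsLocalization.AtPrime (X.presheaf.stalk x) (hU.primeIdealOf ⟨x, hxU⟩).asIdeal :=
    hU.isLocalization_stalk ⟨x, hxU⟩
  haveI : IsScalarTower Γ(X, U) (X.presheaf.stalk x) (F.presheaf.stalk x) := ⟨fun r a m => by
    change (X.presheaf.germ U x hxU r * a) • m = _
    rw [mul_smul]; rfl⟩
  haveI := isLocalizedModule_germ F hU x hxU
  exact Module.FinitePresentation.of_equiv
    ((IsLocalizedModule.isBaseChange (hU.primeIdealOf ⟨x, hxU⟩).asIdeal.primeCompl
      (X.presheaf.stalk x) (germₗ F x hxU)).equiv)

/-- For a base change, the map of fibre local rings is flat and compatible with the local map. -/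
theorem exists_fibre_square {X S X' S' : Scheme.{u}} {f : X ⟶ S} {g : S' ⟶ S} {f' : X' ⟶ S'}
    {g' : X' ⟶ X} (H : IsPullback g' f' f g) (x' : X') :
    ∃ (F F' : Type u) (_ : CommRing F) (_ : CommRing F') (_ : IsLocalRing F) (_ : IsLocalRing F')
      (π : X.presheaf.stalk (g' x') →+* F) (π' : X'.presheaf.stalk x' →+* F') (ψ : F →+* F'),
      Function.Surjective π ∧
      RingHom.ker π = (maximalIdeal (S.presheaf.stalk (f (g' x')))).map (f.stalkMap (g' x')).hom ∧
      (Function.Surjective π' ∧
        RingHom.ker π' = (maximalIdeal (S'.presheaf.stalk (f' x'))).map (f'.stalkMap x').hom) ∧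
      ψ.Flat ∧ IsLocalHom ψ ∧ ∀ r, ψ (π r) = π' (g'.stalkMap x' r) := by
  let s' := f' x'
  let c := S'.fromSpecResidueField s'
  let d := Spec.map (g.residueFieldMap s')
  haveI : Flat d := by
    rw [Flat.SpecMap_iff]
    letI := (g.residueFieldMap s').hom.toAlgebra
    exact (inferInstance : Module.Flat (S.residueField (g s')) (S'.residueField s'))
  have hcd : c ≫ g = d ≫ S.fromSpecResidueField (g s') :=
    (g.SpecMap_residueFieldMap_fromSpecResidueField s').symm
  have hbig : IsPullback (f'.fiberι s' ≫ g') (f'.fiberToSpecResidueField s') f (c ≫ g) :=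
    IsPullback.paste_horiz (IsPullback.of_hasPullback f' c) H
  let h : f'.fiber s' ⟶ f.fiber (g s') := pullback.lift (f'.fiberι s' ≫ g')
    (f'.fiberToSpecResidueField s' ≫ d) (by rw [hbig.w, hcd, Category.assoc])
  have hh1 : h ≫ f.fiberι (g s') = f'.fiberι s' ≫ g' := pullback.lift_fst _ _ _
  have hbig' : IsPullback (h ≫ f.fiberι (g s')) (f'.fiberToSpecResidueField s') f
      (d ≫ S.fromSpecResidueField (g s')) := by
    rw [hh1, ← hcd]; exact hbig
  have hsq : IsPullback h (f'.fiberToSpecResidueField s') (f.fiberToSpecResidueField (g s')) d :=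
    IsPullback.of_right hbig' (pullback.lift_snd _ _ _)
      (IsPullback.of_hasPullback f (S.fromSpecResidueField (g s')))
  haveI : Flat h := MorphismProperty.of_isPullback hsq.flip inferInstance
  suffices key : ∀ (w : f'.fiber s') (y : X'), f'.fiberι s' w = y →
      ∃ (F F' : Type u) (_ : CommRing F) (_ : CommRing F') (_ : IsLocalRing F) (_ : IsLocalRing F')
        (π : X.presheaf.stalk (g' y) →+* F) (π' : X'.presheaf.stalk y →+* F') (ψ : F →+* F'),
        Function.Surjective π ∧
        RingHom.ker π = (maximalIdeal (S.presheaf.stalk (f (g' y)))).map (f.stalkMap (g' y)).hom ∧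
        (Function.Surjective π' ∧
          RingHom.ker π' = (maximalIdeal (S'.presheaf.stalk (f' y))).map (f'.stalkMap y).hom) ∧
        ψ.Flat ∧ IsLocalHom ψ ∧ ∀ r, ψ (π r) = π' (g'.stalkMap y r) from
    key (f'.asFiber x') x' (f'.fiberι_asFiber x')
  rintro w _ rfl
  have hw : f.fiberι (g s') (h w) = g' (f'.fiberι s' w) := by
    rw [← Scheme.Hom.comp_apply, hh1]; rfl
  obtain ⟨h1, h2⟩ := FlatMor2.FibCrit.fiber_stalk_of_eq f (g s') (h w) _ hw
  have hc := Scheme.Hom.stalkMap_congr_hom _ _ hh1 w
  rw [Scheme.Hom.stalkMap_comp, Scheme.Hom.stalkMap_comp] at hc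
  have key : ((X.presheaf.stalkCongr (.of_eq hw)).inv ≫ (f.fiberι (g s')).stalkMap (h w)) ≫ h.stalkMap w =
      g'.stalkMap (f'.fiberι s' w) ≫ (f'.fiberι s').stalkMap w := by
    rw [Category.assoc, Iso.inv_comp_eq]
    exact hc
  exact ⟨_, _, inferInstance, inferInstance, inferInstance, inferInstance, _,
    ((f'.fiberι s').stalkMap w).hom, (h.stalkMap w).hom, h1, h2,
    Groth.Agent.S9501.result f' s' w, Flat.stalkMap h w, inferInstance,
    fun r => congr($(key) r)⟩

end Scheme

end Groth.Flatmor4
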