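import Groth.Agent.PropsBasic.AmpleBasis
import Groth.Agent.PicAux.Pullback

/-!
A section of an invertible module trivializes it after pullback iff the pullback lands in the
generating locus.
-/

universe u

open CategoryTheory AlgebraicGeometry Opposite TopologicalSpace

set_option backward.isDefEq.respectTransparency.types false

namespace Groth.Flatmor4

open Groth.PicAux Groth.PropsBasic.Ample

theorem isIso_pullback_map_iff {X Y : Scheme.{u}} (f : X ⟶ Y) {L : Y.Modules}
    (hL : PicF.IsInvertible L) (ε : Coh.structureModule Y ⟶ L) :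
    IsIso ((Scheme.Modules.pullback f).map ε) ↔ f ⁻¹ᵁ gloc (gsec ε) = ⊤ := by
  haveI := isIso_pullUnit f
  let ψ := inv (pullUnit f) ≫ (Scheme.Modules.pullback f).map ε
  have hψ : IsIso ((Scheme.Modules.pullback f).map ε) ↔ IsIso ψ :=
    ⟨fun _ => inferInstance, fun h => IsIso.of_isIso_comp_left (inv (pullUnit f)) _⟩
  have hsec : gsec ψ = pullSec f L (gsec ε) := by
    have h1 : pullSec f _ (oneSec Y ⊤) = (inv (pullUnit f)).app (f ⁻¹ᵁ ⊤) (oneSec X _) := by
      rw [← pullbackObjUnit_oneSec f]
      exact (congr(($(IsIso.hom_inv_id (pullUnit f))).app (f ⁻¹ᵁ ⊤)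
        (pullSec f _ (oneSec Y ⊤)))).symm
    have h2 := pullSec_map f ε (oneSec Y ⊤)
    rw [h1] at h2
    exact h2
  rw [hψ, isIso_hom_structure_iff, ← gloc_pullSec f hL (gsec ε), ← hsec]
  refine ⟨fun h => top_unique (le_gloc (by rwa [res_self])), fun h => ?_⟩
  have := gen_gloc (gsec ψ) h.ge
  rwa [res_self] at this

end Groth.Flatmor4
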