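import Groth.Agent.FlatmorThree.FiniteFreeResolution
import Groth.Prelude.Def_MoreMor
import Mathlib.RingTheory.TensorProduct.MvPolynomial
import Mathlib.RingTheory.IsTensorProduct
import Mathlib.RingTheory.Flat.Stability
import Mathlib.RingTheory.Flat.Equalizer
import Groth.Agent.Misc8.FibreSquare

/-! Base change of resolutions by finite free modules along tor-independent squares. -/

universe u

open CategoryTheory Limits TensorProduct

attribute [local instance] HasDerivedCategory.standard

namespace Groth.Flatmor4.PCohBC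

noncomputable section

/-- Short exact sequences linking syzygies through finite free modules. -/
structure Tower (R : Type u) [CommRing R] where
  N : ℕ → ModuleCat.{u} R
  F : ℕ → ModuleCat.{u} R
  free : ∀ k, Module.Free R (F k)
  finite : ∀ k, Module.Finite R (F k)
  cov : ∀ k, F k ⟶ N k
  cov_surj : ∀ k, Function.Surjective (cov k).hom
  inc : ∀ k, N (k + 1) ⟶ F k
  inc_inj : ∀ k, Function.Injective (inc k).hom
  exact : ∀ k, Function.Exact (inc k).hom (cov k).hom

variable {R : Type u} [CommRing R] (T : Tower R)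

/-- The differentials. -/
def Tower.diff (n : ℕ) : T.F (n + 1) ⟶ T.F n := T.cov (n + 1) ≫ T.inc n

lemma Tower.mem_range_diff {n : ℕ} {x : T.F n} :
    (∃ y, (T.diff n).hom y = x) ↔ (T.cov n).hom x = 0 := by
  constructor
  · rintro ⟨y, rfl⟩
    exact (T.exact n).apply_apply_eq_zero _
  · intro hx
    obtain ⟨z, rfl⟩ := (T.exact n x).1 hx
    obtain ⟨y, rfl⟩ := T.cov_surj (n + 1) z
    exact ⟨y, rfl⟩

lemma Tower.diff_eq_zero_iff {n : ℕ} {x : T.F (n + 1)} :
    (T.diff n).hom x = 0 ↔ (T.cov (n + 1)).hom x = 0 := by
  show (T.inc n).hom ((T.cov (n + 1)).hom x) = 0 ↔ _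
  exact map_eq_zero_iff _ (T.inc_inj n)

/-- The complex of free modules. -/
def Tower.complex : ChainComplex (ModuleCat.{u} R) ℕ :=
  ChainComplex.of T.F T.diff fun n => ModuleCat.hom_ext <| LinearMap.ext fun x => by
    show (T.diff n).hom ((T.diff (n + 1)).hom x) = 0
    exact T.diff_eq_zero_iff.mpr ((T.mem_range_diff (n := n + 1)).mp ⟨x, rfl⟩)

lemma Tower.complex_d (n : ℕ) : T.complex.d (n + 1) n = T.diff n :=
  ChainComplex.of_d _ _ _

lemma Tower.d_cov : T.complex.d 1 0 ≫ T.cov 0 = 0 := by
  rw [T.complex_d]
  exact ModuleCat.hom_ext <| LinearMap.ext fun x => (T.mem_range_diff (n := 0)).mp ⟨x, rfl⟩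

instance (n : ℕ) : Projective (T.complex.X n) :=
  have := T.free n
  ModuleCat.projective_of_free (Module.Free.chooseBasis R (T.F n))

/-- The resolution. -/
def Tower.resolution : ProjectiveResolution (T.N 0) where
  complex := T.complex
  π := (ChainComplex.toSingle₀Equiv _ _).symm ⟨T.cov 0, T.d_cov⟩
  quasiIso := ⟨fun n => by
    cases n with
    | zero =>
      rw [ChainComplex.quasiIsoAt₀_iff, ShortComplex.quasiIso_iff_of_zeros']
      · refine (ShortComplex.exact_and_epi_g_iff_of_iso
          (S₂ := ShortComplex.mk (T.complex.d 1 0) (T.cov 0) T.d_cov) ?_).2 ⟨?_, ?_⟩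
        · exact ShortComplex.isoMk (Iso.refl _) (Iso.refl _) (Iso.refl _)
            (by erw [Category.id_comp]) (by erw [Category.id_comp])
        · rw [ShortComplex.moduleCat_exact_iff]
          intro x hx
          obtain ⟨y, hy⟩ := (T.mem_range_diff (n := 0)).mpr hx
          exact ⟨y, by simp only [T.complex_d]; exact hy⟩
        · exact (ModuleCat.epi_iff_surjective _).mpr (T.cov_surj 0)
      all_goals rfl
    | succ n =>
      rw [quasiIsoAt_iff_exactAt']
      · rw [HomologicalComplex.exactAt_iff' _ (n + 1 + 1) (n + 1) n (by simp) (by simp),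
          ShortComplex.moduleCat_exact_iff]
        intro x hx
        have hx' : (T.diff n).hom x = 0 := by rw [← T.complex_d]; exact hx
        obtain ⟨y, hy⟩ := (T.mem_range_diff (n := n + 1)).mpr (T.diff_eq_zero_iff.mp hx')
        exact ⟨y, by
          show (T.complex.d (n + 1 + 1) (n + 1)).hom y = x
          rw [T.complex_d]
          exact hy⟩
      · exact ChainComplex.exactAt_succ_single_obj _ _⟩

/-- The module at the bottom of a tower is pseudo-coherent. -/
theorem Tower.isPseudoCoherentModule' (M : Type u) [AddCommGroup M] [Module R M]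
    (e : T.N 0 ≃ₗ[R] M) : DRing.IsPseudoCoherentModule' R M := by
  let P := T.resolution
  refine ⟨P.cochainComplex, 0, fun i hi => CochainComplex.isZero_of_isStrictlyLE _ 0 i hi,
    fun i => ?_, ⟨asIso (DerivedCategory.Q.map P.π') ≪≫
      ((DerivedCategory.singleFunctorIsoCompQ (ModuleCat.{u} R) 0).app _).symm ≪≫
        (DerivedCategory.singleFunctor (ModuleCat.{u} R) 0).mapIso e.toModuleIso⟩⟩
  by_cases hi : i ≤ 0
  · obtain ⟨k, rfl⟩ := Int.exists_eq_neg_ofNat hi
    let f := (P.cochainComplexXIso (-k) k).toLinearEquiv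
    have h1 : Module.Finite R (T.F k) := T.finite k
    have h2 : Module.Free R (T.F k) := T.free k
    let f' : (T.F k) ≃ₗ[R] (P.cochainComplex.X (-(k : ℤ))) := f.symm
    exact ⟨Module.Finite.equiv f', Module.Free.of_equiv f'⟩
  · have := ModuleCat.subsingleton_of_isZero
      (CochainComplex.isZero_of_isStrictlyLE P.cochainComplex 0 i (not_le.mp hi))
    exact ⟨inferInstance, Module.Free.of_subsingleton R _⟩

/-- Finite modules which are flat over the base stay pseudo-coherent after base change. -/
theorem isPseudoCoherentModule'_baseChange (R₁ A P₀ P : Type u) [CommRing R₁] [CommRing A]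
    [CommRing P₀] [CommRing P] [Algebra R₁ A] [Algebra R₁ P₀] [Algebra A P] [Algebra P₀ P]
    [Algebra R₁ P] [IsScalarTower R₁ A P] [IsScalarTower R₁ P₀ P] [Algebra.IsPushout R₁ A P₀ P]
    [IsNoetherianRing P₀] [Module.Flat R₁ P₀] (M : Type u) [AddCommGroup M] [Module P₀ M]
    [Module R₁ M] [IsScalarTower R₁ P₀ M] [hM : Module.Finite P₀ M] [Module.Flat R₁ M]
    (M' : Type u) [AddCommGroup M'] [Module P M'] (e : P ⊗[P₀] M ≃ₗ[P] M') :
    DRing.IsPseudoCoherentModule' P M' := by
  let N₀ : FlatmorThree.FFRes.FinMod P₀ := ⟨ModuleCat.of P₀ M, hM⟩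
  let S := FlatmorThree.FFRes.syz N₀
  let r := fun k => FlatmorThree.FFRes.rk (S k)
  let c : ∀ k, (Fin (r k) → P₀) →ₗ[P₀] (S k).M := fun k => FlatmorThree.FFRes.cover (S k)
  let j : ∀ k, (S (k + 1)).M →ₗ[P₀] (Fin (r k) → P₀) := fun k => (LinearMap.ker (c k)).subtype
  have hjinj : ∀ k, Function.Injective (j k) := fun k => Submodule.subtype_injective _
  have hex : ∀ k, Function.Exact (j k) (c k) := fun k => LinearMap.exact_subtype_ker_map _
  have hsurj : ∀ k, Function.Surjective (c k) := fun k => FlatmorThree.FFRes.cover_surjective (S k)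
  let _ : ∀ k, Module R₁ (S k).M := fun k => Module.compHom _ (algebraMap R₁ P₀)
  have htow : ∀ k, IsScalarTower R₁ P₀ (S k).M := fun k =>
    IsScalarTower.of_algebraMap_smul fun _ _ => rfl
  have hflat : ∀ k, Module.Flat R₁ (S k).M := by
    intro k
    induction k with
    | zero =>
      refine Module.Flat.of_linearEquiv (M := M) (N := (S 0).M) ?_
      exact
        { toFun := fun m => (m : (S 0).M)
          invFun := fun m => (m : M)
          map_add' := fun _ _ => rfl
          map_smul' := fun a m => (algebraMap_smul P₀ a (m : M)).symm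
          left_inv := fun _ => rfl
          right_inv := fun _ => rfl } |> LinearEquiv.symm
    | succ k ih =>
      have := ih
      have : Module.Flat R₁ (Fin (r k) → P₀) :=
        Module.Flat.trans R₁ P₀ (Fin (r k) → P₀)
      exact Groth.Misc8.FibreSquare.flat_of_shortExact ((j k).restrictScalars R₁)
        ((c k).restrictScalars R₁) (hjinj k) (hsurj k) (hex k)
  have hinj : ∀ k, Function.Injective ((j k).baseChange P) := by
    intro k
    have := hflat k
    have hA : Function.Injective (((j k).restrictScalars R₁).lTensor A) :=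
      LinearMap.lTensor_injective_of_exact_of_flat ((c k).restrictScalars R₁) (hsurj k)
        ((j k).restrictScalars R₁) (hjinj k) (hex k) A
    have hcomm : ∀ z, Algebra.IsPushout.cancelBaseChange R₁ A P₀ P (Fin (r k) → P₀) ((j k).baseChange P z) =
        ((j k).restrictScalars R₁).lTensor A
          (Algebra.IsPushout.cancelBaseChange R₁ A P₀ P (S (k + 1)).M z) := by
      intro z
      obtain ⟨w, rfl⟩ := (Algebra.IsPushout.cancelBaseChange R₁ A P₀ P (S (k + 1)).M).symm.surjective z
      rw [LinearEquiv.apply_symm_apply]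
      induction w with
      | zero => simp
      | add x y hx hy => simp only [map_add, hx, hy]
      | tmul a m =>
        rw [Algebra.IsPushout.cancelBaseChange_symm_tmul, LinearMap.baseChange_tmul,
          ← LinearEquiv.eq_symm_apply, LinearMap.lTensor_tmul,
          Algebra.IsPushout.cancelBaseChange_symm_tmul]
        rfl
    intro x y hxy
    apply (Algebra.IsPushout.cancelBaseChange R₁ A P₀ P (S (k + 1)).M).injective
    apply hA
    rw [← hcomm, ← hcomm, hxy]
  let T : Tower P :=
    { N := fun k => ModuleCat.of P (P ⊗[P₀] (S k).M)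
      F := fun k => ModuleCat.of P (P ⊗[P₀] (Fin (r k) → P₀))
      free := fun k => inferInstanceAs (Module.Free P (P ⊗[P₀] (Fin (r k) → P₀)))
      finite := fun k => inferInstanceAs (Module.Finite P (P ⊗[P₀] (Fin (r k) → P₀)))
      cov := fun k => ModuleCat.ofHom ((c k).baseChange P)
      cov_surj := fun k => LinearMap.lTensor_surjective P (hsurj k)
      inc := fun k => ModuleCat.ofHom ((j k).baseChange P)
      inc_inj := hinj
      exact := fun k => lTensor_exact P (hex k) (hsurj k) }
  exact T.isPseudoCoherentModule' M' e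

end

end Groth.Flatmor4.PCohBC
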