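import Groth.Agent.Flatmor4.FpqcSubterminal
import Groth.Agent.Limits.Stalk
import Groth.Agent.Limits.HomDescent
import Groth.Agent.Limits.Topology
import Groth.Agent.QCohMod.PullbackQCoh
import Groth.Agent.QCohMod.SupportPullback
import Groth.Agent.QCohMod.FTCriterion
import Groth.Agent.QCohMod.ExtendFP
import Groth.Agent.Ega43FP2.SuppDim
import Groth.Agent.PropsBasic.FPSections

/-!
A map of quasi-coherent modules with source of finite type which vanishes on a limit of schemes with
affine transition maps vanishes at a stage.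
-/

set_option autoImplicit false
set_option linter.style.haveILetI false

universe u

open CategoryTheory CategoryTheory.Limits AlgebraicGeometry TensorProduct Groth.QCohMod

namespace Groth.Flatmor4

section Algebra

variable {A B : Type u} [CommRing A] [CommRing B] [Algebra A B] {J : Type u}
  (Bj : J → Type u) [∀ j, CommRing (Bj j)] [∀ j, Algebra A (Bj j)] (ρ : ∀ j, Bj j →ₐ[A] B)

/-- Elements of a module which die after extension to a filtered union die at a stage. -/
theorem exists_stage_tmul_eq_zero [Nonempty J]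
    (hdir : ∀ j j', ∃ (k : J) (τ : Bj j →ₐ[A] Bj k) (τ' : Bj j' →ₐ[A] Bj k),
      (ρ k).comp τ = ρ j ∧ (ρ k).comp τ' = ρ j')
    (hsurj : ∀ b : B, ∃ (j : J) (b' : Bj j), ρ j b' = b)
    (hkill : ∀ (j : J) (b : Bj j), ρ j b = 0 →
      ∃ (k : J) (τ : Bj j →ₐ[A] Bj k), (ρ k).comp τ = ρ j ∧ τ b = 0)
    {M : Type u} [AddCommGroup M] [Module A M] (S : Finset M)
    (hS : ∀ m ∈ S, (1 : B) ⊗ₜ[A] m = 0) :
    ∃ j, ∀ m ∈ S, (1 : Bj j) ⊗ₜ[A] m = 0 := by
  classical
  have hmono : ∀ {j k : J} (τ : Bj j →ₐ[A] Bj k) (m : M),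
      (1 : Bj j) ⊗ₜ[A] m = 0 → (1 : Bj k) ⊗ₜ[A] m = 0 := by
    intro j k τ m h
    have h' := congrArg (LinearMap.rTensor M τ.toLinearMap) h
    rwa [map_zero, LinearMap.rTensor_tmul, AlgHom.toLinearMap_apply, map_one] at h'
  have hone : ∀ m : M, (1 : B) ⊗ₜ[A] m = 0 → ∃ j, (1 : Bj j) ⊗ₜ[A] m = 0 := by
    intro m hm
    let π : (M →₀ A) →ₗ[A] M := Finsupp.linearCombination A id
    have hπs : Function.Surjective π := Finsupp.linearCombination_id_surjective A M
    have hex := lTensor_exact (M := LinearMap.ker π) (f := (LinearMap.ker π).subtype) B (LinearMap.exact_subtype_ker_map π) hπs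
    let g : M →₀ A := Finsupp.single m 1
    have hg : π g = m := by simp [π, g]
    obtain ⟨w, hw⟩ := (hex ((1 : B) ⊗ₜ g)).mp (by rw [LinearMap.lTensor_tmul, hg, hm])
    obtain ⟨T, rfl⟩ := TensorProduct.exists_finset w
    -- lift the coefficients to a stage
    have hlift : ∀ U : Finset B, ∃ j : J, ∀ b ∈ U, ∃ b' : Bj j, ρ j b' = b := by
      intro U
      induction U using Finset.induction_on with
      | empty => exact ⟨Classical.arbitrary J, by simp⟩
      | insert b U hb ih =>
        obtain ⟨j, hj⟩ := ih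
        obtain ⟨j', b', hb'⟩ := hsurj b
        obtain ⟨k, τ, τ', h1, h2⟩ := hdir j j'
        refine ⟨k, fun c hc => ?_⟩
        rcases Finset.mem_insert.mp hc with rfl | hc
        · exact ⟨τ' b', by rw [← AlgHom.comp_apply, h2, hb']⟩
        · obtain ⟨c', hc'⟩ := hj c hc
          exact ⟨τ c', by rw [← AlgHom.comp_apply, h1, hc']⟩
    obtain ⟨j, hj⟩ := hlift (T.image Prod.fst)
    choose lift hlift' using fun p (hp : p ∈ T) => hj p.1 (Finset.mem_image_of_mem _ hp)
    let δ : Bj j ⊗[A] (M →₀ A) :=
      ∑ p ∈ T.attach, lift p.1 p.2 ⊗ₜ[A] (p.1.2 : M →₀ A) - (1 : Bj j) ⊗ₜ g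
    let e := fun (k : J) => TensorProduct.finsuppScalarRight A A (Bj k) M
    let eB := TensorProduct.finsuppScalarRight A A B M
    have hnat : ∀ (k : J) (τ : Bj j →ₐ[A] Bj k) (z : Bj j ⊗[A] (M →₀ A)) (x : M),
        e k (LinearMap.rTensor _ τ.toLinearMap z) x = τ (e j z x) := by
      intro k τ z x
      induction z using TensorProduct.induction_on with
      | zero => simp
      | tmul b f => simp [e, map_smul]
      | add a b ha hb => simp only [map_add, Finsupp.add_apply, ha, hb]
    have hzero : LinearMap.rTensor _ (ρ j).toLinearMap δ = 0 := by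
      rw [map_sub, map_sum, sub_eq_zero, LinearMap.rTensor_tmul, AlgHom.toLinearMap_apply, map_one, ← hw,
        map_sum]
      conv_rhs => rw [← Finset.sum_attach]
      exact Finset.sum_congr rfl fun p _ => by
        rw [LinearMap.rTensor_tmul, LinearMap.lTensor_tmul, AlgHom.toLinearMap_apply, hlift']
        rfl
    have hcoef : ∀ x, ρ j (e j δ x) = 0 := by
      intro x
      have hnatB : ∀ z : Bj j ⊗[A] (M →₀ A),
          eB (LinearMap.rTensor _ (ρ j).toLinearMap z) x = ρ j (e j z x) := by
        intro z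
        induction z using TensorProduct.induction_on with
        | zero => simp
        | tmul b f => simp [e, eB, map_smul]
        | add a b ha hb => simp only [map_add, Finsupp.add_apply, ha, hb]
      rw [← hnatB, hzero, map_zero, Finsupp.zero_apply]
    have hker : ∀ U : Finset M, ∃ (k : J) (τ : Bj j →ₐ[A] Bj k),
        (ρ k).comp τ = ρ j ∧ ∀ x ∈ U, τ (e j δ x) = 0 := by
      intro U
      induction U using Finset.induction_on with
      | empty => exact ⟨j, AlgHom.id A (Bj j), rfl, by simp⟩
      | insert x U hx ih =>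
        obtain ⟨k, τ, h1, h2⟩ := ih
        obtain ⟨l, τ', h3, h4⟩ := hkill k (τ (e j δ x)) (by rw [← AlgHom.comp_apply, h1, hcoef])
        refine ⟨l, τ'.comp τ, by rw [← AlgHom.comp_assoc, h3, h1], fun y hy => ?_⟩
        rcases Finset.mem_insert.mp hy with rfl | hy
        · exact h4
        · rw [AlgHom.comp_apply, h2 y hy, map_zero]
    obtain ⟨k, τ, -, hτ⟩ := hker (e j δ).support
    have hδ : LinearMap.rTensor _ τ.toLinearMap δ = 0 := by
      apply (e k).injective
      rw [map_zero]
      ext x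
      rw [hnat, Finsupp.zero_apply]
      by_cases hx : x ∈ (e j δ).support
      · exact hτ x hx
      · rw [Finsupp.notMem_support_iff.mp hx, map_zero]
    refine ⟨k, ?_⟩
    have h' := congrArg (LinearMap.lTensor (Bj k) π) hδ
    have hzero' : ∀ p ∈ T.attach, LinearMap.lTensor (Bj k) π
        (LinearMap.rTensor _ τ.toLinearMap (lift p.1 p.2 ⊗ₜ[A] (p.1.2 : M →₀ A))) = 0 := fun p _ => by
      rw [LinearMap.rTensor_tmul, LinearMap.lTensor_tmul, p.1.2.2, TensorProduct.tmul_zero]
    simp only [δ, map_sub, map_sum, map_zero] at h'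
    rw [Finset.sum_eq_zero hzero', zero_sub, neg_eq_zero, LinearMap.rTensor_tmul,
      LinearMap.lTensor_tmul, hg, AlgHom.toLinearMap_apply, map_one] at h'
    exact h'
  induction S using Finset.induction_on with
  | empty => exact ⟨Classical.arbitrary J, by simp⟩
  | insert m S hm ih =>
    obtain ⟨j, hj⟩ := ih fun x hx => hS x (Finset.mem_insert_of_mem hx)
    obtain ⟨j', hj'⟩ := hone m (hS m (Finset.mem_insert_self _ _))
    obtain ⟨k, τ, τ', -, -⟩ := hdir j j'
    refine ⟨k, fun x hx => ?_⟩
    rcases Finset.mem_insert.mp hx with rfl | hx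
    · exact hmono τ' _ hj'
    · exact hmono τ _ (hj x hx)

end Algebra

section Scheme

/-- The stalk map of `f` read between given points. -/
noncomputable def stalkTo {X Y : Scheme.{u}} (f : X ⟶ Y) (x : X) (y : Y) (h : f x = y) :
    Y.presheaf.stalk y →+* X.presheaf.stalk x :=
  (f.stalkMap x).hom.comp (Y.presheaf.stalkCongr (.of_eq h)).inv.hom

theorem stalkTo_self {X Y : Scheme.{u}} (f : X ⟶ Y) (x : X) :
    stalkTo f x (f x) rfl = (f.stalkMap x).hom := by
  ext a
  simp [stalkTo]

theorem stalkTo_comp {X Y Z : Scheme.{u}} (f : X ⟶ Y) (g : Y ⟶ Z) (e : X ⟶ Z) (he : f ≫ g = e)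
    (x : X) (y : Y) (z : Z) (h1 : f x = y) (h2 : g y = z) (h3 : e x = z) (a : Z.presheaf.stalk z) :
    stalkTo f x y h1 (stalkTo g y z h2 a) = stalkTo e x z h3 a := by
  subst he h1 h2
  rw [stalkTo_self, stalkTo_self]
  erw [stalkTo_self]
  rw [Scheme.Hom.stalkMap_comp]
  rfl

theorem stalk_map_eq_zero_iff {X Y : Scheme.{u}} (r : Y ⟶ X) {F G : X.Modules} (v : F ⟶ G) (y : Y)
    (x : X) (h : r y = x) :
    letI := (stalkTo r y x h).toAlgebra
    (∀ s, (stalk y).map ((Scheme.Modules.pullback r).map v) s = 0) ↔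
      ∀ t : F.presheaf.stalk x, (1 : Y.presheaf.stalk y) ⊗ₜ[X.presheaf.stalk x] stalkLin v x t = 0 := by
  subst h
  have e : (stalkTo r y (r y) rfl).toAlgebra = stalkAlg r y := by
    rw [stalkTo_self]
  rw [e]
  letI := stalkAlg r y
  rw [stalk_map_pullback]
  simp only [Function.comp_apply]
  constructor
  · intro hz t
    have := hz (pullStalkEquiv r F y (1 ⊗ₜ t))
    rw [LinearEquiv.symm_apply_apply] at this
    exact (LinearEquiv.map_eq_zero_iff _).mp this
  · intro hz s
    refine (LinearEquiv.map_eq_zero_iff (pullStalkEquiv r G y)).mpr ?_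
    generalize (pullStalkEquiv r F y).symm s = w
    induction w using TensorProduct.induction_on with
    | zero => exact map_zero _
    | add a b ha hb => rw [map_add, ha, hb, add_zero]
    | tmul b t =>
      rw [LinearMap.lTensor_tmul, show b = b • (1 : Y.presheaf.stalk y) by rw [smul_eq_mul, mul_one],
        ← TensorProduct.smul_tmul', hz, smul_zero]

theorem isClosed_stalk_ne_zero {X : Scheme.{u}} {F G : X.Modules} [F.IsQuasicoherent] [G.IsQuasicoherent]
    (v : F ⟶ G) (hF : CohB1.IsFT F) : IsClosed {x | ∃ s, (stalk x).map v s ≠ 0} := by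
  have hI : CohB1.IsFT (Abelian.image v) := isFT_of_epi (Abelian.factorThruImage v) hF
  haveI : (Abelian.image v).IsQuasicoherent := isQCoh_kernel _
  convert Groth.Ega43FP2.isClosed_support (Abelian.image v) hI using 1
  ext x
  haveI : Mono ((stalk x).map (Abelian.image.ι v)) := inferInstance
  have hfac : (stalk x).map v =
      (stalk x).map (Abelian.factorThruImage v) ≫ (stalk x).map (Abelian.image.ι v) := by
    rw [← Functor.map_comp, Abelian.image.fac]
  constructor
  · rintro ⟨s, hs⟩ hsub
    apply hs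
    rw [hfac, ConcreteCategory.comp_apply]
    exact (congrArg _ (@Subsingleton.elim _ hsub _ 0)).trans (map_zero _)
  · intro hns
    by_contra hc
    replace hc : ∀ s, (stalk x).map v s = 0 := fun s => by_contra fun hs => hc ⟨s, hs⟩
    refine hns ⟨fun a b => ?_⟩
    have hinj := (AddCommGrpCat.mono_iff_injective ((stalk x).map (Abelian.image.ι v))).mp inferInstance
    obtain ⟨a, rfl⟩ := (epi_iff_stalk (Abelian.factorThruImage v)).mp inferInstance x a
    obtain ⟨b, rfl⟩ := (epi_iff_stalk (Abelian.factorThruImage v)).mp inferInstance x b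
    apply hinj
    rw [← ConcreteCategory.comp_apply, ← ConcreteCategory.comp_apply, ← hfac, hc, hc]

variable {I : Type u} [SmallCategory I] [IsCofiltered I] (D : I ⥤ Scheme.{u})
  [∀ (i j : I) (φ : i ⟶ j), IsAffineHom (D.map φ)] [∀ i, CompactSpace (D.obj i)] (c : Cone D)
  (hc : IsLimit c)

include hc in
/-- A map with source of finite type that vanishes on the limit vanishes at a stage. -/
theorem exists_stage_map_eq_zero {i : I} {F G : (D.obj i).Modules} [F.IsQuasicoherent]
    [G.IsQuasicoherent] (hF : CohB1.IsFT F) (v : F ⟶ G)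
    (h : (Scheme.Modules.pullback (c.π.app i)).map v = 0) :
    ∃ (j : I) (φ : j ⟶ i), (Scheme.Modules.pullback (D.map φ)).map v = 0 := by
  classical
  let Z : ∀ k : Over i, Set (D.obj k.left) := fun k =>
    {y | ∃ s, (stalk y).map ((Scheme.Modules.pullback (D.map k.hom)).map v) s ≠ 0}
  have hZ : ∀ k, IsClosed (Z k) := fun k =>
    isClosed_stalk_ne_zero _ (isFT_pullback (D.map k.hom) F hF)
  -- every point of the limit leaves the bad locus at some stage
  have hcov : ∀ z : c.pt, ∃ k : Over i, c.π.app k.left z ∉ Z k := by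
    intro z
    let x := c.π.app i z
    letI algB : Algebra ((D.obj i).presheaf.stalk x) (c.pt.presheaf.stalk z) :=
      (stalkTo (c.π.app i) z x rfl).toAlgebra
    let Bj := fun k : Over i => (D.obj k.left).presheaf.stalk (c.π.app k.left z)
    have hx : ∀ k : Over i, D.map k.hom (c.π.app k.left z) = x := fun k =>
      Groth.Limits.π_map_apply D c k.hom z
    letI algj : ∀ k, Algebra ((D.obj i).presheaf.stalk x) (Bj k) := fun k =>
      (stalkTo (D.map k.hom) _ x (hx k)).toAlgebra
    let ρ : ∀ k : Over i, Bj k →ₐ[(D.obj i).presheaf.stalk x] c.pt.presheaf.stalk z := fun k =>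
      { stalkTo (c.π.app k.left) z _ rfl with
        commutes' := fun a => stalkTo_comp _ _ (c.π.app i) (c.w k.hom) z _ x rfl (hx k) rfl a }
    have hρ : ∀ (k : Over i) (b : Bj k), ρ k b = (c.π.app k.left).stalkMap z b := fun k b =>
      congr($(stalkTo_self (c.π.app k.left) z) b)
    let τ : ∀ {k l : Over i} (m : l ⟶ k), Bj k →ₐ[(D.obj i).presheaf.stalk x] Bj l := fun {k l} m =>
      { stalkTo (D.map m.left) _ _ (Groth.Limits.π_map_apply D c m.left z) with
        commutes' := fun a => stalkTo_comp _ _ (D.map l.hom) (by rw [← D.map_comp, Over.w m]) _ _ x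
          (Groth.Limits.π_map_apply D c m.left z) (hx k) (hx l) a }
    have hτ : ∀ {k l : Over i} (m : l ⟶ k), (ρ l).comp (τ m) = ρ k := by
      intro k l m
      refine AlgHom.ext fun b => ?_
      exact stalkTo_comp _ _ (c.π.app k.left) (c.w m.left) z _ _ rfl
        (Groth.Limits.π_map_apply D c m.left z) rfl b
    haveI : Nonempty (Over i) := ⟨Over.mk (𝟙 i)⟩
    obtain ⟨S, hS⟩ := (Groth.QCohMod.finite_stalk F hF x).fg_top
    have hzero : ∀ m ∈ S.image (stalkLin v x),
        (1 : c.pt.presheaf.stalk z) ⊗ₜ[(D.obj i).presheaf.stalk x] m = 0 := by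
      intro m hm
      obtain ⟨t, -, rfl⟩ := Finset.mem_image.mp hm
      refine (stalk_map_eq_zero_iff (c.π.app i) v z x rfl).mp (fun s => ?_) t
      rw [h, Functor.map_zero]
      rfl
    obtain ⟨k, hk⟩ := exists_stage_tmul_eq_zero (fun k => (Bj k : Type u)) ρ
      (fun k k' => ⟨_, τ (IsCofiltered.minToLeft k k'), τ (IsCofiltered.minToRight k k'), hτ _, hτ _⟩)
      (fun b => by
        obtain ⟨j, φ, b', hb'⟩ := Groth.Limits.exists_stalkMap_eq D c hc i z b
        exact ⟨Over.mk φ, b', (hρ (Over.mk φ) b').trans hb'⟩)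
      (fun k b hb => by
        obtain ⟨j, φ, hj⟩ := Groth.Limits.exists_stalkMap_eq_zero D c hc z b ((hρ k b).symm.trans hb)
        refine ⟨Over.mk (φ ≫ k.hom), τ (Over.homMk φ rfl), hτ _, ?_⟩
        refine Eq.trans ?_ hj
        rfl)
      (S.image (stalkLin v x)) hzero
    refine ⟨k, fun ⟨s, hs⟩ => hs ?_⟩
    refine (stalk_map_eq_zero_iff (D.map k.hom) v _ x (hx k)).mpr (fun t => ?_) s
    have ht : t ∈ Submodule.span ((D.obj i).presheaf.stalk x) (S : Set (F.presheaf.stalk x)) := by
      rw [hS]; trivial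
    induction ht using Submodule.span_induction with
    | mem t ht => exact hk _ (Finset.mem_image_of_mem _ ht)
    | zero => rw [map_zero, TensorProduct.tmul_zero]
    | add a b _ _ ha hb => rw [map_add, TensorProduct.tmul_add, ha, hb, add_zero]
    | smul r a _ ha => rw [map_smul, TensorProduct.tmul_smul, ha, smul_zero]
  -- monotonicity
  have hmono : ∀ {k l : Over i} (m : l ⟶ k) (y : D.obj l.left), D.map m.left y ∉ Z k → y ∉ Z l := by
    intro k l m y hy hy'
    obtain ⟨s, hs⟩ := hy'
    apply hs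
    letI : Algebra ((D.obj i).presheaf.stalk (D.map k.hom (D.map m.left y)))
        ((D.obj l.left).presheaf.stalk y) :=
      (stalkTo (D.map l.hom) y _ (by rw [← Scheme.Hom.comp_apply, ← D.map_comp, Over.w m])).toAlgebra
    letI : Algebra ((D.obj i).presheaf.stalk (D.map k.hom (D.map m.left y)))
        ((D.obj k.left).presheaf.stalk (D.map m.left y)) :=
      (stalkTo (D.map k.hom) _ _ rfl).toAlgebra
    refine (stalk_map_eq_zero_iff (D.map l.hom) v y (D.map k.hom (D.map m.left y))
      (by rw [← Scheme.Hom.comp_apply, ← D.map_comp, Over.w m])).mpr (fun t => ?_) s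
    have h1 := (stalk_map_eq_zero_iff (D.map k.hom) v (D.map m.left y) _ rfl).mp
      (fun s => by by_contra hc'; exact hy ⟨s, hc'⟩) t
    let σ : (D.obj k.left).presheaf.stalk (D.map m.left y) →ₐ[(D.obj i).presheaf.stalk (D.map k.hom (D.map m.left y))]
        (D.obj l.left).presheaf.stalk y :=
      { stalkTo (D.map m.left) y _ rfl with
        commutes' := fun a => stalkTo_comp _ _ (D.map l.hom) (by rw [← D.map_comp, Over.w m]) _ _ _
          rfl rfl (by rw [← Scheme.Hom.comp_apply, ← D.map_comp, Over.w m]) a }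
    have h2 := congrArg (LinearMap.rTensor _ σ.toLinearMap) h1
    rwa [map_zero, LinearMap.rTensor_tmul, AlgHom.toLinearMap_apply, map_one] at h2
  -- compactness
  have : CompactSpace c.pt := Groth.Limits.compactSpace_pt D c hc (i := i)
  choose k hk using hcov
  obtain ⟨t, ht⟩ := isCompact_univ.elim_finite_subcover
    (fun z : c.pt => {w : c.pt | c.π.app (k z).left w ∉ Z (k z)})
    (fun z => (hZ (k z)).isOpen_compl.preimage (c.π.app (k z).left).continuous)
    (fun z _ => Set.mem_iUnion.mpr ⟨z, hk z⟩)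
  obtain ⟨l, hl⟩ := IsCofiltered.inf_objs_exists (t.image k)
  have hempty : ⇑(c.π.app l.left) ⁻¹' Z l = ∅ := by
    refine Set.eq_empty_of_forall_notMem fun z hz => ?_
    obtain ⟨z', hz', hzz'⟩ := Set.mem_iUnion₂.mp (ht (Set.mem_univ z))
    obtain ⟨m⟩ := hl (Finset.mem_image_of_mem k hz')
    refine hmono m _ ?_ hz
    rw [Groth.Limits.π_map_apply D c m.left z]
    exact hzz'
  obtain ⟨j, φ, hj⟩ := Groth.Limits.exists_preimage_eq_empty D c hc
    ((Groth.Limits.pc_of_isClosed (hZ l)).qcImage) hempty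
  refine ⟨j, φ ≫ l.hom, eq_zero_of_stalk _ fun y s => ?_⟩
  by_contra hs
  exact Set.eq_empty_iff_forall_notMem.mp hj y
    (by_contra fun hy => hmono (k := l) (l := Over.mk (φ ≫ l.hom)) (Over.homMk φ rfl) y hy ⟨s, hs⟩)

/-- The kernel of an epimorphism from a module of finite type to one of finite presentation. -/
theorem isFT_kernel_of_epi {X : Scheme.{u}} {F G : X.Modules} [F.IsQuasicoherent] [G.IsQuasicoherent]
    (u : F ⟶ G) [Epi u] (hF : CohB1.IsFT F) (hG : CohB1.IsFP G) : CohB1.IsFT (kernel u) := by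
  refine isFT_of_affine_cover _ fun x => ?_
  obtain ⟨A, hA, hxA⟩ := exists_affine_mem x
  haveI := finite_sections F hF hA
  haveI := Groth.PropsBasic.FPSections.finitePresentation_sections G hG hA
  exact ⟨A, hA, hxA, finite_kernel_sections u (app_surjective_of_epi u hA)⟩

end Scheme

end Groth.Flatmor4
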