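import Mathlib.AlgebraicGeometry.Cover.QuasiCompact
import Mathlib.AlgebraicGeometry.Morphisms.Flat
import Mathlib.AlgebraicGeometry.Morphisms.QuasiSeparated

universe u
open CategoryTheory Limits AlgebraicGeometry TopologicalSpace

namespace Groth.Flatmor4

variable {X Y : Scheme.{u}} (f : X ⟶ Y)

lemma exists_compact_image [QuasiCompactCover (PreZeroHypercover.singleton f)] (V : Y.Opens)
    (hV : IsCompact (V : Set Y)) :
    ∃ U : X.Opens, IsCompact (U : Set X) ∧ f.base '' (U : Set X) = (V : Set Y) := by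
  obtain ⟨s, hs, W, hW, heq⟩ := QuasiCompactCover.isCompactOpenCovered_of_isCompact
    (PreZeroHypercover.singleton f) hV
  by_cases h : PUnit.unit ∈ s
  · refine ⟨W PUnit.unit h, hW _ h, ?_⟩
    rw [← heq]
    ext y
    simp only [Set.mem_iUnion]
    exact ⟨fun hy => ⟨PUnit.unit, h, hy⟩, fun ⟨⟨⟩, _, hy⟩ => hy⟩
  · refine ⟨⊥, by simp, ?_⟩
    rw [← heq]
    ext y
    simp only [Opens.coe_bot, Set.image_empty, Set.mem_empty_iff_false, Set.mem_iUnion, false_iff]
    rintro ⟨⟨⟩, h', -⟩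
    exact h h'

lemma quasiCompact_resLE (U : X.Opens) (hU : IsCompact (U : Set X)) (V : Y.Opens)
    (hV : IsQuasiSeparated (V : Set Y)) (h : U ≤ f ⁻¹ᵁ V) : QuasiCompact (f.resLE V U h) := by
  haveI : CompactSpace (U : Scheme.{u}) := isCompact_iff_compactSpace.mp hU
  haveI : QuasiSeparatedSpace (V : Scheme.{u}) :=
    (isQuasiSeparated_iff_quasiSeparatedSpace _ V.isOpen).mp hV
  exact quasiCompact_of_compactSpace _

theorem isQuotientMap_of_qcCover [Flat f] [Surjective f]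
    [QuasiCompactCover (PreZeroHypercover.singleton f)] : Topology.IsQuotientMap f := by
  rw [Topology.isQuotientMap_iff]
  refine ⟨.of_isOpen_preimage_iff_isOpen fun s ↦
    ⟨fun hs ↦ ?_, fun hs ↦ hs.preimage f.continuous⟩, f.surjective⟩
  rw [isOpen_iff_forall_mem_open]
  intro y hy
  obtain ⟨V, hV, hyV, -⟩ := exists_isAffineOpen_mem_and_subset (x := y) (U := ⊤) trivial
  obtain ⟨U, hU, hUV⟩ := exists_compact_image f V hV.isCompact
  have hle : U ≤ f ⁻¹ᵁ V := fun x hx => hUV.le ⟨x, hx, rfl⟩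
  haveI := quasiCompact_resLE f U hU V hV.isQuasiSeparated hle
  haveI : Flat (f.resLE V U hle) := inferInstance
  haveI : Surjective (f.resLE V U hle) := ⟨fun v => by
    obtain ⟨x, hx, hxv⟩ := hUV.ge v.2
    refine ⟨⟨x, hx⟩, V.ι.isOpenEmbedding.injective ?_⟩
    rw [← Scheme.Hom.comp_apply, Scheme.Hom.resLE_comp_ι]
    exact hxv⟩
  have ho : IsOpen (V.ι ⁻¹' s) := by
    rw [← (Flat.isQuotientMap_of_surjective (f.resLE V U hle)).isOpen_preimage,
      ← Set.preimage_comp, ← TopCat.coe_comp, ← Scheme.Hom.comp_base, Scheme.Hom.resLE_comp_ι,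
      Scheme.Hom.comp_base, TopCat.coe_comp, Set.preimage_comp]
    exact hs.preimage U.ι.continuous
  exact ⟨V.ι '' (V.ι ⁻¹' s), Set.image_preimage_subset _ _, V.ι.isOpenEmbedding.isOpenMap _ ho,
    ⟨⟨y, hyV⟩, hy, rfl⟩⟩

theorem qcCover_tfae [Surjective f] :
    [QuasiCompactCover (PreZeroHypercover.singleton f),
      ∀ V : Y.Opens, IsCompact (V : Set Y) →
        ∃ U : X.Opens, IsCompact (U : Set X) ∧ f.base '' (U : Set X) = (V : Set Y),
      ∀ x : X, ∃ (U : X.Opens) (V : Y.Opens) (h : U ≤ f ⁻¹ᵁ V),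
        x ∈ U ∧ f.base '' (U : Set X) = (V : Set Y) ∧ QuasiCompact (f.resLE V U h),
      ∀ x : X, ∃ (U : X.Opens) (V : Y.Opens),
        x ∈ U ∧ IsCompact (U : Set X) ∧ IsAffineOpen V ∧ f.base '' (U : Set X) = (V : Set Y),
      ∃ (κ : Type u) (V : κ → Y.Opens), (∀ k, IsAffineOpen (V k)) ∧ (⨆ k, V k) = ⊤ ∧
        ∀ k, ∃ U : X.Opens, IsCompact (U : Set X) ∧ f.base '' (U : Set X) = (V k : Set Y)].TFAE := by
  tfae_have 1 → 2 := fun _ V hV => exists_compact_image f V hV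
  tfae_have 2 → 4 := by
    intro h x
    obtain ⟨V, hV, hxV, -⟩ := exists_isAffineOpen_mem_and_subset (x := f x) (U := ⊤) trivial
    obtain ⟨U, hU, hUV⟩ := h V hV.isCompact
    obtain ⟨W, hW, hxW, hWV⟩ := exists_isAffineOpen_mem_and_subset (x := x) (U := f ⁻¹ᵁ V) hxV
    refine ⟨U ⊔ W, V, Or.inr hxW, by simpa using hU.union hW.isCompact, hV, ?_⟩
    rw [TopologicalSpace.Opens.coe_sup, Set.image_union, hUV]
    exact Set.union_eq_left.mpr (Set.image_subset_iff.mpr hWV)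
  tfae_have 4 → 3 := by
    intro h x
    obtain ⟨U, V, hxU, hU, hV, hUV⟩ := h x
    have hle : U ≤ f ⁻¹ᵁ V := fun z hz => hUV.le ⟨z, hz, rfl⟩
    exact ⟨U, V, hle, hxU, hUV, quasiCompact_resLE f U hU V hV.isQuasiSeparated hle⟩
  tfae_have 3 → 5 := by
    intro h
    refine ⟨{W : Y.Opens // IsAffineOpen W ∧ ∃ U : X.Opens, IsCompact (U : Set X) ∧
      f.base '' (U : Set X) = (W : Set Y)}, fun W => W.1, fun W => W.2.1, ?_, fun W => W.2.2⟩
    refine eq_top_iff.mpr fun y _ => Opens.mem_iSup.mpr ?_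
    obtain ⟨x, rfl⟩ := f.surjective y
    obtain ⟨U, V, hle, hxU, hUV, hqc⟩ := h x
    obtain ⟨W, hW, hxW, hWV⟩ := exists_isAffineOpen_mem_and_subset (x := f x) (U := V) (hle hxU)
    refine ⟨⟨W, hW, U ⊓ f ⁻¹ᵁ W, ?_, ?_⟩, hxW⟩
    · have hc : IsCompact ((V.ι ⁻¹ᵁ W : (V : Scheme.{u}).Opens) : Set (V : Scheme.{u})) := by
        rw [V.ι.isOpenEmbedding.isEmbedding.isCompact_iff]
        convert hW.isCompact using 1
        exact Set.image_preimage_eq_of_subset (by simpa using hWV)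
      have := (QuasiCompact.isCompact_preimage (f := f.resLE V U hle) _
        (V.ι ⁻¹ᵁ W).isOpen hc).image U.ι.continuous
      convert this using 1
      ext z
      constructor
      · rintro ⟨hzU, hzW⟩
        refine ⟨⟨z, hzU⟩, ?_, rfl⟩
        show V.ι (f.resLE V U hle ⟨z, hzU⟩) ∈ W
        rw [← Scheme.Hom.comp_apply, Scheme.Hom.resLE_comp_ι]
        exact hzW
      · rintro ⟨w, hw, rfl⟩
        refine ⟨w.2, ?_⟩
        have hw' : V.ι (f.resLE V U hle w) ∈ W := hw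
        rw [← Scheme.Hom.comp_apply, Scheme.Hom.resLE_comp_ι] at hw'
        exact hw'
    · rw [Opens.coe_inf, Opens.map_coe, Set.image_inter_preimage, hUV]
      exact Set.inter_eq_right.mpr hWV
  tfae_have 5 → 1 := by
    rintro ⟨κ, V, hV, hVtop, hU⟩
    refine ⟨fun {W} hW => .of_isCompact_of_forall_exists_isCompactOpenCovered hW.isCompact
      fun y hy => ?_⟩
    obtain ⟨k, hk⟩ := Opens.mem_iSup.mp (hVtop ▸ trivial : y ∈ ⨆ k, V k)
    obtain ⟨g, hgle, hyg⟩ := (hV k).exists_basicOpen_le (V := W) ⟨y, hy⟩ hk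
    obtain ⟨U, hUc, hUV⟩ := hU k
    have hle : U ≤ f ⁻¹ᵁ V k := fun z hz => hUV.le ⟨z, hz, rfl⟩
    refine ⟨Y.basicOpen g, hgle, hyg, (Y.basicOpen g).isOpen, {PUnit.unit}, Set.finite_singleton _,
      fun _ _ => X.basicOpen (f.appLE (V k) U hle g), fun _ _ => ?_, ?_⟩
    · exact isCompact_basicOpen X hUc _
    · ext y'
      simp only [Set.mem_iUnion, Set.mem_singleton_iff]
      rw [Scheme.basicOpen_appLE]
      constructor
      · rintro ⟨_, _, z, hz, rfl⟩
        exact hz.2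
      · intro hy'
        obtain ⟨z, hzU, rfl⟩ := hUV.ge (Y.basicOpen_le g hy')
        exact ⟨PUnit.unit, rfl, z, ⟨hzU, hy'⟩, rfl⟩
  tfae_finish

end Groth.Flatmor4
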