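import Groth.Agent.Flatmor4.FlatWeakAss
import Groth.Agent.PropsBasic2.StalkFlat
import Mathlib.RingTheory.Flat.FaithfullyFlat.Algebra

/-! Schematic density of the generic fibre of a flat morphism over an integral scheme. -/

universe u

open AlgebraicGeometry CategoryTheory

namespace Groth.Flatmor4

open Groth.Divisors

variable {X Y : Scheme.{u}}

/-- The weakly associated points of a flat scheme over a scheme with domain stalks lie over points
whose stalk is a field. -/
theorem isField_stalk_of_weakAss_of_flat (f : X ⟶ Y) [Flat f] (z : X)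
    [IsDomain (Y.presheaf.stalk (f z))]
    (hz : Curv2.IsWeakAssPoint (Coh.structureModule X) z) : IsField (Y.presheaf.stalk (f z)) := by
  letI := (f.stalkMap z).hom.toAlgebra
  have : Module.Flat (Y.presheaf.stalk (f z)) (X.presheaf.stalk z) := Flat.stalkMap f z
  obtain ⟨b, h1, h2⟩ := (isAssociatedPrime_stalk_iff z).1 ((weakAss_structure_iff_stalk z).1 hz)
  by_contra hnf
  obtain ⟨a, ha0, hau⟩ : ∃ a : Y.presheaf.stalk (f z), a ≠ 0 ∧ ¬ IsUnit a := by
    by_contra! hcon
    exact hnf ⟨exists_pair_ne _, mul_comm, fun {a} ha => (hcon a ha).exists_right_inv⟩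
  obtain ⟨n, hn⟩ := h2 (f.stalkMap z a) (fun hu => hau (IsLocalHom.map_nonunit _ hu))
  have := Module.Flat.isSMulRegular_of_isRegular (M := X.presheaf.stalk z)
    (IsRegular.of_ne_zero (pow_ne_zero n ha0))
  have hb : b = 0 := this (by
    show a ^ n • b = a ^ n • (0 : X.presheaf.stalk z)
    rw [smul_zero, Algebra.smul_def, map_pow]
    exact hn)
  exact h1 1 (by rw [hb, mul_zero]) isUnit_one

/-- A point of an integral scheme with field stalk is the generic point. -/
theorem eq_genericPoint_of_isField [IsIntegral Y] {y : Y} (hF : IsField (Y.presheaf.stalk y)) :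
    y = genericPoint Y := by
  have hs : genericPoint Y ∈ Set.range (Y.fromSpecStalk y) := by
    rw [Scheme.range_fromSpecStalk]
    exact (genericPoint_spec Y).specializes (Set.mem_univ y)
  obtain ⟨q, hq⟩ := hs
  have hm := IsLocalRing.isField_iff_maximalIdeal_eq.1 hF
  have : q = IsLocalRing.closedPoint (Y.presheaf.stalk y) := PrimeSpectrum.ext
    ((eq_bot_iff.2 (hm ▸ IsLocalRing.le_maximalIdeal q.2.ne_top)).trans hm.symm)
  rw [← hq, this]
  exact Scheme.fromSpecStalk_closedPoint.symm

/-- A flat morphism containing the generic fibre in its range is schematically dominant. -/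
theorem app_injective_of_generic_mem_range {T P Q : Scheme.{u}} [IsIntegral T] (p : P ⟶ T) [Flat p]
    (q : Q ⟶ P) [Flat q] (hr : ∀ z : P, p z = genericPoint T → z ∈ Set.range q) (U : P.Opens) :
    Function.Injective (q.app U) := by
  refine (injective_iff_map_eq_zero (q.app U).hom).2 fun s hs => ?_
  refine eq_zero_of_germ_weakAss_structure s fun z hz hwa => ?_
  obtain ⟨w, rfl⟩ := hr z (eq_genericPoint_of_isField (isField_stalk_of_weakAss_of_flat p z hwa))
  letI := (q.stalkMap w).hom.toAlgebra
  have : Module.Flat (P.presheaf.stalk (q w)) (Q.presheaf.stalk w) := Flat.stalkMap q w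
  haveI : IsLocalHom (algebraMap (P.presheaf.stalk (q w)) (Q.presheaf.stalk w)) :=
    inferInstanceAs (IsLocalHom (q.stalkMap w).hom)
  haveI : Module.FaithfullyFlat (P.presheaf.stalk (q w)) (Q.presheaf.stalk w) :=
    Module.FaithfullyFlat.of_flat_of_isLocalHom
  refine FaithfulSMul.algebraMap_injective (P.presheaf.stalk (q w)) (Q.presheaf.stalk w) ?_
  rw [map_zero]
  show q.stalkMap w (P.presheaf.germ U (q w) hz s) = 0
  rw [Scheme.Hom.germ_stalkMap_apply]
  show Q.presheaf.germ _ w hz ((q.app U).hom s) = 0
  rw [hs, map_zero]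

/-- The projection from the generic fibre is flat and hits the fibre over the generic point. -/
theorem mem_range_pullback_fst_fromSpecStalk {T P : Scheme.{u}} (p : P ⟶ T) (t : T) (z : P)
    (hz : p z = t) : z ∈ Set.range (Limits.pullback.fst p (T.fromSpecStalk t)) := by
  rw [Scheme.Pullback.range_fst, Set.mem_preimage, Scheme.range_fromSpecStalk]
  exact hz ▸ specializes_rfl

end Groth.Flatmor4
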