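import Groth.Agent.Flatmor4.FlatDim
import Groth.Agent.Flatmor4.CMComp
import Groth.Agent.Calg1.MiracleFlatness

/-!
Miracle flatness for schemes of finite type over a field.
-/

set_option autoImplicit false
set_option linter.style.haveILetI false

universe u

open CategoryTheory CategoryTheory.Limits AlgebraicGeometry IsLocalRing

namespace Groth.Flatmor4

variable {k : Type u} [Field k] {X Y : Scheme.{u}}

theorem height_add_dim_stalk_of_equidim (q : X ⟶ Spec (CommRingCat.of k)) [LocallyOfFiniteType q]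
    {e : ℕ} (he : ∀ η : X, IsMax η → Order.height η = e) (x : X) :
    ((Order.height x : ℕ∞) : WithBot ℕ∞) + ringKrullDim (X.presheaf.stalk x) = (e : WithBot ℕ∞) := by
  letI : X.Over (Spec (CommRingCat.of k)) := ⟨q⟩
  haveI : LocallyOfFiniteType (X ↘ Spec (CommRingCat.of k)) := ‹LocallyOfFiniteType q›
  rw [← VarietyBC.localDim_eq_height_add k x]
  obtain ⟨η, hη, hd⟩ := FibreDim.exists_height_eq_localDim (k := k) q x
  obtain ⟨η', hη', hsp⟩ := FibreDim.exists_max_specializes η
  refine le_antisymm ?_ ?_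
  · rw [← hd]
    have h : Order.height η ≤ e := he η' hη' ▸ Order.height_mono (show η ≤ η' from hsp)
    exact (WithBot.coe_le_coe.mpr h)
  · refine le_trans (le_of_eq ?_) ((FibreDim.height_le_localDim (k := k) q η').trans (le_iInf fun U =>
      SpectralTopology.localDim_le_of_mem ((hsp.trans hη).mem_open U.1.isOpen U.2)))
    rw [he η' hη']
    norm_cast

theorem fibreDimAt_eq_of_component_dims (f : X ⟶ Y) [LocallyOfFiniteType f] {n : ℕ}
    (hfib : ∀ y : Y, ∀ Z ∈ irreducibleComponents (f.base ⁻¹' {y}), topologicalKrullDim Z = (n : WithBot ℕ∞))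
    (x : X) : FlatMor.fibreDimAt f x = n := by
  refine fibreDimAt_eq_of_forall f ?_ x
  intro z hz
  refine WithBot.coe_injective ((forall_fibre_component_dim_iff f (fun d => d = (n : WithBot ℕ∞))).mp
    (fun y Z hZ => ?_) z hz)
  let φ := f.fiberHomeo y
  have hZ' : φ '' Z ∈ irreducibleComponents (f.base ⁻¹' {y}) := by
    refine ⟨hZ.1.image _ φ.continuous.continuousOn, fun T hT hsub => ?_⟩
    have h1 : Z ⊆ φ ⁻¹' T := fun a ha => hsub ⟨a, ha, rfl⟩
    have h2 : IsIrreducible (φ ⁻¹' T) := by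
      rw [← φ.image_symm]
      exact hT.image _ φ.symm.continuous.continuousOn
    intro t ht
    exact ⟨φ.symm t, hZ.2 h2 h1 (by simpa using ht), φ.apply_symm_apply t⟩
  rw [← hfib y _ hZ']
  exact (φ.isEmbedding.homeomorphImage Z).isHomeomorph.topologicalKrullDim_eq

theorem flat_of_equidim_of_regular (qY : Y ⟶ Spec (CommRingCat.of k)) [LocallyOfFiniteType qY]
    (f : X ⟶ Y) [LocallyOfFiniteType f] (hY : ∀ y : Y, IsRegularLocalRing (Y.presheaf.stalk y))
    (hX : ∀ x : X, LocCoh.IsCohenMacaulayLocalRing (X.presheaf.stalk x)) {e d n : ℕ} (hn : e = d + n)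
    (hXe : ∀ η : X, IsMax η → Order.height η = e) (hYd : ∀ η : Y, IsMax η → Order.height η = d)
    (hfib : ∀ x : X, FlatMor.fibreDimAt f x = n) : Flat f := by
  refine Flat.of_stalkMap f fun x => ?_
  letI := (f.stalkMap x).hom.toAlgebra
  haveI : IsLocalHom (algebraMap (Y.presheaf.stalk (f x)) (X.presheaf.stalk x)) :=
    inferInstanceAs (IsLocalHom (f.stalkMap x).hom)
  haveI := hY (f x)
  haveI := hX x
  refine Calg1.flat_of_isRegularLocalRing_of_isCohenMacaulay (Y.presheaf.stalk (f x))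
    (X.presheaf.stalk x) ?_
  obtain ⟨E⟩ := exists_fiberStalkEquiv f x
  rw [show (maximalIdeal (Y.presheaf.stalk (f x))).map (algebraMap (Y.presheaf.stalk (f x))
      (X.presheaf.stalk x)) = (maximalIdeal (Y.presheaf.stalk (f x))).map (f.stalkMap x).hom from rfl,
    ringKrullDim_eq_of_ringEquiv E]
  have h1 := height_add_dim_stalk_of_equidim (f ≫ qY) hXe x
  have h2 := height_add_dim_stalk_of_equidim qY hYd (f x)
  have h3 := FibreDim.fibreDimAt_eq_height_add f x
  rw [hfib x] at h3
  obtain ⟨t, c, ht, -, hc, -⟩ := FibreDim.exists_fibre_quantities f x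
  obtain ⟨b, -, hb⟩ := Variety2.Dim.exists_trdegAt_eq_height qY (f x)
  rw [height_eq_height_add qY f x, ht, hb] at h1
  rw [hb] at h2
  rw [ht, hc] at h3
  obtain ⟨A, hA⟩ := exists_ringKrullDim_eq_natCast' (X.presheaf.stalk x)
  obtain ⟨B, hB⟩ := exists_ringKrullDim_eq_natCast' (Y.presheaf.stalk (f x))
  rw [hA] at h1 ⊢
  rw [hB] at h2 ⊢
  rw [hc]
  norm_cast at h1 h2 h3 ⊢
  omega

end Groth.Flatmor4
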