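import Mathlib
import Groth.Prelude.Def_FlatCA
import Groth.Agent.FibreDim.FieldExt
import Groth.Agent.Calg5.RelGCI

/-!
Base change of fibres, supports and dévissages.
-/

set_option autoImplicit false
set_option linter.style.haveILetI false

universe u

open TensorProduct CategoryTheory AlgebraicGeometry

namespace Groth.Flatmor4

/-- The support of a base change of a finite module is the preimage of the support. -/
theorem mem_support_isBaseChange {A A' M M' : Type u} [CommRing A] [CommRing A'] [Algebra A A']
    [AddCommGroup M] [Module A M] [Module.Finite A M] [AddCommGroup M'] [Module A M'] [Module A' M']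
    [IsScalarTower A A' M'] {φ : M →ₗ[A] M'} (hφ : IsBaseChange A' φ) (Q : PrimeSpectrum A') :
    Q ∈ Module.support A' M' ↔ PrimeSpectrum.comap (algebraMap A A') Q ∈ Module.support A M := by
  haveI : Module.Finite A' M' := Module.Finite.equiv hφ.equiv
  rw [Module.mem_support_iff_nontrivial_residueField_tensorProduct,
    Module.mem_support_iff_nontrivial_residueField_tensorProduct]
  let q : Ideal A := Q.asIdeal.under A
  haveI : Q.asIdeal.LiesOver q := ⟨rfl⟩
  show Nontrivial (Q.asIdeal.ResidueField ⊗[A'] M') ↔ Nontrivial (q.ResidueField ⊗[A] M)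
  letI : Algebra q.ResidueField Q.asIdeal.ResidueField :=
    (Ideal.ResidueField.mapₐ q Q.asIdeal (Algebra.ofId A A') rfl).toRingHom.toAlgebra
  haveI : IsScalarTower A q.ResidueField Q.asIdeal.ResidueField :=
    .of_algebraMap_eq fun x => ((Ideal.ResidueField.mapₐ q Q.asIdeal (Algebra.ofId A A') rfl).commutes x).symm
  rw [(hφ.tensorEquiv Q.asIdeal.ResidueField).nontrivial_congr,
    ← (TensorProduct.AlgebraTensorModule.cancelBaseChange A q.ResidueField q.ResidueField
      Q.asIdeal.ResidueField M).nontrivial_congr]
  exact ⟨fun h => not_subsingleton_iff_nontrivial.1 fun h' => not_subsingleton_iff_nontrivial.2 h inferInstance,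
    fun h => inferInstance⟩

theorem supportDim_baseChange_field {k K A A' M M' : Type u} [Field k] [Field K] [Algebra k K]
    [CommRing A] [Algebra k A] [Algebra.FiniteType k A] [CommRing A'] [Algebra K A'] [Algebra A A']
    [Algebra k A'] [IsScalarTower k K A'] [IsScalarTower k A A'] [Algebra.IsPushout k K A A']
    [AddCommGroup M] [Module A M] [Module.Finite A M] [AddCommGroup M'] [Module A M'] [Module A' M']
    [IsScalarTower A A' M'] {φ : M →ₗ[A] M'} (hφ : IsBaseChange A' φ) :
    Module.supportDim A' M' = Module.supportDim A M := by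
  haveI : Module.Finite A' M' := Module.Finite.equiv hφ.equiv
  set I := Module.annihilator A M
  have hs : Module.support A' M' = PrimeSpectrum.zeroLocus (I.map (algebraMap A A') : Set A') := by
    ext Q
    rw [mem_support_isBaseChange hφ, Module.support_eq_zeroLocus, PrimeSpectrum.mem_zeroLocus,
      PrimeSpectrum.mem_zeroLocus, SetLike.coe_subset_coe, SetLike.coe_subset_coe, Ideal.map_le_iff_le_comap]
    rfl
  have h1 : Module.supportDim A' M' = ringKrullDim (A' ⧸ I.map (algebraMap A A')) := by
    rw [ringKrullDim_quotient, ← hs]; rfl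
  rw [h1, Module.supportDim_eq_ringKrullDim_quotient_annihilator]
  have e : A' ⧸ I.map (algebraMap A A') ≃+* K ⊗[k] (A ⧸ I) :=
    (Algebra.TensorProduct.quotIdealMapEquivTensorQuot A' I).toRingEquiv.trans
      (Algebra.IsPushout.cancelBaseChangeAlg k K A A' (A ⧸ I)).toRingEquiv
  rw [ringKrullDim_eq_of_ringEquiv e]
  exact le_antisymm (Groth.FibreDim.ringKrullDim_tensor_le K)
    (Groth.Calg5.RelGCI.ringKrullDim_le_tensor k K (A ⧸ I))

section fibre

attribute [local instance] Algebra.TensorProduct.rightAlgebra

variable {R R' S S' : Type u} [CommRing R] [CommRing R'] [CommRing S] [CommRing S'] [Algebra R R']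
  [Algebra R S] [Algebra R' S'] [Algebra R S'] [Algebra S S'] [IsScalarTower R R' S']
  [IsScalarTower R S S'] [Algebra.IsPushout R R' S S']

/-- The dimension of the support of the fibre module does not change under base change. -/
theorem supportDim_fiberMod_baseChange [Algebra.FiniteType R S] (p : Ideal R) [p.IsPrime]
    (p' : Ideal R') [p'.IsPrime] [p'.LiesOver p]
    {N N' : Type u} [AddCommGroup N] [Module S N] [Module R N] [IsScalarTower R S N]
    [Module.Finite S N] [AddCommGroup N'] [Module S' N'] [Module R' N'] [IsScalarTower R' S' N']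
    [Module S N'] [IsScalarTower S S' N'] {f : N →ₗ[S] N'} (hf : IsBaseChange S' f) :
    Module.supportDim (p'.Fiber S') (FlatCA.fiberMod p' S' N') =
      Module.supportDim (p.Fiber S) (FlatCA.fiberMod p S N) := by
  let F := p.Fiber S
  let F' := p'.Fiber S'
  let k := p.ResidueField
  let K := p'.ResidueField
  letI : Algebra k K := (Ideal.ResidueField.mapₐ p p' (Algebra.ofId R R') Ideal.LiesOver.over).toRingHom.toAlgebra
  haveI : IsScalarTower R k K := .of_algebraMap_eq fun x =>
    ((Ideal.ResidueField.mapₐ p p' (Algebra.ofId R R') Ideal.LiesOver.over).commutes x).symm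
  letI : Algebra S F' := ((algebraMap S' F').comp (algebraMap S S')).toAlgebra
  haveI : IsScalarTower S S' F' := .of_algebraMap_eq' rfl
  haveI : IsScalarTower k K F' := inferInstance
  haveI : IsScalarTower R R' K := inferInstance
  haveI hRK : IsScalarTower R K F' := inferInstance
  haveI hRS : IsScalarTower R S' F' := .of_algebraMap_eq fun x => by
    rw [IsScalarTower.algebraMap_apply R R' F', IsScalarTower.algebraMap_apply R R' S',
      ← IsScalarTower.algebraMap_apply R' S' F']
  haveI : IsScalarTower R S F' := .of_algebraMap_eq fun x => by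
    rw [IsScalarTower.algebraMap_apply R S' F', IsScalarTower.algebraMap_apply S S' F',
      ← IsScalarTower.algebraMap_apply R S S']
  haveI : IsScalarTower R k F' := .of_algebraMap_eq fun x => by
    rw [IsScalarTower.algebraMap_apply k K F', ← IsScalarTower.algebraMap_apply R k K,
      ← IsScalarTower.algebraMap_apply R K F']
  letI : Algebra F F' := (Algebra.TensorProduct.lift (IsScalarTower.toAlgHom R k F')
    (IsScalarTower.toAlgHom R S F') fun _ _ => .all _ _).toRingHom.toAlgebra
  haveI : IsScalarTower k F F' := IsScalarTower.of_algebraMap_eq (R := k) (S := F) (A := F') fun x => by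
    show _ = Algebra.TensorProduct.lift _ _ _ (x ⊗ₜ[R] (1 : S))
    rw [Algebra.TensorProduct.lift_tmul, map_one, mul_one]; rfl
  haveI : IsScalarTower S F F' := .of_algebraMap_eq fun x => by
    show _ = Algebra.TensorProduct.lift _ _ _ ((1 : k) ⊗ₜ[R] x)
    rw [Algebra.TensorProduct.lift_tmul, map_one, one_mul]; rfl
  have h1 : Algebra.IsPushout R' K S' F' := inferInstance
  have h2 : Algebra.IsPushout R K S F' :=
    (Algebra.IsPushout.comp_iff R R' S (T' := F') (S' := S')).2 h1
  haveI : Algebra.IsPushout R k S F := inferInstance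
  haveI : Algebra.IsPushout k K F F' := (Algebra.IsPushout.comp_iff R k S (T' := F') (S' := F)).1 h2
  haveI : Algebra.FiniteType k F := inferInstance
  let P := FlatCA.fiberMod p S N
  let P' := FlatCA.fiberMod p' S' N'
  letI : Module S P' := Module.compHom P' (algebraMap S S')
  haveI : IsScalarTower S S' P' := .of_algebraMap_smul fun _ _ => rfl
  haveI : IsScalarTower S' F' P' := inferInstanceAs (IsScalarTower S' F' (F' ⊗[S'] N'))
  haveI : IsScalarTower S F' P' := IsScalarTower.to₁₃₄ S S' F' P'
  letI : Module F P' := Module.compHom P' (algebraMap F F')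
  haveI : IsScalarTower F F' P' := .of_algebraMap_smul fun _ _ => rfl
  haveI : IsScalarTower S F P' := .of_algebraMap_smul fun r x => by
    show algebraMap F F' (algebraMap S F r) • x = r • x
    rw [← IsScalarTower.algebraMap_apply S F F', algebraMap_smul]
  haveI : IsScalarTower S F P := inferInstanceAs (IsScalarTower S F (F ⊗[S] N))
  haveI : Module.Finite F P := inferInstanceAs (Module.Finite F (F ⊗[S] N))
  have hb : IsBaseChange F (FlatCA.toFiberMod p S N) := TensorProduct.isBaseChange S N F
  have hb' : IsBaseChange F' (FlatCA.toFiberMod p' S' N') := TensorProduct.isBaseChange S' N' F'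
  let ψ : P →ₗ[F] P' := hb.lift ((FlatCA.toFiberMod p' S' N').restrictScalars S ∘ₗ f)
  have hψ : IsBaseChange F' ψ := by
    refine IsBaseChange.of_comp hb ?_
    rw [IsBaseChange.lift_comp]
    exact hf.comp hb'
  exact supportDim_baseChange_field (k := k) (K := K) hψ

end fibre

section pieces

variable {R R' A A' B B' : Type u} [CommRing R] [CommRing R'] [CommRing A] [CommRing A'] [CommRing B]
  [CommRing B'] [Algebra R R'] [Algebra R A] [Algebra R B] [Algebra R' A'] [Algebra R A'] [Algebra A A']
  [IsScalarTower R R' A'] [IsScalarTower R A A'] [Algebra.IsPushout R R' A A']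
  [Algebra R' B'] [Algebra R B'] [Algebra B B'] [IsScalarTower R R' B'] [IsScalarTower R B B']
  [Algebra.IsPushout R R' B B'] [Algebra A B] [IsScalarTower R A B] [Algebra A' B']
  [IsScalarTower R' A' B'] [Algebra A B'] [IsScalarTower A A' B'] [IsScalarTower A B B']

include R R' in
theorem isPushout_cancel : Algebra.IsPushout A A' B B' := by
  haveI : IsScalarTower R A' B' := .of_algebraMap_eq fun x => by
    rw [IsScalarTower.algebraMap_apply R R' B', IsScalarTower.algebraMap_apply R R' A',
      ← IsScalarTower.algebraMap_apply R' A' B']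
  haveI : Algebra.IsPushout R A R' A' := Algebra.IsPushout.symm inferInstance
  exact ((Algebra.IsPushout.comp_iff R A R' (T := B) (S' := A') (T' := B')).1
    (Algebra.IsPushout.symm inferInstance)).symm

omit [Algebra R A] [Algebra R B] [Algebra R' A'] [Algebra R A'] [Algebra R' B'] [Algebra R B'] in
theorem surjective_of_isPushout [Algebra.IsPushout A A' B B']
    (h : Function.Surjective (algebraMap A B)) : Function.Surjective (algebraMap A' B') := by
  intro y
  obtain ⟨w, rfl⟩ := (Algebra.IsPushout.out (R := A) (S := A') (R' := B) (S' := B')).equiv.surjective y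
  induction w with
  | zero => exact ⟨0, by simp⟩
  | tmul a b =>
    obtain ⟨x, rfl⟩ := h b
    refine ⟨a * algebraMap A A' x, ?_⟩
    rw [IsBaseChange.equiv_tmul]
    show _ = a • algebraMap B B' (algebraMap A B x)
    rw [← IsScalarTower.algebraMap_apply A B B', map_mul, ← IsScalarTower.algebraMap_apply A A' B',
      Algebra.smul_def]
  | add u v hu hv =>
    obtain ⟨a, ha⟩ := hu; obtain ⟨b, hb⟩ := hv
    exact ⟨a + b, by rw [map_add, map_add, ha, hb]⟩

omit [Algebra R A] [Algebra R B] [Algebra R' A'] [Algebra R A'] [Algebra R' B'] [Algebra R B'] in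
theorem finitePresentation_of_isPushout [Algebra.IsPushout A A' B B']
    [Algebra.FinitePresentation A B] : Algebra.FinitePresentation A' B' :=
  Algebra.FinitePresentation.equiv (Algebra.IsPushout.equiv A A' B B')

omit [Algebra R A] [Algebra R B] [Algebra R' A'] [Algebra R A'] [Algebra R' B'] [Algebra R B'] in
theorem finite_of_isPushout [Algebra.IsPushout A A' B B'] [Module.Finite A B] : Module.Finite A' B' :=
  Module.Finite.equiv (Algebra.IsPushout.equiv A A' B B').toLinearEquiv

omit [Algebra R A] [Algebra R B] [Algebra R' A'] [Algebra R A'] [Algebra R' B'] [Algebra R B'] in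
theorem isBaseChange_restrict_of_isPushout [Algebra.IsPushout A A' B B'] {G G' : Type u}
    [AddCommGroup G] [Module B G] [Module A G] [IsScalarTower A B G] [AddCommGroup G'] [Module B' G']
    [Module A' G'] [IsScalarTower A' B' G'] [Module B G'] [IsScalarTower B B' G'] [Module A G']
    [IsScalarTower A B G'] [IsScalarTower A A' G']
    {g : G →ₗ[B] G'} (hg : IsBaseChange B' g) : IsBaseChange A' (g.restrictScalars A) := by
  refine IsBaseChange.of_equiv
    ((Algebra.IsPushout.cancelBaseChange A A' B B' G).symm ≪≫ₗ hg.equiv.restrictScalars A') fun x => ?_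
  simp [Algebra.IsPushout.cancelBaseChange_symm_tmul, IsBaseChange.equiv_tmul]

end pieces

section pullback

variable {R R' D D' : Type u} [CommRing R] [CommRing R'] [CommRing D] [CommRing D'] [Algebra R R']
  [Algebra R D] [Algebra R' D'] [Algebra R D'] [Algebra D D'] [IsScalarTower R R' D']
  [IsScalarTower R D D'] [Algebra.IsPushout R R' D D']

theorem isPullback_Spec_of_isPushout :
    IsPullback (Spec.map (CommRingCat.ofHom (algebraMap D D')))
      (Spec.map (CommRingCat.ofHom (algebraMap R' D')))
      (Spec.map (CommRingCat.ofHom (algebraMap R D)))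
      (Spec.map (CommRingCat.ofHom (algebraMap R R'))) :=
  isPullback_SpecMap_of_isPushout _ _ _ _
    (CommRingCat.isPushout_iff_isPushout.2 (Algebra.IsPushout.symm ‹_›))

variable (R R' D D')

theorem smoothRelDim_baseChange {n : ℕ} (h : FlatCA.SmoothRelDim n R D) :
    FlatCA.SmoothRelDim n R' D' :=
  haveI := smoothOfRelativeDimension_isStableUnderBaseChange n
  MorphismProperty.of_isPullback (P := @SmoothOfRelativeDimension n) isPullback_Spec_of_isPushout h

theorem geomIrredFibres_baseChange (h : FlatCA.GeomIrredFibres R D) :
    FlatCA.GeomIrredFibres R' D' :=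
  MorphismProperty.of_isPullback (P := @GeometricallyIrreducible) isPullback_Spec_of_isPushout h

end pullback

end Groth.Flatmor4
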