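import Mathlib
import Groth.Prelude.Def_FlatCA
import Groth.Agent.Flatmor4.DevissageBaseChange
import Groth.Agent.Calg4.SmoothReduced

/-!
Base change of complete dévissages.
-/

set_option autoImplicit false
set_option linter.style.haveILetI false

universe u

open TensorProduct CategoryTheory AlgebraicGeometry

namespace Groth.Flatmor4

attribute [local instance] Algebra.TensorProduct.rightAlgebra

/-- For a flat algebra, the kernel of the map to a fibre ring is the extended prime. -/
theorem ker_includeRight_fiber (R B : Type u) [CommRing R] [CommRing B] [Algebra R B]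
    [Module.Flat R B] (p : Ideal R) [p.IsPrime] :
    RingHom.ker (algebraMap B (p.Fiber B)) = p.map (algebraMap R B) := by
  let l : (R ⧸ p) →ₐ[R] p.ResidueField := IsScalarTower.toAlgHom R (R ⧸ p) p.ResidueField
  let e := Algebra.TensorProduct.quotIdealMapEquivTensorQuot B p
  let ψ : B ⧸ p.map (algebraMap R B) → p.Fiber B := fun x =>
    TensorProduct.comm R B p.ResidueField (l.toLinearMap.lTensor B (e x))
  have hψ : Function.Injective ψ :=
    (TensorProduct.comm R B p.ResidueField).injective.comp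
      ((Module.Flat.lTensor_preserves_injective_linearMap (M := B) l.toLinearMap
        (IsFractionRing.injective (R ⧸ p) p.ResidueField)).comp e.injective)
  have hmk : ∀ b : B, ψ (Ideal.Quotient.mk _ b) = algebraMap B (p.Fiber B) b := fun b => by
    show TensorProduct.comm R B p.ResidueField (l.toLinearMap.lTensor B (b ⊗ₜ[R] (1 : R ⧸ p))) =
      (1 : p.ResidueField) ⊗ₜ[R] b
    simp
  ext b
  rw [RingHom.mem_ker, ← hmk, ← Ideal.Quotient.eq_zero_iff_mem,
    ← hψ.eq_iff, show ψ 0 = 0 by simp [ψ]]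

theorem isDomain_fiber (R B : Type u) [CommRing R] [CommRing B] [Algebra R B] [Algebra.Smooth R B]
    (h : FlatCA.GeomIrredFibres R B) (p : Ideal R) [p.IsPrime] : IsDomain (p.Fiber B) := by
  have h' : FlatCA.GeomIrredFibres p.ResidueField (p.Fiber B) :=
    geomIrredFibres_baseChange R p.ResidueField B (p.Fiber B) h
  haveI : IrreducibleSpace (PrimeSpectrum (p.Fiber B)) :=
    h'.geometrically_irreducibleSpace (𝟙 _) (𝟙 _) _ IsPullback.of_id_fst
  haveI := Groth.Calg4.isReduced_of_smooth_field p.ResidueField (p.Fiber B)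
  haveI := (PrimeSpectrum.irreducibleSpace_iff_isPrime_nilradical).1 ‹_›
  rw [nilradical_eq_zero] at this
  exact (IsDomain.of_bot_isPrime _)

theorem isPrime_map_baseChange {R R' B B' : Type u} [CommRing R] [CommRing R'] [Algebra R R']
    [CommRing B] [Algebra R B] [CommRing B'] [Algebra R' B'] [Algebra R B'] [Algebra B B']
    [IsScalarTower R R' B'] [IsScalarTower R B B'] [Algebra.IsPushout R R' B B']
    [Algebra.Smooth R B] (h : FlatCA.GeomIrredFibres R B) (p' : Ideal R') [p'.IsPrime] :
    (p'.map (algebraMap R' B')).IsPrime := by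
  haveI : Algebra.Smooth R' B' := Algebra.Smooth.of_equiv (Algebra.IsPushout.equiv R R' B B')
  haveI := isDomain_fiber R' B' (geomIrredFibres_baseChange R R' B B' h) p'
  rw [← ker_includeRight_fiber R' B' p']
  exact RingHom.ker_isPrime _

/-- Along a flat base change the extended prime contracts to the extended prime. -/
theorem map_eq_under_map_baseChange {R R' B B' : Type u} [CommRing R] [CommRing R'] [Algebra R R']
    [CommRing B] [Algebra R B] [CommRing B'] [Algebra R' B'] [Algebra R B'] [Algebra B B']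
    [IsScalarTower R R' B'] [IsScalarTower R B B'] [Algebra.IsPushout R R' B B'] [Module.Flat R B]
    (p : Ideal R) [p.IsPrime] (p' : Ideal R') [p'.IsPrime] [p'.LiesOver p] :
    p.map (algebraMap R B) = (p'.map (algebraMap R' B')).under B := by
  haveI : Module.Flat R' B' :=
    Module.Flat.of_linearEquiv (Algebra.IsPushout.equiv R R' B B').toLinearEquiv.symm
  rw [← ker_includeRight_fiber R B p, ← ker_includeRight_fiber R' B' p']
  let k := p.ResidueField
  let K := p'.ResidueField
  let F' := p'.Fiber B'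
  letI : Algebra k K := (Ideal.ResidueField.mapₐ p p' (Algebra.ofId R R') Ideal.LiesOver.over).toRingHom.toAlgebra
  haveI : IsScalarTower R k K := .of_algebraMap_eq fun x =>
    ((Ideal.ResidueField.mapₐ p p' (Algebra.ofId R R') Ideal.LiesOver.over).commutes x).symm
  haveI : Algebra.IsPushout R R' B B' := inferInstance
  haveI : IsScalarTower R B' F' := .of_algebraMap_eq fun x => by
    rw [IsScalarTower.algebraMap_apply R R' F', IsScalarTower.algebraMap_apply R R' B',
      ← IsScalarTower.algebraMap_apply R' B' F']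
  let τ : B →ₐ[R] F' :=
    (IsScalarTower.toAlgHom R B' F').comp (IsScalarTower.toAlgHom R B B')
  let Φ : p.Fiber B →ₐ[R] F' := Algebra.TensorProduct.lift
    ((IsScalarTower.toAlgHom R K F').comp (IsScalarTower.toAlgHom R k K)) τ fun _ _ => .all _ _
  have hΦ : Function.Injective Φ := by
    let ρ : K ⊗[R] B ≃ₐ[R] K ⊗[R'] B' := ((Algebra.TensorProduct.cancelBaseChange R R' K K B).symm.trans
      (Algebra.TensorProduct.congr AlgEquiv.refl (Algebra.IsPushout.equiv R R' B B'))).restrictScalars R
    have : (Φ : p.Fiber B → F') = ρ ∘ (Algebra.TensorProduct.map (IsScalarTower.toAlgHom R k K) (AlgHom.id R B)) := by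
      funext z
      induction z using TensorProduct.induction_on with
      | zero => simp
      | tmul c b => simp [Φ, τ, ρ, Algebra.IsPushout.equiv_tmul, F', Algebra.TensorProduct.algebraMap_apply,
          RingHom.algebraMap_toAlgebra, Algebra.TensorProduct.tmul_mul_tmul]; rfl
      | add u v hu hv => simp only [map_add, hu, hv, Function.comp_apply]
    rw [this]
    exact ρ.injective.comp (Module.Flat.rTensor_preserves_injective_linearMap
      (IsScalarTower.toAlgHom R k K).toLinearMap (algebraMap k K).injective)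
  ext b
  show algebraMap B (p.Fiber B) b = 0 ↔ algebraMap B' F' (algebraMap B B' b) = 0
  rw [← map_eq_zero_iff Φ hΦ]
  simp [Φ, τ, RingHom.algebraMap_toAlgebra]

theorem bijective_baseChange_of_bijective {B B' K L X Y X' Y' : Type u} [CommRing B] [CommRing B']
    [Algebra B B'] [Field K] [Field L] [Algebra B K] [Algebra B' L] [Algebra B L] [Algebra K L]
    [IsScalarTower B B' L] [IsScalarTower B K L] [AddCommGroup X] [Module B X] [AddCommGroup Y]
    [Module B Y] [AddCommGroup X'] [Module B X'] [Module B' X'] [IsScalarTower B B' X']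
    [AddCommGroup Y'] [Module B Y'] [Module B' Y'] [IsScalarTower B B' Y']
    {gX : X →ₗ[B] X'} (hX : IsBaseChange B' gX) {gY : Y →ₗ[B] Y'} (hY : IsBaseChange B' gY)
    (α : X →ₗ[B] Y) (α' : X' →ₗ[B'] Y') (hc : ∀ x, α' (gX x) = gY (α x))
    (h : Function.Bijective (α.baseChange K)) : Function.Bijective (α'.baseChange L) := by
  let cX := TensorProduct.AlgebraTensorModule.cancelBaseChange B K K L X
  let cY := TensorProduct.AlgebraTensorModule.cancelBaseChange B K K L Y
  let eK : K ⊗[B] X ≃ₗ[K] K ⊗[B] Y := LinearEquiv.ofBijective (α.baseChange K) h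
  let T : L ⊗[K] (K ⊗[B] X) ≃ₗ[K] L ⊗[K] (K ⊗[B] Y) := LinearEquiv.lTensor L eK
  have h1 : ∀ z, α.baseChange L (cX z) = cY (T z) := by
    intro z
    induction z with
    | zero => simp
    | tmul l w =>
      induction w with
      | zero => simp
      | tmul c x => simp [cX, cY, T, eK]
      | add a b ha hb => simp only [tmul_add, map_add, ha, hb]
    | add a b ha hb => simp only [map_add, ha, hb]
  have hbL : Function.Bijective (α.baseChange L) := by
    have : (α.baseChange L : L ⊗[B] X → L ⊗[B] Y) = cY ∘ T ∘ cX.symm := funext fun z => by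
      obtain ⟨z, rfl⟩ := cX.surjective z
      rw [h1]; simp
    rw [this]
    exact cY.bijective.comp (T.bijective.comp cX.symm.bijective)
  let eX := hX.tensorEquiv L
  let eY := hY.tensorEquiv L
  have h2 : ∀ z, α'.baseChange L (eX.symm z) = eY.symm (α.baseChange L z) := by
    intro z
    induction z with
    | zero => simp
    | tmul l x => simp [eX, eY, IsBaseChange.tensorEquiv, IsBaseChange.equiv_tmul, hc]
    | add a b ha hb => simp only [map_add, ha, hb]
  have : (α'.baseChange L : L ⊗[B'] X' → L ⊗[B'] Y') = eY.symm ∘ α.baseChange L ∘ eX := funext fun z => by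
    obtain ⟨z, rfl⟩ := eX.symm.surjective z
    rw [h2]; simp
  rw [this]
  exact eY.symm.bijective.comp (hbL.comp eX.bijective)

/-- Cokernels commute with base change. -/
noncomputable def cokerEquiv {B B' M N M' N' : Type u} [CommRing B] [CommRing B'] [Algebra B B']
    [AddCommGroup M] [Module B M] [AddCommGroup N] [Module B N]
    [AddCommGroup M'] [Module B M'] [Module B' M'] [IsScalarTower B B' M']
    [AddCommGroup N'] [Module B N'] [Module B' N'] [IsScalarTower B B' N']
    {gM : M →ₗ[B] M'} (hM : IsBaseChange B' gM) {gN : N →ₗ[B] N'} (hN : IsBaseChange B' gN)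
    (P : Submodule B M) (e : (M ⧸ P) ≃ₗ[B] N) (P' : Submodule B' M')
    (hP' : P' = Submodule.span B' (gM '' P)) : (M' ⧸ P') ≃ₗ[B'] N' :=
  let π : M' →ₗ[B'] N' := hM.lift (gN ∘ₗ e.toLinearMap ∘ₗ P.mkQ)
  let θ : N' →ₗ[B'] M' ⧸ P' := hN.lift
    (P.liftQ ((P'.mkQ.restrictScalars B) ∘ₗ gM) (fun x hx =>
      (Submodule.Quotient.mk_eq_zero P').2 (hP' ▸ Submodule.subset_span ⟨x, hx, rfl⟩)) ∘ₗ e.symm.toLinearMap)
  let πb : (M' ⧸ P') →ₗ[B'] N' := P'.liftQ π (by
    rw [hP', Submodule.span_le]
    rintro _ ⟨x, hx, rfl⟩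
    show π (gM x) = 0
    simp [π, IsBaseChange.lift_eq, (Submodule.Quotient.mk_eq_zero P).2 hx])
  LinearEquiv.ofLinearMap πb θ
    (hN.algHom_ext _ _ fun y => by
      obtain ⟨y, rfl⟩ := e.surjective y
      obtain ⟨y, rfl⟩ := Submodule.Quotient.mk_surjective _ y
      simp [πb, θ, π, IsBaseChange.lift_eq])
    (Submodule.linearMap_qext _ (hM.algHom_ext _ _ fun x => by
      simp [πb, θ, π, IsBaseChange.lift_eq]))

theorem range_linearCombination_eq_span {B B' M M' : Type u} [CommRing B] [CommRing B'] [Algebra B B']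
    [AddCommGroup M] [Module B M] [AddCommGroup M'] [Module B M'] [Module B' M'] [IsScalarTower B B' M']
    (g : M →ₗ[B] M') {r : ℕ} (α : (Fin r → B) →ₗ[B] M) :
    LinearMap.range (Fintype.linearCombination B' fun j => g (α (Pi.single j 1))) =
      Submodule.span B' (g '' (LinearMap.range α : Set M)) := by
  rw [Fintype.range_linearCombination]
  refine le_antisymm (Submodule.span_mono ?_) (Submodule.span_le.2 ?_)
  · rintro _ ⟨j, rfl⟩
    exact ⟨_, ⟨_, rfl⟩, rfl⟩
  · rintro _ ⟨_, ⟨x, rfl⟩, rfl⟩
    rw [pi_eq_sum_univ' x, map_sum, map_sum]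
    refine Submodule.sum_mem _ fun j _ => ?_
    rw [map_smul, map_smul, ← algebraMap_smul B' (x j)]
    exact Submodule.smul_mem _ _ (Submodule.subset_span ⟨j, rfl⟩)

theorem isBaseChange_pi (B B' : Type u) [CommRing B] [CommRing B'] [Algebra B B'] (r : ℕ) :
    IsBaseChange B' ((Algebra.linearMap B B').compLeft (Fin r)) :=
  IsBaseChange.finitePow (Fin r) (IsBaseChange.linearMap B B')

section devissage

variable {R S N : Type u} [CommRing R] [CommRing S] [Algebra R S] [AddCommGroup N] [Module S N]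
  {p : Ideal R} [p.IsPrime]

/-- The smooth algebra of step `i`, replaced by the base ring beyond the length. -/
structure StepPiece (𝒟 : FlatCA.CompleteDevissage R S N p) (i : ℕ) : Type (u + 1) where
  /-- the ring -/
  C : CommAlgCat.{u} R
  /-- the map to `A i` -/
  fA : C →ₐ[R] 𝒟.A i
  /-- the map to `A (i + 1)` -/
  fA' : C →ₐ[R] 𝒟.A (i + 1)
  /-- the identification with `B i` -/
  e : i < 𝒟.n → (𝒟.B i ≃ₐ[R] C)
  comm : ∀ (h : i < 𝒟.n) (b : 𝒟.B i), fA (e h b) = algebraMap (𝒟.B i) (𝒟.A i) b
  comm' : ∀ (h : i < 𝒟.n) (b : 𝒟.B i), fA' (e h b) = algebraMap (𝒟.B i) (𝒟.A (i + 1)) b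
  prime : ∀ (R' : Type u) [CommRing R'] [Algebra R R'] (p' : Ideal R') [p'.IsPrime],
    (p'.map (algebraMap R' (R' ⊗[R] C))).IsPrime

theorem stepPiece_nonempty (𝒟 : FlatCA.CompleteDevissage R S N p) (i : ℕ) :
    Nonempty (StepPiece 𝒟 i) := by
  by_cases h : i < 𝒟.n
  · refine ⟨⟨CommAlgCat.of R (𝒟.B i), IsScalarTower.toAlgHom R (𝒟.B i) (𝒟.A i),
      IsScalarTower.toAlgHom R (𝒟.B i) (𝒟.A (i + 1)), fun _ => AlgEquiv.refl, fun _ _ => rfl,
      fun _ _ => rfl, fun R' _ _ p' _ => ?_⟩⟩
    haveI := 𝒟.smooth i h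
    exact isPrime_map_baseChange (R := R) (R' := R') (B := 𝒟.B i) (𝒟.geomIrred i h) p'
  · refine ⟨⟨CommAlgCat.of R R, Algebra.ofId R _, Algebra.ofId R _, fun h' => absurd h' h,
      fun h' => absurd h' h, fun h' => absurd h' h, fun R' _ _ p' _ => ?_⟩⟩
    let e : R' ≃ₐ[R'] R' ⊗[R] R := (Algebra.TensorProduct.rid R R' R').symm
    have he : algebraMap R' (R' ⊗[R] R) = e.toRingEquiv.toRingHom := by
      ext x
      exact (e.commutes x).symm
    show (p'.map (algebraMap R' (R' ⊗[R] R))).IsPrime
    rw [he]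
    exact Ideal.map_isPrime_of_equiv e.toRingEquiv

variable (𝒟 : FlatCA.CompleteDevissage R S N p) (R' : Type u) [CommRing R'] [Algebra R R']

/-- A choice of the step data. -/
noncomputable def stepPiece (i : ℕ) : StepPiece 𝒟 i := (stepPiece_nonempty 𝒟 i).some

/-- The base change of the rings carrying the modules. -/
abbrev DevA (i : ℕ) : Type u := R' ⊗[R] 𝒟.A i

/-- The base change of the smooth algebras. -/
abbrev DevB (i : ℕ) : Type u := R' ⊗[R] (stepPiece 𝒟 i).C

/-- The second factor acts on a base change. -/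
noncomputable instance devAlgA (i : ℕ) : Algebra (𝒟.A i) (DevA 𝒟 R' i) :=
  Algebra.TensorProduct.rightAlgebra

/-- The base change of the modules. -/
abbrev DevM (i : ℕ) : Type u := DevA 𝒟 R' i ⊗[𝒟.A i] 𝒟.M i

theorem isScalarTower_devA (i : ℕ) : IsScalarTower R (𝒟.A i) (DevA 𝒟 R' i) :=
  inferInstanceAs (IsScalarTower R (𝒟.A i) (R' ⊗[R] 𝒟.A i))

theorem isPushout_devA (i : ℕ) :
    haveI := isScalarTower_devA 𝒟 R' i
    Algebra.IsPushout R R' (𝒟.A i) (DevA 𝒟 R' i) :=
  inferInstanceAs (Algebra.IsPushout R R' (𝒟.A i) (R' ⊗[R] 𝒟.A i))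

end devissage

end Groth.Flatmor4
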