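import Mathlib
import Groth.Prelude.Def_FlatCA
import Groth.Agent.Flatmor4.DevissageBaseChange
import Groth.Agent.FibreDim.Composition

/-!
Points of dévissages under a base change inducing an isomorphism of residue fields.
-/

set_option autoImplicit false
set_option linter.style.haveILetI false

universe u

open TensorProduct CategoryTheory AlgebraicGeometry

namespace Groth.Flatmor4

attribute [local instance] Algebra.TensorProduct.rightAlgebra

/-- Primes of a fibre ring are determined by their contraction. -/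
theorem fiber_prime_ext {R S : Type u} [CommRing R] [CommRing S] [Algebra R S] {p : Ideal R}
    [p.IsPrime] {Q₁ Q₂ : PrimeSpectrum (p.Fiber S)}
    (h : Q₁.asIdeal.comap (algebraMap S (p.Fiber S)) = Q₂.asIdeal.comap (algebraMap S (p.Fiber S))) :
    Q₁ = Q₂ :=
  (PrimeSpectrum.primesOverOrderIsoFiber R S p).symm.injective (Subtype.ext (by
    rw [PrimeSpectrum.coe_primesOverOrderIsoFiber_symm_apply,
      PrimeSpectrum.coe_primesOverOrderIsoFiber_symm_apply]
    exact h))

/-- The prime of the fibre ring over a prime lying over `p`. -/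
theorem exists_fiber_prime {R S : Type u} [CommRing R] [CommRing S] [Algebra R S] (p : Ideal R)
    [p.IsPrime] (q : Ideal S) [q.IsPrime] [q.LiesOver p] :
    ∃ Q : PrimeSpectrum (p.Fiber S), Q.asIdeal.comap (algebraMap S (p.Fiber S)) = q := by
  refine ⟨PrimeSpectrum.primesOverOrderIsoFiber R S p ⟨q, ‹_›, ‹_›⟩, ?_⟩
  have := congrArg Subtype.val
    ((PrimeSpectrum.primesOverOrderIsoFiber R S p).symm_apply_apply ⟨q, ‹_›, ‹_›⟩)
  rw [PrimeSpectrum.coe_primesOverOrderIsoFiber_symm_apply] at this
  exact this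

/-- A prime containing, minimally, the extended prime contracts to it. -/
theorem comap_eq_of_asIdeal_eq_fiberIdeal {R S : Type u} [CommRing R] [CommRing S] [Algebra R S]
    (p : Ideal R) [p.IsPrime] (q : Ideal S) [q.IsPrime] [q.LiesOver p]
    (ξ : PrimeSpectrum (p.Fiber S)) (hξ : ξ.asIdeal = FlatCA.fiberIdeal p q) :
    ξ.asIdeal.comap (algebraMap S (p.Fiber S)) = q := by
  obtain ⟨Q, hQ⟩ := exists_fiber_prime p q
  refine le_antisymm (le_trans (Ideal.comap_mono ?_) hQ.le) ?_
  · rw [hξ]
    exact Ideal.map_le_iff_le_comap.2 hQ.ge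
  · rw [hξ]
    exact Ideal.le_comap_map

/-- A prime of a fibre ring is the extension of its contraction. -/
theorem fiberIdeal_comap {R S : Type u} [CommRing R] [CommRing S] [Algebra R S] (p : Ideal R)
    [p.IsPrime] (ξ : PrimeSpectrum (p.Fiber S)) (q : Ideal S)
    (hq : ξ.asIdeal.comap (algebraMap S (p.Fiber S)) = q) : ξ.asIdeal = FlatCA.fiberIdeal p q := by
  refine le_antisymm (fun x hx => ?_) (Ideal.map_le_iff_le_comap.2 hq.ge)
  obtain ⟨r, hr, s, e⟩ := Ideal.Fiber.exists_smul_eq_one_tmul _ x
  have hs : s ∈ q := by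
    rw [← hq, Ideal.mem_comap]
    show (1 : p.ResidueField) ⊗ₜ[R] s ∈ ξ.asIdeal
    rw [← e]
    exact Submodule.smul_of_tower_mem _ r hx
  have hu : IsUnit (algebraMap R (p.Fiber S) r) := by
    rw [IsScalarTower.algebraMap_apply R p.ResidueField (p.Fiber S)]
    exact (IsUnit.mk0 _ (by rw [Ne, Ideal.algebraMap_residueField_eq_zero]; exact hr)).map _
  rw [← Ideal.unit_mul_mem_iff_mem _ hu, ← Algebra.smul_def, e]
  exact Ideal.mem_map_of_mem _ hs

variable {R R' S S' : Type u} [CommRing R] [CommRing R'] [CommRing S] [CommRing S'] [Algebra R R']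
  [Algebra R S] [Algebra R' S'] [Algebra R S'] [Algebra S S'] [IsScalarTower R R' S']
  [IsScalarTower R S S'] [Algebra.IsPushout R R' S S']

/-- For a bijection of residue fields the fibre rings and the supports of the fibre modules agree. -/
theorem exists_fiberEquiv (p : Ideal R) [p.IsPrime]
    (p' : Ideal R') [p'.IsPrime] [hp' : p'.LiesOver p]
    (hκ : Function.Bijective (Ideal.ResidueField.mapₐ p p' (Algebra.ofId R R') hp'.over))
    {N N' : Type u} [AddCommGroup N] [Module S N] [Module R N] [IsScalarTower R S N]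
    [Module.Finite S N] [AddCommGroup N'] [Module S' N'] [Module R' N'] [IsScalarTower R' S' N']
    [Module S N'] [IsScalarTower S S' N'] {f : N →ₗ[S] N'} (hf : IsBaseChange S' f) :
    ∃ ψ : p.Fiber S ≃+* p'.Fiber S',
      (∀ s : S, ψ (algebraMap S (p.Fiber S) s) = algebraMap S' (p'.Fiber S') (algebraMap S S' s)) ∧
      ∀ Q : PrimeSpectrum (p'.Fiber S'),
        Q ∈ Module.support (p'.Fiber S') (FlatCA.fiberMod p' S' N') ↔
          PrimeSpectrum.comap ψ.toRingHom Q ∈ Module.support (p.Fiber S) (FlatCA.fiberMod p S N) := by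
  let F := p.Fiber S
  let F' := p'.Fiber S'
  let k := p.ResidueField
  let K := p'.ResidueField
  letI : Algebra k K := (Ideal.ResidueField.mapₐ p p' (Algebra.ofId R R') Ideal.LiesOver.over).toRingHom.toAlgebra
  haveI : IsScalarTower R k K := .of_algebraMap_eq fun x =>
    ((Ideal.ResidueField.mapₐ p p' (Algebra.ofId R R') Ideal.LiesOver.over).commutes x).symm
  letI : Algebra S F' := ((algebraMap S' F').comp (algebraMap S S')).toAlgebra
  haveI : IsScalarTower S S' F' := .of_algebraMap_eq' rfl
  haveI : IsScalarTower k K F' := inferInstance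
  haveI : IsScalarTower R R' K := inferInstance
  haveI hRK : IsScalarTower R K F' := inferInstance
  haveI hRS : IsScalarTower R S' F' := .of_algebraMap_eq fun x => by
    rw [IsScalarTower.algebraMap_apply R R' F', IsScalarTower.algebraMap_apply R R' S',
      ← IsScalarTower.algebraMap_apply R' S' F']
  haveI : IsScalarTower R S F' := .of_algebraMap_eq fun x => by
    rw [IsScalarTower.algebraMap_apply R S' F', IsScalarTower.algebraMap_apply S S' F',
      ← IsScalarTower.algebraMap_apply R S S']
  haveI : IsScalarTower R k F' := .of_algebraMap_eq fun x => by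
    rw [IsScalarTower.algebraMap_apply k K F', ← IsScalarTower.algebraMap_apply R k K,
      ← IsScalarTower.algebraMap_apply R K F']
  letI : Algebra F F' := (Algebra.TensorProduct.lift (IsScalarTower.toAlgHom R k F')
    (IsScalarTower.toAlgHom R S F') fun _ _ => .all _ _).toRingHom.toAlgebra
  haveI : IsScalarTower k F F' := IsScalarTower.of_algebraMap_eq (R := k) (S := F) (A := F') fun x => by
    show _ = Algebra.TensorProduct.lift _ _ _ (x ⊗ₜ[R] (1 : S))
    rw [Algebra.TensorProduct.lift_tmul, map_one, mul_one]; rfl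
  haveI : IsScalarTower S F F' := .of_algebraMap_eq fun x => by
    show _ = Algebra.TensorProduct.lift _ _ _ ((1 : k) ⊗ₜ[R] x)
    rw [Algebra.TensorProduct.lift_tmul, map_one, one_mul]; rfl
  have h1 : Algebra.IsPushout R' K S' F' := inferInstance
  have h2 : Algebra.IsPushout R K S F' :=
    (Algebra.IsPushout.comp_iff R R' S (T' := F') (S' := S')).2 h1
  haveI : Algebra.IsPushout R k S F := inferInstance
  haveI : Algebra.IsPushout k K F F' := (Algebra.IsPushout.comp_iff R k S (T' := F') (S' := F)).1 h2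
  let P := FlatCA.fiberMod p S N
  let P' := FlatCA.fiberMod p' S' N'
  letI : Module S P' := Module.compHom P' (algebraMap S S')
  haveI : IsScalarTower S S' P' := .of_algebraMap_smul fun _ _ => rfl
  haveI : IsScalarTower S' F' P' := inferInstanceAs (IsScalarTower S' F' (F' ⊗[S'] N'))
  haveI : IsScalarTower S F' P' := IsScalarTower.to₁₃₄ S S' F' P'
  letI : Module F P' := Module.compHom P' (algebraMap F F')
  haveI : IsScalarTower F F' P' := .of_algebraMap_smul fun _ _ => rfl
  haveI : IsScalarTower S F P' := .of_algebraMap_smul fun r x => by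
    show algebraMap F F' (algebraMap S F r) • x = r • x
    rw [← IsScalarTower.algebraMap_apply S F F', algebraMap_smul]
  haveI : IsScalarTower S F P := inferInstanceAs (IsScalarTower S F (F ⊗[S] N))
  haveI hPF : Module.Finite F P := inferInstanceAs (Module.Finite F (F ⊗[S] N))
  have hb : IsBaseChange F (FlatCA.toFiberMod p S N) := TensorProduct.isBaseChange S N F
  have hb' : IsBaseChange F' (FlatCA.toFiberMod p' S' N') := TensorProduct.isBaseChange S' N' F'
  let ψ : P →ₗ[F] P' := hb.lift ((FlatCA.toFiberMod p' S' N').restrictScalars S ∘ₗ f)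
  have hψ : IsBaseChange F' ψ := by
    refine IsBaseChange.of_comp hb ?_
    rw [IsBaseChange.lift_comp]
    exact hf.comp hb'
  have hbij : Function.Bijective (algebraMap F F') := by
    let e := Algebra.IsPushout.equiv k K F F'
    let i := Algebra.TensorProduct.includeRight (R := k) (A := K) (B := F)
    have h : (algebraMap F F' : F → F') = e ∘ i := funext fun x => by
      show _ = e ((1 : K) ⊗ₜ[k] x)
      rw [Algebra.IsPushout.equiv_tmul, map_one, one_mul]
    have hi : Function.Bijective i := by
      let eK : k ≃ₗ[k] K := LinearEquiv.ofBijective (Algebra.linearMap k K) hκ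
      have : (i : F → K ⊗[k] F) = (eK.rTensor F) ∘ (TensorProduct.lid k F).symm := funext fun x => by
        show (1 : K) ⊗ₜ[k] x = eK.rTensor F ((1 : k) ⊗ₜ x)
        rw [LinearEquiv.rTensor_tmul]
        show _ = algebraMap k K 1 ⊗ₜ[k] x
        rw [map_one]
      rw [this]
      exact (eK.rTensor F).bijective.comp (TensorProduct.lid k F).symm.bijective
    rw [h]
    exact e.bijective.comp hi
  refine ⟨RingEquiv.ofBijective _ hbij, fun s => ?_, fun Q => ?_⟩
  · show algebraMap F F' (algebraMap S F s) = _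
    rw [← IsScalarTower.algebraMap_apply S F F', ← IsScalarTower.algebraMap_apply S S' F']
  · exact mem_support_isBaseChange hψ Q

/-- Over both `q` and `p'` there is at most one prime. -/
theorem eq_of_liesOver_of_bijective (p : Ideal R) [p.IsPrime]
    (p' : Ideal R') [p'.IsPrime] [hp' : p'.LiesOver p]
    (hκ : Function.Bijective (Ideal.ResidueField.mapₐ p p' (Algebra.ofId R R') hp'.over))
    (q : Ideal S) (q₁ q₂ : Ideal S') [q₁.IsPrime] [q₂.IsPrime] [q₁.LiesOver q] [q₂.LiesOver q]
    [q₁.LiesOver p'] [q₂.LiesOver p'] : q₁ = q₂ := by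
  obtain ⟨ψ, hψ, -⟩ := exists_fiberEquiv (S := S) (S' := S') p p' hκ (TensorProduct.isBaseChange S S S')
  obtain ⟨Q₁, hQ₁⟩ := exists_fiber_prime p' q₁
  obtain ⟨Q₂, hQ₂⟩ := exists_fiber_prime p' q₂
  have key : ∀ (Q : PrimeSpectrum (p'.Fiber S')) (r : Ideal S') [r.LiesOver q],
      Q.asIdeal.comap (algebraMap S' (p'.Fiber S')) = r →
      (PrimeSpectrum.comap ψ.toRingHom Q).asIdeal.comap (algebraMap S (p.Fiber S)) = q := by
    intro Q r _ hr
    rw [PrimeSpectrum.comap_asIdeal, Ideal.comap_comap,
      show ψ.toRingHom.comp (algebraMap S (p.Fiber S)) =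
        (algebraMap S' (p'.Fiber S')).comp (algebraMap S S') from RingHom.ext hψ,
      ← Ideal.comap_comap, hr]
    exact (Ideal.LiesOver.over (P := r) (p := q)).symm
  have h12 : Q₁ = Q₂ := (PrimeSpectrum.comapEquiv ψ).symm.injective
    (fiber_prime_ext ((key Q₁ q₁ hQ₁).trans (key Q₂ q₂ hQ₂).symm))
  rw [← hQ₁, ← hQ₂, h12]

/-- Transfer of the local dimension of the fibre support. -/
theorem exists_point_localDim_baseChange (p : Ideal R) [p.IsPrime]
    (p' : Ideal R') [p'.IsPrime] [hp' : p'.LiesOver p]
    (hκ : Function.Bijective (Ideal.ResidueField.mapₐ p p' (Algebra.ofId R R') hp'.over))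
    {N N' : Type u} [AddCommGroup N] [Module S N] [Module R N] [IsScalarTower R S N]
    [Module.Finite S N] [AddCommGroup N'] [Module S' N'] [Module R' N'] [IsScalarTower R' S' N']
    [Module S N'] [IsScalarTower S S' N'] {f : N →ₗ[S] N'} (hf : IsBaseChange S' f)
    (q : Ideal S) [q.IsPrime] [q.LiesOver p] (q' : Ideal S') [q'.IsPrime] [q'.LiesOver q]
    [q'.LiesOver p'] {n : WithBot ℕ∞}
    (h : ∃ (ξ : PrimeSpectrum (p.Fiber S)) (hξ : ξ ∈ Module.support (p.Fiber S) (FlatCA.fiberMod p S N)),
      ξ.asIdeal = FlatCA.fiberIdeal p q ∧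
      FlatMor.localDim (Module.support (p.Fiber S) (FlatCA.fiberMod p S N)) ⟨ξ, hξ⟩ = n) :
    ∃ (ξ' : PrimeSpectrum (p'.Fiber S'))
      (hξ' : ξ' ∈ Module.support (p'.Fiber S') (FlatCA.fiberMod p' S' N')),
      ξ'.asIdeal = FlatCA.fiberIdeal p' q' ∧
      FlatMor.localDim (Module.support (p'.Fiber S') (FlatCA.fiberMod p' S' N')) ⟨ξ', hξ'⟩ = n := by
  obtain ⟨ξ, hξ, hξi, hd⟩ := h
  obtain ⟨ψ, hψ, hs⟩ := exists_fiberEquiv (S := S) (S' := S') p p' hκ hf
  obtain ⟨Q', hQ'⟩ := exists_fiber_prime p' q'
  have hQ : PrimeSpectrum.comap ψ.toRingHom Q' = ξ := by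
    refine fiber_prime_ext ?_
    rw [comap_eq_of_asIdeal_eq_fiberIdeal p q ξ hξi, PrimeSpectrum.comap_asIdeal, Ideal.comap_comap,
      show ψ.toRingHom.comp (algebraMap S (p.Fiber S)) =
        (algebraMap S' (p'.Fiber S')).comp (algebraMap S S') from RingHom.ext hψ,
      ← Ideal.comap_comap, hQ']
    exact (Ideal.LiesOver.over (P := q') (p := q)).symm
  have hmem : Q' ∈ Module.support (p'.Fiber S') (FlatCA.fiberMod p' S' N') := (hs Q').2 (hQ ▸ hξ)
  refine ⟨Q', hmem, fiberIdeal_comap p' Q' q' hQ', ?_⟩
  let e : PrimeSpectrum (p'.Fiber S') ≃ₜ PrimeSpectrum (p.Fiber S) :=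
    (PrimeSpectrum.homeomorphOfRingEquiv ψ).symm
  have he : ∀ Q, e Q = PrimeSpectrum.comap ψ.toRingHom Q := fun Q => rfl
  let e' : Module.support (p'.Fiber S') (FlatCA.fiberMod p' S' N') ≃ₜ
      Module.support (p.Fiber S) (FlatCA.fiberMod p S N) :=
    e.subtype (fun Q => (hs Q).trans (by rw [he]))
  rw [Groth.FibreDim.localDim_eq_of_homeomorph e' ⟨Q', hmem⟩, ← hd]
  congr 1
  exact Subtype.ext ((he Q').trans hQ)

omit [Algebra.IsPushout R R' S S'] in
/-- Transfer of pure transcendence along bijections of residue fields. -/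
theorem purelyTranscendental_of_bijective (p : Ideal R) [p.IsPrime]
    (p' : Ideal R') [p'.IsPrime] [hp' : p'.LiesOver p]
    (y : Ideal S) [y.IsPrime] [hy : y.LiesOver p] (y' : Ideal S') [y'.IsPrime] [hy' : y'.LiesOver y]
    [hy'' : y'.LiesOver p']
    (hκ : Function.Bijective (Ideal.ResidueField.mapₐ p p' (Algebra.ofId R R') hp'.over))
    (hb : Function.Bijective (Ideal.ResidueField.mapₐ y y' (Algebra.ofId S S') hy'.over))
    (h : FlatCA.PurelyTranscendental p y) : FlatCA.PurelyTranscendental p' y' := by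
  obtain ⟨ι, x, hx, hadj⟩ := h
  let k := p.ResidueField
  let K := p'.ResidueField
  let L := y.ResidueField
  let L' := y'.ResidueField
  let gk : k →ₐ[R] L := Ideal.ResidueField.mapₐ p y (Algebra.ofId R S) hy.over
  let gK : K →ₐ[R'] L' := Ideal.ResidueField.mapₐ p' y' (Algebra.ofId R' S') hy''.over
  let a : k →ₐ[R] K := Ideal.ResidueField.mapₐ p p' (Algebra.ofId R R') hp'.over
  let b : L →ₐ[S] L' := Ideal.ResidueField.mapₐ y y' (Algebra.ofId S S') hy'.over
  letI : Algebra k L := gk.toRingHom.toAlgebra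
  letI : Algebra K L' := gK.toRingHom.toAlgebra
  have hcomm : b.toRingHom.comp (algebraMap k L) = (algebraMap K L').comp a.toRingHom := by
    refine Ideal.ResidueField.ringHom_ext (RingHom.ext fun r => ?_)
    show b (gk (algebraMap R k r)) = gK (a (algebraMap R k r))
    rw [gk.commutes, a.commutes, IsScalarTower.algebraMap_apply R S L, b.commutes,
      IsScalarTower.algebraMap_apply R R' K, gK.commutes,
      IsScalarTower.algebraMap_apply S S' L', IsScalarTower.algebraMap_apply R' S' L',
      ← IsScalarTower.algebraMap_apply R S S', ← IsScalarTower.algebraMap_apply R R' S']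
  letI : Algebra k K := a.toRingHom.toAlgebra
  letI : Algebra k L' := ((algebraMap K L').comp a.toRingHom).toAlgebra
  haveI : IsScalarTower k K L' := .of_algebraMap_eq' rfl
  let e : L ≃ₐ[k] L' := AlgEquiv.ofBijective
    { b.toRingHom with commutes' := fun r => RingHom.congr_fun hcomm r } hb
  refine ⟨ι, fun i => e (x i), ?_, ?_⟩
  · obtain ⟨hi, hmax⟩ := e.isTranscendenceBasis hx
    let ae : k ≃+* K := RingEquiv.ofBijective a.toRingHom hκ
    have hc : RingHom.comp (algebraMap K L') (ae : k →+* K) =
        RingHom.comp (RingHom.id L') (algebraMap k L') := rfl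
    refine ⟨(algebraicIndependent_ringHom_iff_of_comp_eq ae (RingHom.id L')
      Function.injective_id hc).2 hi, fun s hs hxs => hmax s ?_ hxs⟩
    exact (algebraicIndependent_ringHom_iff_of_comp_eq ae (RingHom.id L')
      Function.injective_id hc).1 hs
  · have h1 := congrArg (IntermediateField.map e.toAlgHom) hadj
    rw [IntermediateField.adjoin_map, ← AlgHom.fieldRange_eq_map,
      (AlgHom.fieldRange_eq_top (f := e.toAlgHom)).2 e.surjective, ← Set.range_comp] at h1
    let ae : k ≃ₐ[k] K := AlgEquiv.ofBijective (Algebra.ofId k K) hκ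
    have h2 := IntermediateField.restrictScalars_adjoin_of_algEquiv (F := k) (E := L') ae
      (funext fun c => (IsScalarTower.algebraMap_apply k K L' c)) (Set.range fun i => e (x i))
    refine IntermediateField.restrictScalars_injective k ?_
    rw [← h2, IntermediateField.restrictScalars_top]
    exact (IntermediateField.restrictScalars_eq_top_iff).2 h1

omit [Algebra.IsPushout R R' S S'] in
/-- Transfer of pure transcendence of the residue field extension. -/
theorem purelyTranscendental_baseChange [Algebra.IsPushout R R' S S'] (p : Ideal R) [p.IsPrime]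
    (p' : Ideal R') [p'.IsPrime] [hp' : p'.LiesOver p]
    (hκ : Function.Bijective (Ideal.ResidueField.mapₐ p p' (Algebra.ofId R R') hp'.over))
    (y : Ideal S) [y.IsPrime] [hy : y.LiesOver p] (y' : Ideal S') [y'.IsPrime] [hy' : y'.LiesOver y]
    [hy'' : y'.LiesOver p'] (h : FlatCA.PurelyTranscendental p y) :
    FlatCA.PurelyTranscendental p' y' := by
  let k := p.ResidueField
  let K := p'.ResidueField
  let L := y.ResidueField
  let L' := y'.ResidueField
  let gk : k →ₐ[R] L := Ideal.ResidueField.mapₐ p y (Algebra.ofId R S) hy.over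
  let gK : K →ₐ[R'] L' := Ideal.ResidueField.mapₐ p' y' (Algebra.ofId R' S') hy''.over
  let a : k →ₐ[R] K := Ideal.ResidueField.mapₐ p p' (Algebra.ofId R R') hp'.over
  let b : L →ₐ[S] L' := Ideal.ResidueField.mapₐ y y' (Algebra.ofId S S') hy'.over
  letI : Algebra k L := gk.toRingHom.toAlgebra
  letI : Algebra K L' := gK.toRingHom.toAlgebra
  have hcomm : b.toRingHom.comp (algebraMap k L) = (algebraMap K L').comp a.toRingHom := by
    refine Ideal.ResidueField.ringHom_ext (RingHom.ext fun r => ?_)
    show b (gk (algebraMap R k r)) = gK (a (algebraMap R k r))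
    rw [gk.commutes, a.commutes, IsScalarTower.algebraMap_apply R S L, b.commutes,
      IsScalarTower.algebraMap_apply R R' K, gK.commutes,
      IsScalarTower.algebraMap_apply S S' L', IsScalarTower.algebraMap_apply R' S' L',
      ← IsScalarTower.algebraMap_apply R S S', ← IsScalarTower.algebraMap_apply R R' S']
  have hbr : ∀ z : S', algebraMap S' L' z ∈ b.toRingHom.fieldRange := by
    intro z
    obtain ⟨w, rfl⟩ :=
      (Algebra.IsPushout.out (R := R) (S := R') (R' := S) (S' := S')).equiv.surjective z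
    induction w with
    | zero => simp
    | add u v hu hv => rw [map_add, map_add]; exact add_mem hu hv
    | tmul r s =>
      rw [IsBaseChange.equiv_tmul, Algebra.smul_def, map_mul]
      refine mul_mem ?_ ⟨algebraMap S L s, ?_⟩
      · obtain ⟨c, hc⟩ := hκ.2 (algebraMap R' K r)
        refine ⟨gk c, ?_⟩
        show b.toRingHom.comp (algebraMap k L) c = _
        rw [hcomm]
        show gK (a c) = _
        rw [show a c = algebraMap R' K r from hc, gK.commutes, ← IsScalarTower.algebraMap_apply R' S' L']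
      · show b (algebraMap S L s) = _
        rw [b.commutes, IsScalarTower.algebraMap_apply S S' L']
        rfl
  have hb : Function.Bijective b := by
    refine ⟨b.toRingHom.injective, fun w => ?_⟩
    obtain ⟨u, v, hv, rfl⟩ := IsFractionRing.div_surjective (S' ⧸ y') w
    obtain ⟨u, rfl⟩ := Ideal.Quotient.mk_surjective u
    obtain ⟨v, rfl⟩ := Ideal.Quotient.mk_surjective v
    exact div_mem (H := b.toRingHom.fieldRange) (hbr u) (hbr v)
  exact purelyTranscendental_of_bijective p p' y y' hκ hb h

/-- Over `q` and `p'` there is a prime. -/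
theorem exists_liesOver_of_bijective (p : Ideal R) [p.IsPrime]
    (p' : Ideal R') [p'.IsPrime] [hp' : p'.LiesOver p]
    (hκ : Function.Bijective (Ideal.ResidueField.mapₐ p p' (Algebra.ofId R R') hp'.over))
    (q : Ideal S) [q.IsPrime] [q.LiesOver p] :
    ∃ q' : Ideal S', q'.IsPrime ∧ q'.LiesOver q ∧ q'.LiesOver p' := by
  obtain ⟨ψ, hψ, -⟩ := exists_fiberEquiv (S := S) (S' := S') p p' hκ (TensorProduct.isBaseChange S S S')
  obtain ⟨Q, hQ⟩ := exists_fiber_prime p q
  let Q' := PrimeSpectrum.comap ψ.symm.toRingHom Q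
  let q' : Ideal S' := Q'.asIdeal.comap (algebraMap S' (p'.Fiber S'))
  refine ⟨q', inferInstance, ⟨?_⟩, ?_⟩
  · show q = ((Q.asIdeal.comap ψ.symm.toRingHom).comap
      (algebraMap S' (p'.Fiber S'))).comap (algebraMap S S')
    rw [Ideal.comap_comap, Ideal.comap_comap, ← hQ]
    congr 1
    ext s
    show _ = ψ.symm (algebraMap S' (p'.Fiber S') (algebraMap S S' s))
    rw [← hψ, RingEquiv.symm_apply_apply]
  · have h := ((PrimeSpectrum.primesOverOrderIsoFiber R' S' p').symm Q').2.2
    rwa [PrimeSpectrum.coe_primesOverOrderIsoFiber_symm_apply] at h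

end Groth.Flatmor4
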