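import Mathlib.AlgebraicGeometry.Fiber
import Mathlib.AlgebraicGeometry.Pullbacks
import Groth.Prelude.Def_MoreMor
import Mathlib.AlgebraicGeometry.Morphisms.Etale
import Mathlib.RingTheory.Unramified.LocalStructure
import Mathlib.RingTheory.Etale.StandardEtale
import Mathlib.Algebra.Polynomial.Lifts
import Mathlib.Algebra.Category.Ring.Constructions

/-! Lifting étale neighbourhoods of fibres. -/

universe u

open AlgebraicGeometry CategoryTheory Limits TensorProduct Polynomial

namespace Groth.Flatmor4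

set_option backward.isDefEq.respectTransparency false in
/-- A standard étale algebra over an algebra of fractions of a quotient lifts to an étale algebra. -/
theorem exists_etale_lift_of_fractions {A T B : Type u} [CommRing A] [CommRing T] [CommRing B]
    [Algebra A T] [Algebra T B] [Algebra A B] [IsScalarTower A T B]
    (hfrac : ∀ c : T, ∃ a s : A, IsUnit (algebraMap A T s) ∧ c * algebraMap A T s = algebraMap A T a)
    [Algebra.IsStandardEtale T B] :
    ∃ (C : Type u) (_ : CommRing C) (_ : Algebra A C) (_ : Algebra C B) (_ : IsScalarTower A C B),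
      Algebra.Etale A C ∧ Algebra.IsPushout A T C B := by
  classical
  obtain ⟨Q⟩ := Algebra.IsStandardEtale.nonempty_standardEtalePresentation (R := T) (S := B)
  choose num den hu heq using hfrac
  let s0 : A := (∏ n ∈ Q.f.support, den (Q.f.coeff n)) * ∏ n ∈ Q.g.support, den (Q.g.coeff n)
  have hs0 : IsUnit (algebraMap A T s0) := by
    simp only [s0, map_mul, map_prod]
    exact (IsUnit.prod_iff.2 fun n _ => hu _).mul (IsUnit.prod_iff.2 fun n _ => hu _)
  let L := Localization.Away s0
  letI : Algebra L T := (IsLocalization.Away.lift s0 hs0).toAlgebra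
  haveI : IsScalarTower A L T := IsScalarTower.of_algebraMap_eq fun a =>
    (IsLocalization.Away.lift_eq (S := L) s0 hs0 a).symm
  have hrange : ∀ c, den c ∣ s0 → c ∈ Set.range (algebraMap L T) := by
    rintro c ⟨w, hw⟩
    refine ⟨IsLocalization.mk' L (num c * w) (⟨s0, Submonoid.mem_powers _⟩ : Submonoid.powers s0), ?_⟩
    refine hs0.mul_left_injective ?_
    show _ * algebraMap A T s0 = c * algebraMap A T s0
    rw [IsScalarTower.algebraMap_apply A L T s0, ← map_mul, IsLocalization.mk'_spec,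
      ← IsScalarTower.algebraMap_apply, ← IsScalarTower.algebraMap_apply, map_mul, hw, map_mul,
      ← mul_assoc, heq c]
  have hf : Q.f ∈ lifts (algebraMap L T) := (lifts_iff_coeff_lifts _).2 fun n => by
    by_cases hn : n ∈ Q.f.support
    · exact hrange _ ((Finset.dvd_prod_of_mem (fun n => den (Q.f.coeff n)) hn).mul_right _)
    · rw [notMem_support_iff.1 hn]; exact ⟨0, map_zero _⟩
  have hg : Q.g ∈ lifts (algebraMap L T) := (lifts_iff_coeff_lifts _).2 fun n => by
    by_cases hn : n ∈ Q.g.support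
    · exact hrange _ ((Finset.dvd_prod_of_mem (fun n => den (Q.g.coeff n)) hn).mul_left _)
    · rw [notMem_support_iff.1 hn]; exact ⟨0, map_zero _⟩
  obtain ⟨f', hf', -, hmon⟩ := lifts_and_natDegree_eq_and_monic hf Q.monic_f
  obtain ⟨g', hg'⟩ := (mem_lifts _).1 hg
  let P : StandardEtalePair L :=
    { f := f'
      monic_f := hmon
      g := g' * derivative f'
      cond := ⟨g', 0, 1, by rw [mul_zero, add_zero, pow_one, mul_comm]⟩ }
  letI : Algebra L B := ((algebraMap T B).comp (algebraMap L T)).toAlgebra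
  haveI : IsScalarTower L T B := IsScalarTower.of_algebraMap_eq fun _ => rfl
  haveI : IsScalarTower A L B := IsScalarTower.of_algebraMap_eq fun a => by
    rw [IsScalarTower.algebraMap_apply A T B, IsScalarTower.algebraMap_apply A L T]; rfl
  have hPx : P.HasMap Q.x := by
    refine ⟨?_, ?_⟩
    · show aeval Q.x f' = 0
      rw [← aeval_map_algebraMap T, hf']
      exact Q.hasMap.1
    · show IsUnit (aeval Q.x (g' * derivative f'))
      rw [← aeval_map_algebraMap T, Polynomial.map_mul, hg', ← derivative_map, hf', map_mul]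
      exact Q.hasMap.2.mul Q.hasMap.isUnit_derivative_f
  letI : Algebra A P.Ring := ((algebraMap L P.Ring).comp (algebraMap A L)).toAlgebra
  haveI : IsScalarTower A L P.Ring := IsScalarTower.of_algebraMap_eq fun _ => rfl
  let θ : P.Ring →ₐ[L] B := P.lift Q.x hPx
  letI : Algebra P.Ring B := θ.toRingHom.toAlgebra
  haveI : IsScalarTower A P.Ring B := IsScalarTower.of_algebraMap_eq fun a => by
    show algebraMap A B a = θ (algebraMap L P.Ring (algebraMap A L a))
    rw [AlgHom.commutes, ← IsScalarTower.algebraMap_apply]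
  haveI : Algebra.Etale A L := Algebra.Etale.of_isLocalizationAway s0
  refine ⟨P.Ring, inferInstance, inferInstance, inferInstance, inferInstance,
    Algebra.Etale.comp A L P.Ring, ?_⟩
  let fwd : T ⊗[A] P.Ring →ₐ[T] B :=
    Algebra.TensorProduct.lift (Algebra.ofId T B) (θ.restrictScalars A) fun _ _ => .all _ _
  let inr : P.Ring →ₐ[L] T ⊗[A] P.Ring :=
    { (Algebra.TensorProduct.includeRight : P.Ring →ₐ[A] T ⊗[A] P.Ring).toRingHom with
      commutes' := fun l => by
        have key : ((Algebra.TensorProduct.includeRight : P.Ring →ₐ[A] T ⊗[A] P.Ring).comp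
            (IsScalarTower.toAlgHom A L P.Ring)) = IsScalarTower.toAlgHom A L (T ⊗[A] P.Ring) :=
          IsLocalization.algHom_ext (Submonoid.powers s0) (by ext)
        exact AlgHom.congr_fun key l }
  let y : T ⊗[A] P.Ring := inr P.X
  have hQy : Q.HasMap y := by
    have h := P.hasMap_X.map inr
    refine ⟨?_, ?_⟩
    · rw [← hf', aeval_map_algebraMap]
      exact h.1
    · have h2 : IsUnit (aeval y (g' * derivative f')) := h.2
      rw [map_mul] at h2
      rw [← hg', aeval_map_algebraMap]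
      exact isUnit_of_mul_isUnit_left h2
  let bwd : B →ₐ[T] T ⊗[A] P.Ring := (Q.lift y hQy).comp Q.equivRing.toAlgHom
  have hbwd : bwd Q.x = y := by
    show Q.lift y hQy (Q.equivRing Q.x) = y
    rw [Q.equivRing_x, StandardEtalePair.lift_X]
  have hfwd : fwd y = Q.x := by
    show fwd (1 ⊗ₜ P.X) = Q.x
    simp [fwd, θ, StandardEtalePair.lift_X]
  have h1 : fwd.comp bwd = AlgHom.id T B := Q.hom_ext (by
    show fwd (bwd Q.x) = Q.x
    rw [hbwd, hfwd])
  have h2 : bwd.comp fwd = AlgHom.id T _ := by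
    refine Algebra.TensorProduct.ext' fun t c => ?_
    have hc : bwd (θ c) = (1 : T) ⊗ₜ[A] c := by
      have := P.hom_ext (f := (bwd.restrictScalars L).comp θ) (g := inr) (by
        show bwd (θ P.X) = y
        rw [StandardEtalePair.lift_X, hbwd])
      exact AlgHom.congr_fun this c
    show bwd (fwd (t ⊗ₜ c)) = t ⊗ₜ c
    simp only [fwd, Algebra.TensorProduct.lift_tmul, map_mul, Algebra.ofId_apply, AlgHom.commutes]
    show algebraMap T _ t * bwd (θ c) = _
    rw [hc, Algebra.TensorProduct.algebraMap_apply, Algebra.TensorProduct.tmul_mul_tmul, mul_one,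
      one_mul, Algebra.algebraMap_self_apply]
  letI : Algebra P.Ring (T ⊗[A] P.Ring) := Algebra.TensorProduct.rightAlgebra
  exact .of_equiv (AlgEquiv.ofAlgHom fwd bwd h1 h2) (RingHom.ext fun c => by
    show fwd ((1 : T) ⊗ₜ c) = θ c
    simp [fwd])


/-- Post-composing the legs of a cartesian square with a monomorphism keeps it cartesian. -/
theorem isPullback_comp_mono {C : Type*} [Category C] {P X Y Z Z' : C} {a : P ⟶ X} {b : P ⟶ Y}
    {p : X ⟶ Z} {q : Y ⟶ Z} (h : IsPullback a b p q) (m : Z ⟶ Z') [Mono m] :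
    IsPullback a b (p ≫ m) (q ≫ m) := by
  refine ⟨⟨by rw [reassoc_of% h.w]⟩, ⟨PullbackCone.IsLimit.mk _ (fun c => h.lift c.fst c.snd ?_)
    (fun c => h.lift_fst _ _ _) (fun c => h.lift_snd _ _ _) fun c l h1 h2 => h.hom_ext ?_ ?_⟩⟩
  · rw [← cancel_mono m, Category.assoc, Category.assoc]; exact c.condition
  · rw [h.lift_fst]; exact h1
  · rw [h.lift_snd]; exact h2

/-- Elements of the residue field are fractions of sections. -/
theorem exists_residueField_fraction {S : Scheme.{u}} {U : S.Opens} (hU : IsAffineOpen U) {s : S}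
    (hs : s ∈ U) (c : S.residueField s) :
    ∃ r t : Γ(S, U), IsUnit ((S.presheaf.germ U s hs ≫ S.residue s) t) ∧
      c * (S.presheaf.germ U s hs ≫ S.residue s) t = (S.presheaf.germ U s hs ≫ S.residue s) r := by
  obtain ⟨y, rfl⟩ := S.residue_surjective s c
  let := TopCat.Presheaf.algebra_section_stalk S.presheaf (⟨s, hs⟩ : U)
  have := hU.isLocalization_stalk ⟨s, hs⟩
  obtain ⟨⟨r, t⟩, hrt⟩ := IsLocalization.surj (hU.primeIdealOf ⟨s, hs⟩).asIdeal.primeCompl y
  refine ⟨r, t, (IsLocalization.map_units (S.presheaf.stalk s) t).map (S.residue s).hom, ?_⟩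
  have := congrArg (S.residue s).hom hrt
  rw [map_mul] at this
  exact this

set_option backward.isDefEq.respectTransparency false in
/-- An étale neighbourhood of a point in a fibre lifts to the total space. -/
theorem exists_etale_lift_fibre_nbhd {X S V : Scheme.{u}} (f : X ⟶ S) (x : X)
    (g : V ⟶ f.fiber (f x)) [Etale g] (v : V) (hv : g v = f.asFiber x) :
    ∃ (U : Scheme.{u}) (p : U ⟶ X) (u : U) (m : (p ≫ f).fiber (f x) ⟶ V)
      (u' : ↑((p ≫ f).fiber (f x))),
      Etale p ∧ p u = x ∧ IsOpenImmersion m ∧ m ≫ g = MoreMor.fiberMap p f (f x) ∧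
      (p ≫ f).fiberι (f x) u' = u ∧ m u' = v := by
  classical
  obtain ⟨_, ⟨S₀, hS, rfl⟩, hsS, -⟩ :=
    S.isBasis_affineOpens.exists_subset_of_mem_open (Set.mem_univ (f x)) isOpen_univ
  obtain ⟨_, ⟨X₀, hX, rfl⟩, hxX, hXS⟩ :=
    X.isBasis_affineOpens.exists_subset_of_mem_open (a := x) hsS (f ⁻¹ᵁ S₀).isOpen
  let ψ : Γ(S, S₀) ⟶ S.residueField (f x) := S.presheaf.germ S₀ (f x) hsS ≫ S.residue (f x)
  letI : Algebra Γ(S, S₀) Γ(X, X₀) := (f.appLE S₀ X₀ hXS).hom.toAlgebra
  letI : Algebra Γ(S, S₀) (S.residueField (f x)) := ψ.hom.toAlgebra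
  let T := Γ(X, X₀) ⊗[Γ(S, S₀)] (S.residueField (f x))
  have hκ : S.fromSpecResidueField (f x) = Spec.map ψ ≫ hS.fromSpec := by
    rw [Spec.map_comp, Category.assoc, Scheme.fromSpecResidueField,
      ← hS.fromSpecStalk_eq_fromSpecStalk hsS]
    rfl
  let lef : CommRingCat.of Γ(X, X₀) ⟶ CommRingCat.of T :=
    CommRingCat.ofHom (algebraMap Γ(X, X₀) T)
  let rig : CommRingCat.of (S.residueField (f x)) ⟶ CommRingCat.of T :=
    CommRingCat.ofHom (Algebra.TensorProduct.includeRight :
      S.residueField (f x) →ₐ[Γ(S, S₀)] T).toRingHom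
  have sq0 : IsPullback (Spec.map lef) (Spec.map rig) (Spec.map (f.appLE S₀ X₀ hXS)) (Spec.map ψ) :=
    isPullback_SpecMap_of_isPushout _ _ _ _
      (CommRingCat.isPushout_tensorProduct Γ(S, S₀) Γ(X, X₀) (S.residueField (f x)))
  have sq1 : IsPullback (Spec.map lef) (Spec.map rig) (hX.fromSpec ≫ f) (S.fromSpecResidueField (f x)) := by
    rw [hκ, ← hS.SpecMap_appLE_fromSpec f hX hXS]
    exact isPullback_comp_mono sq0 hS.fromSpec
  have sqF : IsPullback (f.fiberι (f x)) (f.fiberToSpecResidueField (f x)) f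
      (S.fromSpecResidueField (f x)) := IsPullback.of_hasPullback _ _
  let ιT : Spec (CommRingCat.of T) ⟶ f.fiber (f x) :=
    sqF.lift (Spec.map lef ≫ hX.fromSpec) (Spec.map rig) (by rw [Category.assoc]; exact sq1.w)
  have sq2 : IsPullback (Spec.map lef) ιT hX.fromSpec (f.fiberι (f x)) := by
    refine IsPullback.of_bot ?_ (sqF.lift_fst _ _ _).symm sqF
    rw [sqF.lift_snd]
    exact sq1
  haveI : IsOpenImmersion ιT := MorphismProperty.of_isPullback sq2 inferInstance
  obtain ⟨w, hw⟩ : f.asFiber x ∈ Set.range ιT := by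
    rw [← sq2.isoPullback_hom_snd]
    have : f.asFiber x ∈ Set.range (pullback.snd hX.fromSpec (f.fiberι (f x))) := by
      rw [Scheme.Pullback.range_snd, Set.mem_preimage, hX.range_fromSpec]
      rw [Scheme.Hom.fiberι_asFiber]
      exact hxX
    obtain ⟨w0, hw0⟩ := this
    refine ⟨sq2.isoPullback.inv w0, ?_⟩
    rw [← Scheme.Hom.comp_apply, Iso.inv_hom_id_assoc]
    exact hw0
  obtain ⟨v', hv'⟩ : v ∈ Set.range (pullback.fst g ιT) := by
    rw [Scheme.Pullback.range_fst]
    exact ⟨w, hw.trans hv.symm⟩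
  obtain ⟨_, ⟨W, hW, rfl⟩, hvW, -⟩ :=
    (pullback g ιT).isBasis_affineOpens.exists_subset_of_mem_open (Set.mem_univ v') isOpen_univ
  obtain ⟨ρ, hρ⟩ := Spec.map_surjective (hW.fromSpec ≫ pullback.snd g ιT)
  haveI : Etale (Spec.map ρ) := by rw [hρ]; infer_instance
  have hρe : ρ.hom.Etale := (HasRingHomProperty.Spec_iff (P := @Etale)).mp ‹_›
  algebraize [ρ.hom]
  let Q := hW.primeIdealOf ⟨v', hvW⟩
  obtain ⟨b, hb, hstd⟩ := Algebra.IsEtaleAt.exists_isStandardEtale (R := T) Q.asIdeal
  let Bb := Localization.Away b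
  letI : Algebra Γ(X, X₀) Bb := ((algebraMap T Bb).comp (algebraMap Γ(X, X₀) T)).toAlgebra
  haveI : IsScalarTower Γ(X, X₀) T Bb := IsScalarTower.of_algebraMap_eq fun _ => rfl
  have hfrac : ∀ c : T, ∃ a s : Γ(X, X₀), IsUnit (algebraMap Γ(X, X₀) T s) ∧
      c * algebraMap Γ(X, X₀) T s = algebraMap Γ(X, X₀) T a := by
    intro c
    induction c using TensorProduct.induction_on with
    | zero => exact ⟨0, 1, by rw [map_one]; exact isUnit_one, by simp⟩
    | tmul a k =>
      obtain ⟨r, t, ht, hk⟩ := exists_residueField_fraction hS hsS k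
      have hkey : ∀ z : Γ(S, S₀), algebraMap Γ(X, X₀) T (algebraMap Γ(S, S₀) Γ(X, X₀) z) =
          (1 : Γ(X, X₀)) ⊗ₜ[Γ(S, S₀)] algebraMap Γ(S, S₀) (S.residueField (f x)) z := fun z => by
        rw [Algebra.TensorProduct.algebraMap_apply, Algebra.algebraMap_self_apply,
          Algebra.algebraMap_eq_smul_one (R := Γ(S, S₀)) (A := Γ(X, X₀)), TensorProduct.smul_tmul,
          ← Algebra.algebraMap_eq_smul_one]
      refine ⟨a * algebraMap Γ(S, S₀) Γ(X, X₀) r, algebraMap Γ(S, S₀) Γ(X, X₀) t, ?_, ?_⟩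
      · rw [hkey]
        exact IsUnit.map (Algebra.TensorProduct.includeRight :
          S.residueField (f x) →ₐ[Γ(S, S₀)] T) ht
      · rw [map_mul, hkey, hkey, Algebra.TensorProduct.algebraMap_apply, Algebra.TensorProduct.tmul_mul_tmul,
          Algebra.TensorProduct.tmul_mul_tmul, mul_one, one_mul, Algebra.algebraMap_self_apply]
        congr 1
        · rw [mul_one]
    | add c d hc hd =>
      obtain ⟨a, s, hs, hc⟩ := hc
      obtain ⟨a', s', hs', hd⟩ := hd
      refine ⟨a * s' + a' * s, s * s', by rw [map_mul]; exact hs.mul hs', ?_⟩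
      rw [map_mul, map_add, map_mul, map_mul, ← hc, ← hd]
      ring
  obtain ⟨C, _, _, _, _, hCet, hpush⟩ := exists_etale_lift_of_fractions (A := Γ(X, X₀)) (T := T) (B := Bb) hfrac
  let p : Spec (CommRingCat.of C) ⟶ X :=
    Spec.map (CommRingCat.ofHom (algebraMap Γ(X, X₀) C)) ≫ hX.fromSpec
  let k : Spec (CommRingCat.of Bb) ⟶ V :=
    Spec.map (CommRingCat.ofHom (algebraMap Γ(pullback g ιT, W) Bb)) ≫ hW.fromSpec ≫ pullback.fst g ιT
  haveI : IsOpenImmersion (Spec.map (CommRingCat.ofHom (algebraMap Γ(pullback g ιT, W) Bb))) :=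
    IsOpenImmersion.of_isLocalization b
  haveI : IsOpenImmersion k := by dsimp only [k]; infer_instance
  have hkg : k ≫ g = Spec.map (CommRingCat.ofHom (algebraMap T Bb)) ≫ ιT := by
    simp only [k, Category.assoc, pullback.condition]
    rw [← reassoc_of% hρ, ← Spec.map_comp_assoc]
    rfl
  have sq3 : IsPullback (Spec.map (CommRingCat.ofHom (algebraMap C Bb)))
      (Spec.map (CommRingCat.ofHom (algebraMap T Bb)))
      (Spec.map (CommRingCat.ofHom (algebraMap Γ(X, X₀) C))) (Spec.map lef) :=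
    (isPullback_SpecMap_of_isPushout _ _ _ _ (CommRingCat.isPushout_iff_isPushout.mpr hpush)).flip
  have sq4 : IsPullback (Spec.map (CommRingCat.ofHom (algebraMap C Bb))) (k ≫ g) p (f.fiberι (f x)) := by
    rw [hkg]
    exact sq3.paste_vert sq2
  have sq5 : IsPullback (Spec.map (CommRingCat.ofHom (algebraMap C Bb)))
      ((k ≫ g) ≫ f.fiberToSpecResidueField (f x)) (p ≫ f) (S.fromSpecResidueField (f x)) :=
    sq4.paste_vert sqF
  let e : Spec (CommRingCat.of Bb) ≅ (p ≫ f).fiber (f x) := sq5.isoPullback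
  have he1 : e.hom ≫ (p ≫ f).fiberι (f x) = Spec.map (CommRingCat.ofHom (algebraMap C Bb)) :=
    sq5.isoPullback_hom_fst
  have he2 : e.hom ≫ (p ≫ f).fiberToSpecResidueField (f x) =
      (k ≫ g) ≫ f.fiberToSpecResidueField (f x) := sq5.isoPullback_hom_snd
  obtain ⟨q, hq⟩ : Q ∈ Set.range (PrimeSpectrum.comap (algebraMap Γ(pullback g ιT, W) Bb)) := by
    rw [PrimeSpectrum.localization_away_comap_range Bb b]; exact hb
  have hkq : k q = v := by
    show pullback.fst g ιT (hW.fromSpec (PrimeSpectrum.comap _ q)) = v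
    erw [hq, hW.fromSpec_primeIdealOf]
    exact hv'
  haveI : Etale (Spec.map (CommRingCat.ofHom (algebraMap Γ(X, X₀) C))) := by
    rw [HasRingHomProperty.Spec_iff (P := @Etale)]
    exact RingHom.etale_algebraMap.mpr hCet
  refine ⟨_, p, (p ≫ f).fiberι (f x) (e.hom q), e.inv ≫ k, e.hom q, by dsimp only [p]; infer_instance,
    ?_, inferInstance, ?_, rfl, ?_⟩
  · calc p ((p ≫ f).fiberι (f x) (e.hom q))
        = (e.hom ≫ (p ≫ f).fiberι (f x) ≫ p) q := rfl
      _ = ((k ≫ g) ≫ f.fiberι (f x)) q := by rw [reassoc_of% he1, sq4.w]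
      _ = f.fiberι (f x) (g (k q)) := rfl
      _ = x := by rw [hkq, hv, Scheme.Hom.fiberι_asFiber]
  · rw [← cancel_epi e.hom, Category.assoc e.inv k g, Iso.hom_inv_id_assoc]
    apply sqF.hom_ext
    · rw [Category.assoc e.hom, MoreMor.fiberMap]
      erw [pullback.lift_fst]
      rw [reassoc_of% he1]
      exact sq4.w.symm
    · rw [Category.assoc e.hom, MoreMor.fiberMap]
      erw [pullback.lift_snd]
      exact he2.symm
  · calc (e.inv ≫ k) (e.hom q) = (e.hom ≫ e.inv ≫ k) q := rfl
      _ = v := by rw [Iso.hom_inv_id_assoc]; exact hkq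

end Groth.Flatmor4
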