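import Mathlib
import Groth.Prelude.Def_FlatCA
import Groth.Agent.Flatmor4.DevissageAt
import Groth.Agent.Flatmor4.EtaleFibreLift
import Groth.Agent.FibreDim.BaseChange

/-!
Standard shrinkings of dévissages.
-/

set_option autoImplicit false
set_option linter.style.haveILetI false

universe u

open TensorProduct CategoryTheory CategoryTheory.Limits AlgebraicGeometry TopologicalSpace

namespace Groth.Flatmor4

attribute [local instance] Algebra.TensorProduct.rightAlgebra

/-- Localizations away from two elements with the same nonvanishing locus agree. -/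
theorem away_of_dvd_pow {A A' : Type u} [CommRing A] [CommRing A'] [Algebra A A'] (c t : A)
    [IsLocalization.Away c A'] {k m : ℕ} (hct : c ∣ t ^ m) (htc : t ∣ c ^ k) :
    IsLocalization.Away t A' := by
  obtain ⟨a, ha⟩ := hct
  obtain ⟨b, hb⟩ := htc
  have hu : IsUnit (algebraMap A A' t) := by
    refine isUnit_of_dvd_unit (y := algebraMap A A' (c ^ k)) (map_dvd _ ⟨b, hb⟩) ?_
    rw [map_pow]; exact (IsLocalization.Away.algebraMap_isUnit c).pow _
  refine IsLocalization.Away.mk t hu (fun x => ?_) (fun x y h => ?_)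
  · obtain ⟨n, r, hr⟩ := IsLocalization.Away.surj c x
    refine ⟨m * n, r * a ^ n, ?_⟩
    rw [← map_pow, pow_mul, ha, mul_pow, map_mul, map_pow, ← mul_assoc, hr, map_mul]
  · obtain ⟨n, hn⟩ := IsLocalization.Away.exists_of_eq c h
    exact ⟨m * n, by rw [pow_mul, ha, mul_pow]; linear_combination (a ^ n) * hn⟩

/-- A localization map induces bijections of residue fields. -/
theorem bijective_residueField_of_away {A A' : Type u} [CommRing A] [CommRing A'] [Algebra A A']
    (s : A) [IsLocalization.Away s A'] (y : Ideal A) [y.IsPrime] (y' : Ideal A') [y'.IsPrime]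
    [hy : y'.LiesOver y] :
    Function.Bijective (Ideal.ResidueField.mapₐ y y' (Algebra.ofId A A') hy.over) := by
  let b := Ideal.ResidueField.mapₐ y y' (Algebra.ofId A A') hy.over
  have hbr : ∀ z : A', algebraMap A' y'.ResidueField z ∈ b.toRingHom.fieldRange := by
    intro z
    obtain ⟨n, r, hr⟩ := IsLocalization.Away.surj s z
    have hs : algebraMap A y'.ResidueField (s ^ n) ≠ 0 := by
      rw [IsScalarTower.algebraMap_apply A A' y'.ResidueField, map_pow]
      exact (((IsLocalization.Away.algebraMap_isUnit s).pow n).map _).ne_zero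
    have : algebraMap A' y'.ResidueField z =
        algebraMap A y'.ResidueField r / algebraMap A y'.ResidueField (s ^ n) := by
      rw [eq_div_iff hs, IsScalarTower.algebraMap_apply A A' y'.ResidueField,
        IsScalarTower.algebraMap_apply A A' y'.ResidueField, ← map_mul, map_pow, hr]
    rw [this]
    exact div_mem (H := b.toRingHom.fieldRange) ⟨_, b.commutes r⟩ ⟨_, b.commutes _⟩
  refine ⟨b.toRingHom.injective, fun w => ?_⟩
  obtain ⟨u, v, hv, rfl⟩ := IsFractionRing.div_surjective (A' ⧸ y') w
  obtain ⟨u, rfl⟩ := Ideal.Quotient.mk_surjective u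
  obtain ⟨v, rfl⟩ := Ideal.Quotient.mk_surjective v
  exact div_mem (H := b.toRingHom.fieldRange) (hbr u) (hbr v)

section geometry

variable {R D R' D' : Type u} [CommRing R] [CommRing D] [CommRing R'] [CommRing D'] [Algebra R D]
  [Algebra R R'] [Algebra D D'] [Algebra R' D'] [Algebra R D'] [IsScalarTower R R' D']
  [IsScalarTower R D D'] (g : R) [IsLocalization.Away g R'] (t : D) [IsLocalization.Away t D']

include g t

theorem isPullback_shrink :
    IsPullback (𝟙 (Spec (CommRingCat.of D'))) (Spec.map (CommRingCat.ofHom (algebraMap R' D')))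
      (Spec.map (CommRingCat.ofHom (algebraMap D D')) ≫ Spec.map (CommRingCat.ofHom (algebraMap R D)))
      (Spec.map (CommRingCat.ofHom (algebraMap R R'))) := by
  haveI : IsOpenImmersion (Spec.map (CommRingCat.ofHom (algebraMap R R'))) :=
    IsOpenImmersion.of_isLocalization g
  have h := isPullback_comp_mono
    (IsPullback.of_id_fst (f := Spec.map (CommRingCat.ofHom (algebraMap R' D'))))
    (Spec.map (CommRingCat.ofHom (algebraMap R R')))
  simp only [Category.id_comp] at h
  convert h using 1
  rw [← Spec.map_comp, ← Spec.map_comp, ← CommRingCat.ofHom_comp, ← CommRingCat.ofHom_comp,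
    ← IsScalarTower.algebraMap_eq, ← IsScalarTower.algebraMap_eq]

theorem smoothRelDim_shrink {n : ℕ} (h : FlatCA.SmoothRelDim n R D) :
    FlatCA.SmoothRelDim n R' D' := by
  haveI : IsOpenImmersion (Spec.map (CommRingCat.ofHom (algebraMap D D'))) :=
    IsOpenImmersion.of_isLocalization t
  haveI := smoothOfRelativeDimension_isStableUnderBaseChange n
  refine MorphismProperty.of_isPullback (P := @SmoothOfRelativeDimension n)
    (isPullback_shrink (D := D) g t) ?_
  haveI := h
  have := smoothOfRelativeDimension_comp (n := 0) (m := n)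
    (Spec.map (CommRingCat.ofHom (algebraMap D D'))) (Spec.map (CommRingCat.ofHom (algebraMap R D)))
  rwa [zero_add] at this

theorem geomIrred_shrink (h : FlatCA.GeomIrredFibres R D)
    (hsurj : ∀ P : Ideal R, P.IsPrime → g ∉ P →
      ∃ Q : Ideal D, Q.IsPrime ∧ Q.comap (algebraMap R D) = P ∧ t ∉ Q) :
    FlatCA.GeomIrredFibres R' D' := by
  let f' := Spec.map (CommRingCat.ofHom (algebraMap R' D'))
  let f := Spec.map (CommRingCat.ofHom (algebraMap R D))
  let i := Spec.map (CommRingCat.ofHom (algebraMap R R'))
  let j := Spec.map (CommRingCat.ofHom (algebraMap D D'))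
  haveI : IsOpenImmersion i := IsOpenImmersion.of_isLocalization g
  haveI : IsOpenImmersion j := IsOpenImmersion.of_isLocalization t
  haveI : Surjective f' := ⟨fun P => by
    let P₀ : Ideal R := P.asIdeal.comap (algebraMap R R')
    have hg : g ∉ P₀ := fun hmem => P.isPrime.ne_top (Ideal.eq_top_of_isUnit_mem _ hmem
      (IsLocalization.Away.algebraMap_isUnit g))
    obtain ⟨Q, hQ, hQP, htQ⟩ := hsurj P₀ inferInstance hg
    obtain ⟨Q', hQ'⟩ : (⟨Q, hQ⟩ : PrimeSpectrum D) ∈ Set.range (PrimeSpectrum.comap (algebraMap D D')) := by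
      rw [PrimeSpectrum.localization_away_comap_range D' t]; exact htQ
    refine ⟨Q', PrimeSpectrum.localization_comap_injective R' (Submonoid.powers g)
      (PrimeSpectrum.ext ?_)⟩
    show (Q'.asIdeal.comap (algebraMap R' D')).comap (algebraMap R R') = P₀
    rw [Ideal.comap_comap, ← IsScalarTower.algebraMap_eq, IsScalarTower.algebraMap_eq R D D',
      ← Ideal.comap_comap, show Q'.asIdeal.comap (algebraMap D D') = Q from
        congrArg PrimeSpectrum.asIdeal hQ', hQP]⟩
  haveI := h
  refine ⟨fun K _ y W a b hW => ?_⟩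
  haveI : Surjective b := MorphismProperty.of_isPullback (P := @Surjective) hW inferInstance
  haveI : Nonempty W := ⟨(b.surjective (IsLocalRing.closedPoint K)).choose⟩
  have hV := IsPullback.of_hasPullback f (y ≫ i)
  haveI := h.geometrically_irreducibleSpace (y ≫ i) _ _ hV
  have hW' : IsPullback a b (j ≫ f) (y ≫ i) := by
    have := isPullback_comp_mono hW i
    convert this using 1
    show Spec.map _ ≫ Spec.map _ = Spec.map _ ≫ Spec.map _
    rw [← Spec.map_comp, ← Spec.map_comp, ← CommRingCat.ofHom_comp, ← CommRingCat.ofHom_comp,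
      ← IsScalarTower.algebraMap_eq, ← IsScalarTower.algebraMap_eq]
  let m : W ⟶ pullback f (y ≫ i) := hV.lift (a ≫ j) b (by rw [Category.assoc]; exact hW'.w)
  have hm : IsPullback a m j (pullback.fst f (y ≫ i)) := by
    refine IsPullback.of_bot ?_ (hV.lift_fst _ _ _).symm hV
    rw [hV.lift_snd]
    exact hW'
  haveI : IsOpenImmersion m := MorphismProperty.of_isPullback (P := @IsOpenImmersion) hm inferInstance
  have hirr := (IrreducibleSpace.isIrreducible_univ (pullback f (y ≫ i) : Scheme.{u})).isPreirreducible.preimage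
    m.isOpenEmbedding
  rw [Set.preimage_univ] at hirr
  haveI : PreirreducibleSpace W := ⟨hirr⟩
  exact { toPreirreducibleSpace := ‹_›, toNonempty := ‹_› }

end geometry

section support

variable {R S : Type u} [CommRing R] [CommRing S] [Algebra R S] (p : Ideal R) [p.IsPrime]
  (N : Type u) [AddCommGroup N] [Module S N] [Module R N] [IsScalarTower R S N] [Module.Finite S N]

/-- The support of `N` over the point `p`. -/
def supportOver : Set (PrimeSpectrum S) :=
  {Q | Q.asIdeal.comap (algebraMap R S) = p} ∩ Module.support S N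

omit [Module R N] [IsScalarTower R S N] in
theorem exists_fibreSupport_homeomorph :
    ∃ h : Module.support (p.Fiber S) (FlatCA.fiberMod p S N) ≃ₜ supportOver (S := S) p N,
      ∀ ξ, (h ξ).1.asIdeal = ξ.1.asIdeal.comap (algebraMap S (p.Fiber S)) := by
  let pt : PrimeSpectrum R := ⟨p, ‹_›⟩
  let h₀ := (PrimeSpectrum.preimageHomeomorphFiber R S pt).symm
  haveI : IsScalarTower S (p.Fiber S) (FlatCA.fiberMod p S N) :=
    inferInstanceAs (IsScalarTower S (p.Fiber S) ((p.Fiber S) ⊗[S] N))
  have hb : IsBaseChange (p.Fiber S) (FlatCA.toFiberMod p S N) :=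
    TensorProduct.isBaseChange S N (p.Fiber S)
  have hs := fun Q => mem_support_isBaseChange hb Q
  have hv : ∀ ξ, (h₀ ξ).1 = PrimeSpectrum.comap (algebraMap S (p.Fiber S)) ξ := fun ξ => rfl
  refine ⟨{ toFun := fun ξ => ⟨(h₀ ξ.1).1, congrArg PrimeSpectrum.asIdeal (h₀ ξ.1).2,
              hv ξ.1 ▸ (hs ξ.1).1 ξ.2⟩
            invFun := fun Q => ⟨h₀.symm ⟨Q.1, PrimeSpectrum.ext Q.2.1⟩, (hs _).2 ?_⟩
            left_inv := fun ξ => Subtype.ext (h₀.symm_apply_apply ξ.1)
            right_inv := fun Q => Subtype.ext (show (h₀ (h₀.symm ⟨Q.1, PrimeSpectrum.ext Q.2.1⟩)).1 = Q.1 by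
              rw [Homeomorph.apply_symm_apply])
            continuous_toFun := (continuous_subtype_val.comp (h₀.continuous.comp continuous_subtype_val)).subtype_mk _
            continuous_invFun := (h₀.symm.continuous.comp (continuous_subtype_val.subtype_mk _)).subtype_mk _ },
    fun ξ => rfl⟩
  rw [← hv, h₀.apply_symm_apply]
  exact Q.2.2

theorem topologicalKrullDim_support :
    topologicalKrullDim (Module.support S N) = Module.supportDim S N := by
  rw [Module.supportDim_eq_ringKrullDim_quotient_annihilator,
    ← PrimeSpectrum.topologicalKrullDim_eq_ringKrullDim]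
  have he := PrimeSpectrum.isClosedEmbedding_comap_of_surjective (S ⧸ Module.annihilator S N) _
    Ideal.Quotient.mk_surjective
  have hr : Set.range (PrimeSpectrum.comap (Ideal.Quotient.mk (Module.annihilator S N))) =
      Module.support S N := by
    rw [range_comap_of_surjective _ _ Ideal.Quotient.mk_surjective, Ideal.mk_ker,
      Module.support_eq_zeroLocus]
  exact ((he.isEmbedding.toHomeomorph.trans (Homeomorph.setCongr hr)).isHomeomorph.topologicalKrullDim_eq _).symm

variable {R' S' : Type u} [CommRing R'] [CommRing S'] [Algebra R R'] [Algebra S S'] [Algebra R' S']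
  [Algebra R S'] [IsScalarTower R R' S'] [IsScalarTower R S S'] (g : R) [IsLocalization.Away g R']
  (s : S) [IsLocalization.Away s S'] (p' : Ideal R') [p'.IsPrime] [hp : p'.LiesOver p]
  {N' : Type u} [AddCommGroup N'] [Module S' N'] [Module R' N'] [IsScalarTower R' S' N'] [Module S N']
  [IsScalarTower S S' N'] {f : N →ₗ[S] N'} [IsLocalizedModule (Submonoid.powers s) f]

include g s f in
theorem fibreSupport_shrink {n : WithBot ℕ∞} (q : Ideal S) [q.IsPrime] [q.LiesOver p] (q' : Ideal S')
    [q'.IsPrime] [q'.LiesOver q] [q'.LiesOver p']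
    (h1 : ∃ (ξ : PrimeSpectrum (p.Fiber S)) (hξ : ξ ∈ Module.support (p.Fiber S) (FlatCA.fiberMod p S N)),
      ξ.asIdeal = FlatCA.fiberIdeal p q ∧
      FlatMor.localDim (Module.support (p.Fiber S) (FlatCA.fiberMod p S N)) ⟨ξ, hξ⟩ = n) :
    (Module.supportDim (p.Fiber S) (FlatCA.fiberMod p S N) = n →
      Module.supportDim (p'.Fiber S') (FlatCA.fiberMod p' S' N') = n) ∧
    ∃ (ξ : PrimeSpectrum (p'.Fiber S'))
      (hξ : ξ ∈ Module.support (p'.Fiber S') (FlatCA.fiberMod p' S' N')),
      ξ.asIdeal = FlatCA.fiberIdeal p' q' ∧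
      FlatMor.localDim (Module.support (p'.Fiber S') (FlatCA.fiberMod p' S' N')) ⟨ξ, hξ⟩ = n := by
  have hf : IsBaseChange S' f := IsLocalizedModule.isBaseChange (Submonoid.powers s) S' f
  haveI : Module.Finite S' N' := Module.Finite.equiv hf.equiv
  obtain ⟨h, hh⟩ := exists_fibreSupport_homeomorph (S := S) p N
  obtain ⟨h', hh'⟩ := exists_fibreSupport_homeomorph (S := S') p' N'
  let e := PrimeSpectrum.comap (algebraMap S S')
  have hT : supportOver (S := S') p' N' = e ⁻¹' supportOver (S := S) p N := by
    ext Q
    refine and_congr ?_ (mem_support_isBaseChange hf Q)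
    show Q.asIdeal.comap (algebraMap R' S') = p' ↔
      (Q.asIdeal.comap (algebraMap S S')).comap (algebraMap R S) = p
    rw [Ideal.comap_comap, ← IsScalarTower.algebraMap_eq, IsScalarTower.algebraMap_eq R R' S',
      ← Ideal.comap_comap]
    constructor
    · intro h; rw [h]; exact hp.over.symm
    · intro h
      exact congrArg PrimeSpectrum.asIdeal (PrimeSpectrum.localization_comap_injective R'
        (Submonoid.powers g) (a₁ := ⟨Q.asIdeal.comap (algebraMap R' S'), inferInstance⟩)
        (a₂ := ⟨p', ‹_›⟩) (PrimeSpectrum.ext (h.trans hp.over)))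
  have he : Topology.IsOpenEmbedding e := PrimeSpectrum.localization_away_isOpenEmbedding S' s
  let φ : Module.support (p'.Fiber S') (FlatCA.fiberMod p' S' N') →
      Module.support (p.Fiber S) (FlatCA.fiberMod p S N) :=
    h.symm ∘ Set.restrictPreimage (supportOver (S := S) p N) e ∘ Homeomorph.setCongr hT ∘ h'
  have hφ : Topology.IsOpenEmbedding φ := h.symm.isOpenEmbedding.comp ((he.restrictPreimage _).comp
    ((Homeomorph.setCongr hT).isOpenEmbedding.comp h'.isOpenEmbedding))
  obtain ⟨ξ, hξ, hξi, hd⟩ := h1
  obtain ⟨Q', hQ'⟩ := exists_fiber_prime p' q'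
  have hξc : (h ⟨ξ, hξ⟩).1.asIdeal = q := (hh _).trans (comap_eq_of_asIdeal_eq_fiberIdeal p q ξ hξi)
  have hq'T : (⟨q', ‹_›⟩ : PrimeSpectrum S') ∈ supportOver (S := S') p' N' := by
    rw [hT]
    have : e ⟨q', ‹_›⟩ = (h ⟨ξ, hξ⟩).1 :=
      PrimeSpectrum.ext ((Ideal.LiesOver.over (P := q') (p := q)).symm.trans hξc.symm)
    show e ⟨q', ‹_›⟩ ∈ supportOver (S := S) p N
    rw [this]; exact (h ⟨ξ, hξ⟩).2
  let η := h'.symm ⟨⟨q', ‹_›⟩, hq'T⟩
  have hη : (h' η).1.asIdeal = q' := by rw [h'.apply_symm_apply]
  have hφη : φ η = ⟨ξ, hξ⟩ := by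
    apply h.injective
    refine Subtype.ext (PrimeSpectrum.ext ?_)
    simp only [φ, Function.comp_apply, Homeomorph.apply_symm_apply]
    show (h' η).1.asIdeal.comap (algebraMap S S') = _
    rw [hη, hξc]
    exact (Ideal.LiesOver.over (P := q') (p := q)).symm
  have hloc : FlatMor.localDim (Module.support (p'.Fiber S') (FlatCA.fiberMod p' S' N')) η = n := by
    rw [Groth.FibreDim.localDim_eq_of_isOpenEmbedding hφ η, hφη, hd]
  refine ⟨fun hdim => ?_, η.1, η.2, fiberIdeal_comap p' η.1 q' ((hh' η).symm.trans hη), hloc⟩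
  haveI : Module.Finite (p'.Fiber S') (FlatCA.fiberMod p' S' N') :=
    inferInstanceAs (Module.Finite (p'.Fiber S') ((p'.Fiber S') ⊗[S'] N'))
  haveI : Module.Finite (p.Fiber S) (FlatCA.fiberMod p S N) :=
    inferInstanceAs (Module.Finite (p.Fiber S) ((p.Fiber S) ⊗[S] N))
  rw [← topologicalKrullDim_support (S := p'.Fiber S') (N := FlatCA.fiberMod p' S' N')]
  refine le_antisymm ?_ ?_
  · rw [← hdim, ← topologicalKrullDim_support (S := p.Fiber S) (N := FlatCA.fiberMod p S N)]
    exact hφ.isEmbedding.toIsInducing.topologicalKrullDim_le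
  · rw [← hloc]
    refine (Groth.SpectralTopology.localDim_le_of_mem (U := ⊤) (Opens.mem_top η)).trans ?_
    exact Topology.IsInducing.subtypeVal.topologicalKrullDim_le

end support

section main

/-- An element outside a prime generates an open set on which the prime survives. -/
theorem away_map_prime {A : Type u} [CommRing A] (a : A) (q : Ideal A) [q.IsPrime] (ha : a ∉ q) :
    (q.map (algebraMap A (Localization.Away a))).IsPrime ∧
      (q.map (algebraMap A (Localization.Away a))).LiesOver q := by
  have hd : Disjoint (Submonoid.powers a : Set A) q := by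
    rw [Set.disjoint_left]
    rintro _ ⟨n, rfl⟩ h
    exact ha (Ideal.IsPrime.mem_of_pow_mem ‹_› n h)
  exact ⟨IsLocalization.isPrime_of_isPrime_disjoint (Submonoid.powers a) _ q ‹_› hd,
    ⟨(IsLocalization.under_map_of_isPrime_disjoint (Submonoid.powers a) _ ‹_› hd).symm⟩⟩

theorem exists_shrink_devissage
    (R S : Type u) [CommRing R] [CommRing S] [Algebra R S]
    (N : Type u) [AddCommGroup N] [Module S N] [Module R N] [IsScalarTower R S N] [Module.Finite S N]
    (p : Ideal R) [p.IsPrime] (q : Ideal S) [q.IsPrime] [q.LiesOver p]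
    (C D G : Type u) [CommRing C] [CommRing D] [Algebra S C] [Algebra R C] [IsScalarTower R S C]
    [Algebra R D] [Algebra D C] [IsScalarTower R D C] [AddCommGroup G] [Module C G] [Module S G]
    [IsScalarTower S C G] (n : ℕ)
    (h : FlatCA.IsOneStepDevissage R S N p C D G n)
    (z : Ideal C) [z.IsPrime] (y : Ideal D) [y.IsPrime] [z.LiesOver q] [z.LiesOver y] [y.LiesOver p]
    (h1 : ∃ (ξ : PrimeSpectrum (p.Fiber S)) (hξ : ξ ∈ Module.support (p.Fiber S) (FlatCA.fiberMod p S N)),
      ξ.asIdeal = FlatCA.fiberIdeal p q ∧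
      FlatMor.localDim (Module.support (p.Fiber S) (FlatCA.fiberMod p S N)) ⟨ξ, hξ⟩ = n)
    (h3 : ∀ (z₁ : Ideal C) [z₁.IsPrime], z₁.LiesOver y → z₁ = z)
    (h4 : FlatCA.PurelyTranscendental p y)
    (g : R) (hX : S) (hZ : C) (hY : D) (hg : g ∉ p) (hXq : hX ∉ q) (hYy : hY ∉ y)
    (hc : hZ = algebraMap S C hX) {k m : ℕ} (hct : hZ ∣ algebraMap D C hY ^ m)
    (htc : algebraMap D C hY ∣ hZ ^ k) (hgs : algebraMap R S g ∣ hX) (hgt : algebraMap R D g ∣ hY)
    (hsurj : ∀ P : Ideal R, P.IsPrime → g ∉ P →
      ∃ Q : Ideal D, Q.IsPrime ∧ Q.comap (algebraMap R D) = P ∧ hY ∉ Q) :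
      ∃ (_ : Algebra (Localization.Away g) (Localization.Away hX)) (_ : IsScalarTower R (Localization.Away g) (Localization.Away hX))
        (_ : Algebra (Localization.Away g) (Localization.Away hZ)) (_ : IsScalarTower R (Localization.Away g) (Localization.Away hZ))
        (_ : Algebra (Localization.Away g) (Localization.Away hY)) (_ : IsScalarTower R (Localization.Away g) (Localization.Away hY))
        (_ : Algebra (Localization.Away hX) (Localization.Away hZ)) (_ : IsScalarTower S (Localization.Away hX) (Localization.Away hZ))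
        (_ : IsScalarTower (Localization.Away g) (Localization.Away hX) (Localization.Away hZ))
        (_ : Algebra (Localization.Away hY) (Localization.Away hZ)) (_ : IsScalarTower D (Localization.Away hY) (Localization.Away hZ))
        (_ : IsScalarTower (Localization.Away g) (Localization.Away hY) (Localization.Away hZ))
        (_ : Module (Localization.Away g) (LocalizedModule (Submonoid.powers hX) N)) (_ : IsScalarTower (Localization.Away g) (Localization.Away hX) (LocalizedModule (Submonoid.powers hX) N))
        (_ : Module (Localization.Away hX) (LocalizedModule (Submonoid.powers hZ) G)) (_ : IsScalarTower (Localization.Away hX) (Localization.Away hZ) (LocalizedModule (Submonoid.powers hZ) G))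
        (_ : (Ideal.map (algebraMap R (Localization.Away g)) p).IsPrime) (_ : (Ideal.map (algebraMap D (Localization.Away hY)) y).IsPrime) (_ : (Ideal.map (algebraMap D (Localization.Away hY)) y).LiesOver (Ideal.map (algebraMap R (Localization.Away g)) p)),
        FlatCA.IsOneStepDevissage (Localization.Away g) (Localization.Away hX) (LocalizedModule (Submonoid.powers hX) N) (Ideal.map (algebraMap R (Localization.Away g)) p) (Localization.Away hZ) (Localization.Away hY) (LocalizedModule (Submonoid.powers hZ) G) n ∧
        (∃ (ξ : PrimeSpectrum ((Ideal.map (algebraMap R (Localization.Away g)) p).Fiber (Localization.Away hX)))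
            (hξ : ξ ∈ Module.support ((Ideal.map (algebraMap R (Localization.Away g)) p).Fiber (Localization.Away hX)) (FlatCA.fiberMod (Ideal.map (algebraMap R (Localization.Away g)) p) (Localization.Away hX) (LocalizedModule (Submonoid.powers hX) N))),
          ξ.asIdeal = FlatCA.fiberIdeal (Ideal.map (algebraMap R (Localization.Away g)) p) (Ideal.map (algebraMap S (Localization.Away hX)) q) ∧
          FlatMor.localDim (Module.support ((Ideal.map (algebraMap R (Localization.Away g)) p).Fiber (Localization.Away hX)) (FlatCA.fiberMod (Ideal.map (algebraMap R (Localization.Away g)) p) (Localization.Away hX) (LocalizedModule (Submonoid.powers hX) N))) ⟨ξ, hξ⟩ = n) ∧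
        (Ideal.map (algebraMap C (Localization.Away hZ)) z).LiesOver (Ideal.map (algebraMap S (Localization.Away hX)) q) ∧ (Ideal.map (algebraMap C (Localization.Away hZ)) z).LiesOver (Ideal.map (algebraMap D (Localization.Away hY)) y) ∧
        (∀ (z₂ : Ideal (Localization.Away hZ)) [z₂.IsPrime], z₂.LiesOver (Ideal.map (algebraMap D (Localization.Away hY)) y) → z₂ = Ideal.map (algebraMap C (Localization.Away hZ)) z) ∧
        FlatCA.PurelyTranscendental (Ideal.map (algebraMap R (Localization.Away g)) p) (Ideal.map (algebraMap D (Localization.Away hY)) y) := by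
  classical
  obtain ⟨⟨e⟩, hsurjC, hfp, hDC, hCG, hsm, hgi, hdim⟩ := h
  let R' := Localization.Away g
  let S' := Localization.Away hX
  let C' := Localization.Away hZ
  let D' := Localization.Away hY
  let N' := LocalizedModule (Submonoid.powers hX) N
  let G' := LocalizedModule (Submonoid.powers hZ) G
  have hzq : hZ ∉ z := by
    rw [hc]
    intro hmem
    exact hXq ((Ideal.LiesOver.over (P := z) (p := q)).symm ▸ hmem)
  have hS : IsUnit (algebraMap R S' g) := by
    rw [IsScalarTower.algebraMap_apply R S S']
    exact isUnit_of_dvd_unit (map_dvd _ hgs) (IsLocalization.Away.algebraMap_isUnit hX)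
  have hD : IsUnit (algebraMap R D' g) := by
    rw [IsScalarTower.algebraMap_apply R D D']
    exact isUnit_of_dvd_unit (map_dvd _ hgt) (IsLocalization.Away.algebraMap_isUnit hY)
  have hC : IsUnit (((algebraMap C C').comp (algebraMap S C)) hX) := by
    rw [RingHom.comp_apply, ← hc]; exact IsLocalization.Away.algebraMap_isUnit hZ
  have hC2 : IsUnit (((algebraMap C C').comp (algebraMap D C)) hY) := by
    refine isUnit_of_dvd_unit (y := algebraMap C C' (hZ ^ k)) (map_dvd _ htc) ?_
    rw [map_pow]; exact (IsLocalization.Away.algebraMap_isUnit hZ).pow _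
  letI aRS : Algebra R' S' := (IsLocalization.Away.lift g (g := algebraMap R S') hS).toAlgebra
  haveI tRS : IsScalarTower R R' S' := .of_algebraMap_eq fun x =>
    (IsLocalization.Away.lift_eq g hS x).symm
  letI aRD : Algebra R' D' := (IsLocalization.Away.lift g (g := algebraMap R D') hD).toAlgebra
  haveI tRD : IsScalarTower R R' D' := .of_algebraMap_eq fun x =>
    (IsLocalization.Away.lift_eq g hD x).symm
  letI aSC : Algebra S' C' :=
    (IsLocalization.Away.lift hX (g := (algebraMap C C').comp (algebraMap S C)) hC).toAlgebra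
  haveI tSC : IsScalarTower S S' C' := .of_algebraMap_eq fun x => by
    rw [IsScalarTower.algebraMap_apply S C C']
    exact (IsLocalization.Away.lift_eq hX hC x).symm
  letI aDC : Algebra D' C' :=
    (IsLocalization.Away.lift hY (g := (algebraMap C C').comp (algebraMap D C)) hC2).toAlgebra
  haveI tDC : IsScalarTower D D' C' := .of_algebraMap_eq fun x => by
    rw [IsScalarTower.algebraMap_apply D C C']
    exact (IsLocalization.Away.lift_eq hY hC2 x).symm
  letI aRC : Algebra R' C' := ((algebraMap S' C').comp (algebraMap R' S')).toAlgebra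
  haveI tRSC : IsScalarTower R' S' C' := .of_algebraMap_eq' rfl
  haveI tRC : IsScalarTower R R' C' := .of_algebraMap_eq fun x => by
    rw [IsScalarTower.algebraMap_apply R' S' C', ← IsScalarTower.algebraMap_apply R R' S',
      IsScalarTower.algebraMap_apply R S S', ← IsScalarTower.algebraMap_apply S S' C',
      IsScalarTower.algebraMap_apply S C C', ← IsScalarTower.algebraMap_apply R S C,
      ← IsScalarTower.algebraMap_apply R C C']
  haveI tRDC : IsScalarTower R' D' C' := .of_algebraMap_eq' <|
    IsLocalization.ringHom_ext (Submonoid.powers g) <| RingHom.ext fun x => by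
      simp only [RingHom.comp_apply]
      rw [← IsScalarTower.algebraMap_apply R R' C', ← IsScalarTower.algebraMap_apply R R' D',
        IsScalarTower.algebraMap_apply R D D', ← IsScalarTower.algebraMap_apply D D' C',
        IsScalarTower.algebraMap_apply D C C', ← IsScalarTower.algebraMap_apply R D C,
        ← IsScalarTower.algebraMap_apply R C C']
  letI mRN : Module R' N' := Module.compHom N' (algebraMap R' S')
  haveI tRN : IsScalarTower R' S' N' := .of_algebraMap_smul fun _ _ => rfl
  letI mSG : Module S' G' := Module.compHom G' (algebraMap S' C')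
  haveI tSG : IsScalarTower S' C' G' := .of_algebraMap_smul fun _ _ => rfl
  obtain ⟨hp', hp'o⟩ := away_map_prime g p hg
  obtain ⟨hq', hq'o⟩ := away_map_prime hX q hXq
  obtain ⟨hz', hz'o⟩ := away_map_prime hZ z hzq
  obtain ⟨hy', hy'o⟩ := away_map_prime hY y hYy
  let p' := Ideal.map (algebraMap R R') p
  let q' := Ideal.map (algebraMap S S') q
  let z' := Ideal.map (algebraMap C C') z
  let y' := Ideal.map (algebraMap D D') y
  haveI : p'.IsPrime := hp'; haveI : q'.IsPrime := hq'; haveI : z'.IsPrime := hz'; haveI : y'.IsPrime := hy'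
  haveI : p'.LiesOver p := hp'o; haveI : q'.LiesOver q := hq'o; haveI : z'.LiesOver z := hz'o
  haveI : y'.LiesOver y := hy'o
  have over' : ∀ (A' : Type u) [CommRing A'] [Algebra R' A'] [Algebra R A'] [IsScalarTower R R' A']
      (P : Ideal A') [P.IsPrime], P.comap (algebraMap R A') = p → P.LiesOver p' := fun A' _ _ _ _ P _ hP =>
    ⟨(congrArg PrimeSpectrum.asIdeal (PrimeSpectrum.localization_comap_injective R' (Submonoid.powers g)
      (a₁ := ⟨P.comap (algebraMap R' A'), inferInstance⟩) (a₂ := ⟨p', ‹_›⟩) (PrimeSpectrum.ext (by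
        show (P.comap (algebraMap R' A')).comap (algebraMap R R') = p'.comap (algebraMap R R')
        rw [Ideal.comap_comap, ← IsScalarTower.algebraMap_eq, hP]
        exact hp'o.over)))).symm⟩
  haveI hqp : q'.LiesOver p' := over' S' q' (by
    rw [IsScalarTower.algebraMap_eq R S S', ← Ideal.comap_comap]
    show (q'.under S).under R = p
    rw [← hq'o.over, ← Ideal.LiesOver.over (P := q) (p := p)])
  haveI hyp : y'.LiesOver p' := over' D' y' (by
    rw [IsScalarTower.algebraMap_eq R D D', ← Ideal.comap_comap]
    show (y'.under D).under R = p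
    rw [← hy'o.over, ← Ideal.LiesOver.over (P := y) (p := p)])
  haveI hzq' : z'.LiesOver q' := ⟨congrArg PrimeSpectrum.asIdeal
    (PrimeSpectrum.localization_comap_injective S' (Submonoid.powers hX)
      (a₁ := ⟨q', ‹_›⟩) (a₂ := ⟨z'.comap (algebraMap S' C'), inferInstance⟩) (PrimeSpectrum.ext (by
        show q'.comap (algebraMap S S') = (z'.comap (algebraMap S' C')).comap (algebraMap S S')
        rw [Ideal.comap_comap, ← IsScalarTower.algebraMap_eq, IsScalarTower.algebraMap_eq S C C',
          ← Ideal.comap_comap]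
        show q'.under S = (z'.under C).under S
        rw [← hq'o.over, ← hz'o.over, ← Ideal.LiesOver.over (P := z) (p := q)])))⟩
  haveI hzy' : z'.LiesOver y' := ⟨congrArg PrimeSpectrum.asIdeal
    (PrimeSpectrum.localization_comap_injective D' (Submonoid.powers hY)
      (a₁ := ⟨y', ‹_›⟩) (a₂ := ⟨z'.comap (algebraMap D' C'), inferInstance⟩) (PrimeSpectrum.ext (by
        show y'.comap (algebraMap D D') = (z'.comap (algebraMap D' C')).comap (algebraMap D D')
        rw [Ideal.comap_comap, ← IsScalarTower.algebraMap_eq, IsScalarTower.algebraMap_eq D C C',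
          ← Ideal.comap_comap]
        show y'.under D = (z'.under C).under D
        rw [← hy'o.over, ← hz'o.over, ← Ideal.LiesOver.over (P := z) (p := y)])))⟩
  haveI hCS : Algebra.IsPushout S S' C C' := by
    haveI : IsLocalization (Algebra.algebraMapSubmonoid C (Submonoid.powers hX)) C' := by
      rw [Algebra.algebraMapSubmonoid, Submonoid.map_powers, ← hc]
      exact inferInstanceAs (IsLocalization (Submonoid.powers hZ) (Localization.Away hZ))
    exact (Algebra.isPushout_of_isLocalization (Submonoid.powers hX) S' C C').symm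
  haveI hCD : Algebra.IsPushout D D' C C' := by
    haveI := away_of_dvd_pow (A' := C') hZ (algebraMap D C hY) hct htc
    haveI : IsLocalization (Algebra.algebraMapSubmonoid C (Submonoid.powers hY)) C' := by
      rw [Algebra.algebraMapSubmonoid, Submonoid.map_powers]
      exact ‹IsLocalization.Away (algebraMap D C hY) C'›
    exact (Algebra.isPushout_of_isLocalization (Submonoid.powers hY) D' C C').symm
  haveI := hfp; haveI := hDC; haveI := hCG
  let fN := LocalizedModule.mkLinearMap (Submonoid.powers hX) N
  let fG := LocalizedModule.mkLinearMap (Submonoid.powers hZ) G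
  have hfN : IsBaseChange S' fN := IsLocalizedModule.isBaseChange (Submonoid.powers hX) S' fN
  have hfG : IsBaseChange C' fG := IsLocalizedModule.isBaseChange (Submonoid.powers hZ) C' fG
  haveI : IsScalarTower S C G' := .of_algebraMap_smul fun r x => by
    induction x using LocalizedModule.induction_on with
    | _ v w => rw [LocalizedModule.smul'_mk, LocalizedModule.smul'_mk, algebraMap_smul]
  haveI : IsScalarTower S S' G' := .of_algebraMap_smul fun r x => by
    show algebraMap S' C' (algebraMap S S' r) • x = r • x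
    rw [← IsScalarTower.algebraMap_apply S S' C', IsScalarTower.algebraMap_apply S C C',
      algebraMap_smul, algebraMap_smul]
  have hg' : IsBaseChange S' (fG.restrictScalars S) := isBaseChange_restrict_of_isPushout hfG
  obtain ⟨hdim', hloc⟩ := fibreSupport_shrink (S := S) (R' := R') p N g hX p' (f := fN) q q' h1
  refine ⟨aRS, tRS, aRC, tRC, aRD, tRD, aSC, tSC, tRSC, aDC, tDC, tRDC, mRN, tRN, mSG, tSG,
    hp', hy', hyp, ?_, hloc, hzq', hzy', ?_, ?_⟩
  · exact ⟨⟨hfN.equiv.symm ≪≫ₗ e.baseChange S S' ≪≫ₗ hg'.equiv⟩,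
      surjective_of_isPushout (A := S) (B := C) hsurjC,
      finitePresentation_of_isPushout (A := S) (B := C),
      finite_of_isPushout (A := D) (B := C), Module.Finite.equiv hfG.equiv,
      smoothRelDim_shrink (D := D) g hY hsm, geomIrred_shrink (D := D) g hY hgi hsurj, hdim' hdim⟩
  · intro z₂ hz₂p hz₂
    haveI : (z₂.under C).LiesOver y := ⟨by
      rw [hy'o.over, hz₂.over, Ideal.under_under, Ideal.under_under]⟩
    have h5 := h3 (z₂.under C) inferInstance
    exact congrArg PrimeSpectrum.asIdeal (PrimeSpectrum.localization_comap_injective C'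
      (Submonoid.powers hZ) (a₁ := ⟨z₂, hz₂p⟩) (a₂ := ⟨z', ‹_›⟩)
      (PrimeSpectrum.ext (h5.trans hz'o.over)))
  · exact purelyTranscendental_of_bijective p p' y y'
      (bijective_residueField_of_away g p p') (bijective_residueField_of_away hY y y') h4

theorem exists_shrink_of_mem
    (R S : Type u) [CommRing R] [CommRing S] [Algebra R S]
    (N : Type u) [AddCommGroup N] [Module S N] [Module R N] [IsScalarTower R S N] [Module.Finite S N]
    (p : Ideal R) [p.IsPrime] (q : Ideal S) [q.IsPrime] [q.LiesOver p]
    (C D G : Type u) [CommRing C] [CommRing D] [Algebra S C] [Algebra R C] [IsScalarTower R S C]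
    [Algebra R D] [Algebra D C] [IsScalarTower R D C] [AddCommGroup G] [Module C G] [Module S G]
    [IsScalarTower S C G] (n : ℕ)
    (h : FlatCA.IsOneStepDevissage R S N p C D G n)
    (z : Ideal C) [z.IsPrime] (y : Ideal D) [y.IsPrime] [z.LiesOver q] [z.LiesOver y] [y.LiesOver p]
    (h1 : ∃ (ξ : PrimeSpectrum (p.Fiber S)) (hξ : ξ ∈ Module.support (p.Fiber S) (FlatCA.fiberMod p S N)),
      ξ.asIdeal = FlatCA.fiberIdeal p q ∧
      FlatMor.localDim (Module.support (p.Fiber S) (FlatCA.fiberMod p S N)) ⟨ξ, hξ⟩ = n)
    (h3 : ∀ (z₁ : Ideal C) [z₁.IsPrime], z₁.LiesOver y → z₁ = z)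
    (h4 : FlatCA.PurelyTranscendental p y)
    (u : S) (w : D) (hu : u ∉ q) (hw : w ∉ y)
    (huw : algebraMap S C u ∣ algebraMap D C w) :
    ∃ (g : R) (hX : S) (hZ : C), g ∉ p ∧ hX ∉ q ∧ hZ ∉ z ∧ w * algebraMap R D g ∉ y ∧
      IsUnit (algebraMap S (Localization.Away hX) u) ∧
      ∃ (_ : Algebra (Localization.Away g) (Localization.Away hX)) (_ : IsScalarTower R (Localization.Away g) (Localization.Away hX))
        (_ : Algebra (Localization.Away g) (Localization.Away hZ)) (_ : IsScalarTower R (Localization.Away g) (Localization.Away hZ))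
        (_ : Algebra (Localization.Away g) (Localization.Away (w * algebraMap R D g))) (_ : IsScalarTower R (Localization.Away g) (Localization.Away (w * algebraMap R D g)))
        (_ : Algebra (Localization.Away hX) (Localization.Away hZ)) (_ : IsScalarTower S (Localization.Away hX) (Localization.Away hZ))
        (_ : IsScalarTower (Localization.Away g) (Localization.Away hX) (Localization.Away hZ))
        (_ : Algebra (Localization.Away (w * algebraMap R D g)) (Localization.Away hZ)) (_ : IsScalarTower D (Localization.Away (w * algebraMap R D g)) (Localization.Away hZ))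
        (_ : IsScalarTower (Localization.Away g) (Localization.Away (w * algebraMap R D g)) (Localization.Away hZ))
        (_ : Module (Localization.Away g) (LocalizedModule (Submonoid.powers hX) N)) (_ : IsScalarTower (Localization.Away g) (Localization.Away hX) (LocalizedModule (Submonoid.powers hX) N))
        (_ : Module (Localization.Away hX) (LocalizedModule (Submonoid.powers hZ) G)) (_ : IsScalarTower (Localization.Away hX) (Localization.Away hZ) (LocalizedModule (Submonoid.powers hZ) G))
        (_ : (Ideal.map (algebraMap R (Localization.Away g)) p).IsPrime) (_ : (Ideal.map (algebraMap D (Localization.Away (w * algebraMap R D g))) y).IsPrime) (_ : (Ideal.map (algebraMap D (Localization.Away (w * algebraMap R D g))) y).LiesOver (Ideal.map (algebraMap R (Localization.Away g)) p)),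
        FlatCA.IsOneStepDevissage (Localization.Away g) (Localization.Away hX) (LocalizedModule (Submonoid.powers hX) N) (Ideal.map (algebraMap R (Localization.Away g)) p) (Localization.Away hZ) (Localization.Away (w * algebraMap R D g)) (LocalizedModule (Submonoid.powers hZ) G) n ∧
        (∃ (ξ : PrimeSpectrum ((Ideal.map (algebraMap R (Localization.Away g)) p).Fiber (Localization.Away hX)))
            (hξ : ξ ∈ Module.support ((Ideal.map (algebraMap R (Localization.Away g)) p).Fiber (Localization.Away hX)) (FlatCA.fiberMod (Ideal.map (algebraMap R (Localization.Away g)) p) (Localization.Away hX) (LocalizedModule (Submonoid.powers hX) N))),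
          ξ.asIdeal = FlatCA.fiberIdeal (Ideal.map (algebraMap R (Localization.Away g)) p) (Ideal.map (algebraMap S (Localization.Away hX)) q) ∧
          FlatMor.localDim (Module.support ((Ideal.map (algebraMap R (Localization.Away g)) p).Fiber (Localization.Away hX)) (FlatCA.fiberMod (Ideal.map (algebraMap R (Localization.Away g)) p) (Localization.Away hX) (LocalizedModule (Submonoid.powers hX) N))) ⟨ξ, hξ⟩ = n) ∧
        (Ideal.map (algebraMap C (Localization.Away hZ)) z).LiesOver (Ideal.map (algebraMap S (Localization.Away hX)) q) ∧ (Ideal.map (algebraMap C (Localization.Away hZ)) z).LiesOver (Ideal.map (algebraMap D (Localization.Away (w * algebraMap R D g))) y) ∧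
        (∀ (z₂ : Ideal (Localization.Away hZ)) [z₂.IsPrime], z₂.LiesOver (Ideal.map (algebraMap D (Localization.Away (w * algebraMap R D g))) y) → z₂ = Ideal.map (algebraMap C (Localization.Away hZ)) z) ∧
        FlatCA.PurelyTranscendental (Ideal.map (algebraMap R (Localization.Away g)) p) (Ideal.map (algebraMap D (Localization.Away (w * algebraMap R D g))) y) := by
  classical
  have hsm := h.2.2.2.2.2.1
  have hsurjC := h.2.1
  haveI : Smooth (Spec.map (CommRingCat.ofHom (algebraMap R D))) :=
    SmoothOfRelativeDimension.smooth n _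
  haveI hAS : Algebra.Smooth R D := by
    have := (HasRingHomProperty.Spec_iff (P := @Smooth)).1 ‹_›
    rwa [CommRingCat.hom_ofHom, RingHom.smooth_algebraMap] at this
  have hopen : IsOpenMap (PrimeSpectrum.comap (algebraMap R D)) :=
    PrimeSpectrum.isOpenMap_comap_of_hasGoingDown_of_finitePresentation
  have hU := hopen _ (PrimeSpectrum.basicOpen w).2
  have hpU : (⟨p, ‹_›⟩ : PrimeSpectrum R) ∈
      PrimeSpectrum.comap (algebraMap R D) '' (PrimeSpectrum.basicOpen w : Set (PrimeSpectrum D)) :=
    ⟨⟨y, ‹_›⟩, hw, PrimeSpectrum.ext (Ideal.LiesOver.over (P := y) (p := p)).symm⟩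
  obtain ⟨_, ⟨_, ⟨g, rfl⟩, rfl⟩, hg, hgU⟩ :=
    PrimeSpectrum.isBasis_basic_opens.exists_subset_of_mem_open hpU hU
  replace hg : g ∉ p := hg
  obtain ⟨s₀, hs₀⟩ := hsurjC (algebraMap D C w)
  have hzy' : ∀ x : D, x ∉ y → algebraMap D C x ∉ z := fun x hx hmem =>
    hx ((Ideal.LiesOver.over (P := z) (p := y)).symm ▸ hmem)
  have hzq' : ∀ x : S, x ∈ q → algebraMap S C x ∈ z := fun x hx =>
    (show x ∈ z.under S from (Ideal.LiesOver.over (P := z) (p := q)) ▸ hx)
  have hgS : algebraMap R S g ∉ q := fun hmem =>
    hg ((Ideal.LiesOver.over (P := q) (p := p)).symm ▸ hmem)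
  have hgD : algebraMap R D g ∉ y := fun hmem =>
    hg ((Ideal.LiesOver.over (P := y) (p := p)).symm ▸ hmem)
  have hs₀q : s₀ ∉ q := fun hmem => hzy' w hw (hs₀ ▸ hzq' _ hmem)
  let hX : S := u * s₀ * algebraMap R S g
  have hXq : hX ∉ q := fun hmem =>
    ((Ideal.IsPrime.mem_or_mem ‹q.IsPrime› hmem).elim
      (fun h' => (Ideal.IsPrime.mem_or_mem ‹q.IsPrime› h').elim hu hs₀q) hgS)
  have hY : w * algebraMap R D g ∉ y := fun hmem =>
    (Ideal.IsPrime.mem_or_mem ‹y.IsPrime› hmem).elim hw hgD
  have hgC : algebraMap D C (algebraMap R D g) = algebraMap S C (algebraMap R S g) := by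
    rw [← IsScalarTower.algebraMap_apply, ← IsScalarTower.algebraMap_apply]
  have hc : algebraMap S C hX =
      algebraMap S C u * algebraMap D C (w * algebraMap R D g) := by
    simp only [hX, map_mul, hs₀, hgC]; ring
  obtain ⟨a, ha⟩ := huw
  have hct : algebraMap S C hX ∣ algebraMap D C (w * algebraMap R D g) ^ 2 :=
    ⟨a * algebraMap D C (algebraMap R D g), by rw [hc, map_mul, ha]; ring⟩
  have htc : algebraMap D C (w * algebraMap R D g) ∣ algebraMap S C hX ^ 1 :=
    ⟨algebraMap S C u, by rw [hc]; ring⟩
  refine ⟨g, hX, algebraMap S C hX, hg, hXq, fun hmem => hXq ?_, hY,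
    isUnit_of_dvd_unit (map_dvd _ ⟨s₀ * algebraMap R S g, mul_assoc _ _ _⟩)
      (IsLocalization.Away.algebraMap_isUnit hX), ?_⟩
  · exact (Ideal.LiesOver.over (P := z) (p := q)).symm ▸ hmem
  · refine exists_shrink_devissage R S N p q C D G n h z y h1 h3 h4 g hX (algebraMap S C hX)
      (w * algebraMap R D g) hg hXq hY rfl hct htc (dvd_mul_left _ _) (dvd_mul_left _ _) ?_
    intro P hP hgP
    obtain ⟨Q, hQw, hQ⟩ := hgU (show (⟨P, hP⟩ : PrimeSpectrum R) ∈ PrimeSpectrum.basicOpen g from hgP)
    have hQP : Q.asIdeal.comap (algebraMap R D) = P := congrArg PrimeSpectrum.asIdeal hQ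
    exact ⟨Q.asIdeal, Q.2, hQP, fun hmem =>
      (Q.2.mem_or_mem hmem).elim hQw fun h' => hgP (hQP ▸ h')⟩

end main

end Groth.Flatmor4
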