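import Mathlib
import Groth.Prelude.Def_FlatCA
import Groth.Agent.Flatmor4.DevissageShrink
import Groth.Agent.Flatmor4.CompleteDevissageBC

/-!
Standard shrinkings of complete dévissages.
-/

set_option autoImplicit false
set_option linter.style.haveILetI false

universe u

open TensorProduct CategoryTheory AlgebraicGeometry

namespace Groth.Flatmor4

attribute [local instance] Algebra.TensorProduct.rightAlgebra

/-- Primes of a localization are determined by their contraction. -/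
theorem away_prime_ext {A A' : Type u} [CommRing A] [CommRing A'] [Algebra A A'] (a : A)
    [IsLocalization.Away a A'] {P Q : Ideal A'} (hP : P.IsPrime) (hQ : Q.IsPrime)
    (h : P.comap (algebraMap A A') = Q.comap (algebraMap A A')) : P = Q :=
  congrArg PrimeSpectrum.asIdeal (PrimeSpectrum.localization_comap_injective A' (Submonoid.powers a)
    (a₁ := ⟨P, hP⟩) (a₂ := ⟨Q, hQ⟩) (PrimeSpectrum.ext h))

theorem smooth_of_smoothRelDim {R D : Type u} [CommRing R] [CommRing D] [Algebra R D] {n : ℕ}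
    (h : FlatCA.SmoothRelDim n R D) : Algebra.Smooth R D := by
  haveI := h
  haveI : Smooth (Spec.map (CommRingCat.ofHom (algebraMap R D))) :=
    SmoothOfRelativeDimension.smooth n _
  have := (HasRingHomProperty.Spec_iff (P := @Smooth)).1 ‹_›
  rwa [CommRingCat.hom_ofHom, RingHom.smooth_algebraMap] at this

theorem exists_completeShrink
    (R S : Type u) [CommRing R] [CommRing S] [Algebra R S]
    (N : Type u) [AddCommGroup N] [Module S N] [Module.Finite S N]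
    (p : Ideal R) [p.IsPrime] (q : Ideal S) [q.IsPrime] (𝒟 : FlatCA.CompleteDevissage R S N p)
    (𝒜 : FlatCA.CompleteDevissageAt R S N p q 𝒟)
    (g : R) (hX : S) (a : ∀ i, 𝒟.A i) (b : ∀ i, 𝒟.B i) (hg : g ∉ p) (hXq : hX ∉ q)
    (ha0 : a 0 = algebraMap S (𝒟.A 0) hX)
    (ha : ∀ i, a (i + 1) = algebraMap (𝒟.B i) (𝒟.A (i + 1)) (b i))
    (hgs : algebraMap R S g ∣ hX) (hgb : ∀ i, i < 𝒟.n → algebraMap R (𝒟.B i) g ∣ b i)
    (hb : ∀ i, i < 𝒟.n → b i ∉ 𝒜.qB i)
    (hct : ∀ i, i < 𝒟.n → ∃ m : ℕ, a i ∣ algebraMap (𝒟.B i) (𝒟.A i) (b i) ^ m)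
    (htc : ∀ i, i < 𝒟.n → ∃ k : ℕ, algebraMap (𝒟.B i) (𝒟.A i) (b i) ∣ a i ^ k)
    (hsurj : ∀ i, i < 𝒟.n → ∀ P : Ideal R, P.IsPrime → g ∉ P →
      ∃ Q : Ideal (𝒟.B i), Q.IsPrime ∧ Q.comap (algebraMap R (𝒟.B i)) = P ∧ b i ∉ Q) :
      ∃ (_ : Algebra (Localization.Away g) (Localization.Away hX)) (_ : IsScalarTower R (Localization.Away g) (Localization.Away hX))
        (_ : Module (Localization.Away g) (LocalizedModule (Submonoid.powers hX) N)) (_ : IsScalarTower (Localization.Away g) (Localization.Away hX) (LocalizedModule (Submonoid.powers hX) N))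
        (_ : (Ideal.map (algebraMap R (Localization.Away g)) p).IsPrime) (_ : (Ideal.map (algebraMap S (Localization.Away hX)) q).IsPrime)
        (𝒟' : FlatCA.CompleteDevissage (Localization.Away g) (Localization.Away hX) (LocalizedModule (Submonoid.powers hX) N) (Ideal.map (algebraMap R (Localization.Away g)) p))
        (𝒜' : FlatCA.CompleteDevissageAt (Localization.Away g) (Localization.Away hX) (LocalizedModule (Submonoid.powers hX) N) (Ideal.map (algebraMap R (Localization.Away g)) p) (Ideal.map (algebraMap S (Localization.Away hX)) q) 𝒟')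
      (aA : ∀ i : Fin 𝒟.n, Algebra (𝒟.A i) (𝒟'.A i)) (rA : ∀ i : Fin 𝒟.n, Algebra R (𝒟'.A i))
      (_t1 : ∀ i : Fin 𝒟.n, IsScalarTower R (Localization.Away g) (𝒟'.A i)) (_t2 : ∀ i : Fin 𝒟.n, IsScalarTower R (𝒟.A i) (𝒟'.A i))
      (aB : ∀ i : Fin 𝒟.n, Algebra (𝒟.B i) (𝒟'.B i)) (rB : ∀ i : Fin 𝒟.n, Algebra R (𝒟'.B i))
      (_t3 : ∀ i : Fin 𝒟.n, IsScalarTower R (Localization.Away g) (𝒟'.B i)) (_t4 : ∀ i : Fin 𝒟.n, IsScalarTower R (𝒟.B i) (𝒟'.B i))
      (bA : ∀ i : Fin 𝒟.n, Algebra (𝒟.B i) (𝒟'.A i)) (_t5 : ∀ i : Fin 𝒟.n, IsScalarTower (𝒟.B i) (𝒟.A i) (𝒟'.A i))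
      (_t6 : ∀ i : Fin 𝒟.n, IsScalarTower (𝒟.B i) (𝒟'.B i) (𝒟'.A i))
      (bA' : ∀ i : Fin 𝒟.n, Algebra (𝒟.B i) (𝒟'.A (i + 1)))
      (_t7 : ∀ i : Fin 𝒟.n, IsScalarTower (𝒟.B i) (𝒟'.B i) (𝒟'.A (i + 1)))
      (sA : Algebra S (𝒟'.A 0)) (_t8 : IsScalarTower S (Localization.Away hX) (𝒟'.A 0))
      (mA : ∀ i : Fin 𝒟.n, Module (𝒟.A i) (𝒟'.M i)) (_t9 : ∀ i : Fin 𝒟.n, IsScalarTower (𝒟.A i) (𝒟'.A i) (𝒟'.M i))
      (gM : ∀ i : Fin 𝒟.n, 𝒟.M i →ₗ[𝒟.A i] 𝒟'.M i),
        𝒟'.n = 𝒟.n ∧ 𝒟'.r = 𝒟.r ∧ 𝒜'.d = 𝒜.d ∧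
        (letI := aA ⟨0, 𝒟.pos⟩; IsScalarTower S (𝒟.A 0) (𝒟'.A 0)) ∧
      (∀ x : N, 𝒟'.isoN (LocalizedModule.mkLinearMap (Submonoid.powers hX) N x) = gM ⟨0, 𝒟.pos⟩ (𝒟.isoN x)) ∧
      (∀ (i : Fin 𝒟.n) (h : (i : ℕ) + 1 < 𝒟.n),
        letI := aA ⟨i + 1, h⟩; IsScalarTower (𝒟.B i) (𝒟.A (i + 1)) (𝒟'.A (i + 1))) ∧
        ∀ i : Fin 𝒟.n,
          a i ∉ 𝒜.qA i ∧
          IsLocalization.Away (a (i : ℕ)) (𝒟'.A i) ∧ IsLocalization.Away (b (i : ℕ)) (𝒟'.B i) ∧
          IsLocalizedModule (Submonoid.powers (a (i : ℕ))) (gM i) ∧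
          (𝒜'.qA i).LiesOver (𝒜.qA i) ∧ (𝒜'.qB i).LiesOver (𝒜.qB i) ∧
          LinearMap.range (𝒟'.α i) =
            Submodule.span (𝒟'.B i) ((gM i) '' (LinearMap.range (𝒟.α i) : Set (𝒟.M i))) := by
  classical
  let R' := Localization.Away g
  let S' := Localization.Away hX
  let N' := LocalizedModule (Submonoid.powers hX) N
  let n := 𝒟.n
  haveI := fun i => 𝒜.hqB i
  haveI := fun i => 𝒜.hqA i
  haveI := fun i => 𝒜.overB i
  haveI := fun i => 𝒜.overA i
  have hqAp : ∀ i, (𝒜.qA i).LiesOver p := fun i => Ideal.LiesOver.trans (𝒜.qA i) (𝒜.qB i) p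
  haveI hqp : q.LiesOver p := ⟨by
    rw [← 𝒜.q0]
    show p = ((𝒜.qA 0).comap (algebraMap S (𝒟.A 0))).comap (algebraMap R S)
    rw [Ideal.comap_comap, ← IsScalarTower.algebraMap_eq]
    exact (hqAp 0).over⟩
  have haq : ∀ i, i < n → a i ∉ 𝒜.qA i := by
    intro i hi
    cases i with
    | zero => rw [ha0, ← Ideal.mem_comap, 𝒜.q0]; exact hXq
    | succ j => rw [ha, ← Ideal.mem_comap, 𝒜.qStep j hi]; exact hb j (Nat.lt_of_succ_lt hi)
  obtain ⟨hp', hp'o⟩ := away_map_prime g p hg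
  obtain ⟨hq', hq'o⟩ := away_map_prime hX q hXq
  let p' := Ideal.map (algebraMap R R') p
  let q' := Ideal.map (algebraMap S S') q
  haveI : p'.IsPrime := hp'; haveI : q'.IsPrime := hq'
  haveI : p'.LiesOver p := hp'o; haveI : q'.LiesOver q := hq'o
  have hS : IsUnit (algebraMap R S' g) := by
    rw [IsScalarTower.algebraMap_apply R S S']
    exact isUnit_of_dvd_unit (map_dvd _ hgs) (IsLocalization.Away.algebraMap_isUnit hX)
  letI aRS : Algebra R' S' := (IsLocalization.Away.lift g (g := algebraMap R S') hS).toAlgebra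
  haveI tRS : IsScalarTower R R' S' := .of_algebraMap_eq fun x =>
    (IsLocalization.Away.lift_eq g hS x).symm
  have over' : ∀ (T : Type u) [CommRing T] [Algebra R' T] (P : Ideal T) [P.IsPrime],
      P.comap ((algebraMap R' T).comp (algebraMap R R')) = p → P.LiesOver p' := fun T _ _ P _ hP =>
    ⟨(away_prime_ext (A := R) (A' := R') g inferInstance inferInstance (by
      rw [Ideal.comap_comap, hP]; exact hp'o.over)).symm⟩
  -- the smooth algebras
  have stageB : ∀ i, ∃ (T : Type u) (_ : CommRing T) (_ : Algebra R' T) (Q : Ideal T),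
      Q.IsPrime ∧ Q.LiesOver p' ∧ (p'.map (algebraMap R' T)).IsPrime ∧
      (n ≤ i → Function.Bijective (algebraMap R' T)) ∧
      ∀ _ : i < n, ∃ al : Algebra (𝒟.B i) T, IsLocalization.Away (b i) T ∧
        (algebraMap R' T).comp (algebraMap R R') = (algebraMap (𝒟.B i) T).comp (algebraMap R (𝒟.B i)) ∧
        Q.comap (algebraMap (𝒟.B i) T) = 𝒜.qB i ∧
        p'.map (algebraMap R' T) = (p.map (algebraMap R (𝒟.B i))).map (algebraMap (𝒟.B i) T) := by
    intro i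
    by_cases hi : i < n
    swap
    · exact ⟨R', inferInstance, Algebra.id R', p', inferInstance,
        ⟨by rw [Ideal.under, Algebra.algebraMap_self, Ideal.comap_id]⟩,
        by rw [Algebra.algebraMap_self, Ideal.map_id]; infer_instance,
        fun _ => Function.bijective_id, fun h => absurd h hi⟩
    let T := Localization.Away (b i)
    have hu : IsUnit (algebraMap R T g) := by
      rw [IsScalarTower.algebraMap_apply R (𝒟.B i) T]
      exact isUnit_of_dvd_unit (map_dvd _ (hgb i hi)) (IsLocalization.Away.algebraMap_isUnit (b i))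
    letI aT : Algebra R' T := (IsLocalization.Away.lift g (g := algebraMap R T) hu).toAlgebra
    have hT : (algebraMap R' T).comp (algebraMap R R') =
        (algebraMap (𝒟.B i) T).comp (algebraMap R (𝒟.B i)) := by
      rw [← IsScalarTower.algebraMap_eq R (𝒟.B i) T]
      exact IsLocalization.Away.lift_comp g hu
    obtain ⟨hQ, hQo⟩ := away_map_prime (b i) (𝒜.qB i) (hb i hi)
    have hle : p.map (algebraMap R (𝒟.B i)) ≤ 𝒜.qB i :=
      Ideal.map_le_iff_le_comap.2 (le_of_eq (Ideal.LiesOver.over (P := 𝒜.qB i) (p := p)))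
    haveI := 𝒟.hp i
    obtain ⟨hpB, -⟩ := away_map_prime (b i) (p.map (algebraMap R (𝒟.B i))) fun h => hb i hi (hle h)
    have hpm : p'.map (algebraMap R' T) =
        (p.map (algebraMap R (𝒟.B i))).map (algebraMap (𝒟.B i) T) := by
      rw [Ideal.map_map, Ideal.map_map, hT]
    refine ⟨T, inferInstance, aT, Ideal.map (algebraMap (𝒟.B i) T) (𝒜.qB i), hQ,
      @over' T _ aT _ hQ ?_, hpm ▸ hpB, fun h => absurd hi (not_lt.2 h),
      fun _ => ⟨inferInstance, inferInstanceAs (IsLocalization.Away (b i) (Localization.Away (b i))),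
        hT, hQo.over.symm, hpm⟩⟩
    rw [hT, ← Ideal.comap_comap]
    exact (congrArg _ hQo.over.symm).trans (Ideal.LiesOver.over (P := 𝒜.qB i) (p := p)).symm
  choose B' cB' aR'B' QB hQB hQBp hpB' hBbij hBloc using stageB
  choose aBn hBaway hBtow hBQ hBp using hBloc
  -- the rings carrying the modules
  have stageA : ∀ i, ∃ (T : Type u) (_ : CommRing T) (_ : Algebra R' T) (f : B' i →ₐ[R'] T)
      (f' : ∀ j, j + 1 = i → (B' j →ₐ[R'] T)) (P : Ideal T),
      P.IsPrime ∧ P.comap f.toRingHom = QB i ∧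
      ∀ h : i < n, ∃ al : Algebra (𝒟.A i) T, IsLocalization.Away (a i) T ∧
        (algebraMap R' T).comp (algebraMap R R') = (algebraMap (𝒟.A i) T).comp (algebraMap R (𝒟.A i)) ∧
        P.comap (algebraMap (𝒟.A i) T) = 𝒜.qA i ∧
        f.toRingHom.comp (@algebraMap (𝒟.B i) (B' i) _ _ (aBn i h)) =
          (algebraMap (𝒟.A i) T).comp (algebraMap (𝒟.B i) (𝒟.A i)) := by
    intro i
    by_cases hi : i < n
    swap
    · obtain ⟨j, rfl⟩ : ∃ j, i = j + 1 := ⟨i - 1, by have := 𝒟.pos; omega⟩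
      let e : R' ≃ₐ[R'] B' (j + 1) := AlgEquiv.ofBijective (Algebra.ofId R' _) (hBbij _ (not_lt.1 hi))
      haveI := hQB j; haveI := hQB (j + 1); haveI := hQBp j; haveI := hQBp (j + 1)
      refine ⟨B' j, inferInstance, inferInstance, (Algebra.ofId R' (B' j)).comp e.symm.toAlgHom,
        fun k hk => by obtain rfl : k = j := by omega
                       exact AlgHom.id R' _,
        QB j, hQB j, ?_, fun h => absurd h hi⟩
      refine Ideal.comap_injective_of_surjective _ (hBbij _ (not_lt.1 hi)).2 ?_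
      rw [Ideal.comap_comap, show ((Algebra.ofId R' (B' j)).comp e.symm.toAlgHom).toRingHom.comp
        (algebraMap R' (B' (j + 1))) = algebraMap R' (B' j) from RingHom.ext fun x => ((Algebra.ofId R' (B' j)).comp e.symm.toAlgHom).commutes x]
      exact (hQBp j).over.symm.trans (hQBp (j + 1)).over
    let T := Localization.Away (a i)
    letI := aBn i hi
    haveI := hBaway i hi
    have hgT : IsUnit (algebraMap R T g) := by
      rw [IsScalarTower.algebraMap_apply R (𝒟.A i) T]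
      obtain ⟨k, hk⟩ := htc i hi
      refine isUnit_of_dvd_unit (map_dvd _ (dvd_trans ?_ hk)) (by
        rw [map_pow]; exact (IsLocalization.Away.algebraMap_isUnit (a i)).pow _)
      rw [IsScalarTower.algebraMap_apply R (𝒟.B i) (𝒟.A i)]
      exact map_dvd _ (hgb i hi)
    letI aT : Algebra R' T := (IsLocalization.Away.lift g (g := algebraMap R T) hgT).toAlgebra
    have hT : (algebraMap R' T).comp (algebraMap R R') =
        (algebraMap (𝒟.A i) T).comp (algebraMap R (𝒟.A i)) := by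
      rw [← IsScalarTower.algebraMap_eq R (𝒟.A i) T]
      exact IsLocalization.Away.lift_comp g hgT
    have hbT : IsUnit (((algebraMap (𝒟.A i) T).comp (algebraMap (𝒟.B i) (𝒟.A i))) (b i)) := by
      obtain ⟨k, hk⟩ := htc i hi
      rw [RingHom.comp_apply]
      exact isUnit_of_dvd_unit (map_dvd (algebraMap (𝒟.A i) T) hk) (by
        rw [map_pow]; exact (IsLocalization.Away.algebraMap_isUnit (a i)).pow _)
    let φ : B' i →+* T := IsLocalization.Away.lift (b i) hbT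
    let f : B' i →ₐ[R'] T :=
      { φ with
        commutes' := fun r => RingHom.congr_fun (f := φ.comp (algebraMap R' (B' i))) (g := algebraMap R' T)
          (IsLocalization.ringHom_ext (Submonoid.powers g) (by
            rw [RingHom.comp_assoc, hBtow i hi, ← RingHom.comp_assoc,
              IsLocalization.Away.lift_comp, hT, RingHom.comp_assoc, ← IsScalarTower.algebraMap_eq])) r }
    have hf : f.toRingHom.comp (algebraMap (𝒟.B i) (B' i)) =
        (algebraMap (𝒟.A i) T).comp (algebraMap (𝒟.B i) (𝒟.A i)) :=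
      IsLocalization.Away.lift_comp (b i) hbT
    have hf' : ∀ j, j + 1 = i → Nonempty (B' j →ₐ[R'] T) := by
      rintro j rfl
      have hj : j < n := Nat.lt_of_succ_lt hi
      letI := aBn j hj
      haveI := hBaway j hj
      have hu : IsUnit (((algebraMap (𝒟.A (j + 1)) T).comp (algebraMap (𝒟.B j) (𝒟.A (j + 1)))) (b j)) := by
        rw [RingHom.comp_apply, ← ha]; exact IsLocalization.Away.algebraMap_isUnit (a (j + 1))
      let ψ : B' j →+* T := IsLocalization.Away.lift (b j) hu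
      exact ⟨{ ψ with
        commutes' := fun r => RingHom.congr_fun (f := ψ.comp (algebraMap R' (B' j))) (g := algebraMap R' T)
          (IsLocalization.ringHom_ext (Submonoid.powers g) (by
            rw [RingHom.comp_assoc, hBtow j hj, ← RingHom.comp_assoc,
              IsLocalization.Away.lift_comp, hT, RingHom.comp_assoc, ← IsScalarTower.algebraMap_eq])) r }⟩
    obtain ⟨hP, hPo⟩ := away_map_prime (a i) (𝒜.qA i) (haq i hi)
    haveI := hQB i
    refine ⟨T, inferInstance, aT, f, fun j hj => (hf' j hj).some,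
      Ideal.map (algebraMap (𝒟.A i) T) (𝒜.qA i), hP, ?_,
      fun _ => ⟨inferInstance, inferInstanceAs (IsLocalization.Away (a i) (Localization.Away (a i))),
        hT, hPo.over.symm, hf⟩⟩
    refine away_prime_ext (b i) inferInstance (hQB i) ?_
    rw [Ideal.comap_comap, hf, ← Ideal.comap_comap, hBQ i hi]
    exact (congrArg _ hPo.over.symm).trans (Ideal.LiesOver.over (P := 𝒜.qA i) (p := 𝒜.qB i)).symm
  choose A' cA' aR'A' fA fA' PA hPA hPAQ hAloc using stageA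
  choose aAn hAaway hAtow hAQ hAcomm using hAloc
  letI rA : ∀ i, Algebra R (A' i) := fun i =>
    ((algebraMap R' (A' i)).comp (algebraMap R R')).toAlgebra
  letI rB : ∀ i, Algebra R (B' i) := fun i =>
    ((algebraMap R' (B' i)).comp (algebraMap R R')).toAlgebra
  haveI t1 : ∀ i, IsScalarTower R R' (A' i) := fun i => .of_algebraMap_eq' rfl
  haveI t3 : ∀ i, IsScalarTower R R' (B' i) := fun i => .of_algebraMap_eq' rfl
  letI aA : ∀ i : Fin n, Algebra (𝒟.A i) (A' i) := fun i => aAn i i.2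
  haveI t2 : ∀ i : Fin n, IsScalarTower R (𝒟.A i) (A' i) := fun i => .of_algebraMap_eq' (hAtow i i.2)
  letI aB : ∀ i : Fin n, Algebra (𝒟.B i) (B' i) := fun i => aBn i i.2
  haveI t4 : ∀ i : Fin n, IsScalarTower R (𝒟.B i) (B' i) := fun i => .of_algebraMap_eq' (hBtow i i.2)
  haveI hAa : ∀ i : Fin n, IsLocalization.Away (a (i : ℕ)) (A' i) := fun i => hAaway i i.2
  haveI hBb : ∀ i : Fin n, IsLocalization.Away (b (i : ℕ)) (B' i) := fun i => hBaway i i.2
  -- the maps from the smooth algebras to the next rings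
  have hfn : ∀ i, ∃ φ : B' i →ₐ[R'] A' (i + 1), ∀ h : i + 1 < n,
      φ.toRingHom.comp (@algebraMap (𝒟.B i) (B' i) _ _ (aBn i (Nat.lt_of_succ_lt h))) =
        (@algebraMap (𝒟.A (i + 1)) (A' (i + 1)) _ _ (aAn (i + 1) h)).comp
          (algebraMap (𝒟.B i) (𝒟.A (i + 1))) := by
    intro i
    by_cases h : i + 1 < n
    swap
    · exact ⟨fA' (i + 1) i rfl, fun h' => absurd h' h⟩
    letI := aBn i (Nat.lt_of_succ_lt h)
    letI := aAn (i + 1) h
    haveI := hBaway i (Nat.lt_of_succ_lt h)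
    haveI := hAaway (i + 1) h
    have hu : IsUnit (((algebraMap (𝒟.A (i + 1)) (A' (i + 1))).comp
        (algebraMap (𝒟.B i) (𝒟.A (i + 1)))) (b i)) := by
      rw [RingHom.comp_apply, ← ha]; exact IsLocalization.Away.algebraMap_isUnit (a (i + 1))
    let ψ : B' i →+* A' (i + 1) := IsLocalization.Away.lift (b i) hu
    exact ⟨{ ψ with
      commutes' := fun r => RingHom.congr_fun (f := ψ.comp (algebraMap R' (B' i))) (g := algebraMap R' (A' (i + 1)))
        (IsLocalization.ringHom_ext (Submonoid.powers g) (by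
          rw [RingHom.comp_assoc, hBtow i (Nat.lt_of_succ_lt h), ← RingHom.comp_assoc,
            IsLocalization.Away.lift_comp, hAtow (i + 1) h, RingHom.comp_assoc,
            ← IsScalarTower.algebraMap_eq])) r },
      fun _ => IsLocalization.Away.lift_comp (b i) hu⟩
  choose fB hfB using hfn
  letI aBA : ∀ i, Algebra (B' i) (A' i) := fun i => (fA i).toRingHom.toAlgebra
  haveI tRBA : ∀ i, IsScalarTower R' (B' i) (A' i) := fun i =>
    .of_algebraMap_eq fun x => ((fA i).commutes x).symm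
  letI aBA' : ∀ i, Algebra (B' i) (A' (i + 1)) := fun i => (fB i).toRingHom.toAlgebra
  haveI tRBA' : ∀ i, IsScalarTower R' (B' i) (A' (i + 1)) := fun i =>
    .of_algebraMap_eq fun x => ((fB i).commutes x).symm
  letI bA : ∀ i : Fin n, Algebra (𝒟.B i) (A' i) := fun i =>
    ((algebraMap (𝒟.A i) (A' i)).comp (algebraMap (𝒟.B i) (𝒟.A i))).toAlgebra
  haveI t5 : ∀ i : Fin n, IsScalarTower (𝒟.B i) (𝒟.A i) (A' i) := fun i => .of_algebraMap_eq' rfl
  haveI t6 : ∀ i : Fin n, IsScalarTower (𝒟.B i) (B' i) (A' i) := fun i =>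
    .of_algebraMap_eq' (hAcomm i i.2).symm
  letI bA' : ∀ i : Fin n, Algebra (𝒟.B i) (A' (i + 1)) := fun i =>
    ((algebraMap (B' i) (A' (i + 1))).comp (algebraMap (𝒟.B i) (B' i))).toAlgebra
  haveI t7 : ∀ i : Fin n, IsScalarTower (𝒟.B i) (B' i) (A' (i + 1)) := fun i => .of_algebraMap_eq' rfl
  have t7' : ∀ (i : Fin n) (h : (i : ℕ) + 1 < n),
      letI := aA ⟨i + 1, h⟩; IsScalarTower (𝒟.B i) (𝒟.A (i + 1)) (A' (i + 1)) := fun i h => by
    letI := aA ⟨i + 1, h⟩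
    exact .of_algebraMap_eq' (hfB i h)
  -- the first step
  let j₀ : Fin n := ⟨0, 𝒟.pos⟩
  letI a00 : Algebra (𝒟.A 0) (A' 0) := aA j₀
  haveI : IsLocalization.Away (a 0) (A' 0) := hAa j₀
  haveI : IsScalarTower R (𝒟.A 0) (A' 0) := t2 j₀
  letI sA : Algebra S (A' 0) := ((algebraMap (𝒟.A 0) (A' 0)).comp (algebraMap S (𝒟.A 0))).toAlgebra
  haveI t8' : IsScalarTower S (𝒟.A 0) (A' 0) := .of_algebraMap_eq' rfl
  have hu0 : IsUnit (algebraMap S (A' 0) hX) := by
    rw [IsScalarTower.algebraMap_apply S (𝒟.A 0) (A' 0), ← ha0]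
    exact IsLocalization.Away.algebraMap_isUnit (a 0)
  letI aSA : Algebra S' (A' 0) := (IsLocalization.Away.lift hX (g := algebraMap S (A' 0)) hu0).toAlgebra
  haveI t8 : IsScalarTower S S' (A' 0) := .of_algebraMap_eq fun x =>
    (IsLocalization.Away.lift_eq hX hu0 x).symm
  haveI tRSA : IsScalarTower R' S' (A' 0) := .of_algebraMap_eq' <|
    IsLocalization.ringHom_ext (Submonoid.powers g) <| by
      rw [RingHom.comp_assoc, ← IsScalarTower.algebraMap_eq R R' S', IsScalarTower.algebraMap_eq R S S',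
        ← RingHom.comp_assoc, ← IsScalarTower.algebraMap_eq S S' (A' 0),
        IsScalarTower.algebraMap_eq S (𝒟.A 0) (A' 0), RingHom.comp_assoc,
        ← IsScalarTower.algebraMap_eq R S (𝒟.A 0), ← IsScalarTower.algebraMap_eq R (𝒟.A 0) (A' 0),
        ← IsScalarTower.algebraMap_eq R R' (A' 0)]
  -- pushouts
  haveI hSA : Algebra.IsPushout S S' (𝒟.A 0) (A' 0) := by
    haveI : IsLocalization (Algebra.algebraMapSubmonoid (𝒟.A 0) (Submonoid.powers hX)) (A' 0) := by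
      rw [Algebra.algebraMapSubmonoid, Submonoid.map_powers, ← ha0]
      exact ‹IsLocalization.Away (a 0) (A' 0)›
    exact (Algebra.isPushout_of_isLocalization (Submonoid.powers hX) S' (𝒟.A 0) (A' 0)).symm
  haveI hBA : ∀ i : Fin n, Algebra.IsPushout (𝒟.B i) (B' i) (𝒟.A i) (A' i) := fun i => by
    obtain ⟨m, hm⟩ := hct i i.2
    obtain ⟨k, hk⟩ := htc i i.2
    haveI := away_of_dvd_pow (A' := A' i) (a (i : ℕ)) (algebraMap (𝒟.B i) (𝒟.A i) (b i)) hm hk
    haveI : IsLocalization (Algebra.algebraMapSubmonoid (𝒟.A i) (Submonoid.powers (b (i : ℕ)))) (A' i) := by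
      rw [Algebra.algebraMapSubmonoid, Submonoid.map_powers]
      exact ‹IsLocalization.Away (algebraMap (𝒟.B i) (𝒟.A i) (b i)) (A' i)›
    exact (Algebra.isPushout_of_isLocalization (Submonoid.powers (b (i : ℕ))) (B' i) (𝒟.A i) (A' i)).symm
  have hBA' : ∀ (i : Fin n) (h : (i : ℕ) + 1 < n),
      letI := aA ⟨i + 1, h⟩; haveI := t7' i h
      Algebra.IsPushout (𝒟.B i) (B' i) (𝒟.A (i + 1)) (A' (i + 1)) := fun i h => by
    letI := aA ⟨i + 1, h⟩
    haveI := t7' i h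
    haveI : IsLocalization (Algebra.algebraMapSubmonoid (𝒟.A (i + 1)) (Submonoid.powers (b (i : ℕ)))) (A' (i + 1)) := by
      rw [Algebra.algebraMapSubmonoid, Submonoid.map_powers, ← ha]
      exact hAa ⟨i + 1, h⟩
    exact (Algebra.isPushout_of_isLocalization (Submonoid.powers (b (i : ℕ))) (B' i) (𝒟.A (i + 1)) (A' (i + 1))).symm
  -- the modules
  have stageM : ∀ i, ∃ (T : Type u) (_ : AddCommGroup T) (_ : Module (A' i) T),
      ∀ h : i < n, letI := aAn i h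
        ∃ (_ : Module (𝒟.A i) T) (_ : IsScalarTower (𝒟.A i) (A' i) T) (f : 𝒟.M i →ₗ[𝒟.A i] T),
          IsLocalizedModule (Submonoid.powers (a i)) f := by
    intro i
    by_cases h : i < n
    swap
    · exact ⟨A' i, inferInstance, Semiring.toModule, fun h' => absurd h' h⟩
    letI := aAn i h
    haveI := hAaway i h
    refine ⟨A' i ⊗[𝒟.A i] 𝒟.M i, inferInstance, inferInstance, fun _ => ⟨inferInstance, inferInstance,
      TensorProduct.mk (𝒟.A i) (A' i) (𝒟.M i) 1, ?_⟩⟩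
    exact (isLocalizedModule_iff_isBaseChange (Submonoid.powers (a i)) (A' i) _).2
      (TensorProduct.isBaseChange (𝒟.A i) (𝒟.M i) (A' i))
  choose M' gMi mAM hMloc using stageM
  choose mAn tAn gMn hgMn using hMloc
  letI mA : ∀ i : Fin n, Module (𝒟.A i) (M' i) := fun i => mAn i i.2
  haveI tA : ∀ i : Fin n, IsScalarTower (𝒟.A i) (A' i) (M' i) := fun i => tAn i i.2
  let gM : ∀ i : Fin n, 𝒟.M i →ₗ[𝒟.A i] M' i := fun i => gMn i i.2
  have hgA : ∀ i : Fin n, IsBaseChange (A' i) (gM i) := fun i => by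
    haveI := hgMn i i.2
    exact IsLocalizedModule.isBaseChange (Submonoid.powers (a (i : ℕ))) (A' i) (gM i)
  letI mBM : ∀ i, Module (B' i) (M' i) := fun i => Module.compHom (M' i) (algebraMap (B' i) (A' i))
  haveI tBAM : ∀ i, IsScalarTower (B' i) (A' i) (M' i) := fun i => .of_algebraMap_smul fun _ _ => rfl
  letI mB'M : ∀ i, Module (B' i) (M' (i + 1)) := fun i =>
    Module.compHom (M' (i + 1)) (algebraMap (B' i) (A' (i + 1)))
  haveI tB'AM : ∀ i, IsScalarTower (B' i) (A' (i + 1)) (M' (i + 1)) := fun i =>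
    .of_algebraMap_smul fun _ _ => rfl
  letI mRM : ∀ i, Module R' (M' i) := fun i => Module.compHom (M' i) (algebraMap R' (A' i))
  haveI tRBM : ∀ i, IsScalarTower R' (B' i) (M' i) := fun i => .of_algebraMap_smul fun r x => by
    show algebraMap (B' i) (A' i) (algebraMap R' (B' i) r) • x = algebraMap R' (A' i) r • x
    rw [← IsScalarTower.algebraMap_apply R' (B' i) (A' i)]
  letI mBbM : ∀ i : Fin n, Module (𝒟.B i) (M' i) := fun i =>
    Module.compHom (M' i) (algebraMap (𝒟.B i) (A' i))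
  haveI : ∀ i : Fin n, IsScalarTower (𝒟.B i) (B' i) (M' i) := fun i => .of_algebraMap_smul fun r x => by
    show algebraMap (B' i) (A' i) (algebraMap (𝒟.B i) (B' i) r) • x = algebraMap (𝒟.B i) (A' i) r • x
    rw [← IsScalarTower.algebraMap_apply (𝒟.B i) (B' i) (A' i)]
  haveI : ∀ i : Fin n, IsScalarTower (𝒟.B i) (𝒟.A i) (M' i) := fun i => .of_algebraMap_smul fun r x => by
    show algebraMap (𝒟.B i) (𝒟.A i) r • x = algebraMap (𝒟.B i) (A' i) r • x
    rw [IsScalarTower.algebraMap_apply (𝒟.B i) (𝒟.A i) (A' i)]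
    exact (algebraMap_smul _ _ x).symm
  letI mBbM' : ∀ i : Fin n, Module (𝒟.B i) (M' (i + 1)) := fun i =>
    Module.compHom (M' (i + 1)) (algebraMap (𝒟.B i) (A' (i + 1)))
  haveI : ∀ i : Fin n, IsScalarTower (𝒟.B i) (B' i) (M' (i + 1)) := fun i =>
    .of_algebraMap_smul fun r x => by
      show algebraMap (B' i) (A' (i + 1)) (algebraMap (𝒟.B i) (B' i) r) • x =
        algebraMap (𝒟.B i) (A' (i + 1)) r • x
      rw [← IsScalarTower.algebraMap_apply (𝒟.B i) (B' i) (A' (i + 1))]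
  letI m00 : Module (𝒟.A 0) (M' 0) := mA j₀
  haveI : IsScalarTower (𝒟.A 0) (A' 0) (M' 0) := tA j₀
  letI mS0 : Module S (M' 0) := Module.compHom (M' 0) (algebraMap S (A' 0))
  letI mSM' : Module S' (M' 0) := Module.compHom (M' 0) (algebraMap S' (A' 0))
  haveI tSAM : IsScalarTower S' (A' 0) (M' 0) := .of_algebraMap_smul fun _ _ => rfl
  haveI : IsScalarTower S S' (M' 0) := .of_algebraMap_smul fun r x => by
    show algebraMap S' (A' 0) (algebraMap S S' r) • x = algebraMap S (A' 0) r • x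
    rw [← IsScalarTower.algebraMap_apply S S' (A' 0)]
  haveI : IsScalarTower S (𝒟.A 0) (M' 0) := .of_algebraMap_smul fun r x => by
    show algebraMap S (𝒟.A 0) r • x = algebraMap S (A' 0) r • x
    rw [IsScalarTower.algebraMap_apply S (𝒟.A 0) (A' 0)]
    exact (algebraMap_smul _ _ x).symm
  letI mRN : Module R' N' := Module.compHom N' (algebraMap R' S')
  haveI tRN : IsScalarTower R' S' N' := .of_algebraMap_smul fun _ _ => rfl
  let g0 : 𝒟.M 0 →ₗ[𝒟.A 0] M' 0 := gM j₀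
  have hgS : IsBaseChange S' (g0.restrictScalars S) := isBaseChange_restrict_of_isPushout (hgA j₀)
  have hgB : ∀ i : Fin n, IsBaseChange (B' i) ((gM i).restrictScalars (𝒟.B i)) := fun i =>
    isBaseChange_restrict_of_isPushout (hgA i)
  let fN := LocalizedModule.mkLinearMap (Submonoid.powers hX) N
  have hfN : IsBaseChange S' fN := IsLocalizedModule.isBaseChange (Submonoid.powers hX) S' fN
  let v : ∀ i, Fin (𝒟.r i) → M' i := fun i j =>
    if h : i < n then gM ⟨i, h⟩ (𝒟.α i (Pi.single j 1)) else 0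
  let α' : ∀ i, (Fin (𝒟.r i) → B' i) →ₗ[B' i] M' i := fun i => Fintype.linearCombination (B' i) (v i)
  have hv : ∀ i : Fin n, v i = fun j => gM i (𝒟.α i (Pi.single j 1)) := fun i =>
    funext fun j => dif_pos i.2
  have hrange : ∀ i : Fin n, LinearMap.range (α' i) =
      Submodule.span (B' i) ((gM i) '' (LinearMap.range (𝒟.α i) : Set (𝒟.M i))) := fun i => by
    show LinearMap.range (Fintype.linearCombination (B' i) (v i)) = _
    rw [hv]
    exact range_linearCombination_eq_span ((gM i).restrictScalars (𝒟.B i)) (𝒟.α i)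
  haveI hp'B : ∀ i, (p'.map (algebraMap R' (B' i))).IsPrime := hpB'
  have hfib : ∀ i, i < 𝒟.n →
      Function.Bijective ((α' i).baseChange (p'.map (algebraMap R' (B' i))).ResidueField) := by
    intro i hi
    let j : Fin n := ⟨i, hi⟩
    let P₀ : Ideal (𝒟.B j) := p.map (algebraMap R (𝒟.B j))
    let P₁ : Ideal (B' j) := p'.map (algebraMap R' (B' j))
    haveI : P₀.IsPrime := 𝒟.hp i
    haveI : P₁.IsPrime := hp'B i
    have hover : P₀ = P₁.under (𝒟.B j) := by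
      show _ = (p'.map (algebraMap R' (B' i))).comap _
      rw [show p'.map (algebraMap R' (B' i)) = P₀.map (algebraMap (𝒟.B j) (B' j)) from hBp i hi]
      refine (IsLocalization.under_map_of_isPrime_disjoint (Submonoid.powers (b (j : ℕ))) _ ‹P₀.IsPrime› ?_).symm
      rw [Set.disjoint_left]
      rintro _ ⟨m, rfl⟩ h
      refine hb i hi (Ideal.map_le_iff_le_comap.2 (le_of_eq (Ideal.LiesOver.over (P := 𝒜.qB i) (p := p))) ?_)
      exact Ideal.IsPrime.mem_of_pow_mem ‹P₀.IsPrime› m h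
    letI : Algebra P₀.ResidueField P₁.ResidueField :=
      (Ideal.ResidueField.mapₐ P₀ P₁ (Algebra.ofId (𝒟.B j) (B' j)) hover).toRingHom.toAlgebra
    haveI : IsScalarTower (𝒟.B j) P₀.ResidueField P₁.ResidueField := .of_algebraMap_eq fun x =>
      ((Ideal.ResidueField.mapₐ P₀ P₁ (Algebra.ofId (𝒟.B j) (B' j)) hover).commutes x).symm
    refine bijective_baseChange_of_bijective (K := P₀.ResidueField) (L := P₁.ResidueField)
      (isBaseChange_pi (𝒟.B j) (B' j) (𝒟.r j)) (hgB j) (𝒟.α j) (α' j) (fun x => ?_)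
      (𝒟.fibreIso i hi)
    rw [pi_eq_sum_univ' x, map_sum, map_sum, map_sum, map_sum]
    refine Finset.sum_congr rfl fun k _ => ?_
    rw [map_smul, LinearMap.map_smul_of_tower, map_smul, map_smul]
    congr 1
    rw [show ((Algebra.linearMap (𝒟.B j) (B' j)).compLeft (Fin (𝒟.r j))) (Pi.single k 1) =
      Pi.single k 1 from funext fun l => by rcases eq_or_ne l k with h | h <;> simp [h]]
    show Fintype.linearCombination (B' j) (v j) _ = _
    rw [Fintype.linearCombination_apply_single, hv, one_smul]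
    rfl
  have hlast : Function.Surjective (α' (𝒟.n - 1)) := by
    let j : Fin n := ⟨𝒟.n - 1, Nat.sub_lt 𝒟.pos one_pos⟩
    rw [← LinearMap.range_eq_top]
    show LinearMap.range (α' j) = ⊤
    rw [hrange j, LinearMap.range_eq_top.2 (show Function.Surjective (𝒟.α j) from 𝒟.cokerLast),
      Submodule.top_coe, Set.image_univ, eq_top_iff]
    rintro x -
    obtain ⟨w, rfl⟩ := (hgB j).equiv.surjective x
    induction w with
    | zero => simp
    | tmul c x =>
      rw [IsBaseChange.equiv_tmul]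
      exact Submodule.smul_mem _ _ (Submodule.subset_span ⟨x, rfl⟩)
    | add u v hu hv => rw [map_add]; exact add_mem hu hv
  let isoC : ∀ i, i + 1 < 𝒟.n → (M' i ⧸ LinearMap.range (α' i)) ≃ₗ[B' i] M' (i + 1) := fun i h =>
    let j : Fin n := ⟨i, Nat.lt_of_succ_lt h⟩
    letI := aA ⟨i + 1, h⟩
    letI := mA ⟨i + 1, h⟩
    haveI := tA ⟨i + 1, h⟩
    haveI := t7' j h
    haveI := hBA' j h
    haveI : IsScalarTower (𝒟.B j) (𝒟.A (j + 1)) (M' (j + 1)) := .of_algebraMap_smul fun r x => by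
      show algebraMap (𝒟.B j) (𝒟.A (j + 1)) r • x = algebraMap (𝒟.B j) (A' (j + 1)) r • x
      rw [IsScalarTower.algebraMap_apply (𝒟.B j) (𝒟.A (j + 1)) (A' (j + 1))]
      exact (algebraMap_smul _ _ x).symm
    cokerEquiv (hgB j) (isBaseChange_restrict_of_isPushout (A := 𝒟.B j) (A' := B' j)
      (B := 𝒟.A (j + 1)) (B' := A' (j + 1)) (hgA ⟨i + 1, h⟩)) _ (𝒟.isoCoker i h) _ (hrange j)
  let isoN : N' ≃ₗ[S'] M' 0 := hfN.equiv.symm ≪≫ₗ 𝒟.isoN.baseChange S S' ≪≫ₗ hgS.equiv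
  let 𝒟' : FlatCA.CompleteDevissage R' S' N' p' :=
    { n := 𝒟.n
      pos := 𝒟.pos
      A := A'
      B := B'
      M := M'
      r := 𝒟.r
      hp := hp'B
      α := α'
      surjSA := surjective_of_isPushout (A := S) (B := 𝒟.A 0) 𝒟.surjSA
      fpSA := by
        haveI := 𝒟.fpSA
        exact finitePresentation_of_isPushout (A := S) (B := 𝒟.A 0)
      surjBA' := fun i h =>
        let j : Fin n := ⟨i, Nat.lt_of_succ_lt h⟩
        letI := aA ⟨i + 1, h⟩
        haveI := t7' j h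
        haveI := hBA' j h
        surjective_of_isPushout (A := 𝒟.B j) (A' := B' j) (B := 𝒟.A (j + 1)) (B' := A' (j + 1))
          (𝒟.surjBA' i h)
      fpBA' := fun i h => by
        let j : Fin n := ⟨i, Nat.lt_of_succ_lt h⟩
        letI := aA ⟨i + 1, h⟩
        haveI := t7' j h
        haveI := hBA' j h
        haveI := 𝒟.fpBA' j h
        exact finitePresentation_of_isPushout (A := 𝒟.B j) (A' := B' j) (B := 𝒟.A (j + 1))
          (B' := A' (j + 1))
      finiteBA := fun i h => by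
        let j : Fin n := ⟨i, h⟩
        haveI := 𝒟.finiteBA j h
        exact finite_of_isPushout (A := 𝒟.B j) (A' := B' j) (B := 𝒟.A j) (B' := A' j)
      smooth := fun i h =>
        let j : Fin n := ⟨i, h⟩
        smooth_of_smoothRelDim (D := B' j)
          (smoothRelDim_shrink (D := 𝒟.B j) g (b (j : ℕ)) (𝒜.relDim j h))
      geomIrred := fun i h =>
        let j : Fin n := ⟨i, h⟩
        geomIrred_shrink (D := 𝒟.B j) (D' := B' j) g (b (j : ℕ)) (𝒟.geomIrred j h) (hsurj j h)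
      finiteM := fun i h => by
        haveI := 𝒟.finiteM i h
        exact Module.Finite.equiv (hgA ⟨i, h⟩).equiv
      isoN := isoN
      isoCoker := isoC
      fibreIso := hfib
      cokerLast := hlast }
  have hPB : ∀ i, (PA i).LiesOver (QB i) := fun i => ⟨(hPAQ i).symm⟩
  haveI := hQB; haveI := hPA; haveI := hQBp; haveI := hPB
  haveI hQo : ∀ i : Fin n, (QB i).LiesOver (𝒜.qB i) := fun i => ⟨(hBQ i i.2).symm⟩
  haveI hPo : ∀ i : Fin n, (PA i).LiesOver (𝒜.qA i) := fun i => ⟨(hAQ i i.2).symm⟩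
  refine ⟨aRS, tRS, mRN, tRN, hp', hq', 𝒟',
    { qB := QB, qA := PA, hqB := hQB, hqA := hPA, overB := hQBp, overA := hPB,
      pureTrans := ?_, uniq := ?_, q0 := ?_, qStep := ?_, d := 𝒜.d, relDim := ?_, locDim := ?_ },
    aA, fun i => rA i, fun i => t1 i, t2, aB, fun i => rB i, fun i => t3 i, t4, bA, t5, t6,
    bA', t7, sA, t8, mA, tA, gM, rfl, rfl, rfl, t8', fun x => ?_, t7',
    fun i => ⟨haq i i.2, hAa i, hBb i, hgMn i i.2, hPo i, hQo i, hrange i⟩⟩
  · intro i hi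
    let j : Fin n := ⟨i, hi⟩
    exact purelyTranscendental_of_bijective p p' (𝒜.qB j) (QB j)
      (bijective_residueField_of_away g p p')
      (bijective_residueField_of_away (b (j : ℕ)) (𝒜.qB j) (QB j)) (𝒜.pureTrans j hi)
  · intro i hi Q hQp hQy
    let j : Fin n := ⟨i, hi⟩
    let z₁ : Ideal (A' j) := Q
    haveI : z₁.IsPrime := hQp
    haveI : z₁.LiesOver (QB j) := hQy
    haveI : (z₁.under (𝒟.A j)).LiesOver (𝒜.qB j) := ⟨by
      rw [Ideal.LiesOver.over (P := QB j) (p := 𝒜.qB j), Ideal.LiesOver.over (P := z₁) (p := QB j),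
        Ideal.under_under, Ideal.under_under]⟩
    exact away_prime_ext (a (j : ℕ)) ‹z₁.IsPrime› (hPA i)
      ((𝒜.uniq j hi (z₁.under (𝒟.A j)) inferInstance).trans (hPo j).over)
  · show (PA 0).comap (algebraMap S' (A' 0)) = q'
    refine away_prime_ext hX inferInstance inferInstance ?_
    rw [Ideal.comap_comap, ← IsScalarTower.algebraMap_eq, IsScalarTower.algebraMap_eq S (𝒟.A 0) (A' 0),
      ← Ideal.comap_comap]
    exact ((congrArg _ (hPo j₀).over.symm).trans 𝒜.q0).trans hq'o.over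
  · intro i hi
    let j : Fin n := ⟨i, Nat.lt_of_succ_lt hi⟩
    letI := aA ⟨i + 1, hi⟩
    haveI := t7' j hi
    show (PA (j + 1)).comap (algebraMap (B' j) (A' (j + 1))) = QB j
    refine away_prime_ext (b (j : ℕ)) inferInstance (hQB i) ?_
    rw [Ideal.comap_comap, ← IsScalarTower.algebraMap_eq,
      IsScalarTower.algebraMap_eq (𝒟.B j) (𝒟.A (j + 1)) (A' (j + 1)), ← Ideal.comap_comap]
    exact ((congrArg _ (hPo ⟨i + 1, hi⟩).over.symm).trans (𝒜.qStep j hi)).trans (hQo j).over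
  · intro i hi
    let j : Fin n := ⟨i, hi⟩
    exact smoothRelDim_shrink (D := 𝒟.B j) (D' := B' j) g (b (j : ℕ)) (𝒜.relDim j hi)
  · intro i hi
    let j : Fin n := ⟨i, hi⟩
    haveI := 𝒟.finiteBA j hi
    haveI := 𝒟.finiteM j hi
    haveI : Module.Finite (𝒟.B j) (𝒟.M j) := Module.Finite.trans (𝒟.A j) (𝒟.M j)
    haveI : IsLocalizedModule (Submonoid.powers (b (j : ℕ))) ((gM j).restrictScalars (𝒟.B j)) :=
      (isLocalizedModule_iff_isBaseChange (Submonoid.powers (b (j : ℕ))) (B' j) _).2 (hgB j)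
    exact (fibreSupport_shrink (S := 𝒟.B j) (S' := B' j) (R' := R') p (𝒟.M j) g (b (j : ℕ)) p'
      (f := (gM j).restrictScalars (𝒟.B j)) (𝒜.qB j) (QB j) (𝒜.locDim j hi)).2
  · show isoN (fN x) = g0 (𝒟.isoN x)
    show hgS.equiv (𝒟.isoN.baseChange S S' _ _ (hfN.equiv.symm (fN x))) = _
    rw [IsBaseChange.equiv_symm_apply]
    simp [IsBaseChange.equiv_tmul]

section choice

variable {R S N : Type u} [CommRing R] [CommRing S] [Algebra R S] [AddCommGroup N] [Module S N]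
  {p : Ideal R} [p.IsPrime] {q : Ideal S} [q.IsPrime] (𝒟 : FlatCA.CompleteDevissage R S N p)
  (𝒜 : FlatCA.CompleteDevissageAt R S N p q 𝒟)

/-- The elements of an upward chain inside a given neighbourhood of the point. -/
theorem exists_upward (u : S) (hu : u ∉ q) :
    ∃ W : ∀ i, 𝒟.B i, (∀ i, i < 𝒟.n → W i ∉ 𝒜.qB i) ∧
      algebraMap S (𝒟.A 0) u ∣ algebraMap (𝒟.B 0) (𝒟.A 0) (W 0) ∧
      ∀ i, i + 1 < 𝒟.n → algebraMap (𝒟.B i) (𝒟.A (i + 1)) (W i) ∣
        algebraMap (𝒟.B (i + 1)) (𝒟.A (i + 1)) (W (i + 1)) := by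
  classical
  haveI := fun i => 𝒜.hqB i
  haveI := fun i => 𝒜.hqA i
  have step : ∀ i, i < 𝒟.n → ∀ c : 𝒟.A i, c ∉ 𝒜.qA i →
      ∃ w : 𝒟.B i, w ∉ 𝒜.qB i ∧ c ∣ algebraMap (𝒟.B i) (𝒟.A i) w := by
    intro i hi c hc
    haveI := 𝒟.finiteBA i hi
    by_contra hne
    push Not at hne
    obtain ⟨Q, hQI, hQp, hQy⟩ := Ideal.exists_ideal_over_prime_of_isIntegral (𝒜.qB i) (Ideal.span {c})
      (fun x hx => by_contra fun hxq => hne x hxq (Ideal.mem_span_singleton.1 hx))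
    haveI := hQp
    exact hc (𝒜.uniq i hi Q ⟨hQy.symm⟩ ▸ hQI (Ideal.mem_span_singleton_self c))
  have key : ∀ k, ∃ W : ∀ i, 𝒟.B i, (∀ i, i < k → i < 𝒟.n → W i ∉ 𝒜.qB i) ∧
      (0 < k → algebraMap S (𝒟.A 0) u ∣ algebraMap (𝒟.B 0) (𝒟.A 0) (W 0)) ∧
      ∀ i, i + 1 < k → i + 1 < 𝒟.n → algebraMap (𝒟.B i) (𝒟.A (i + 1)) (W i) ∣
        algebraMap (𝒟.B (i + 1)) (𝒟.A (i + 1)) (W (i + 1)) := by
    intro k
    induction k with
    | zero => exact ⟨fun _ => 1, fun i h => absurd h (Nat.not_lt_zero i), fun h => absurd h (lt_irrefl 0),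
        fun i h => absurd h (Nat.not_lt_zero _)⟩
    | succ k ih =>
      obtain ⟨W, hW1, hW2, hW3⟩ := ih
      by_cases hk : k < 𝒟.n
      swap
      · refine ⟨W, fun i hi hin => hW1 i (by omega) hin, fun _ => hW2 (by have := 𝒟.pos; omega),
          fun i hi hin => hW3 i (by omega) hin⟩
      obtain ⟨c, hc, hc0, hcs⟩ : ∃ c : 𝒟.A k, c ∉ 𝒜.qA k ∧
          (∀ w : 𝒟.B k, c ∣ algebraMap (𝒟.B k) (𝒟.A k) w → ∀ W' : ∀ i, 𝒟.B i, W' k = w → k = 0 →
            algebraMap S (𝒟.A 0) u ∣ algebraMap (𝒟.B 0) (𝒟.A 0) (W' 0)) ∧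
          (∀ w : 𝒟.B k, c ∣ algebraMap (𝒟.B k) (𝒟.A k) w → ∀ W' : ∀ i, 𝒟.B i, W' k = w → ∀ j, j + 1 = k →
            W' j = W j → algebraMap (𝒟.B j) (𝒟.A (j + 1)) (W' j) ∣
              algebraMap (𝒟.B (j + 1)) (𝒟.A (j + 1)) (W' (j + 1))) := by
        cases k with
        | zero =>
          refine ⟨algebraMap S (𝒟.A 0) u, ?_, fun w hw W' hW' _ => hW' ▸ hw,
            fun _ _ _ _ j hj => absurd hj (Nat.succ_ne_zero j)⟩
          rw [← Ideal.mem_comap, 𝒜.q0]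
          exact hu
        | succ j =>
          refine ⟨algebraMap (𝒟.B j) (𝒟.A (j + 1)) (W j), ?_, fun _ _ _ _ h => absurd h (Nat.succ_ne_zero j), ?_⟩
          · rw [← Ideal.mem_comap, 𝒜.qStep j hk]
            exact hW1 j (Nat.lt_succ_self j) (Nat.lt_of_succ_lt hk)
          · intro w hw W' hW' i hi hWi
            obtain rfl : i = j := by omega
            rw [hWi, hW']
            exact hw
      obtain ⟨w, hw, hdvd⟩ := step k hk c hc
      let W' := Function.update W k w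
      have hkk : W' k = w := Function.update_self ..
      have hne : ∀ i, i ≠ k → W' i = W i := fun i h => Function.update_of_ne h ..
      refine ⟨W', fun i hi hin => ?_, fun _ => ?_, fun i hi hin => ?_⟩
      · rcases eq_or_ne i k with rfl | h
        · rw [hkk]; exact hw
        · rw [hne i h]; exact hW1 i (by omega) hin
      · rcases eq_or_ne k 0 with h | h
        · exact hc0 w hdvd W' hkk h
        · rw [hne 0 (Ne.symm h)]; exact hW2 (by omega)
      · rcases eq_or_ne (i + 1) k with h | h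
        · exact hcs w hdvd W' hkk i h (hne i (by omega))
        · rw [hne i (by omega), hne (i + 1) h]; exact hW3 i (by omega) hin
  obtain ⟨W, hW1, hW2, hW3⟩ := key 𝒟.n
  exact ⟨W, fun i hi => hW1 i hi hi, hW2 𝒟.pos, fun i hi => hW3 i hi hi⟩

/-- The downward chain matching the smooth pieces with the rings of the next steps. -/
theorem exists_downward (W : ∀ i, 𝒟.B i) (hW : ∀ i, i < 𝒟.n → W i ∉ 𝒜.qB i) :
    ∃ v : ∀ i, 𝒟.B i, v (𝒟.n - 1) = W (𝒟.n - 1) ∧ (∀ i, i < 𝒟.n → v i ∉ 𝒜.qB i ∧ W i ∣ v i) ∧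
      ∀ i, i + 1 < 𝒟.n → algebraMap (𝒟.B i) (𝒟.A (i + 1)) (v i) =
        algebraMap (𝒟.B i) (𝒟.A (i + 1)) (W i) *
          algebraMap (𝒟.B (i + 1)) (𝒟.A (i + 1)) (v (i + 1)) := by
  classical
  haveI := fun i => 𝒜.hqB i
  haveI := fun i => 𝒜.hqA i
  haveI := fun i => 𝒜.overA i
  have key : ∀ k, k < 𝒟.n → ∃ v : ∀ i, 𝒟.B i, v (𝒟.n - 1) = W (𝒟.n - 1) ∧
      ∀ i, 𝒟.n - 1 - k ≤ i → i < 𝒟.n → v i ∉ 𝒜.qB i ∧ W i ∣ v i ∧
        (i + 1 < 𝒟.n → algebraMap (𝒟.B i) (𝒟.A (i + 1)) (v i) =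
          algebraMap (𝒟.B i) (𝒟.A (i + 1)) (W i) *
            algebraMap (𝒟.B (i + 1)) (𝒟.A (i + 1)) (v (i + 1))) := by
    intro k
    induction k with
    | zero =>
      intro _
      refine ⟨W, rfl, fun i hi hin => ⟨hW i hin, dvd_rfl, fun h => absurd h (by omega)⟩⟩
    | succ k ih =>
      intro hk
      obtain ⟨v, hv1, hv2⟩ := ih (by omega)
      obtain ⟨j, hj⟩ : ∃ j, j = 𝒟.n - 1 - (k + 1) := ⟨_, rfl⟩
      have hj1 : j + 1 < 𝒟.n := by omega
      obtain ⟨l, hl⟩ := 𝒟.surjBA' j hj1 (algebraMap (𝒟.B (j + 1)) (𝒟.A (j + 1)) (v (j + 1)))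
      have hlq : l ∉ 𝒜.qB j := by
        rw [← 𝒜.qStep j hj1, Ideal.mem_comap, hl]
        intro hmem
        exact (hv2 (j + 1) (by omega) hj1).1
          ((Ideal.LiesOver.over (P := 𝒜.qA (j + 1)) (p := 𝒜.qB (j + 1))).symm ▸ hmem)
      let v' := Function.update v j (W j * l)
      have hne : ∀ i, i ≠ j → v' i = v i := fun i h => Function.update_of_ne h ..
      have hjj : v' j = W j * l := Function.update_self ..
      refine ⟨v', by rw [hne _ (by omega)]; exact hv1, fun i hi hin => ?_⟩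
      rcases eq_or_ne i j with rfl | h
      · refine ⟨?_, hjj ▸ dvd_mul_right _ _, fun _ => ?_⟩
        · rw [hjj]
          exact fun hmem => ((Ideal.IsPrime.mem_or_mem inferInstance hmem).elim (hW i hin) hlq)
        · rw [hjj, map_mul, hl, hne (i + 1) (Nat.succ_ne_self i)]
      · rw [hne i h, hne (i + 1) (by omega)]
        exact hv2 i (by omega) hin
  obtain ⟨v, hv1, hv2⟩ := key (𝒟.n - 1) (by have := 𝒟.pos; omega)
  exact ⟨v, hv1, fun i hi => ⟨(hv2 i (by omega) hi).1, (hv2 i (by omega) hi).2.1⟩,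
    fun i hi => (hv2 i (by omega) (by omega)).2.2 hi⟩

end choice

theorem exists_completeShrink_of_mem
    (R S : Type u) [CommRing R] [CommRing S] [Algebra R S]
    (N : Type u) [AddCommGroup N] [Module S N] [Module.Finite S N]
    (p : Ideal R) [p.IsPrime] (q : Ideal S) [q.IsPrime] (𝒟 : FlatCA.CompleteDevissage R S N p)
    (𝒜 : FlatCA.CompleteDevissageAt R S N p q 𝒟) (u : S) (hu : u ∉ q) (W : ∀ i, 𝒟.B i)
    (hW : ∀ i, i < 𝒟.n → W i ∉ 𝒜.qB i)
    (hW0 : algebraMap S (𝒟.A 0) u ∣ algebraMap (𝒟.B 0) (𝒟.A 0) (W 0))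
    (hWs : ∀ i, i + 1 < 𝒟.n → algebraMap (𝒟.B i) (𝒟.A (i + 1)) (W i) ∣
      algebraMap (𝒟.B (i + 1)) (𝒟.A (i + 1)) (W (i + 1))) :
    ∃ (g : R) (hX : S) (a : ∀ i, 𝒟.A i) (b : ∀ i, 𝒟.B i), g ∉ p ∧ hX ∉ q ∧
      IsUnit (algebraMap S (Localization.Away hX) u) ∧
      (∀ i, i < 𝒟.n → b i ∉ 𝒜.qB i) ∧
      b (𝒟.n - 1) = W (𝒟.n - 1) * algebraMap R (𝒟.B (𝒟.n - 1)) g ∧
      ∃ (_ : Algebra (Localization.Away g) (Localization.Away hX)) (_ : IsScalarTower R (Localization.Away g) (Localization.Away hX))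
        (_ : Module (Localization.Away g) (LocalizedModule (Submonoid.powers hX) N)) (_ : IsScalarTower (Localization.Away g) (Localization.Away hX) (LocalizedModule (Submonoid.powers hX) N))
        (_ : (Ideal.map (algebraMap R (Localization.Away g)) p).IsPrime) (_ : (Ideal.map (algebraMap S (Localization.Away hX)) q).IsPrime)
        (𝒟' : FlatCA.CompleteDevissage (Localization.Away g) (Localization.Away hX) (LocalizedModule (Submonoid.powers hX) N) (Ideal.map (algebraMap R (Localization.Away g)) p))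
        (𝒜' : FlatCA.CompleteDevissageAt (Localization.Away g) (Localization.Away hX) (LocalizedModule (Submonoid.powers hX) N) (Ideal.map (algebraMap R (Localization.Away g)) p) (Ideal.map (algebraMap S (Localization.Away hX)) q) 𝒟')
      (aA : ∀ i : Fin 𝒟.n, Algebra (𝒟.A i) (𝒟'.A i)) (rA : ∀ i : Fin 𝒟.n, Algebra R (𝒟'.A i))
      (_t1 : ∀ i : Fin 𝒟.n, IsScalarTower R (Localization.Away g) (𝒟'.A i)) (_t2 : ∀ i : Fin 𝒟.n, IsScalarTower R (𝒟.A i) (𝒟'.A i))
      (aB : ∀ i : Fin 𝒟.n, Algebra (𝒟.B i) (𝒟'.B i)) (rB : ∀ i : Fin 𝒟.n, Algebra R (𝒟'.B i))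
      (_t3 : ∀ i : Fin 𝒟.n, IsScalarTower R (Localization.Away g) (𝒟'.B i)) (_t4 : ∀ i : Fin 𝒟.n, IsScalarTower R (𝒟.B i) (𝒟'.B i))
      (bA : ∀ i : Fin 𝒟.n, Algebra (𝒟.B i) (𝒟'.A i)) (_t5 : ∀ i : Fin 𝒟.n, IsScalarTower (𝒟.B i) (𝒟.A i) (𝒟'.A i))
      (_t6 : ∀ i : Fin 𝒟.n, IsScalarTower (𝒟.B i) (𝒟'.B i) (𝒟'.A i))
      (bA' : ∀ i : Fin 𝒟.n, Algebra (𝒟.B i) (𝒟'.A (i + 1)))
      (_t7 : ∀ i : Fin 𝒟.n, IsScalarTower (𝒟.B i) (𝒟'.B i) (𝒟'.A (i + 1)))
      (sA : Algebra S (𝒟'.A 0)) (_t8 : IsScalarTower S (Localization.Away hX) (𝒟'.A 0))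
      (mA : ∀ i : Fin 𝒟.n, Module (𝒟.A i) (𝒟'.M i)) (_t9 : ∀ i : Fin 𝒟.n, IsScalarTower (𝒟.A i) (𝒟'.A i) (𝒟'.M i))
      (gM : ∀ i : Fin 𝒟.n, 𝒟.M i →ₗ[𝒟.A i] 𝒟'.M i),
        𝒟'.n = 𝒟.n ∧ 𝒟'.r = 𝒟.r ∧ 𝒜'.d = 𝒜.d ∧
        (letI := aA ⟨0, 𝒟.pos⟩; IsScalarTower S (𝒟.A 0) (𝒟'.A 0)) ∧
      (∀ x : N, 𝒟'.isoN (LocalizedModule.mkLinearMap (Submonoid.powers hX) N x) = gM ⟨0, 𝒟.pos⟩ (𝒟.isoN x)) ∧
      (∀ (i : Fin 𝒟.n) (h : (i : ℕ) + 1 < 𝒟.n),
        letI := aA ⟨i + 1, h⟩; IsScalarTower (𝒟.B i) (𝒟.A (i + 1)) (𝒟'.A (i + 1))) ∧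
        ∀ i : Fin 𝒟.n,
          a i ∉ 𝒜.qA i ∧
          IsLocalization.Away (a (i : ℕ)) (𝒟'.A i) ∧ IsLocalization.Away (b (i : ℕ)) (𝒟'.B i) ∧
          IsLocalizedModule (Submonoid.powers (a (i : ℕ))) (gM i) ∧
          (𝒜'.qA i).LiesOver (𝒜.qA i) ∧ (𝒜'.qB i).LiesOver (𝒜.qB i) ∧
          LinearMap.range (𝒟'.α i) =
            Submodule.span (𝒟'.B i) ((gM i) '' (LinearMap.range (𝒟.α i) : Set (𝒟.M i))) := by
  classical
  haveI := fun i => 𝒜.hqB i
  haveI := fun i => 𝒜.hqA i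
  haveI := fun i => 𝒜.overB i
  haveI := fun i => 𝒜.overA i
  obtain ⟨v, hvl, hv, hvs⟩ := exists_downward 𝒟 𝒜 W hW
  have himg : ∀ i : Fin 𝒟.n, ∃ g : R, g ∉ p ∧ ∀ P : Ideal R, P.IsPrime → g ∉ P →
      ∃ Q : Ideal (𝒟.B i), Q.IsPrime ∧ Q.comap (algebraMap R (𝒟.B i)) = P ∧ v i ∉ Q := by
    intro i
    haveI := smooth_of_smoothRelDim (𝒜.relDim i i.2)
    have hU := (PrimeSpectrum.isOpenMap_comap_of_hasGoingDown_of_finitePresentation
      (R := R) (S := 𝒟.B i)) _ (PrimeSpectrum.basicOpen (v i)).2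
    have hpU : (⟨p, ‹_›⟩ : PrimeSpectrum R) ∈ PrimeSpectrum.comap (algebraMap R (𝒟.B i)) ''
        (PrimeSpectrum.basicOpen (v i) : Set (PrimeSpectrum (𝒟.B i))) :=
      ⟨⟨𝒜.qB i, inferInstance⟩, (hv i i.2).1,
        PrimeSpectrum.ext (Ideal.LiesOver.over (P := 𝒜.qB i) (p := p)).symm⟩
    obtain ⟨_, ⟨_, ⟨g, rfl⟩, rfl⟩, hg, hgU⟩ :=
      PrimeSpectrum.isBasis_basic_opens.exists_subset_of_mem_open hpU hU
    refine ⟨g, hg, fun P hP hgP => ?_⟩
    obtain ⟨Q, hQw, hQ⟩ := hgU (show (⟨P, hP⟩ : PrimeSpectrum R) ∈ PrimeSpectrum.basicOpen g from hgP)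
    exact ⟨Q.asIdeal, Q.2, congrArg PrimeSpectrum.asIdeal hQ, hQw⟩
  choose G hG hGs using himg
  obtain ⟨g, hgdef⟩ : ∃ g, g = ∏ i, G i := ⟨_, rfl⟩
  have hg : g ∉ p := by
    rw [hgdef, Ideal.IsPrime.prod_mem_iff]
    push Not
    exact fun i _ => hG i
  have hgB : ∀ i, algebraMap R (𝒟.B i) g ∉ 𝒜.qB i := fun i hmem =>
    hg ((Ideal.LiesOver.over (P := 𝒜.qB i) (p := p)).symm ▸ hmem)
  have hBA : ∀ i (x : 𝒟.B i), algebraMap (𝒟.B i) (𝒟.A i) x ∈ 𝒜.qA i → x ∈ 𝒜.qB i := fun i x h =>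
    (Ideal.LiesOver.over (P := 𝒜.qA i) (p := 𝒜.qB i)).symm ▸ h
  have hSq : ∀ x : S, x ∈ q → algebraMap S (𝒟.A 0) x ∈ 𝒜.qA 0 := fun x hx => by
    rw [← Ideal.mem_comap, 𝒜.q0]; exact hx
  obtain ⟨s₀, hs₀⟩ := 𝒟.surjSA (algebraMap (𝒟.B 0) (𝒟.A 0) (v 0))
  have hs₀q : s₀ ∉ q := fun hmem => (hv 0 𝒟.pos).1 (hBA 0 _ (hs₀ ▸ hSq _ hmem))
  have hgS : algebraMap R S g ∉ q := fun hmem => by
    have := hSq _ hmem
    rw [← IsScalarTower.algebraMap_apply R S (𝒟.A 0),
      IsScalarTower.algebraMap_apply R (𝒟.B 0) (𝒟.A 0)] at this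
    exact hgB 0 (hBA 0 _ this)
  obtain ⟨hX, hhX⟩ : ∃ hX, hX = u * s₀ * algebraMap R S g := ⟨_, rfl⟩
  have hXq : hX ∉ q := fun hmem => by
    rw [hhX] at hmem
    exact (Ideal.IsPrime.mem_or_mem ‹q.IsPrime› hmem).elim
      (fun h' => (Ideal.IsPrime.mem_or_mem ‹q.IsPrime› h').elim hu hs₀q) hgS
  let b : ∀ i, 𝒟.B i := fun i => v i * algebraMap R (𝒟.B i) g
  let a : ∀ i, 𝒟.A i := fun i => match i with
    | 0 => algebraMap S (𝒟.A 0) hX
    | j + 1 => algebraMap (𝒟.B j) (𝒟.A (j + 1)) (b j)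
  have hb : ∀ i, i < 𝒟.n → b i ∉ 𝒜.qB i := fun i hi hmem =>
    (Ideal.IsPrime.mem_or_mem inferInstance hmem).elim (hv i hi).1 (hgB i)
  have hbt : ∀ i, algebraMap (𝒟.B i) (𝒟.A i) (b i) =
      algebraMap (𝒟.B i) (𝒟.A i) (v i) * algebraMap R (𝒟.A i) g := fun i => by
    rw [map_mul, ← IsScalarTower.algebraMap_apply]
  have hdata : ∀ i, i < 𝒟.n → ∃ c : 𝒟.A i, c ∣ algebraMap (𝒟.B i) (𝒟.A i) (W i) ∧
      a i = c * algebraMap (𝒟.B i) (𝒟.A i) (b i) := by
    intro i hi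
    cases i with
    | zero =>
      refine ⟨algebraMap S (𝒟.A 0) u, hW0, ?_⟩
      show algebraMap S (𝒟.A 0) hX = _
      rw [hbt, hhX, map_mul, map_mul, hs₀, ← IsScalarTower.algebraMap_apply R S (𝒟.A 0), mul_assoc]
    | succ j =>
      refine ⟨algebraMap (𝒟.B j) (𝒟.A (j + 1)) (W j), hWs j hi, ?_⟩
      show algebraMap (𝒟.B j) (𝒟.A (j + 1)) (v j * algebraMap R (𝒟.B j) g) = _
      rw [hbt, map_mul, hvs j hi, ← IsScalarTower.algebraMap_apply, mul_assoc]
  have hct : ∀ i, i < 𝒟.n → ∃ m : ℕ, a i ∣ algebraMap (𝒟.B i) (𝒟.A i) (b i) ^ m := fun i hi => by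
    obtain ⟨c, ⟨r, hr⟩, hc⟩ := hdata i hi
    obtain ⟨x, hx⟩ := (hv i hi).2
    refine ⟨2, r * algebraMap (𝒟.B i) (𝒟.A i) x * algebraMap R (𝒟.A i) g, ?_⟩
    rw [hc, hbt, hx, map_mul, hr]
    ring
  have htc : ∀ i, i < 𝒟.n → ∃ k : ℕ, algebraMap (𝒟.B i) (𝒟.A i) (b i) ∣ a i ^ k := fun i hi => by
    obtain ⟨c, -, hc⟩ := hdata i hi
    exact ⟨1, c, by rw [hc]; ring⟩
  refine ⟨g, hX, a, b, hg, hXq, isUnit_of_dvd_unit (map_dvd _ ⟨s₀ * algebraMap R S g, ?_⟩)
      (IsLocalization.Away.algebraMap_isUnit hX), hb, ?_,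
    exists_completeShrink R S N p q 𝒟 𝒜 g hX a b hg hXq rfl (fun i => rfl) ?_
      (fun i _ => dvd_mul_left _ _) hb hct htc ?_⟩
  · rw [hhX, mul_assoc]
  · show v _ * _ = _
    rw [hvl]
  · rw [hhX]; exact dvd_mul_left _ _
  · intro i hi P hP hgP
    have hGP : G ⟨i, hi⟩ ∉ P := fun hmem => hgP (by
      rw [hgdef]; exact Ideal.IsPrime.prod_mem_iff.2 ⟨_, Finset.mem_univ _, hmem⟩)
    obtain ⟨Q, hQ, hQP, hvQ⟩ := hGs ⟨i, hi⟩ P hP hGP
    exact ⟨Q, hQ, hQP, fun hmem => (hQ.mem_or_mem hmem).elim hvQ fun h' => hgP (hQP ▸ h')⟩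

end Groth.Flatmor4
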