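import Groth.Agent.Flatmor4.FreeFibre
import Groth.Agent.Calg1.AssTensor
import Groth.Agent.Flatmor4.CMComp
import Groth.Agent.QCohMod.Pullback
import Groth.Prelude.Def_MoreMor

/-!
Relative assassins and base change.
-/

set_option autoImplicit false
set_option linter.style.haveILetI false

universe u

open TensorProduct IsLocalRing

namespace Groth.Flatmor4

section Algebra

/-- Being associated does not depend on the ring acting through a surjection. -/
theorem isAssociatedPrime_iff_of_surjective {B K : Type u} [CommRing B] [CommRing K] [Algebra B K]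
    (hπ : Function.Surjective (algebraMap B K)) {N : Type u} [AddCommGroup N] [Module B N] [Module K N]
    [IsScalarTower B K N] (P : Ideal K) :
    IsAssociatedPrime (P.comap (algebraMap B K)) N ↔ IsAssociatedPrime P N := by
  have hcolon : ∀ x : N, (⊥ : Submodule B N).colon {x} =
      ((⊥ : Submodule K N).colon {x}).comap (algebraMap B K) := fun x => by
    ext r
    simp only [Submodule.mem_colon_singleton, Submodule.mem_bot, Ideal.mem_comap, algebraMap_smul]
  constructor
  · rintro ⟨hp, x, hx⟩
    have hP : P.IsPrime := by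
      haveI := hp
      rw [← Ideal.map_comap_of_surjective _ hπ P]
      exact Ideal.map_isPrime_of_surjective hπ (Ideal.comap_mono bot_le)
    refine ⟨hP, x, ?_⟩
    apply Ideal.comap_injective_of_surjective _ hπ
    rw [hx, hcolon, Ideal.comap_radical]
  · rintro ⟨hp, x, hx⟩
    exact ⟨hp.comap _, x, by rw [hcolon, hx, Ideal.comap_radical]⟩

theorem maximalIdeal_comap_of_surjective {B K : Type u} [CommRing B] [CommRing K] [Algebra B K]
    [IsLocalRing B] [IsLocalRing K] (hπ : Function.Surjective (algebraMap B K)) :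
    (maximalIdeal K).comap (algebraMap B K) = maximalIdeal B := by
  haveI : IsLocalHom (algebraMap B K) := .of_surjective _ hπ
  exact IsLocalRing.maximalIdeal_comap _

variable {K K' : Type u} [CommRing K] [CommRing K'] [IsLocalRing K] [IsLocalRing K']
  [IsNoetherianRing K] [Algebra K K'] [IsLocalHom (algebraMap K K')] [Module.Flat K K']
  (N : Type u) [AddCommGroup N] [Module K N]

/-- The closed point of a flat local extension is associated to the extended module only if the
closed point of the base is associated to the module. -/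
theorem maximalIdeal_mem_associatedPrimes_of_tensor
    (h : IsAssociatedPrime (maximalIdeal K') (K' ⊗[K] N)) :
    IsAssociatedPrime (maximalIdeal K) N := by
  have h' : maximalIdeal K' ∈ associatedPrimes K' (K' ⊗[K] N) := h
  rw [Groth.Calg1.associatedPrimes_tensor, Set.mem_iUnion₂] at h'
  obtain ⟨p, hp, hq⟩ := h'
  haveI : p.IsPrime := hp.1
  suffices p = maximalIdeal K by exact this ▸ hp
  refine le_antisymm (le_maximalIdeal hp.1.ne_top) fun a ha => ?_
  by_contra hap
  obtain ⟨e⟩ := Groth.Calg1.nonempty_tensorQuotientEquiv (R := K) (S := K') (N := K') p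
  rw [← LinearEquiv.AssociatedPrimes.eq e] at hq
  have hinj : Function.Injective
      (AlgebraTensorModule.lTensor K' K' (LinearMap.lsmul K (K ⧸ p) a)) := by
    refine Module.Flat.lTensor_preserves_injective_linearMap _ fun x y hxy => ?_
    obtain ⟨x, rfl⟩ := Ideal.Quotient.mk_surjective x
    obtain ⟨y, rfl⟩ := Ideal.Quotient.mk_surjective y
    rw [Ideal.Quotient.eq]
    have : a * (x - y) ∈ p := by
      rw [mul_sub, ← Ideal.Quotient.eq]
      exact hxy
    exact (hp.1.mem_or_mem this).resolve_left hap
  obtain ⟨hq', z, hz⟩ := hq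
  have hzero : ∀ n w, algebraMap K K' a ^ n • (w : K' ⊗[K] (K ⧸ p)) = 0 → w = 0 := by
    intro n
    induction n with
    | zero => intro w hw; simpa using hw
    | succ n ih =>
      intro w hw
      rw [pow_succ, mul_smul] at hw
      have h1 := ih _ hw
      rw [algebraMap_smul] at h1
      refine hinj ?_
      rw [map_zero, ← h1]
      clear hw h1 hz
      induction w using TensorProduct.induction_on with
      | zero => simp
      | add u v hu hv => simp only [map_add, smul_add, hu, hv]
      | tmul t r => simp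
  have ham : algebraMap K K' a ∈ maximalIdeal K' :=
    map_nonunit (algebraMap K K') a ha
  rw [hz] at ham
  obtain ⟨n, hn⟩ := ham
  rw [Submodule.mem_colon_singleton, Submodule.mem_bot] at hn
  have hz0 : z = 0 := hzero n z hn
  rw [hz0] at hz
  exact hq'.ne_top (by rw [hz, show (⊥ : Submodule K' (K' ⊗[K] (K ⧸ p))).colon {0} = ⊤ by ext; simp,
    Ideal.radical_top])

/-- If the closed point of the extension is minimal over that of the base, associatedness lifts. -/
theorem maximalIdeal_mem_associatedPrimes_tensor [IsNoetherianRing K']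
    (hmin : ∀ Q : Ideal K', Q.IsPrime → (maximalIdeal K).map (algebraMap K K') ≤ Q → Q = maximalIdeal K')
    (h : IsAssociatedPrime (maximalIdeal K) N) :
    IsAssociatedPrime (maximalIdeal K') (K' ⊗[K] N) := by
  show maximalIdeal K' ∈ associatedPrimes K' (K' ⊗[K] N)
  rw [Groth.Calg1.associatedPrimes_tensor, Set.mem_iUnion₂]
  refine ⟨maximalIdeal K, h, ?_⟩
  set I := (maximalIdeal K).map (algebraMap K K') with hIdef
  haveI : Nontrivial (K' ⧸ I • (⊤ : Submodule K' K')) := by
    refine Submodule.Quotient.nontrivial_iff.mpr ?_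
    rw [smul_eq_mul, Ideal.mul_top]
    exact ne_top_of_le_ne_top (maximalIdeal.isMaximal K').ne_top
      (((local_hom_TFAE (algebraMap K K')).out 0 2 rfl rfl).mp inferInstance)
  obtain ⟨Q, hQ⟩ := associatedPrimes.nonempty K' (K' ⧸ I • (⊤ : Submodule K' K'))
  have hIQ : I ≤ Q := by
    obtain ⟨hQp, z, hz⟩ := hQ
    rw [hz]
    refine le_trans (fun r hr => ?_) Ideal.le_radical
    obtain ⟨z, rfl⟩ := Submodule.Quotient.mk_surjective _ z
    rw [Submodule.mem_colon_singleton, Submodule.mem_bot, ← Submodule.Quotient.mk_smul,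
      Submodule.Quotient.mk_eq_zero]
    exact Submodule.smul_mem_smul hr trivial
  rwa [hmin Q hQ.1 hIQ] at hQ

end Algebra

section Scheme

open CategoryTheory CategoryTheory.Limits AlgebraicGeometry Groth.QCohMod

variable {X S : Scheme.{u}} (f : X ⟶ S) (F : X.Modules)

/-- The relative assassin in terms of any presentation of the fibre local ring. -/
theorem mem_relAss_iff (x : X) {K : Type u} [CommRing K] [IsLocalRing K]
    [Algebra (X.presheaf.stalk x) K] (hπ : Function.Surjective (algebraMap (X.presheaf.stalk x) K))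
    (hker : RingHom.ker (algebraMap (X.presheaf.stalk x) K) =
      (maximalIdeal (S.presheaf.stalk (f x))).map (f.stalkMap x).hom) :
    x ∈ MoreMor.relAss f F ↔
      IsAssociatedPrime (maximalIdeal K) (K ⊗[X.presheaf.stalk x] F.presheaf.stalk x) := by
  rw [← isAssociatedPrime_iff_of_surjective hπ, maximalIdeal_comap_of_surjective hπ]
  let e₀ : ((X.presheaf.stalk x) ⧸ RingHom.ker (algebraMap (X.presheaf.stalk x) K))
      ≃ₐ[X.presheaf.stalk x] K :=
    Ideal.quotientKerAlgEquivOfSurjective (f := Algebra.ofId (X.presheaf.stalk x) K) hπ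
  let e : K ⊗[X.presheaf.stalk x] F.presheaf.stalk x ≃ₗ[X.presheaf.stalk x]
      F.presheaf.stalk x ⧸ ((maximalIdeal (S.presheaf.stalk (f x))).map (f.stalkMap x).hom •
        (⊤ : Submodule (X.presheaf.stalk x) (F.presheaf.stalk x))) :=
    (TensorProduct.congr e₀.symm.toLinearEquiv (LinearEquiv.refl _ _)).trans
      ((TensorProduct.quotTensorEquivQuotSMul _ _).trans
        (Submodule.quotEquivOfEq _ _ (by rw [hker])))
  show maximalIdeal (X.presheaf.stalk x) ∈ associatedPrimes _ _ ↔
    maximalIdeal (X.presheaf.stalk x) ∈ associatedPrimes _ _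
  rw [LinearEquiv.AssociatedPrimes.eq e]

theorem isNoetherianRing_of_fibre_presentation [LocallyOfFiniteType f] (x : X) {K : Type u}
    [CommRing K] (π : X.presheaf.stalk x →+* K) (hπ : Function.Surjective π)
    (hker : RingHom.ker π = (maximalIdeal (S.presheaf.stalk (f x))).map (f.stalkMap x).hom) :
    IsNoetherianRing K := by
  haveI : LocallyOfFiniteType (f.fiberToSpecResidueField (f x)) :=
    inferInstanceAs (LocallyOfFiniteType (pullback.snd f _))
  haveI := isNoetherianRing_fibre f x
    (LocallyOfFiniteType.isLocallyNoetherian (f.fiberToSpecResidueField (f x)))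
  exact isNoetherianRing_of_ringEquiv _
    ((Ideal.quotEquivOfEq hker.symm).trans (RingHom.quotientKerEquivOfSurjective hπ))

theorem apply_fromSpecStalk {Y : Scheme.{u}} (h : X ⟶ Y) (x : X) (P : PrimeSpectrum (X.presheaf.stalk x)) :
    h (X.fromSpecStalk x P) = Y.fromSpecStalk (h x) (PrimeSpectrum.comap (h.stalkMap x).hom P) := by
  have := congr($(Scheme.SpecMap_stalkMap_fromSpecStalk h (x := x)) P)
  exact this.symm

theorem apply_fromSpecStalk_eq_iff {Y : Scheme.{u}} (h : X ⟶ Y) (x : X)
    (P : PrimeSpectrum (X.presheaf.stalk x)) :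
    h (X.fromSpecStalk x P) = h x ↔
      (maximalIdeal (Y.presheaf.stalk (h x))).map (h.stalkMap x).hom ≤ P.asIdeal := by
  rw [Ideal.map_le_iff_le_comap, apply_fromSpecStalk]
  constructor
  · intro e
    have e' : PrimeSpectrum.comap (h.stalkMap x).hom P = closedPoint (Y.presheaf.stalk (h x)) :=
      (Y.fromSpecStalk (h x)).isEmbedding.injective (e.trans Y.fromSpecStalk_closedPoint.symm)
    exact (congrArg PrimeSpectrum.asIdeal e').ge
  · intro hle
    have e' : PrimeSpectrum.comap (h.stalkMap x).hom P = closedPoint (Y.presheaf.stalk (h x)) :=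
      PrimeSpectrum.ext (le_antisymm (le_maximalIdeal (P.isPrime.comap _).ne_top) hle)
    rw [e']
    exact Y.fromSpecStalk_closedPoint

variable {f F} {X' S' : Scheme.{u}} {g : S' ⟶ S} {f' : X' ⟶ S'} {g' : X' ⟶ X}

/-- Relative assassins map to relative assassins under base change, and a point maximal in its
fibre over a pair of points lifts a relative assassin. -/
theorem relAss_baseChange [LocallyOfFiniteType f] (H : IsPullback g' f' f g) (x' : X') :
    (x' ∈ MoreMor.relAss f' ((Scheme.Modules.pullback g').obj F) → g' x' ∈ MoreMor.relAss f F) ∧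
    ((∀ P : PrimeSpectrum (X'.presheaf.stalk x'),
        (maximalIdeal (X.presheaf.stalk (g' x'))).map (g'.stalkMap x').hom ≤ P.asIdeal →
        (maximalIdeal (S'.presheaf.stalk (f' x'))).map (f'.stalkMap x').hom ≤ P.asIdeal →
        P = closedPoint (X'.presheaf.stalk x')) →
      g' x' ∈ MoreMor.relAss f F → x' ∈ MoreMor.relAss f' ((Scheme.Modules.pullback g').obj F)) := by
  haveI : LocallyOfFiniteType f' := MorphismProperty.of_isPullback H inferInstance
  obtain ⟨K, K', _, _, _, _, π, π', ψ, hπ, hker, ⟨hπ', hker'⟩, hψ, hψl, hsq⟩ :=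
    exists_fibre_square H x'
  let B := X.presheaf.stalk (g' x')
  let B' := X'.presheaf.stalk x'
  let M := F.presheaf.stalk (g' x')
  letI : Algebra B B' := stalkAlg g' x'
  letI := π.toAlgebra
  letI := π'.toAlgebra
  letI := ψ.toAlgebra
  letI : Algebra B K' := (π'.comp (g'.stalkMap x').hom).toAlgebra
  haveI : IsScalarTower B B' K' := IsScalarTower.of_algebraMap_eq fun _ => rfl
  haveI : IsScalarTower B K K' := IsScalarTower.of_algebraMap_eq fun r => (hsq r).symm
  haveI : IsLocalHom (algebraMap K K') := hψl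
  haveI : Module.Flat K K' := hψ
  haveI : IsNoetherianRing K := isNoetherianRing_of_fibre_presentation f (g' x') π hπ hker
  haveI : IsNoetherianRing K' := isNoetherianRing_of_fibre_presentation f' x' π' hπ' hker'
  let e : K' ⊗[B'] ((Scheme.Modules.pullback g').obj F).presheaf.stalk x' ≃ₗ[K'] K' ⊗[K] (K ⊗[B] M) :=
    (AlgebraTensorModule.congr (LinearEquiv.refl K' K') (pullStalkEquiv g' F x').symm).trans
      ((AlgebraTensorModule.cancelBaseChange B B' K' K' M).trans
        (AlgebraTensorModule.cancelBaseChange B K K' K' M).symm)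
  have he : IsAssociatedPrime (maximalIdeal K') (K' ⊗[B'] ((Scheme.Modules.pullback g').obj F).presheaf.stalk x') ↔
      IsAssociatedPrime (maximalIdeal K') (K' ⊗[K] (K ⊗[B] M)) := by
    show maximalIdeal K' ∈ associatedPrimes _ _ ↔ maximalIdeal K' ∈ associatedPrimes _ _
    rw [LinearEquiv.AssociatedPrimes.eq e]
  rw [mem_relAss_iff f' _ x' (K := K') hπ' hker', mem_relAss_iff f F (g' x') (K := K) hπ hker, he]
  refine ⟨maximalIdeal_mem_associatedPrimes_of_tensor _, fun hmax h => ?_⟩
  refine maximalIdeal_mem_associatedPrimes_tensor _ (fun Q hQ hle => ?_) h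
  have h1 := hmax ⟨Q.comap π', hQ.comap π'⟩ ?_ ?_
  · apply Ideal.comap_injective_of_surjective π' hπ'
    exact (congrArg PrimeSpectrum.asIdeal h1).trans (maximalIdeal_comap_of_surjective (B := B') (K := K') hπ').symm
  · refine Ideal.map_le_iff_le_comap.mpr fun r hr => ?_
    show π' (g'.stalkMap x' r) ∈ Q
    rw [← hsq]
    exact hle (Ideal.mem_map_of_mem _
      (((maximalIdeal_comap_of_surjective (B := B) (K := K) hπ).ge hr) : π r ∈ maximalIdeal K))
  · rw [← hker']
    exact Ideal.comap_mono bot_le

/-- Every relative associated point lifts along a base change to any point over it. -/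
theorem exists_relAss_over [LocallyOfFiniteType f] (H : IsPullback g' f' f g) (x : X) (s' : S')
    (hxs : f x = g s') (hx : x ∈ MoreMor.relAss f F) :
    ∃ x', g' x' = x ∧ f' x' = s' ∧ x' ∈ MoreMor.relAss f' ((Scheme.Modules.pullback g').obj F) := by
  obtain ⟨p, hp1, hp2⟩ := Scheme.Pullback.exists_preimage_pullback x s' hxs
  let y : X' := H.isoPullback.inv p
  have hy1 : g' y = x := by
    show g' (H.isoPullback.inv p) = x
    rw [← Scheme.Hom.comp_apply, H.isoPullback_inv_fst, hp1]
  have hy2 : f' y = s' := by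
    show f' (H.isoPullback.inv p) = s'
    rw [← Scheme.Hom.comp_apply, H.isoPullback_inv_snd, hp2]
  let I := (maximalIdeal (X.presheaf.stalk (g' y))).map (g'.stalkMap y).hom ⊔
    (maximalIdeal (S'.presheaf.stalk (f' y))).map (f'.stalkMap y).hom
  obtain ⟨P, hP, -⟩ := Ideal.exists_minimalPrimes_le (show I ≤ maximalIdeal (X'.presheaf.stalk y) from
    sup_le (((local_hom_TFAE (g'.stalkMap y).hom).out 0 2 rfl rfl).mp inferInstance)
      (((local_hom_TFAE (f'.stalkMap y).hom).out 0 2 rfl rfl).mp inferInstance))
  let P' : PrimeSpectrum (X'.presheaf.stalk y) := ⟨P, hP.1.1⟩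
  let u := X'.fromSpecStalk y P'
  have hu1 : g' u = g' y := (apply_fromSpecStalk_eq_iff g' y P').mpr (le_sup_left.trans hP.1.2)
  have hu2 : f' u = f' y := (apply_fromSpecStalk_eq_iff f' y P').mpr (le_sup_right.trans hP.1.2)
  refine ⟨u, hu1.trans hy1, hu2.trans hy2, (relAss_baseChange H u).2 (fun Q hQ1 hQ2 => ?_) ?_⟩
  · let v := X'.fromSpecStalk u Q
    have hv1 : g' v = g' y := ((apply_fromSpecStalk_eq_iff g' u Q).mpr hQ1).trans hu1
    have hv2 : f' v = f' y := ((apply_fromSpecStalk_eq_iff f' u Q).mpr hQ2).trans hu2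
    have hvy : v ⤳ y := by
      have h1 : v ⤳ u := X'.range_fromSpecStalk.le ⟨Q, rfl⟩
      have h2 : u ⤳ y := X'.range_fromSpecStalk.le ⟨P', rfl⟩
      exact h1.trans h2
    obtain ⟨R, hR⟩ : v ∈ Set.range (X'.fromSpecStalk y) := X'.range_fromSpecStalk.ge hvy
    have hRI : I ≤ R.asIdeal := sup_le
      ((apply_fromSpecStalk_eq_iff g' y R).mp (by rw [hR, hv1]))
      ((apply_fromSpecStalk_eq_iff f' y R).mp (by rw [hR, hv2]))
    have hRP : R.asIdeal ≤ P := by
      have hsp : X'.fromSpecStalk y R ⤳ X'.fromSpecStalk y P' := by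
        rw [hR]; exact X'.range_fromSpecStalk.le ⟨Q, rfl⟩
      exact (PrimeSpectrum.le_iff_specializes R P').mpr
        ((X'.fromSpecStalk y).isEmbedding.isInducing.specializes_iff.mp hsp)
    have hRP' : R = P' := PrimeSpectrum.ext (hRP.antisymm (hP.2 ⟨R.isPrime, hRI⟩ hRP))
    apply (X'.fromSpecStalk u).isEmbedding.injective
    show v = _
    rw [X'.fromSpecStalk_closedPoint, ← hR, hRP']
  · rwa [hu1, hy1]

end Scheme

end Groth.Flatmor4
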