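import Groth.Prelude.Def_Hens2
import Mathlib.AlgebraicGeometry.Morphisms.Etale
import Mathlib.AlgebraicGeometry.Morphisms.Finite
import Mathlib.AlgebraicGeometry.Morphisms.QuasiFinite
import Mathlib.AlgebraicGeometry.PullbackCarrier
import Mathlib.FieldTheory.PurelyInseparable.PerfectClosure

/-!
Elementary etale neighbourhoods via sections over the residue field, and the points of a fibre
product over a given pair of points.
-/

set_option autoImplicit false

universe u

open CategoryTheory CategoryTheory.Limits AlgebraicGeometry Scheme.Pullback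

namespace Groth.Flatmor4

variable {X S U : Scheme.{u}}

lemma exists_spec_field_factor {K : Type u} [Field K] (m : Spec (.of K) ⟶ X) :
    ∃ (x : X) (ψ : X.residueField x ⟶ .of K), Spec.map ψ ≫ X.fromSpecResidueField x = m :=
  ⟨_, _, (Scheme.SpecToEquivOfField K X).symm_apply_apply m⟩

lemma exists_residueField_factor {s : S} (m : Spec (S.residueField s) ⟶ X) :
    ∃ (x : X) (ψ : X.residueField x ⟶ S.residueField s), Spec.map ψ ≫ X.fromSpecResidueField x = m :=
  exists_spec_field_factor (K := S.residueField s) m

@[simp]
lemma specMap_fromSpecResidueField_apply {A : CommRingCat.{u}} {x : X}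
    (ψ : X.residueField x ⟶ A) (p : Spec A) :
    (Spec.map ψ ≫ X.fromSpecResidueField x) p = x := by
  rw [Scheme.Hom.comp_apply]
  exact X.fromSpecResidueField_apply _ _

lemma specMap_fromSpecResidueField_inj {K : Type u} [Field K] {x : X}
    {ψ ψ' : X.residueField x ⟶ .of K}
    (h : Spec.map ψ ≫ X.fromSpecResidueField x = Spec.map ψ' ≫ X.fromSpecResidueField x) :
    ψ = ψ' :=
  Spec.map_injective ((cancel_mono _).mp h)

/-- A section over the residue field gives an elementary etale neighbourhood. -/
theorem exists_isEtaleNbhd_of_section (g : U ⟶ S) [Etale g] {s : S}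
    (m : Spec (S.residueField s) ⟶ U) (hm : m ≫ g = S.fromSpecResidueField s) :
    ∃ (u : U), Hens2.IsEtaleNbhd g u s ∧
      ∀ p : Spec (S.residueField s), m p = u := by
  obtain ⟨u, ψ, rfl⟩ := exists_residueField_factor m
  have hu : g u = s := by
    let p : Spec (S.residueField s) := default
    have := congr($(hm) p)
    rwa [Scheme.Hom.comp_apply, specMap_fromSpecResidueField_apply,
      Scheme.fromSpecResidueField_apply] at this
  refine ⟨u, ⟨inferInstance, hu, ?_⟩, fun p => specMap_fromSpecResidueField_apply _ _⟩
  subst hu
  rw [Category.assoc, ← Scheme.Hom.SpecMap_residueFieldMap_fromSpecResidueField,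
    ← Spec.map_comp_assoc] at hm
  have h1 : g.residueFieldMap u ≫ ψ = 𝟙 _ :=
    Spec.map_injective ((cancel_mono (S.fromSpecResidueField (g u))).mp (hm.trans (by simp)))
  have hs : Function.Surjective ψ := fun z => ⟨g.residueFieldMap u z, ConcreteCategory.congr_hom h1 z⟩
  refine ⟨(g.residueFieldMap u).hom.injective, fun z => ⟨ψ z, ψ.hom.injective ?_⟩⟩
  exact ConcreteCategory.congr_hom h1 (ψ z)

/-- An elementary etale neighbourhood has a section over the residue field. -/
theorem exists_section_of_isEtaleNbhd (g : U ⟶ S) {s : S} {u : U} (h : Hens2.IsEtaleNbhd g u s) :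
    ∃ m : Spec (S.residueField s) ⟶ U, m ≫ g = S.fromSpecResidueField s ∧
      ∀ p : Spec (S.residueField s), m p = u := by
  obtain ⟨-, hu, hb⟩ := h
  change g u = s at hu
  subst hu
  have : IsIso (g.residueFieldMap u) := (ConcreteCategory.isIso_iff_bijective _).mpr hb
  refine ⟨Spec.map (inv (g.residueFieldMap u)) ≫ U.fromSpecResidueField u, ?_, fun p => by simp⟩
  rw [Category.assoc, ← Scheme.Hom.SpecMap_residueFieldMap_fromSpecResidueField,
    ← Spec.map_comp_assoc, IsIso.hom_inv_id, Spec.map_id, Category.id_comp]

/-- Two elementary etale neighbourhoods have a common refinement. -/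
theorem exists_isEtaleNbhd_refine {U' : Scheme.{u}} {g : U ⟶ S} {g' : U' ⟶ S} {s : S} {u : U}
    {u' : U'} (h : Hens2.IsEtaleNbhd g u s) (h' : Hens2.IsEtaleNbhd g' u' s) :
    ∃ (W : Scheme.{u}) (a : W ⟶ U) (b : W ⟶ U') (w : W),
      a ≫ g = b ≫ g' ∧ a w = u ∧ b w = u' ∧ Hens2.IsEtaleNbhd (a ≫ g) w s := by
  have := h.etale
  have := h'.etale
  obtain ⟨m, hm, hmu⟩ := exists_section_of_isEtaleNbhd g h
  obtain ⟨m', hm', hmu'⟩ := exists_section_of_isEtaleNbhd g' h'
  let n := pullback.lift m m' (hm.trans hm'.symm)
  obtain ⟨w, hw, hn⟩ := exists_isEtaleNbhd_of_section (pullback.fst g g' ≫ g) n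
    (by rw [← Category.assoc, pullback.lift_fst, hm])
  refine ⟨_, pullback.fst g g', pullback.snd g g', w, pullback.condition, ?_, ?_, hw⟩
  · rw [← hn default, ← Scheme.Hom.comp_apply, pullback.lift_fst]; exact hmu _
  · rw [← hn default, ← Scheme.Hom.comp_apply, pullback.lift_snd]; exact hmu' _

/-- If `κ(g y) → κ(y)` is bijective then there is at most one point over a pair `(x, y)`. -/
theorem eq_of_residueFieldMap_bijective {f : X ⟶ S} {g : U ⟶ S} {w w' : ↑(pullback f g)}
    (h1 : pullback.fst f g w = pullback.fst f g w') (h2 : pullback.snd f g w = pullback.snd f g w')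
    (hb : Function.Bijective (g.residueFieldMap (pullback.snd f g w))) : w = w' := by
  let T := Triplet.ofPoint w
  have : IsIso (g.residueFieldMap T.y) := (ConcreteCategory.isIso_iff_bijective _).mpr hb
  have : Subsingleton (Spec T.tensor) := by
    have : IsIso T.tensorInl := pushout_inl_iso_of_right_iso _ _
    exact (Spec.map T.tensorInl).homeomorph.injective.subsingleton
  apply carrierEquiv.injective
  refine carrierEquiv_eq_iff.mpr ⟨Triplet.ext h1 h2, ?_⟩
  have e : T = (carrierEquiv w').1 := Triplet.ext h1 h2
  have : Subsingleton (Spec (carrierEquiv w').1.tensor) := e ▸ this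
  exact Subsingleton.elim _ _

/-- Only finitely many points lie over a pair of points `(x, y)` when `κ(x)` is finite over `κ(f x)`. -/
theorem finite_points_over {f : X ⟶ S} {g : U ⟶ S} (x : X) (y : U)
    (hfin : (f.residueFieldMap x).hom.Finite) :
    {w : ↑(pullback f g) | pullback.fst f g w = x ∧ pullback.snd f g w = y}.Finite := by
  by_cases h : f x = g y
  swap
  · convert Set.finite_empty
    ext w
    simp only [Set.mem_ofPred_eq, Set.mem_empty_iff_false, iff_false, not_and]
    rintro rfl rfl
    exact h congr($(pullback.condition (f := f) (g := g)) w)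
  let T : Triplet f g := Triplet.mk' x y h
  have : IsFinite (Spec.map T.tensorInr) := by
    refine MorphismProperty.of_isPullback (P := @IsFinite) T.isPullback_SpecMap_tensor ?_
    rw [Spec.map_comp]
    have : IsFinite (Spec.map (f.residueFieldMap T.x)) := (IsFinite.SpecMap_iff _).mpr hfin
    infer_instance
  have : Finite (Spec T.tensor) := by
    have h' := (Spec.map T.tensorInr).finite_preimage_singleton default
    rw [Set.eq_univ_of_forall (s := Spec.map T.tensorInr ⁻¹' {default}) fun p =>
      Subsingleton.elim _ _] at h'
    exact Set.finite_univ_iff.mp h'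
  refine (Set.finite_range T.SpecTensorTo).subset fun w hw => ?_
  have e : Triplet.ofPoint w = T := Triplet.ext hw.1 hw.2
  exact ⟨Spec.map (Triplet.tensorCongr e).inv (SpecOfPoint w), by
    rw [← Scheme.Hom.comp_apply, Triplet.tensorCongr_inv, tensorCongr_SpecTensorTo]
    exact SpecTensorTo_SpecOfPoint w⟩

/-- The residue field of a point of a fibre product is generated by those of its projections. -/
theorem eq_top_of_range_le {f : X ⟶ S} {g : U ⟶ S} (w : ↑(pullback f g))
    (K : Subfield ((pullback f g).residueField w))
    (h1 : ∀ a, (pullback.fst f g).residueFieldMap w a ∈ K)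
    (h2 : ∀ a, (pullback.snd f g).residueFieldMap w a ∈ K) : K = ⊤ := by
  let i : X.residueField (pullback.fst f g w) ⟶ .of K :=
    CommRingCat.ofHom (((pullback.fst f g).residueFieldMap w).hom.codRestrict K h1)
  let j : U.residueField (pullback.snd f g w) ⟶ .of K :=
    CommRingCat.ofHom (((pullback.snd f g).residueFieldMap w).hom.codRestrict K h2)
  let ι : CommRingCat.of K ⟶ (pullback f g).residueField w := CommRingCat.ofHom K.subtype
  have hι : Spec.map ι ≫ Spec.map i ≫ X.fromSpecResidueField _ =
        (pullback f g).fromSpecResidueField w ≫ pullback.fst f g := by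
    rw [← Spec.map_comp_assoc]
    exact Scheme.Hom.SpecMap_residueFieldMap_fromSpecResidueField _ _
  have hι' : Spec.map ι ≫ Spec.map j ≫ U.fromSpecResidueField _ =
        (pullback f g).fromSpecResidueField w ≫ pullback.snd f g := by
    rw [← Spec.map_comp_assoc]
    exact Scheme.Hom.SpecMap_residueFieldMap_fromSpecResidueField _ _
  have : Epi (Spec.map ι) := by
    have : Mono ι := ConcreteCategory.mono_of_injective _ Subtype.val_injective
    constructor
    intro Z a b hab
    obtain ⟨za, ψa, rfl⟩ := exists_spec_field_factor (K := K) a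
    obtain ⟨zb, ψb, rfl⟩ := exists_spec_field_factor (K := K) b
    have hz : za = zb := by
      have := congr($hab default)
      rwa [← Spec.map_comp_assoc, ← Spec.map_comp_assoc, specMap_fromSpecResidueField_apply,
        specMap_fromSpecResidueField_apply] at this
    subst hz
    rw [← Spec.map_comp_assoc, ← Spec.map_comp_assoc, cancel_mono, Spec.map_inj,
      cancel_mono] at hab
    rw [hab]
  let m : Spec (.of K) ⟶ pullback f g :=
    pullback.lift (Spec.map i ≫ X.fromSpecResidueField _) (Spec.map j ≫ U.fromSpecResidueField _) (by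
      rw [← cancel_epi (Spec.map ι)]
      simp only [← Category.assoc]
      rw [Category.assoc (Spec.map ι), hι, Category.assoc (Spec.map ι), hι', Category.assoc,
        Category.assoc, pullback.condition])
  have hm : Spec.map ι ≫ m = (pullback f g).fromSpecResidueField w := by
    apply pullback.hom_ext <;> simp only [Category.assoc, m, pullback.lift_fst, pullback.lift_snd]
    · exact hι
    · exact hι'
  obtain ⟨z, ψ, hzψ⟩ := exists_spec_field_factor m
  rw [← hzψ] at hm
  have hz : z = w := by
    have := congr($hm default)
    rwa [← Spec.map_comp_assoc, specMap_fromSpecResidueField_apply,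
      Scheme.fromSpecResidueField_apply] at this
  subst hz
  have h1 : ψ ≫ ι = 𝟙 _ := Spec.map_injective ((cancel_mono _).mp (by simpa using hm))
  rw [eq_top_iff]
  intro z _
  exact (show ((ψ z : K) : _) = z from ConcreteCategory.congr_hom h1 z) ▸ (ψ z).2

open Polynomial in
/-- If the separable elements of `κ(x)` split in `κ(y)`, then the residue field of a point over
`(x, y)` is purely inseparable over `κ(y)`. -/
theorem isPurelyInseparable_residueField {f : X ⟶ S} {g : U ⟶ S} (w : ↑(pullback f g))
    (r : S.residueField (g (pullback.snd f g w)) ⟶ X.residueField (pullback.fst f g w))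
    (hr : r ≫ (pullback.fst f g).residueFieldMap w =
      g.residueFieldMap _ ≫ (pullback.snd f g).residueFieldMap w)
    (halg : letI := r.hom.toAlgebra
      Algebra.IsAlgebraic (S.residueField (g (pullback.snd f g w))) (X.residueField (pullback.fst f g w)))
    (hsplit : letI := r.hom.toAlgebra
      ∀ b : X.residueField (pullback.fst f g w), IsSeparable (S.residueField (g (pullback.snd f g w))) b →
        ((minpoly (S.residueField (g (pullback.snd f g w))) b).map
          (g.residueFieldMap (pullback.snd f g w)).hom).Splits) :
    letI := ((pullback.snd f g).residueFieldMap w).hom.toAlgebra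
    IsPurelyInseparable (U.residueField (pullback.snd f g w)) ((pullback f g).residueField w) := by
  let F := S.residueField (g (pullback.snd f g w))
  let E := X.residueField (pullback.fst f g w)
  let L := U.residueField (pullback.snd f g w)
  let M := (pullback f g).residueField w
  let i : E →+* M := ((pullback.fst f g).residueFieldMap w).hom
  let j : L →+* M := ((pullback.snd f g).residueFieldMap w).hom
  let k : F →+* L := (g.residueFieldMap (pullback.snd f g w)).hom
  let _ : Algebra F E := r.hom.toAlgebra
  let _ : Algebra L M := j.toAlgebra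
  have hk : i.comp (algebraMap F E) = j.comp k := congr(CommRingCat.Hom.hom $hr)
  have : Algebra.IsAlgebraic F E := halg
  refine (isPurelyInseparable_iff_perfectClosure_eq_top).mpr ?_
  have hall := eq_top_of_range_le w (perfectClosure L M).toSubfield ?_ (fun a => ?_)
  · exact SetLike.ext fun z => ⟨fun _ => trivial, fun _ => (hall ▸ Subfield.mem_top z :)⟩
  · intro a
    obtain ⟨q, _⟩ := ExpChar.exists F
    have : ExpChar L q := expChar_of_injective_ringHom k.injective q
    change i a ∈ perfectClosure L M
    rw [mem_perfectClosure_iff_pow_mem q]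
    obtain ⟨n, hn⟩ := IsPurelyInseparable.pow_mem (separableClosure F E) q a
    obtain ⟨⟨b, hb⟩, hba⟩ := hn
    change b = _ at hba
    rw [mem_separableClosure_iff] at hb
    refine ⟨n, ?_⟩
    rw [← map_pow, ← hba]
    have hroot : ((minpoly F b).map k).eval₂ j (i b) = 0 := by
      rw [eval₂_map, ← hk, ← hom_eval₂, ← aeval_def, minpoly.aeval, map_zero]
    exact (hsplit b hb).mem_range_of_isRoot
      ((minpoly.monic hb.isIntegral).map k).ne_zero (by rwa [IsRoot.def, eval_map])
  · exact (perfectClosure L M).algebraMap_mem a

end Groth.Flatmor4
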