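import Mathlib

/-!
An isomorphism of finitely presented algebras over a colimit of finitely generated subalgebras comes from one of them.
-/

set_option autoImplicit false

universe u

open TensorProduct

namespace Groth.Flatmor4.AlgIsoDescent

variable {A₀ : Type u} [CommRing A₀] {R : Type u} [CommRing R] [Algebra A₀ R]

/-- The map from a stage to the colimit. -/
noncomputable abbrev toR (C : Type u) [CommRing C] [Algebra A₀ C] (A : Subalgebra A₀ R) :
    A ⊗[A₀] C →ₐ[A₀] R ⊗[A₀] C :=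
  Algebra.TensorProduct.map A.val (AlgHom.id A₀ C)

/-- The map between stages. -/
noncomputable abbrev trans (C : Type u) [CommRing C] [Algebra A₀ C] {A A' : Subalgebra A₀ R} (h : A ≤ A') :
    A ⊗[A₀] C →ₐ[A₀] A' ⊗[A₀] C :=
  Algebra.TensorProduct.map (Subalgebra.inclusion h) (AlgHom.id A₀ C)

variable {C : Type u} [CommRing C] [Algebra A₀ C]

theorem toR_trans {A A' : Subalgebra A₀ R} (h : A ≤ A') (x : A ⊗[A₀] C) :
    toR C A' (trans C h x) = toR C A x := by
  induction x using TensorProduct.induction_on with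
  | zero => simp
  | tmul a c => simp
  | add a b ha hb => simp [ha, hb]

theorem trans_trans {A A' A'' : Subalgebra A₀ R} (h : A ≤ A') (h' : A' ≤ A'') (x : A ⊗[A₀] C) :
    trans C h' (trans C h x) = trans C (h.trans h') x := by
  induction x using TensorProduct.induction_on with
  | zero => simp
  | tmul a c => simp
  | add a b ha hb => simp [ha, hb]

theorem rTensor_eq_toR (A : Subalgebra A₀ R) (x : A ⊗[A₀] C) :
    LinearMap.rTensor C A.val.toLinearMap x = toR C A x := by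
  induction x using TensorProduct.induction_on with
  | zero => simp
  | tmul a c => simp
  | add a b ha hb => simp [ha, hb]

theorem rTensor_eq_trans {A A' : Subalgebra A₀ R} (h : A ≤ A') (x : A ⊗[A₀] C) :
    LinearMap.rTensor C (Subalgebra.inclusion h).toLinearMap x = trans C h x := by
  induction x using TensorProduct.induction_on with
  | zero => simp
  | tmul a c => simp
  | add a b ha hb => simp [ha, hb]

theorem exists_eq_of_toR_eq {A : Subalgebra A₀ R} (hA : A.FG) {x y : A ⊗[A₀] C} (h : toR C A x = toR C A y) :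
    ∃ (A' : Subalgebra A₀ R) (hle : A ≤ A'), A'.FG ∧ trans C hle x = trans C hle y := by
  rw [← rTensor_eq_toR, ← rTensor_eq_toR] at h
  obtain ⟨A', hle, hA', e⟩ := TensorProduct.Algebra.eq_of_fg_of_subtype_eq hA h
  exact ⟨A', hle, hA', by rw [← rTensor_eq_trans, ← rTensor_eq_trans]; exact e⟩

/-- Finitely many equalities in the colimit hold at a common stage. -/
theorem exists_forall_eq_of_toR_eq {κ : Type*} (s : Finset κ) {A : Subalgebra A₀ R} (hA : A.FG)
    (x y : κ → A ⊗[A₀] C) (h : ∀ i ∈ s, toR C A (x i) = toR C A (y i)) :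
    ∃ (A' : Subalgebra A₀ R) (hle : A ≤ A'), A'.FG ∧ ∀ i ∈ s, trans C hle (x i) = trans C hle (y i) := by
  classical
  induction s using Finset.induction_on with
  | empty => exact ⟨A, le_rfl, hA, fun i hi => absurd hi (Finset.notMem_empty i)⟩
  | insert a s ha ih =>
    obtain ⟨A₁, h₁, hA₁, e₁⟩ := ih fun i hi => h i (Finset.mem_insert_of_mem hi)
    obtain ⟨A₂, h₂, hA₂, e₂⟩ := exists_eq_of_toR_eq hA₁ (x := trans C h₁ (x a)) (y := trans C h₁ (y a))
      (by rw [toR_trans, toR_trans]; exact h a (Finset.mem_insert_self a s))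
    refine ⟨A₂, h₁.trans h₂, hA₂, fun i hi => ?_⟩
    rw [← trans_trans h₁ h₂, ← trans_trans h₁ h₂]
    rcases Finset.mem_insert.1 hi with rfl | hi
    · exact e₂
    · rw [e₁ i hi]

variable {D : Type u} [CommRing D] [Algebra A₀ D] [Algebra.FinitePresentation A₀ D]

/-- Two maps from a finitely presented algebra which agree in the colimit agree at a stage. -/
theorem exists_comp_eq {A : Subalgebra A₀ R} (hA : A.FG) (ψ ψ' : D →ₐ[A₀] A ⊗[A₀] C)
    (h : (toR C A).comp ψ = (toR C A).comp ψ') :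
    ∃ (A' : Subalgebra A₀ R) (hle : A ≤ A'), A'.FG ∧ (trans C hle).comp ψ = (trans C hle).comp ψ' := by
  obtain ⟨n, π, hπ, -⟩ := (inferInstance : Algebra.FinitePresentation A₀ D).out
  obtain ⟨A', hle, hA', e⟩ := exists_forall_eq_of_toR_eq Finset.univ hA
    (fun i => ψ (π (MvPolynomial.X i))) (fun i => ψ' (π (MvPolynomial.X i)))
    fun i _ => DFunLike.congr_fun h _
  refine ⟨A', hle, hA', AlgHom.ext fun d => ?_⟩
  obtain ⟨p, rfl⟩ := hπ d
  exact DFunLike.congr_fun (MvPolynomial.algHom_ext (f := ((trans C hle).comp ψ).comp π)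
    (g := ((trans C hle).comp ψ').comp π) fun i => e i (Finset.mem_univ i)) p

/-- A map from a finitely presented algebra to the colimit comes from a stage. -/
theorem exists_lift (φ : D →ₐ[A₀] R ⊗[A₀] C) :
    ∃ (A : Subalgebra A₀ R), A.FG ∧ ∃ ψ : D →ₐ[A₀] A ⊗[A₀] C, (toR C A).comp ψ = φ := by
  classical
  obtain ⟨n, π, hπ, hker⟩ := (inferInstance : Algebra.FinitePresentation A₀ D).out
  choose B hB z hz using fun i : Fin n => TensorProduct.Algebra.exists_of_fg (φ (π (MvPolynomial.X i)))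
  let A := Finset.univ.sup B
  have hA : A.FG := Finset.sup_induction Subalgebra.fg_bot (fun a ha b hb => ha.sup hb) fun i _ => hB i
  have hle : ∀ i, B i ≤ A := fun i => Finset.le_sup (Finset.mem_univ i)
  let χ : MvPolynomial (Fin n) A₀ →ₐ[A₀] A ⊗[A₀] C :=
    MvPolynomial.aeval fun i => trans C (hle i) (z i)
  have hχ : (toR C A).comp χ = φ.comp π := MvPolynomial.algHom_ext fun i => by
    show toR C A (χ (MvPolynomial.X i)) = φ (π (MvPolynomial.X i))
    rw [MvPolynomial.aeval_X, toR_trans, ← rTensor_eq_toR, hz]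
  obtain ⟨g, hg⟩ := hker
  obtain ⟨A', hle', hA', e⟩ := exists_forall_eq_of_toR_eq g hA (fun r => χ r) (fun _ => 0) fun r hr => by
    have : π r = 0 := RingHom.mem_ker.1 (hg ▸ Ideal.subset_span hr)
    rw [map_zero]
    exact (DFunLike.congr_fun hχ r).trans (by rw [AlgHom.comp_apply, this, map_zero])
  have hzero : ∀ r, π r = 0 → (trans C hle').comp χ r = 0 := by
    intro r hr
    have hr' : r ∈ RingHom.ker π.toRingHom := hr
    rw [← hg] at hr'
    refine RingHom.mem_ker.1 ((Ideal.span_le (I := RingHom.ker ((trans C hle').comp χ))).2 ?_ hr')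
    intro r hr
    exact RingHom.mem_ker.2 ((e r hr).trans (map_zero _))
  refine ⟨A', hA', AlgHom.liftOfSurjective π hπ ((trans C hle').comp χ) hzero, AlgHom.ext fun d => ?_⟩
  obtain ⟨p, rfl⟩ := hπ d
  rw [AlgHom.comp_apply, AlgHom.liftOfSurjective_apply, AlgHom.comp_apply, toR_trans]
  exact DFunLike.congr_fun hχ p

omit [Algebra.FinitePresentation A₀ D] in
/-- The extension of a map to a stage. -/
theorem toR_ext (e : R ⊗[A₀] D →ₐ[R] R ⊗[A₀] C) {A : Subalgebra A₀ R} (ψ : D →ₐ[A₀] A ⊗[A₀] C)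
    (h : ∀ d, toR C A (ψ d) = e (1 ⊗ₜ d)) (x : A ⊗[A₀] D) :
    toR C A (Algebra.TensorProduct.lift (Algebra.ofId A (A ⊗[A₀] C)) ψ (fun _ _ => Commute.all _ _) x) =
      e (toR D A x) := by
  induction x using TensorProduct.induction_on with
  | zero => simp
  | tmul a d =>
    rw [Algebra.TensorProduct.lift_tmul, map_mul, h]
    show (a : R) ⊗ₜ[A₀] (1 : C) * e (1 ⊗ₜ d) = e ((a : R) ⊗ₜ d)
    rw [show (a : R) ⊗ₜ[A₀] d = (a : R) • ((1 : R) ⊗ₜ[A₀] d) by simp [TensorProduct.smul_tmul'],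
      map_smul, Algebra.smul_def, Algebra.TensorProduct.algebraMap_apply]
    simp
  | add a b ha hb => simp only [map_add, ha, hb]

omit [Algebra.FinitePresentation A₀ D] in
theorem trans_ext {A A' : Subalgebra A₀ R} (hle : A ≤ A') (ψ : D →ₐ[A₀] A ⊗[A₀] C) (x : A ⊗[A₀] D) :
    Algebra.TensorProduct.lift (Algebra.ofId A' (A' ⊗[A₀] C)) ((trans C hle).comp ψ)
        (fun _ _ => Commute.all _ _) (trans D hle x) =
      trans C hle (Algebra.TensorProduct.lift (Algebra.ofId A (A ⊗[A₀] C)) ψ (fun _ _ => Commute.all _ _) x) := by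
  induction x using TensorProduct.induction_on with
  | zero => simp
  | tmul a d =>
    rw [Algebra.TensorProduct.lift_tmul, map_mul, Algebra.TensorProduct.map_tmul,
      Algebra.TensorProduct.lift_tmul]
    refine congrArg₂ (· * ·) ?_ rfl
    show (Subalgebra.inclusion hle a) ⊗ₜ[A₀] (1 : C) = trans C hle (a ⊗ₜ 1)
    simp
  | add a b ha hb => simp only [map_add, ha, hb]

variable [Algebra.FinitePresentation A₀ C]

/-- An isomorphism of finitely presented algebras over the colimit comes from a stage. -/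
theorem exists_algEquiv (e : R ⊗[A₀] D ≃ₐ[R] R ⊗[A₀] C) :
    ∃ (A : Subalgebra A₀ R), A.FG ∧ Nonempty ((A ⊗[A₀] D) ≃ₐ[A] (A ⊗[A₀] C)) := by
  obtain ⟨A₁, hA₁, ψ₁, hψ₁⟩ := exists_lift ((e.toAlgHom.restrictScalars A₀).comp
    (Algebra.TensorProduct.includeRight (R := A₀) (A := R) (B := D)))
  obtain ⟨A₂, hA₂, ψ₂, hψ₂⟩ := exists_lift ((e.symm.toAlgHom.restrictScalars A₀).comp
    (Algebra.TensorProduct.includeRight (R := A₀) (A := R) (B := C)))
  let A := A₁ ⊔ A₂
  let φ₁ := (trans C (le_sup_left : A₁ ≤ A)).comp ψ₁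
  let φ₂ := (trans D (le_sup_right : A₂ ≤ A)).comp ψ₂
  have h₁ : ∀ d, toR C A (φ₁ d) = e (1 ⊗ₜ d) := fun d => (toR_trans _ _).trans (DFunLike.congr_fun hψ₁ d)
  have h₂ : ∀ c, toR D A (φ₂ c) = e.symm (1 ⊗ₜ c) := fun c => (toR_trans _ _).trans (DFunLike.congr_fun hψ₂ c)
  let Φ₁ := Algebra.TensorProduct.lift (Algebra.ofId A (A ⊗[A₀] C)) φ₁ (fun _ _ => Commute.all _ _)
  let Φ₂ := Algebra.TensorProduct.lift (Algebra.ofId A (A ⊗[A₀] D)) φ₂ (fun _ _ => Commute.all _ _)
  obtain ⟨B₁, hB₁, hB₁fg, e₁⟩ := exists_comp_eq (hA₁.sup hA₂) ((Φ₂.restrictScalars A₀).comp φ₁)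
    Algebra.TensorProduct.includeRight (AlgHom.ext fun d => by
      show toR D A (Φ₂ (φ₁ d)) = toR D A (1 ⊗ₜ d)
      rw [toR_ext e.symm.toAlgHom φ₂ h₂, h₁]
      exact (e.symm_apply_apply _).trans (by simp))
  obtain ⟨B₂, hB₂, hB₂fg, e₂⟩ := exists_comp_eq (hA₁.sup hA₂) ((Φ₁.restrictScalars A₀).comp φ₂)
    Algebra.TensorProduct.includeRight (AlgHom.ext fun c => by
      show toR C A (Φ₁ (φ₂ c)) = toR C A (1 ⊗ₜ c)
      rw [toR_ext e.toAlgHom φ₁ h₁, h₂]
      exact (e.apply_symm_apply _).trans (by simp))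
  let B := B₁ ⊔ B₂
  have hAB : A ≤ B := hB₁.trans le_sup_left
  let Ψ₁ := Algebra.TensorProduct.lift (Algebra.ofId B (B ⊗[A₀] C)) ((trans C hAB).comp φ₁)
    (fun _ _ => Commute.all _ _)
  let Ψ₂ := Algebra.TensorProduct.lift (Algebra.ofId B (B ⊗[A₀] D)) ((trans D hAB).comp φ₂)
    (fun _ _ => Commute.all _ _)
  have k₁ : ∀ d, trans D hAB (Φ₂ (φ₁ d)) = (1 : B) ⊗ₜ d := fun d => by
    rw [← trans_trans hB₁ (le_sup_left : B₁ ≤ B)]
    refine (congrArg (trans D (le_sup_left : B₁ ≤ B)) (DFunLike.congr_fun e₁ d)).trans ?_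
    simp
  have k₂ : ∀ c, trans C hAB (Φ₁ (φ₂ c)) = (1 : B) ⊗ₜ c := fun c => by
    rw [show trans C hAB = trans C (hB₂.trans (le_sup_right : B₂ ≤ B)) from rfl,
      ← trans_trans hB₂ (le_sup_right : B₂ ≤ B)]
    refine (congrArg (trans C (le_sup_right : B₂ ≤ B)) (DFunLike.congr_fun e₂ c)).trans ?_
    simp
  refine ⟨B, hB₁fg.sup hB₂fg, ⟨AlgEquiv.ofAlgHom Ψ₁ Ψ₂ (Algebra.TensorProduct.ext' fun b c => ?_)
    (Algebra.TensorProduct.ext' fun b d => ?_)⟩⟩
  · show Ψ₁ (Ψ₂ (b ⊗ₜ c)) = b ⊗ₜ c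
    rw [show b ⊗ₜ[A₀] c = b • ((1 : B) ⊗ₜ[A₀] c) by simp [TensorProduct.smul_tmul'], map_smul, map_smul]
    congr 1
    rw [Algebra.TensorProduct.lift_tmul, map_one, one_mul, AlgHom.comp_apply, trans_ext]
    exact k₂ c
  · show Ψ₂ (Ψ₁ (b ⊗ₜ d)) = b ⊗ₜ d
    rw [show b ⊗ₜ[A₀] d = b • ((1 : B) ⊗ₜ[A₀] d) by simp [TensorProduct.smul_tmul'], map_smul, map_smul]
    congr 1
    rw [Algebra.TensorProduct.lift_tmul, map_one, one_mul, AlgHom.comp_apply, trans_ext]
    exact k₁ d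

end Groth.Flatmor4.AlgIsoDescent
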