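import Groth.Agent.FlatMor2.CompletelyDecomposed
import Groth.Agent.FlatMor2.NoethFibre
import Groth.Agent.Limits.Descend
import Groth.Agent.Limits.Stalk
import Groth.Agent.Limits.HomDescent
import Groth.Agent.Variety2.DimScheme

/-!
Completely decomposed morphisms descend along limits with affine transition maps.
-/

set_option autoImplicit false
set_option linter.style.haveILetI false
set_option backward.isDefEq.respectTransparency.types false

universe u

open CategoryTheory CategoryTheory.Limits AlgebraicGeometry Topology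

namespace Groth.Flatmor4.CDDescent

variable {X Y : Scheme.{u}}

theorem range_eq_of_comp_eq {K : CommRingCat.{u}} [Nontrivial K] {y y' : Y}
    (a : Y.residueField y ⟶ K) (b : Y.residueField y' ⟶ K) {hK : IsField K}
    (h : Spec.map a ≫ Y.fromSpecResidueField y = Spec.map b ≫ Y.fromSpecResidueField y') :
    Set.range a = Set.range b := by
  letI := hK.toField
  let p : Spec K := IsLocalRing.closedPoint K
  have e : y = y' := by
    have := congr($h p)
    rwa [Scheme.Hom.comp_apply, Scheme.Hom.comp_apply, Scheme.fromSpecResidueField_apply,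
      Scheme.fromSpecResidueField_apply] at this
  subst e
  rw [Spec.map_injective ((cancel_mono (Y.fromSpecResidueField y)).mp h)]

/-- A morphism from the spectrum of the residue field of a point of the base that lifts it gives a point
with the same residue field. -/
theorem exists_bijective_of_lift (f : X ⟶ Y) (y : Y) (σ : Spec (Y.residueField y) ⟶ X)
    (hσ : σ ≫ f = Y.fromSpecResidueField y) :
    ∃ x : X, f x = y ∧ Function.Bijective (f.residueFieldMap x) := by
  obtain ⟨x, θ, rfl⟩ : ∃ (x : X) (θ : X.residueField x ⟶ Y.residueField y),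
      Spec.map θ ≫ X.fromSpecResidueField x = σ :=
    ⟨_, _, Scheme.descResidueField_stalkClosedPointTo_fromSpecResidueField (Y.residueField y) X σ⟩
  have hxy : f x = y := by
    have := congr($hσ (IsLocalRing.closedPoint (Y.residueField y)))
    rwa [Scheme.Hom.comp_apply, Scheme.Hom.comp_apply, Scheme.fromSpecResidueField_apply,
      Scheme.fromSpecResidueField_apply] at this
  refine ⟨x, hxy, (f.residueFieldMap x).hom.injective, fun c => ?_⟩
  have hr : Set.range (f.residueFieldMap x ≫ θ) = Set.range (𝟙 (Y.residueField y)) := by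
    refine range_eq_of_comp_eq _ _ (hK := Field.toIsField (Y.residueField y)) ?_
    rw [Spec.map_comp, Category.assoc, f.SpecMap_residueFieldMap_fromSpecResidueField x, Spec.map_id,
      Category.id_comp, ← Category.assoc]
    exact hσ
  obtain ⟨d, hd⟩ : θ c ∈ Set.range (f.residueFieldMap x ≫ θ) := hr.ge ⟨θ c, rfl⟩
  exact ⟨d, θ.hom.injective hd⟩

/-- A point with the same residue field gives a lift of the spectrum of the residue field. -/
theorem exists_lift_of_bijective (f : X ⟶ Y) (x : X) (h : Function.Bijective (f.residueFieldMap x)) :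
    ∃ σ : Spec (Y.residueField (f x)) ⟶ X, σ ≫ f = Y.fromSpecResidueField (f x) := by
  haveI : IsIso (f.residueFieldMap x) := (ConcreteCategory.isIso_iff_bijective _).2 h
  refine ⟨inv (Spec.map (f.residueFieldMap x)) ≫ X.fromSpecResidueField x, ?_⟩
  rw [Category.assoc, ← f.SpecMap_residueFieldMap_fromSpecResidueField x, IsIso.inv_hom_id_assoc]

/-- Spectra of field extensions are epimorphisms. -/
theorem epi_SpecMap_residueFieldMap (f : X ⟶ Y) (x : X) : Epi (Spec.map (f.residueFieldMap x)) := by
  haveI : Flat (Spec.map (f.residueFieldMap x)) := by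
    rw [Flat.SpecMap_iff]
    letI := (f.residueFieldMap x).hom.toAlgebra
    exact RingHom.flat_algebraMap_iff.mpr inferInstance
  haveI : Surjective (Spec.map (f.residueFieldMap x)) :=
    ⟨fun p => ⟨IsLocalRing.closedPoint _, @Subsingleton.elim (PrimeSpectrum (Y.residueField (f x))) _ _ _⟩⟩
  exact Flat.epi_of_flat_of_surjective _

theorem range_residueFieldMap_mono {P T : Scheme.{u}} {a : P ⟶ X} {b : P ⟶ T} {m : X ⟶ T} (h : a ≫ m = b) (z : P) :
    Set.range (b.residueFieldMap z) ⊆ Set.range (a.residueFieldMap z) := by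
  subst h
  rintro _ ⟨c, rfl⟩
  exact ⟨m.residueFieldMap (a z) c, by rw [Scheme.residueFieldMap_comp]; rfl⟩

variable {I : Type u} [SmallCategory I] [IsCofiltered I] {D : I ⥤ Scheme.{u}} {c : Cone D} (hc : IsLimit c)
  [∀ (i j : I) (a : i ⟶ j), IsAffineHom (D.map a)]

include hc in
/-- A residue field element of a point of a limit comes from a stage. -/
theorem exists_mem_range_residueFieldMap (i : I) (z : c.pt) (a : c.pt.residueField z) :
    ∃ (j : I) (_ : j ⟶ i), a ∈ Set.range ((c.π.app j).residueFieldMap z) := by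
  obtain ⟨a, rfl⟩ := c.pt.residue_surjective z a
  obtain ⟨j, φ, b, hb⟩ := Groth.Limits.exists_stalkMap_eq D c hc i z a
  refine ⟨j, φ, (D.obj j).residue _ b, ?_⟩
  have := congr($(Scheme.residue_residueFieldMap (c.π.app j) z) b)
  exact this.trans (congrArg _ hb)

variable {i₀ : I} {X₀ Y₀ : Scheme.{u}} (f₀ : X₀ ⟶ Y₀) (π₀ : D.obj i₀ ⟶ Y₀)

include hc in
/-- A lift over a point of the limit descends to a stage. -/
theorem exists_lift_stage [LocallyOfFiniteType f₀] (z : c.pt) (σ : Spec (c.pt.residueField z) ⟶ X₀)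
    (hσ : σ ≫ f₀ = c.pt.fromSpecResidueField z ≫ c.π.app i₀ ≫ π₀) :
    ∃ (j : I) (φ : j ⟶ i₀) (τ : Spec ((D.obj j).residueField (c.π.app j z)) ⟶ X₀),
      τ ≫ f₀ = (D.obj j).fromSpecResidueField _ ≫ D.map φ ≫ π₀ := by
  classical
  obtain ⟨x, θ, rfl⟩ : ∃ (x : X₀) (θ : X₀.residueField x ⟶ c.pt.residueField z),
      Spec.map θ ≫ X₀.fromSpecResidueField x = σ :=
    ⟨_, _, Scheme.descResidueField_stalkClosedPointTo_fromSpecResidueField (c.pt.residueField z) X₀ σ⟩
  have hbase : Set.range (f₀.residueFieldMap x ≫ θ) =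
      Set.range ((c.π.app i₀ ≫ π₀).residueFieldMap z) := by
    refine range_eq_of_comp_eq _ _ (hK := Field.toIsField (c.pt.residueField z)) ?_
    rw [Spec.map_comp, Category.assoc, f₀.SpecMap_residueFieldMap_fromSpecResidueField x, ← Category.assoc, hσ,
      (c.π.app i₀ ≫ π₀).SpecMap_residueFieldMap_fromSpecResidueField z]
    rfl
  letI := (f₀.residueFieldMap x).hom.toAlgebra
  haveI : Algebra.EssFiniteType (Y₀.residueField (f₀ x)) (X₀.residueField x) := by
    have h := RingHom.EssFiniteType.residueFieldMap (LocallyOfFiniteType.stalkMap f₀ x)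
    exact h
  obtain ⟨G, hG⟩ : ∃ G : Finset (X₀.residueField x),
      IntermediateField.adjoin (Y₀.residueField (f₀ x)) (G : Set (X₀.residueField x)) = ⊤ :=
    IntermediateField.fg_top_iff.2 inferInstance
  choose jg φg hjg using fun g : X₀.residueField x => exists_mem_range_residueFieldMap hc i₀ z (θ g)
  obtain ⟨j, hj⟩ := IsCofiltered.inf_objs_exists (insert i₀ (G.image jg))
  let φ : j ⟶ i₀ := (hj (Finset.mem_insert_self _ _)).some
  let Sj : Subfield (c.pt.residueField z) := ((c.π.app j).residueFieldMap z).hom.fieldRange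
  have hall : ∀ a, θ a ∈ Sj := by
    let F : IntermediateField (Y₀.residueField (f₀ x)) (X₀.residueField x) :=
      { toSubsemiring := (Sj.comap θ.hom).toSubring.toSubsemiring
        algebraMap_mem' := fun r => by
          obtain ⟨b, hb⟩ := hbase.le ⟨r, rfl⟩
          exact range_residueFieldMap_mono (a := c.π.app j) (m := D.map φ ≫ π₀)
            (by rw [← Category.assoc, c.w φ]) z ⟨b, hb⟩
        inv_mem' := fun r hr => (Sj.comap θ.hom).inv_mem hr }
    have hF : (⊤ : IntermediateField (Y₀.residueField (f₀ x)) (X₀.residueField x)) ≤ F := by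
      rw [← hG, IntermediateField.adjoin_le_iff]
      intro g hg
      exact range_residueFieldMap_mono (a := c.π.app j) (m := D.map (hj (Finset.mem_insert_of_mem
        (Finset.mem_image_of_mem jg hg))).some) (c.w _) z (hjg g)
    exact fun a => hF trivial
  let eS : (D.obj j).residueField (c.π.app j z) ≃+* Sj :=
    RingEquiv.ofBijective ((c.π.app j).residueFieldMap z).hom.rangeRestrictField
      ⟨fun a b e => ((c.π.app j).residueFieldMap z).hom.injective (congrArg Subtype.val e),
        ((c.π.app j).residueFieldMap z).hom.rangeRestrictField_bijective.2⟩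
  let τ₀ : X₀.residueField x ⟶ (D.obj j).residueField (c.π.app j z) :=
    CommRingCat.ofHom (eS.symm.toRingHom.comp (θ.hom.codRestrict Sj hall))
  have hτ : τ₀ ≫ (c.π.app j).residueFieldMap z = θ := by
    ext a
    exact congrArg Subtype.val (eS.apply_symm_apply ⟨θ a, hall a⟩)
  refine ⟨j, φ, Spec.map τ₀ ≫ X₀.fromSpecResidueField x, ?_⟩
  haveI := epi_SpecMap_residueFieldMap (c.π.app j) z
  rw [← cancel_epi (Spec.map ((c.π.app j).residueFieldMap z)), ← Category.assoc, ← Category.assoc,
    ← Spec.map_comp, hτ, hσ, ← Category.assoc (Spec.map _),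
    (c.π.app j).SpecMap_residueFieldMap_fromSpecResidueField z, Category.assoc, ← c.w φ, Category.assoc]
  rfl

include hc in
/-- Completely decomposed base changes descend to a stage. -/
theorem exists_stage [CompactSpace (D.obj i₀)] [QuasiSeparatedSpace (D.obj i₀)] [LocallyOfFinitePresentation f₀]
    (h : ∀ z : c.pt, ∃ σ : Spec (c.pt.residueField z) ⟶ X₀,
      σ ≫ f₀ = c.pt.fromSpecResidueField z ≫ c.π.app i₀ ≫ π₀) :
    ∃ (j : I) (φ : j ⟶ i₀), ∀ y : D.obj j, ∃ τ : Spec ((D.obj j).residueField y) ⟶ X₀,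
      τ ≫ f₀ = (D.obj j).fromSpecResidueField y ≫ D.map φ ≫ π₀ := by
  classical
  have hcov : ∀ z : c.pt, ∃ (k : Over i₀) (C : Set (D.obj k.left)), IsConstructible C ∧
      c.π.app k.left z ∈ C ∧ ∀ y ∈ C, ∃ τ : Spec ((D.obj k.left).residueField y) ⟶ X₀,
        τ ≫ f₀ = (D.obj k.left).fromSpecResidueField y ≫ D.map k.hom ≫ π₀ := by
    intro z
    obtain ⟨σ, hσ⟩ := h z
    obtain ⟨j, φ, τ, hτ⟩ := exists_lift_stage hc f₀ π₀ z σ hσ
    haveI := Groth.Limits.compactSpace_obj D φ
    haveI : QuasiSeparatedSpace (D.obj j) := quasiSeparatedSpace_of_quasiSeparated (D.map φ)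
    let fj := pullback.snd f₀ (D.map φ ≫ π₀)
    obtain ⟨x, hx, hbij⟩ := exists_bijective_of_lift fj (c.π.app j z)
      (pullback.lift τ ((D.obj j).fromSpecResidueField _) hτ) (pullback.lift_snd _ _ _)
    obtain ⟨Z, w, hw₁, hw₂, hw₃, -, hzw, s, hs⟩ :=
      Groth.FlatMor2.exists_immersion_with_section fj (c.π.app j z) x hx hbij
    haveI := hw₁
    haveI := hw₂
    haveI := hw₃
    haveI : CompactSpace Z := QuasiCompact.compactSpace_of_compactSpace w
    refine ⟨Over.mk φ, Set.range w, ?_, hzw, ?_⟩
    · rw [← Set.image_univ]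
      exact w.isConstructible_image IsConstructible.univ
    · rintro _ ⟨p, rfl⟩
      have hb : Function.Bijective (w.residueFieldMap p) :=
        ⟨(w.residueFieldMap p).hom.injective, Groth.Variety2.Dim.residueFieldMap_surjective w p⟩
      obtain ⟨ρ, hρ⟩ := exists_lift_of_bijective w p hb
      refine ⟨ρ ≫ s ≫ pullback.fst f₀ _, ?_⟩
      rw [Category.assoc, Category.assoc, pullback.condition, ← Category.assoc s, hs, ← Category.assoc, hρ]
      rfl
  choose k C hC hzC hCl using hcov
  haveI : CompactSpace c.pt := Groth.Limits.compactSpace_pt D c hc (i := i₀)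
  haveI : QuasiSeparatedSpace c.pt := Groth.Limits.quasiSeparatedSpace_pt D c hc (i := i₀)
  obtain ⟨t, ht⟩ := Groth.FlatMor2.exists_finite_subcover_constructible
    (fun z : c.pt => {w : c.pt | c.π.app (k z).left w ∈ C z})
    (fun z => (c.π.app (k z).left).isConstructible_preimage (hC z)) fun z => ⟨z, hzC z⟩
  obtain ⟨l, hl⟩ := IsCofiltered.inf_objs_exists (insert (Over.mk (𝟙 i₀)) (t.image k))
  let m : ∀ z : t, l ⟶ k z := fun z =>
    (hl (Finset.mem_insert_of_mem (Finset.mem_image_of_mem k z.2))).some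
  let G : Set (D.obj l.left) := ⋃ z : t, ⇑(D.map (m z).left) ⁻¹' C z
  have hG : IsConstructible G := IsConstructible.iUnion fun z => (D.map (m z).left).isConstructible_preimage (hC z)
  have hempty : ⇑(c.π.app l.left) ⁻¹' Gᶜ = ∅ := by
    refine Set.eq_empty_of_forall_notMem fun w hw => ?_
    obtain ⟨z, hzt, hzw⟩ := ht w
    refine hw (Set.mem_iUnion.2 ⟨⟨z, hzt⟩, ?_⟩)
    show D.map (m ⟨z, hzt⟩).left (c.π.app l.left w) ∈ C z
    rw [Groth.Limits.π_map_apply D c (m ⟨z, hzt⟩).left w]
    exact hzw
  haveI := Groth.Limits.compactSpace_obj D l.hom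
  obtain ⟨j, ψ, hj⟩ := Groth.Limits.exists_preimage_eq_empty D c hc
    (Groth.Limits.pc_compl_of_isConstructible hG).qcImage hempty
  refine ⟨j, ψ ≫ l.hom, fun y => ?_⟩
  obtain ⟨z, hz⟩ := Set.mem_iUnion.1 (not_not.1 fun hn => Set.eq_empty_iff_forall_notMem.mp hj y hn)
  let φ := ψ ≫ (m z).left
  have hy : D.map φ y ∈ C z := by
    rw [D.map_comp]
    exact hz
  obtain ⟨τ, hτ⟩ := hCl z _ hy
  refine ⟨Spec.map ((D.map φ).residueFieldMap y) ≫ τ, ?_⟩
  rw [Category.assoc, hτ, ← Category.assoc, (D.map φ).SpecMap_residueFieldMap_fromSpecResidueField y,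
    Category.assoc, ← D.map_comp_assoc]
  simp only [φ, Category.assoc, Over.w (m z)]

end Groth.Flatmor4.CDDescent
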