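import Groth.Agent.AlgSp2.InfBasic
import Groth.Agent.AlgSp2.FlatFibreScheme
import Groth.Agent.CMMor.Locus
import Groth.Agent.Calg1.Completion
import Groth.Agent.S2156

/-!
Flatness and smoothness over the completion of a flat algebra over a local ring along the closed fibre.
-/

set_option autoImplicit false
set_option linter.style.haveILetI false
set_option backward.isDefEq.respectTransparency.types false

universe u

open CategoryTheory CategoryTheory.Limits AlgebraicGeometry IsLocalRing

namespace Groth.Flatmor4

variable {V A : Type u} [CommRing V] [IsLocalRing V] [CommRing A] [Algebra V A]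

/-- The extension of the maximal ideal. -/
abbrev fibreIdeal (V A : Type u) [CommRing V] [IsLocalRing V] [CommRing A] [Algebra V A] : Ideal A :=
  (maximalIdeal V).map (algebraMap V A)

/-- The inclusion of the closed fibre. -/
noncomputable abbrev fibreIncl (V A : Type u) [CommRing V] [IsLocalRing V] [CommRing A] [Algebra V A] :
    Spec (.of (A ⧸ fibreIdeal V A)) ⟶ Spec (.of A) :=
  Spec.map (CommRingCat.ofHom (Ideal.Quotient.mk (fibreIdeal V A)))

/-- The spectrum of the completion along the closed fibre. -/
noncomputable abbrev complMap (V A : Type u) [CommRing V] [IsLocalRing V] [CommRing A] [Algebra V A] :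
    Spec (.of (AdicCompletion (fibreIdeal V A) A)) ⟶ Spec (.of A) :=
  Spec.map (CommRingCat.ofHom (algebraMap A (AdicCompletion (fibreIdeal V A) A)))

/-- The closed fibre in the completion. -/
noncomputable abbrev complSection (V A : Type u) [CommRing V] [IsLocalRing V] [CommRing A] [Algebra V A] :
    Spec (.of (A ⧸ fibreIdeal V A)) ⟶ Spec (.of (AdicCompletion (fibreIdeal V A) A)) :=
  Spec.map (CommRingCat.ofHom (AdicCompletion.evalOneₐ (fibreIdeal V A)).toRingHom)

theorem complSection_comp : complSection V A ≫ complMap V A = fibreIncl V A :=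
  (Spec.map_comp _ _).symm

theorem apply_fibreIncl (y' : Spec (.of (A ⧸ fibreIdeal V A))) :
    Spec.map (CommRingCat.ofHom (algebraMap V A)) (fibreIncl V A y') = closedPoint V := by
  have h : maximalIdeal V ≤ (PrimeSpectrum.comap (algebraMap V A)
      (PrimeSpectrum.comap (Ideal.Quotient.mk (fibreIdeal V A)) y')).asIdeal := fun v hv => by
    show Ideal.Quotient.mk (fibreIdeal V A) (algebraMap V A v) ∈ y'.asIdeal
    rw [Ideal.Quotient.eq_zero_iff_mem.2 (Ideal.mem_map_of_mem _ hv)]
    exact zero_mem _
  exact PrimeSpectrum.ext
    ((maximalIdeal.isMaximal V).eq_of_le (PrimeSpectrum.isPrime _).ne_top h).symm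

theorem mem_range_fibreIncl {y : Spec (.of A)}
    (h : Spec.map (CommRingCat.ofHom (algebraMap V A)) y = closedPoint V) :
    y ∈ Set.range (fibreIncl V A) := by
  obtain ⟨x, -, hx⟩ := Scheme.exists_preimage_of_isPullback
    (Groth.AlgSp2.Inf.isPullback_spec_quot (maximalIdeal V) A)
    (closedPoint (V ⧸ maximalIdeal V)) y (by
      rw [h]
      refine PrimeSpectrum.ext (((maximalIdeal.isMaximal V).eq_of_le
        (PrimeSpectrum.isPrime _).ne_top fun v hv => ?_).symm)
      show Ideal.Quotient.mk (maximalIdeal V) v ∈ (closedPoint (V ⧸ maximalIdeal V)).asIdeal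
      rw [Ideal.Quotient.eq_zero_iff_mem.2 hv]
      exact zero_mem _)
  exact ⟨x, hx⟩

/-- Pullbacks along maps into the closed fibre are pullbacks of the reduction. -/
theorem exists_fibre_factor {Z : Scheme.{u}} (u : Z ⟶ Spec (.of A))
    (p : Z ⟶ Spec ((Spec (.of V)).residueField (closedPoint V)))
    (hu : u ≫ Spec.map (CommRingCat.ofHom (algebraMap V A)) = p ≫ (Spec (.of V)).fromSpecResidueField _) :
    ∃ l : Z ⟶ Spec (.of (A ⧸ fibreIdeal V A)), l ≫ fibreIncl V A = u := by
  obtain ⟨φ, hφ⟩ : ∃ φ : CommRingCat.of V ⟶ (Spec (.of V)).residueField (closedPoint V),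
      Spec.map φ = (Spec (.of V)).fromSpecResidueField _ := ⟨_, Spec.map_preimage _⟩
  have hker : ∀ v ∈ maximalIdeal V, φ.hom v = 0 := by
    intro v hv
    have e : Spec.map φ (closedPoint _) = closedPoint V := by
      rw [hφ]; exact Scheme.fromSpecResidueField_apply _ _
    have h1 : v ∈ (Spec.map φ (closedPoint _)).asIdeal := e.symm ▸ hv
    have h2 : φ.hom v ∈ maximalIdeal _ := h1
    rwa [IsLocalRing.maximalIdeal_eq_bot, Ideal.mem_bot] at h2
  let ψ : V ⧸ maximalIdeal V →+* (Spec (.of V)).residueField (closedPoint V) :=
    Ideal.Quotient.lift _ φ.hom hker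
  have hψ : Spec.map (CommRingCat.ofHom ψ) ≫ Spec.map (CommRingCat.ofHom (Ideal.Quotient.mk (maximalIdeal V))) =
      (Spec (.of V)).fromSpecResidueField _ := by
    rw [← hφ, ← Spec.map_comp]
    rfl
  have sq := Groth.AlgSp2.Inf.isPullback_spec_quot (maximalIdeal V) A
  refine ⟨sq.lift (p ≫ Spec.map (CommRingCat.ofHom ψ)) u ?_, sq.lift_snd _ _ _⟩
  exact (Category.assoc _ _ _).trans ((congrArg (p ≫ ·) hψ).trans hu.symm)

variable [IsNoetherianRing A]

theorem mem_range_complSection_iff {y : Spec (.of (AdicCompletion (fibreIdeal V A) A))} :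
    y ∈ Set.range (complSection V A) ↔
      (fibreIdeal V A).map (algebraMap A (AdicCompletion (fibreIdeal V A) A)) ≤ y.asIdeal := by
  rw [← AdicCompletion.ker_evalOneₐ_eq_map (fibreIdeal V A) (Ideal.fg_of_isNoetherianRing _)]
  refine (Set.ext_iff.1 (_root_.range_comap_of_surjective _ _
    (AdicCompletion.evalOneₐ_surjective (fibreIdeal V A))) y).trans ?_
  rfl

theorem exists_specializes_complSection (y : Spec (.of (AdicCompletion (fibreIdeal V A) A))) :
    ∃ y', y ⤳ complSection V A y' := by
  let R := AdicCompletion (fibreIdeal V A) A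
  haveI : IsAdicComplete ((fibreIdeal V A).map (algebraMap A R)) R :=
    AdicCompletion.isAdicComplete_self _ (Ideal.fg_of_isNoetherianRing _)
  have hJ := IsAdicComplete.le_jacobson_bot ((fibreIdeal V A).map (algebraMap A R))
  obtain ⟨M, hM, hle⟩ := Ideal.exists_le_maximal _ y.isPrime.ne_top
  let w : Spec (.of R) := ⟨M, hM.isPrime⟩
  obtain ⟨y', hy'⟩ := (mem_range_complSection_iff (y := w)).2 (hJ.trans (sInf_le ⟨bot_le, hM⟩))
  exact ⟨y', hy'.symm ▸ (PrimeSpectrum.le_iff_specializes y w).1 hle⟩

variable {X : Scheme.{u}} (h : X ⟶ Spec (.of A)) [IsProper h]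

/-- Every point of a proper scheme over the completion specializes to a point of the closed fibre. -/
theorem exists_specializes_closedFibre (x : ↑(pullback h (complMap V A))) :
    ∃ x', x ⤳ x' ∧ pullback.snd h (complMap V A) x' ∈ Set.range (complSection V A) := by
  haveI : IsProper (pullback.snd h (complMap V A)) := MorphismProperty.pullback_snd _ _ inferInstance
  obtain ⟨y', hy'⟩ := exists_specializes_complSection (pullback.snd h (complMap V A) x)
  have hc := (pullback.snd h (complMap V A)).isClosedMap _ (isClosed_closure (s := {x}))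
  obtain ⟨x', hx', he⟩ := hy'.mem_closed hc ⟨x, subset_closure rfl, rfl⟩
  exact ⟨x', specializes_iff_mem_closure.2 hx', y', he.symm⟩

theorem eq_top_of_closedFibre (U : (pullback h (complMap V A)).Opens)
    (hU : ∀ x, pullback.snd h (complMap V A) x ∈ Set.range (complSection V A) → x ∈ U) : U = ⊤ :=
  eq_top_iff.2 fun x _ => by
    obtain ⟨x', h1, h2⟩ := exists_specializes_closedFibre h x
    exact h1.mem_open U.isOpen (hU x' h2)



/-- At a point of the closed fibre, `X` flat over the base with flat reduction gives flatness over the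
completion, and smooth reduction gives smoothness. -/
theorem flat_at_closedFibre [IsNoetherianRing V]
    [Flat (h ≫ Spec.map (CommRingCat.ofHom (algebraMap V A)))]
    [Flat (pullback.snd h (fibreIncl V A))] (x : ↑(pullback h (complMap V A)))
    (hx : pullback.snd h (complMap V A) x ∈ Set.range (complSection V A)) :
    ((pullback.snd h (complMap V A)).stalkMap x).hom.Flat ∧
      (Smooth (pullback.snd h (fibreIncl V A)) →
        [LocallyOfFinitePresentation (pullback.snd h (complMap V A))] →
        x ∈ (pullback.snd h (complMap V A)).smoothLocus) := by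
  haveI : IsNoetherianRing (AdicCompletion (fibreIdeal V A) A) :=
    Groth.Calg1.isNoetherianRing_adicCompletion _ (Ideal.fg_of_isNoetherianRing _)
  let f := pullback.snd h (complMap V A)
  let g := complMap V A ≫ Spec.map (CommRingCat.ofHom (algebraMap V A))
  haveI : IsProper f := MorphismProperty.pullback_snd _ _ inferInstance
  haveI : IsLocallyNoetherian (pullback h (complMap V A)) := LocallyOfFiniteType.isLocallyNoetherian f
  haveI : Flat (complMap V A) := by
    rw [Flat.SpecMap_iff, CommRingCat.hom_ofHom, RingHom.flat_algebraMap_iff]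
    infer_instance
  haveI : Flat (f ≫ g) := by
    have e : f ≫ g = pullback.fst h (complMap V A) ≫ h ≫ Spec.map (CommRingCat.ofHom (algebraMap V A)) :=
      (Category.assoc _ _ _).symm.trans ((congrArg (· ≫ _) pullback.condition.symm).trans (Category.assoc _ _ _))
    haveI : Flat (pullback.fst h (complMap V A)) := MorphismProperty.pullback_fst _ _ inferInstance
    rw [e]
    exact MorphismProperty.comp_mem _ _ _ inferInstance ‹_›
  have hs : g (f x) = closedPoint V := by
    obtain ⟨y', hy'⟩ := hx
    have e : complMap V A (f x) = fibreIncl V A y' := by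
      show complMap V A (pullback.snd h (complMap V A) x) = _
      rw [← hy', ← complSection_comp]
      rfl
    show Spec.map (CommRingCat.ofHom (algebraMap V A)) (complMap V A (f x)) = _
    rw [e]
    exact apply_fibreIncl y'
  -- the fibre map is a base change of the reduction
  have key : ∀ s, s = closedPoint V → ∃ l : g.fiber s ⟶ Spec (.of (A ⧸ fibreIdeal V A)),
      l ≫ fibreIncl V A = g.fiberι s ≫ complMap V A := by
    rintro s rfl
    refine exists_fibre_factor _ (g.fiberToSpecResidueField _) ?_
    exact (Category.assoc _ _ _).trans pullback.condition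
  obtain ⟨l, hl⟩ := key _ hs
  have hsq := (IsPullback.of_hasPullback f (g.fiberι (g (f x)))).paste_horiz
    (IsPullback.of_hasPullback h (complMap V A))
  rw [← hl] at hsq
  let m : pullback f (g.fiberι (g (f x))) ⟶ pullback h (fibreIncl V A) :=
    pullback.lift (pullback.fst f _ ≫ pullback.fst h (complMap V A)) (pullback.snd f _ ≫ l)
      (hsq.w.trans (Category.assoc _ _ _).symm)
  have hm : IsPullback m (pullback.snd f (g.fiberι (g (f x)))) (pullback.snd h (fibreIncl V A)) l := by
    refine IsPullback.of_right ?_ (pullback.lift_snd _ _ _) (IsPullback.of_hasPullback h (fibreIncl V A))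
    rw [pullback.lift_fst]
    exact hsq
  haveI : Flat (pullback.snd f (g.fiberι (g (f x)))) := MorphismProperty.of_isPullback hm ‹_›
  haveI : Flat (MoreMor.fiberMap f g (g (f x))) := by
    rw [← (Groth.AlgSp2.FlatFib.isPullback_fiberMap f g _).isoPullback_hom_snd]
    infer_instance
  have hfl := (Groth.AlgSp2.FlatFib.flat_of_fibre_noetherian f g x (Flat.stalkMap (f ≫ g) x)
    (Flat.stalkMap _ _)).2
  refine ⟨hfl, fun hsm _ => ?_⟩
  haveI : LocallyOfFinitePresentation (f.fiberToSpecResidueField (f x)) :=
    MorphismProperty.pullback_snd _ _ inferInstance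
  refine (Groth.Agent.S2156.result f x).2 ⟨hfl, ?_⟩
  haveI : Smooth (pullback.snd f (g.fiberι (g (f x)))) := MorphismProperty.of_isPullback hm hsm
  let Y := Spec (.of (AdicCompletion (fibreIdeal V A) A))
  let j : Spec (Y.residueField (f x)) ⟶ g.fiber (g (f x)) :=
    pullback.lift (Y.fromSpecResidueField (f x)) (Spec.map (g.residueFieldMap (f x)))
      (g.SpecMap_residueFieldMap_fromSpecResidueField (f x)).symm
  have hj : j ≫ g.fiberι (g (f x)) = Y.fromSpecResidueField (f x) := pullback.lift_fst _ _ _
  let n : f.fiber (f x) ⟶ pullback f (g.fiberι (g (f x))) :=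
    pullback.lift (f.fiberι (f x)) (f.fiberToSpecResidueField (f x) ≫ j)
      (pullback.condition.trans ((congrArg _ hj.symm).trans (Category.assoc _ _ _).symm))
  have hn : IsPullback n (f.fiberToSpecResidueField (f x)) (pullback.snd f (g.fiberι (g (f x)))) j := by
    refine IsPullback.of_right ?_ (pullback.lift_snd _ _ _) (IsPullback.of_hasPullback f _)
    rw [pullback.lift_fst, hj]
    exact IsPullback.of_hasPullback f (Y.fromSpecResidueField (f x))
  haveI : Smooth (f.fiberToSpecResidueField (f x)) := MorphismProperty.of_isPullback hn ‹_›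
  rw [Scheme.Hom.smoothLocus_eq_top]
  trivial

end Groth.Flatmor4

namespace Groth.Flatmor4

variable {V A : Type u} [CommRing V] [IsDomain V] [IsDiscreteValuationRing V] [CommRing A] [Algebra V A]
  [IsNoetherianRing A] [Module.Flat V A] {X : Scheme.{u}} (h : X ⟶ Spec (.of A)) [IsProper h]

omit [IsProper h] in
/-- Flatness over the completion gives flatness over the base and of the reduction. -/
theorem flat_and_flat_fibre_of_flat_completion [Flat (pullback.snd h (complMap V A))] :
    Flat (h ≫ Spec.map (CommRingCat.ofHom (algebraMap V A))) ∧ Flat (pullback.snd h (fibreIncl V A)) := by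
  haveI : Flat (complMap V A) := by
    rw [Flat.SpecMap_iff, CommRingCat.hom_ofHom, RingHom.flat_algebraMap_iff]
    infer_instance
  haveI : Flat (Spec.map (CommRingCat.ofHom (algebraMap V A))) := by
    rw [Flat.SpecMap_iff, CommRingCat.hom_ofHom, RingHom.flat_algebraMap_iff]
    infer_instance
  haveI : Flat (pullback.fst h (complMap V A)) := MorphismProperty.pullback_fst _ _ inferInstance
  constructor
  · refine Flat.of_stalkMap _ fun x => ?_
    by_cases hs : Spec.map (CommRingCat.ofHom (algebraMap V A)) (h x) = closedPoint V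
    · obtain ⟨y', hy'⟩ := mem_range_fibreIncl hs
      obtain ⟨x', hx', -⟩ := Scheme.Pullback.exists_preimage_pullback (f := h) (g := complMap V A) x
        (complSection V A y') (by rw [← hy', ← complSection_comp]; rfl)
      subst hx'
      refine Groth.AlgSp2.FlatFib.flat_at_comp h _ _ ?_ (Flat.stalkMap _ _)
      refine Groth.AlgSp2.FlatFib.flat_at_of_comp (pullback.fst h (complMap V A)) h x' (Flat.stalkMap _ _) ?_
      haveI : Flat (pullback.fst h (complMap V A) ≫ h) := by
        rw [pullback.condition]
        exact MorphismProperty.comp_mem _ _ _ ‹_› inferInstance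
      exact Flat.stalkMap _ _
    · have hf : IsField ((Spec (.of V)).presheaf.stalk
          ((h ≫ Spec.map (CommRingCat.ofHom (algebraMap V A))) x)) := by
        have e : (h ≫ Spec.map (CommRingCat.ofHom (algebraMap V A))) x = genericPoint (Spec (.of V)) := by
          rw [genericPoint_eq_bot_of_affine]
          refine PrimeSpectrum.ext (by_contra fun hne => hs (PrimeSpectrum.ext ?_))
          exact IsLocalRing.eq_maximalIdeal
            ((PrimeSpectrum.isPrime _).isMaximal hne)
        rw [e]
        exact Field.toIsField (Spec (.of V)).functionField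
      letI := hf.toField
      algebraize [((h ≫ Spec.map (CommRingCat.ofHom (algebraMap V A))).stalkMap x).hom]
      exact Module.Flat.of_free
  · rw [← complSection_comp, ← MorphismProperty.cancel_left_of_respectsIso @Flat
      (pullbackLeftPullbackSndIso h (complMap V A) (complSection V A)).hom,
      pullbackLeftPullbackSndIso_hom_snd]
    exact MorphismProperty.pullback_snd _ _ ‹_›

omit [Module.Flat V A] in
/-- Flatness over the base and of the reduction give flatness over the completion, and smoothness if the
reduction is smooth. -/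
theorem flat_completion_of_flat_fibre [Flat (h ≫ Spec.map (CommRingCat.ofHom (algebraMap V A)))]
    [Flat (pullback.snd h (fibreIncl V A))] :
    Flat (pullback.snd h (complMap V A)) ∧
      (Smooth (pullback.snd h (fibreIncl V A)) → Smooth (pullback.snd h (complMap V A))) := by
  haveI : IsNoetherianRing (AdicCompletion (fibreIdeal V A) A) :=
    Groth.Calg1.isNoetherianRing_adicCompletion _ (Ideal.fg_of_isNoetherianRing _)
  haveI : IsProper (pullback.snd h (complMap V A)) := MorphismProperty.pullback_snd _ _ inferInstance
  haveI : LocallyOfFinitePresentation (pullback.snd h (complMap V A)) := inferInstance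
  constructor
  · refine Flat.of_stalkMap _ fun x => ?_
    have hU := eq_top_of_closedFibre h ⟨_, Groth.CMMor.isOpen_flatAt (pullback.snd h (complMap V A))⟩
      fun x hx => (flat_at_closedFibre h x hx).1
    exact (hU.ge (Set.mem_univ x) : _)
  · intro hsm
    rw [← Scheme.Hom.smoothLocus_eq_top_iff]
    exact eq_top_of_closedFibre h _ fun x hx => (flat_at_closedFibre h x hx).2 hsm

end Groth.Flatmor4
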