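import Mathlib

/-!
A point in the closure of an open subset of the spectrum of a Noetherian ring is the closed point
of a one-dimensional irreducible germ whose generic point lies in the open subset.
-/

namespace Groth.Flatmor4

open TopologicalSpace

theorem eq_bot_of_lt_of_forall_mem {A : Type*} [CommRing A] [IsDomain A] [IsNoetherianRing A]
    {g : A} (hg0 : g ≠ 0) (q : Ideal A) [q.IsPrime]
    (hg : ∀ Q : Ideal A, Q.IsPrime → Q ≤ q → Q ≠ ⊥ → g ∈ Q)
    (Q : Ideal A) [Q.IsPrime] (hQ : Q < q) : Q = ⊥ := by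
  by_contra hQ0
  have hbot : (⊥ : Ideal A).IsPrime := Ideal.isPrime_bot
  have key : ∀ Q₁ Q₂ : Ideal A, Q₁.IsPrime → Q₂.IsPrime → Q₁ ≠ ⊥ → Q₁ < Q₂ → ¬ Q₂.height ≤ 1 := by
    intro Q₁ Q₂ h₁ h₂ h0 hlt hle
    have hlt0 : (⊥ : Ideal A).height < Q₁.height :=
      Ideal.height_strict_mono_of_isPrime_of_isPrime (bot_lt_iff_ne_bot.mpr h0)
    have := (Ideal.height_strict_mono_of_isPrime_of_isPrime hlt).trans_le hle
    rw [Order.lt_one_iff] at this
    simp [this] at hlt0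
  have hgq : g ∈ q := hQ.le (hg Q inferInstance hQ.le hQ0)
  have hqmin : ∀ Q'' ∈ (Ideal.span {g}).minimalPrimes, ¬ q ≤ Q'' := by
    intro Q'' hQ'' hle
    have hspan : Ideal.span {g} ≤ q := by simpa [Ideal.span_le] using hgq
    have hq : q = Q'' := hle.antisymm (hQ''.2 ⟨inferInstance, hspan⟩ hle)
    exact key Q q inferInstance inferInstance hQ0 hQ
      (hq ▸ Ideal.height_le_one_of_isPrincipal_of_mem_minimalPrimes (Ideal.span {g}) Q'' hQ'')
  have hfin : (Ideal.span {g}).minimalPrimes.Finite :=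
    Ideal.finite_minimalPrimes_of_isNoetherianRing A _
  obtain ⟨t, htq, ht⟩ : ∃ t ∈ q, ∀ Q'' ∈ (Ideal.span {g}).minimalPrimes, t ∉ Q'' := by
    by_contra h
    push Not at h
    have hsub : (q : Set A) ⊆ ⋃ i ∈ (hfin.toFinset : Set (Ideal A)), (i : Set A) := by
      intro t ht
      obtain ⟨Q'', hQ'', htQ⟩ := h t ht
      exact Set.mem_biUnion (by simpa using hQ'') htQ
    obtain ⟨i, hi, hle⟩ := (Ideal.subset_union_prime (f := id) ⊥ ⊥
      (fun i hi _ _ => (hfin.mem_toFinset.mp hi).1.1)).mp hsub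
    exact hqmin i (hfin.mem_toFinset.mp hi) hle
  obtain ⟨Q', hQ', hQ'q⟩ := Ideal.exists_minimalPrimes_le
    (show Ideal.span {t} ≤ q by simpa [Ideal.span_le] using htq)
  have : Q'.IsPrime := hQ'.1.1
  have htQ' : t ∈ Q' := hQ'.1.2 (Ideal.mem_span_singleton_self t)
  have hQ'0 : Q' ≠ ⊥ := by
    rintro rfl
    obtain ⟨Q'', hQ'', -⟩ := Ideal.exists_minimalPrimes_le
      (show Ideal.span {g} ≤ q by simpa [Ideal.span_le] using hgq)
    rw [Ideal.mem_bot] at htQ'
    exact ht Q'' hQ'' (htQ' ▸ Q''.zero_mem)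
  obtain ⟨Q'', hQ'', hle⟩ := Ideal.exists_minimalPrimes_le
    (show Ideal.span {g} ≤ Q' by simpa [Ideal.span_le] using hg Q' inferInstance hQ'q hQ'0)
  have : Q''.IsPrime := hQ''.1.1
  have hQ''0 : Q'' ≠ ⊥ := by
    rintro rfl
    exact hg0 (Ideal.mem_bot.mp (hQ''.1.2 (Ideal.mem_span_singleton_self g)))
  refine key Q'' Q' inferInstance inferInstance hQ''0 (lt_of_le_of_ne hle fun e => ?_)
    (Ideal.height_le_one_of_isPrincipal_of_mem_minimalPrimes (Ideal.span {t}) Q' hQ')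
  exact ht Q'' hQ'' (e ▸ htQ')

theorem exists_mem_le_forall_not_between {B : Type*} [CommRing B] [IsNoetherianRing B]
    {O : Set (PrimeSpectrum B)} (hO : IsOpen O) {q : PrimeSpectrum B} (hq : q ∈ closure O) :
    ∃ P ∈ O, P ≤ q ∧ ∀ Q, P < Q → Q < q → False := by
  classical
  have hfin : (minimalPrimes B).Finite := minimalPrimes.finite_of_isNoetherianRing B
  let M : Set (PrimeSpectrum B) := {m | m.asIdeal ∈ minimalPrimes B ∧ m ∈ O}
  have hMfin : M.Finite :=
    (hfin.preimage (Function.Injective.injOn fun a b h => PrimeSpectrum.ext h)).subset fun m hm => hm.1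
  have hsub : O ⊆ ⋃ m ∈ M, PrimeSpectrum.zeroLocus (m.asIdeal : Set B) := by
    intro P hP
    obtain ⟨m, hm, hmP⟩ := Ideal.exists_minimalPrimes_le (show (⊥ : Ideal B) ≤ P.asIdeal from bot_le)
    let m' : PrimeSpectrum B := ⟨m, hm.1.1⟩
    have hmO : m' ∈ O := ((PrimeSpectrum.le_iff_specializes m' P).mp hmP).mem_open hO hP
    exact Set.mem_biUnion (x := m') ⟨hm, hmO⟩ hmP
  obtain ⟨m, hm, hmq⟩ : ∃ m ∈ M, m ≤ q := by
    have := closure_minimal hsub
      (hMfin.isClosed_biUnion fun m _ => PrimeSpectrum.isClosed_zeroLocus _) hq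
    simpa using this
  obtain ⟨_, ⟨g, rfl⟩, hgm, hgO⟩ :=
    PrimeSpectrum.isTopologicalBasis_basic_opens.exists_subset_of_mem_open hm.2 hO
  let S : Set (Ideal B) := {I | I.IsPrime ∧ I ≤ q.asIdeal ∧ g ∉ I}
  obtain ⟨I, ⟨hI, hIq, hgI⟩, hmax⟩ := set_has_maximal_iff_noetherian.mpr
    (inferInstanceAs (IsNoetherian B B)) S ⟨m.asIdeal, m.isPrime, hmq, hgm⟩
  refine ⟨⟨I, hI⟩, hgO hgI, hIq, fun Q hIQ hQq => ?_⟩
  have hgbar : Ideal.Quotient.mk I g ≠ 0 := by rwa [Ne, Ideal.Quotient.eq_zero_iff_mem]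
  have hs := Ideal.Quotient.mk_surjective (I := I)
  have hker : ∀ J : Ideal B, I ≤ J → RingHom.ker (Ideal.Quotient.mk I) ≤ J := fun J hJ => by
    rwa [Ideal.mk_ker]
  have hIQ' : I < Q.asIdeal := hIQ
  have hQq' : Q.asIdeal < q.asIdeal := hQq
  have : (q.asIdeal.map (Ideal.Quotient.mk I)).IsPrime :=
    Ideal.map_isPrime_of_surjective hs (hker _ hIq)
  have : (Q.asIdeal.map (Ideal.Quotient.mk I)).IsPrime :=
    Ideal.map_isPrime_of_surjective hs (hker _ hIQ'.le)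
  have hcm : ∀ J : Ideal B, I ≤ J →
      (J.map (Ideal.Quotient.mk I)).comap (Ideal.Quotient.mk I) = J := fun J hJ => by
    rw [Ideal.comap_map_of_surjective' _ hs, Ideal.mk_ker, sup_eq_left.mpr hJ]
  have h := eq_bot_of_lt_of_forall_mem hgbar (q.asIdeal.map (Ideal.Quotient.mk I))
    (fun J hJ hJq hJ0 => by
      by_contra hgJ
      have hIJ : I ≤ J.comap (Ideal.Quotient.mk I) := by
        intro b hb
        simp [Ideal.Quotient.eq_zero_iff_mem.mpr hb]
      have hne : I ≠ J.comap (Ideal.Quotient.mk I) := by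
        intro e
        apply hJ0
        rw [← Ideal.map_comap_of_surjective _ hs J, ← e, Ideal.map_quotient_self]
      refine hmax _ ⟨hJ.comap _, ?_, fun h => hgJ h⟩ (lt_of_le_of_ne hIJ hne)
      exact (Ideal.comap_mono hJq).trans_eq (hcm _ hIq))
    (Q.asIdeal.map (Ideal.Quotient.mk I))
    (lt_of_le_of_ne (Ideal.map_mono hQq'.le) fun e => hQq'.ne (by
      rw [← hcm _ hIQ'.le, e, hcm _ hIq]))
  exact hIQ'.not_ge (Ideal.mk_ker (I := I) ▸ (Ideal.map_eq_bot_iff_le_ker _).mp h)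

end Groth.Flatmor4
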