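import Mathlib.AlgebraicGeometry.Morphisms.Immersion
import Mathlib.AlgebraicGeometry.Morphisms.OpenImmersion
import Mathlib.AlgebraicGeometry.Morphisms.Separated

universe u
open CategoryTheory Limits AlgebraicGeometry

namespace Groth.Flatmor4

variable {X Y : Scheme.{u}} (f : X ⟶ Y)

lemma eq_of_dense_of_isImmersion [IsSeparated f] (U V : X.Opens)
    (hV : Dense (V : Set X))
    [IsImmersion (U.ι ≫ f)] [IsImmersion (V.ι ≫ f)]
    {x x' : X} (hx : x ∈ U) (hx' : x' ∈ V) (h : f x = f x') : x = x' := by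
  let W := pullback (U.ι ≫ f) (V.ι ≫ f)
  let a := pullback.fst (U.ι ≫ f) (V.ι ≫ f)
  let b := pullback.snd (U.ι ≫ f) (V.ι ≫ f)
  let t : W ⟶ pullback f f := pullback.lift (a ≫ U.ι) (b ≫ V.ι)
    (by simpa using pullback.condition (f := U.ι ≫ f) (g := V.ι ≫ f))
  obtain ⟨w, hwa, hwb⟩ := Scheme.Pullback.exists_preimage_pullback
    (f := U.ι ≫ f) (g := V.ι ≫ f) ⟨x, hx⟩ ⟨x', hx'⟩ h
  let D : W.Opens := (a ≫ U.ι) ⁻¹ᵁ V
  have hDeq : D.ι ≫ a ≫ U.ι = D.ι ≫ b ≫ V.ι := by
    let p : (D : Scheme.{u}) ⟶ V := IsOpenImmersion.lift V.ι (D.ι ≫ a ≫ U.ι) (by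
      rintro _ ⟨d, rfl⟩
      rw [Scheme.Opens.range_ι]
      exact d.2)
    have hp : p = D.ι ≫ b := by
      rw [← cancel_mono (V.ι ≫ f)]
      simp [p, a, b, pullback.condition]
    calc D.ι ≫ a ≫ U.ι = p ≫ V.ι := (IsOpenImmersion.lift_fac _ _ _).symm
      _ = _ := by rw [hp, Category.assoc]
  have hsub : Set.range D.ι ⊆ t ⁻¹' Set.range (pullback.diagonal f) := by
    rintro _ ⟨d, rfl⟩
    refine ⟨(D.ι ≫ a ≫ U.ι) d, ?_⟩
    have : D.ι ≫ t = (D.ι ≫ a ≫ U.ι) ≫ pullback.diagonal f := by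
      apply pullback.hom_ext
      · simp only [Category.assoc, pullback.diagonal_fst, Category.comp_id]
        exact congrArg (D.ι ≫ ·) (pullback.lift_fst _ _ _)
      · simp only [Category.assoc, pullback.diagonal_snd, Category.comp_id, hDeq]
        exact congrArg (D.ι ≫ ·) (pullback.lift_snd _ _ _)
    rw [← Scheme.Hom.comp_apply, ← Scheme.Hom.comp_apply, this]
  have hemb : Topology.IsEmbedding (a ≫ U.ι) := (a ≫ U.ι).isEmbedding
  have hDdense : w ∈ closure (D : Set W) := by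
    show w ∈ closure ((a ≫ U.ι) ⁻¹' (V : Set X))
    rw [hemb.isInducing.closure_eq_preimage_closure_image]
    rw [Set.mem_preimage]
    have hwU : (a ≫ U.ι) w = x := by simp [a, hwa]
    rw [hwU]
    refine closure_mono ?_ (hV.open_subset_closure_inter U.isOpen hx)
    rintro z ⟨hzU, hzV⟩
    obtain ⟨v, hv, -⟩ := Scheme.Pullback.exists_preimage_pullback
      (f := U.ι ≫ f) (g := V.ι ≫ f) ⟨z, hzU⟩ ⟨z, hzV⟩ rfl
    exact ⟨v, by simpa [a, hv] using hzV, by simp [a, hv]⟩
  obtain ⟨z, hz⟩ : w ∈ t ⁻¹' Set.range (pullback.diagonal f) := by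
    refine closure_minimal ?_ ((pullback.diagonal f).isClosedEmbedding.isClosed_range.preimage
      t.continuous) hDdense
    simpa using hsub
  have h1 := congr_arg (pullback.fst f f) hz
  have h2 := congr_arg (pullback.snd f f) hz
  have e1 : pullback.fst f f (t w) = x := by
    rw [← Scheme.Hom.comp_apply]
    simp only [t, pullback.lift_fst, Scheme.Hom.comp_apply]
    simp [a, hwa]
  have e2 : pullback.snd f f (t w) = x' := by
    rw [← Scheme.Hom.comp_apply]
    simp only [t, pullback.lift_snd, Scheme.Hom.comp_apply]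
    simp [b, hwb]
  rw [e1, ← Scheme.Hom.comp_apply, pullback.diagonal_fst] at h1
  rw [e2, ← Scheme.Hom.comp_apply, pullback.diagonal_snd] at h2
  exact h1.symm.trans h2

variable {ι : Type u} (U : ι → X.Opens) (hU : ⨆ i, U i = ⊤) (hd : ∀ i, Dense (U i : Set X))

include hU hd

lemma injective_of_dense_cover [IsSeparated f] (h : ∀ i, IsImmersion ((U i).ι ≫ f)) :
    Function.Injective f := by
  intro x x' hxx'
  have hx : x ∈ ⨆ i, U i := hU ▸ trivial
  have hx' : x' ∈ ⨆ i, U i := hU ▸ trivial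
  obtain ⟨i, hi⟩ := TopologicalSpace.Opens.mem_iSup.mp hx
  obtain ⟨j, hj⟩ := TopologicalSpace.Opens.mem_iSup.mp hx'
  have := h i
  have := h j
  exact eq_of_dense_of_isImmersion f (U i) (U j) (hd j) hi hj hxx'

theorem isOpenImmersion_of_dense_cover [IsSeparated f]
    (h : ∀ i, IsOpenImmersion ((U i).ι ≫ f)) : IsOpenImmersion f :=
  IsOpenImmersion.of_openCover_source f (X.openCoverOfIsOpenCover U hU)
    (injective_of_dense_cover f U hU hd fun i => by have := h i; infer_instance) h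

theorem isImmersion_of_dense_cover [IsSeparated f]
    (h : ∀ i, IsImmersion ((U i).ι ≫ f)) : IsImmersion f := by
  have hinj := injective_of_dense_cover f U hU hd h
  have hr : ∀ i, Set.range ((U i).ι ≫ f) = f '' (U i : Set X) := fun i => by
    rw [Scheme.Hom.comp_base, TopCat.coe_comp, Set.range_comp, Scheme.Opens.range_ι]
  let O : ι → Set Y := fun i => coborder (f '' (U i : Set X))
  have hO : ∀ i, IsOpen (O i) := fun i =>
    (hr i ▸ ((U i).ι ≫ f).isLocallyClosed_range : IsLocallyClosed _).isOpen_coborder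
  have hcl : ∀ i, closure (f '' (U i : Set X)) = closure (Set.range f) := fun i =>
    (closure_mono (Set.image_subset_range _ _)).antisymm <| closure_minimal (by
      rintro _ ⟨x, rfl⟩
      exact image_closure_subset_closure_image f.continuous ⟨x, hd i x, rfl⟩) isClosed_closure
  have hCO : ∀ i, closure (Set.range f) ∩ O i = f '' (U i : Set X) := fun i => by
    rw [← hcl i, Set.inter_comm]; exact coborder_inter_closure
  have hpre : ∀ i, f ⁻¹' O i = (U i : Set X) := fun i => by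
    ext x
    refine ⟨fun hx => ?_, fun hx => ?_⟩
    · exact hinj.mem_set_image.mp (hCO i ▸ ⟨subset_closure ⟨x, rfl⟩, hx⟩)
    · exact ((hCO i).ge ⟨x, hx, rfl⟩).2
  have hcov : ∀ x, ∃ i, x ∈ U i := fun x =>
    TopologicalSpace.Opens.mem_iSup.mp (hU ▸ trivial : x ∈ ⨆ i, U i)
  have hind : Topology.IsInducing f := by
    refine Topology.isInducing_iff_nhds.mpr fun x => le_antisymm (f.continuous.tendsto x).le_comap ?_
    intro s hs
    obtain ⟨i, hi⟩ := hcov x
    obtain ⟨V, hVs, hV, hxV⟩ := mem_nhds_iff.mp hs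
    obtain ⟨T, hT, hTV⟩ := (((U i).ι ≫ f).isEmbedding.isInducing.isOpen_iff).mp
      (hV.preimage (U i).ι.continuous)
    have hxT : f x ∈ T := by
      have : (⟨x, hi⟩ : (U i : Scheme.{u})) ∈ ((U i).ι ≫ f) ⁻¹' T := hTV ▸ hxV
      exact this
    refine Filter.mem_comap.mpr ⟨T ∩ O i,
      (hT.inter (hO i)).mem_nhds ⟨hxT, ((hCO i).ge ⟨x, hi, rfl⟩).2⟩, fun z hz => hVs ?_⟩
    have hzU : z ∈ (U i : Set X) := hpre i ▸ hz.2
    have : (⟨z, hzU⟩ : (U i : Scheme.{u})) ∈ (U i).ι ⁻¹' V := hTV ▸ (show ((U i).ι ≫ f) ⟨z, hzU⟩ ∈ T from hz.1)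
    exact this
  have : SurjectiveOnStalks f :=
    IsZariskiLocalAtSource.of_openCover (P := @SurjectiveOnStalks)
      (X.openCoverOfIsOpenCover U hU) fun i => by
        have := h i; exact (inferInstance : SurjectiveOnStalks ((U i).ι ≫ f))
  have : IsPreimmersion f := { isEmbedding := ⟨hind, hinj⟩ }
  refine ⟨⋃ i, O i, closure (Set.range f), isOpen_iUnion hO, isClosed_closure, ?_⟩
  ext y
  constructor
  · rintro ⟨x, rfl⟩
    obtain ⟨i, hi⟩ := hcov x
    exact ⟨Set.mem_iUnion.mpr ⟨i, ((hCO i).ge ⟨x, hi, rfl⟩).2⟩, subset_closure ⟨x, rfl⟩⟩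
  · rintro ⟨hy, hyC⟩
    obtain ⟨i, hi⟩ := Set.mem_iUnion.mp hy
    obtain ⟨x, -, rfl⟩ := (hCO i).le ⟨hyC, hi⟩
    exact ⟨x, rfl⟩

end Groth.Flatmor4
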