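import Groth.Agent.Flatmor4.FpqcDims
import Groth.Agent.AlgSp3.FibreInv
import Groth.Agent.FibreDim.Semicontinuity
import Groth.Agent.FibreDim.LowerSemicont
import Groth.Agent.FibreDim.DimFormulaCor

/-!
The locus where a closed set has fibres of dimension at least `n`, in transcendence-degree form, is closed.
-/

set_option autoImplicit false
set_option linter.style.haveILetI false
set_option backward.isDefEq.respectTransparency.types false

universe u

open CategoryTheory CategoryTheory.Limits AlgebraicGeometry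

namespace Groth.Flatmor4

variable {X Y : Scheme.{u}} (q : X ⟶ Y) [LocallyOfFiniteType q]


/-- The height of a point in its fibre is the transcendence degree of its residue field. -/
theorem exists_height_eq_resTrdeg (y : Y) (z : q.fiber y) :
    ∃ t : ℕ, Dual3.resTrdeg q (q.fiberι y z) = t ∧ Order.height z = t := by
  suffices key : ∀ (x : X) (y : Y) (_ : q x = y) (z : q.fiber y), q.fiberι y z = x →
      ∃ t : ℕ, Dual3.resTrdeg q x = t ∧ Order.height z = t from
    key _ y (Groth.FibreDim.apply_fiberι q y z) z rfl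
  rintro x _ rfl z hz
  obtain ⟨t, ht, ht'⟩ := Groth.FibreDim.exists_relTrdeg_eq_height q x
  rw [show z = q.asFiber x from
    (q.fiberι _).isEmbedding.injective (hz.trans (q.fiberι_asFiber x).symm)]
  exact ⟨t, ht, ht'⟩

theorem fibreDimAt_le_iff_resTrdeg (x : X) (m : ℕ) :
    FlatMor.fibreDimAt q x ≤ m ↔
      ∀ ξ : X, ξ ⤳ x → q ξ = q x → Dual3.resTrdeg q ξ ≤ (m : Cardinal) := by
  constructor
  · intro h ξ hξ _
    have h1 : FlatMor.fibreDimAt q ξ ≤ m :=
      hξ.mem_open (Groth.FibreDim.isOpen_fibreDimAt_le q m) h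
    obtain ⟨t, ht, ht'⟩ := Groth.FibreDim.exists_relTrdeg_eq_height q ξ
    have h4 : Dual3.resTrdeg q ξ = t := ht
    rw [h4]
    haveI : LocallyOfFiniteType (q.fiberToSpecResidueField (q ξ)) :=
      inferInstanceAs (LocallyOfFiniteType (pullback.snd q _))
    have h2 := (Groth.FibreDim.height_le_localDim (k := Y.residueField (q ξ))
      (q.fiberToSpecResidueField (q ξ)) (q.asFiber ξ)).trans h1
    rw [ht'] at h2
    exact_mod_cast h2
  · intro h
    rw [Groth.FibreDim.fibreDimAt_eq_height_add q x, ringKrullDim_stalk_eq_coheight]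
    obtain ⟨t, ht, ht'⟩ := exists_height_eq_resTrdeg q (q x) (q.asFiber x)
    rw [ht']
    have hbd : ∀ c : ℕ, (c : ℕ∞) ≤ Order.coheight (q.asFiber x) → t + c ≤ m := by
      intro c hc
      obtain ⟨p, hp, hpc⟩ := Order.exists_series_of_le_coheight _ hc
      obtain ⟨p', hp', hpt⟩ := Order.exists_series_of_height_eq_coe _ ht'
      obtain ⟨t', hs, hs'⟩ := exists_height_eq_resTrdeg q (q x) p.last
      have h1 : q.fiberι (q x) p.last ⤳ x := by
        have h3 : p.last ⤳ q.asFiber x :=
          Scheme.le_iff_specializes.1 (hp ▸ p.monotone (Fin.le_last 0))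
        have h4 := h3.map (q.fiberι (q x)).continuous
        rwa [q.fiberι_asFiber] at h4
      have h2 := h _ h1 (Groth.FibreDim.apply_fiberι q (q x) p.last)
      rw [hs] at h2
      have h5 : t' ≤ m := by exact_mod_cast h2
      have h6 := Order.length_le_height (p := p'.smash p (hp'.trans hp.symm)) (x := p.last) (by simp)
      rw [hs', RelSeries.smash_length, hpt, hpc] at h6
      have h7 : t + c ≤ t' := by exact_mod_cast h6
      omega
    have h0 := hbd 0 bot_le
    have hcb : Order.coheight (q.asFiber x) ≤ (m - t : ℕ) := by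
      by_contra hlt
      have hlt' := not_le.mp hlt
      have := hbd (m - t + 1) (by exact_mod_cast Order.add_one_le_of_lt hlt')
      omega
    calc ((t : ℕ∞) : WithBot ℕ∞) + (Order.coheight (q.asFiber x) : ℕ∞)
        ≤ ((t : ℕ∞) : WithBot ℕ∞) + (((m - t : ℕ) : ℕ∞) : WithBot ℕ∞) :=
          add_le_add le_rfl (WithBot.coe_le_coe.2 hcb)
      _ ≤ m := by norm_cast; omega

/-- The points through which the fibre has dimension at least `n` form a closed set. -/
theorem isClosed_setOf_le_resTrdeg (n : ℕ) :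
    IsClosed {x : X | ∃ ξ, ξ ⤳ x ∧ q ξ = q x ∧ (n : Cardinal) ≤ Dual3.resTrdeg q ξ} := by
  obtain _ | m := n
  · convert isClosed_univ
    exact Set.eq_univ_of_forall fun x => ⟨x, specializes_rfl, rfl, by simp⟩
  · convert (Groth.FibreDim.isOpen_fibreDimAt_le q m).isClosed_compl using 1
    ext x
    simp only [Set.mem_ofPred_eq, Set.mem_compl_iff, fibreDimAt_le_iff_resTrdeg, not_forall, not_le]
    refine exists_congr fun ξ => ?_
    obtain ⟨t, ht, -⟩ := Groth.FibreDim.exists_relTrdeg_eq_height q ξ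
    have h4 : Dual3.resTrdeg q ξ = t := ht
    simp [h4, and_left_comm]

/-- The points of a closed set through which its fibre has dimension at least `n` form a closed set. -/
theorem isClosed_setOf_mem_le_resTrdeg {Z : Set X} (hZ : IsClosed Z) (n : ℕ) :
    IsClosed {x : X | ∃ ξ, ξ ⤳ x ∧ q ξ = q x ∧ ξ ∈ Z ∧ (n : Cardinal) ≤ Dual3.resTrdeg q ξ} := by
  let i := (Scheme.IdealSheafData.vanishingIdeal (⟨Z, hZ⟩ : TopologicalSpace.Closeds X)).subschemeι
  have hrange : Set.range i = Z := by
    rw [Scheme.IdealSheafData.range_subschemeι]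
    simp
  have htr : ∀ z, Dual3.resTrdeg (i ≫ q) z = Dual3.resTrdeg q (i z) := fun z => by
    rw [Groth.AlgSp3.resTrdeg_comp, Groth.AlgSp3.resTrdeg_eq_zero_of_quasiFinite i z, add_zero]
  convert i.isClosedEmbedding.isClosedMap _ (isClosed_setOf_le_resTrdeg (i ≫ q) n) using 1
  ext x
  constructor
  · rintro ⟨ξ, h1, h2, h3, h4⟩
    obtain ⟨ζ, rfl⟩ : ξ ∈ Set.range i := hrange.ge h3
    obtain ⟨z, rfl⟩ : x ∈ Set.range i := hrange.ge (h1.mem_closed hZ h3)
    exact ⟨z, ⟨ζ, i.isEmbedding.toIsInducing.specializes_iff.1 h1, h2, (htr ζ).symm ▸ h4⟩, rfl⟩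
  · rintro ⟨z, ⟨ζ, h1, h2, h4⟩, rfl⟩
    exact ⟨i ζ, h1.map i.continuous, h2, hrange.le ⟨ζ, rfl⟩, htr ζ ▸ h4⟩

end Groth.Flatmor4
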