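import Mathlib

/-!
Over a field, the condition that an element of `B' ⊗ R` comes from `B ⊗ C` after `R → C` is cut out by an ideal.
-/

set_option autoImplicit false

universe u

open TensorProduct

namespace Groth.Flatmor4.EqvExt

variable {k : Type u} [Field k] {B B' : Type u} [CommRing B] [CommRing B'] [Algebra k B] [Algebra k B']

theorem exists_ideal_mem_range (ι : B →ₐ[k] B') {R : Type u} [CommRing R] [Algebra k R] (z : B' ⊗[k] R) :
    ∃ I : Ideal R, ∀ (C : Type u) [CommRing C] [Algebra k C] (φ : R →ₐ[k] C),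
      Algebra.TensorProduct.map (AlgHom.id k B') φ z ∈ (Algebra.TensorProduct.map ι (AlgHom.id k C)).range ↔
        I ≤ RingHom.ker φ := by
  classical
  let π := (LinearMap.range ι.toLinearMap).mkQ
  let b := Module.Free.chooseBasis k (B' ⧸ LinearMap.range ι.toLinearMap)
  let c := TensorProduct.equivFinsuppOfBasisLeft b (N := R) (π.rTensor R z)
  refine ⟨Ideal.span (Set.range c), fun C _ _ φ => ?_⟩
  have hex : Function.Exact (ι.toLinearMap.rTensor C) (π.rTensor C) :=
    rTensor_exact C (LinearMap.exact_map_mkQ_range _) (Submodule.mkQ_surjective _)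
  have h1 : π.rTensor C (Algebra.TensorProduct.map (AlgHom.id k B') φ z) =
      φ.toLinearMap.lTensor _ (π.rTensor R z) := by
    induction z using TensorProduct.induction_on with
    | zero => simp
    | tmul x y => simp
    | add x y hx hy => simp [hx, hy]
  have h2 : ∀ w : (B' ⧸ LinearMap.range ι.toLinearMap) ⊗[k] R,
      TensorProduct.equivFinsuppOfBasisLeft b (N := C) (φ.toLinearMap.lTensor _ w) =
        (TensorProduct.equivFinsuppOfBasisLeft b (N := R) w).mapRange φ (map_zero φ) := by
    intro w
    induction w using TensorProduct.induction_on with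
    | zero => simp
    | tmul x y => ext i; simp
    | add x y hx hy => ext i; simp [hx, hy]
  have h3 : Algebra.TensorProduct.map (AlgHom.id k B') φ z ∈ (Algebra.TensorProduct.map ι (AlgHom.id k C)).range ↔
      π.rTensor C (Algebra.TensorProduct.map (AlgHom.id k B') φ z) = 0 := by
    rw [hex _]
    rfl
  rw [h3, h1, ← (TensorProduct.equivFinsuppOfBasisLeft b (N := C)).map_eq_zero_iff, h2, Ideal.span_le]
  constructor
  · rintro h _ ⟨i, rfl⟩
    have := DFunLike.congr_fun h i
    simpa [c] using this
  · intro h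
    ext i
    simpa [c] using h ⟨i, rfl⟩

theorem exists_ideal_lift (ι : B →ₐ[k] B') (hι : Function.Injective ι) {R R₀ : Type u} [CommRing R] [CommRing R₀]
    [Algebra k R] (ω : R₀ →+* B' ⊗[k] R) :
    ∃ I : Ideal R, ∀ (C : Type u) [CommRing C] [Algebra k C] (φ : R →ₐ[k] C),
      (∃ χ : R₀ →+* B ⊗[k] C, (Algebra.TensorProduct.map ι (AlgHom.id k C)).toRingHom.comp χ =
        (Algebra.TensorProduct.map (AlgHom.id k B') φ).toRingHom.comp ω) ↔ I ≤ RingHom.ker φ := by
  choose I hI using fun r => exists_ideal_mem_range ι (ω r)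
  refine ⟨⨆ r, I r, fun C _ _ φ => ?_⟩
  have hinj : Function.Injective (Algebra.TensorProduct.map ι (AlgHom.id k C)) :=
    Module.Flat.rTensor_preserves_injective_linearMap (R := k) (M := C) ι.toLinearMap hι
  rw [iSup_le_iff]
  constructor
  · rintro ⟨χ, hχ⟩ r
    exact (hI r C φ).1 ⟨χ r, RingHom.congr_fun hχ r⟩
  · intro h
    let e := AlgEquiv.ofInjective _ hinj
    refine ⟨e.symm.toAlgHom.toRingHom.comp
      (((Algebra.TensorProduct.map (AlgHom.id k B') φ).toRingHom.comp ω).codRestrict _
        fun r => (hI r C φ).2 (h r)), RingHom.ext fun r => ?_⟩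
    exact congrArg Subtype.val (e.apply_symm_apply ⟨_, (hI r C φ).2 (h r)⟩)

end Groth.Flatmor4.EqvExt
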