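import Groth.Agent.MiscGeom.MagnetDense
import Groth.Agent.MiscGeom.MagnetRep
import Groth.Agent.AlgGrp1.ClosedFunctor
import Groth.Agent.Flatmor4.EqvExtAlg

/-!
Extending orbit maps along a dense open immersion of affine monoids over a field.
-/

set_option autoImplicit false
set_option backward.isDefEq.respectTransparency.types false

universe u

open CategoryTheory CategoryTheory.Limits MonoidalCategory CartesianMonoidalCategory MonObj AlgebraicGeometry Opposite
open Magnet

noncomputable section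

namespace Groth.Flatmor4.EqvExt

variable {k : Type u} [Field k]



variable {M G X : Over (Spec (CommRingCat.of k))} [MonObj M] [MonObj G] (i : G ⟶ M) [IsMonHom i]
  [QuasiCompact i.left] [IsSchemeTheoreticallyDominant i.left] (a : MonAct G X)

/-- Two maps out of `M ⊗ T` into a separated scheme agree if they agree on `G ⊗ T`. -/
theorem whiskerRight_cancel_dominant [IsSeparated X.hom] {T : Over (Spec (CommRingCat.of k))} {φ ψ : M ⊗ T ⟶ X}
    (h : (i ▷ T) ≫ φ = (i ▷ T) ≫ ψ) : φ = ψ := by
  let Δ : X ⟶ X ⊗ X := lift (𝟙 X) (𝟙 X)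
  have hΔ : Δ.left = pullback.diagonal X.hom := pullback.hom_ext
    ((congrArg (fun m => m.left) (lift_fst (𝟙 X) (𝟙 X))).trans (pullback.diagonal_fst X.hom).symm)
    ((congrArg (fun m => m.left) (lift_snd (𝟙 X) (𝟙 X))).trans (pullback.diagonal_snd X.hom).symm)
  haveI : IsClosedImmersion Δ.left := by
    rw [hΔ]; exact IsSeparated.diagonal_isClosedImmersion
  obtain ⟨χ, hχ⟩ := Groth.MiscGeom.Mag.exists_lift_whiskerRight i Δ (lift φ ψ) ((i ▷ T) ≫ φ) (by
    rw [comp_lift, comp_lift, Category.comp_id, h])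
  have h1 : χ = φ := by simpa [Δ] using congrArg (· ≫ fst X X) hχ
  have h2 : χ = ψ := by simpa [Δ] using congrArg (· ≫ snd X X) hχ
  exact h1.symm.trans h2

/-- The orbit map of `x` extends over `M`. -/
def Good {T : Over (Spec (CommRingCat.of k))} (x : T ⟶ X) : Prop :=
  ∃ χ : M ⊗ T ⟶ X, (i ▷ T) ≫ χ = (G ◁ x) ≫ a.act

omit [QuasiCompact i.left] [IsSchemeTheoreticallyDominant i.left] in
theorem Good.comp {T T' : Over (Spec (CommRingCat.of k))} {x : T ⟶ X} (h : Good i a x) (t : T' ⟶ T) : Good i a (t ≫ x) := by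
  obtain ⟨χ, hχ⟩ := h
  exact ⟨(M ◁ t) ≫ χ, by rw [← whisker_exchange_assoc, hχ, whiskerLeft_comp_assoc]⟩

theorem evalAt_injective [IsSeparated X.hom] {T : Over (Spec (CommRingCat.of k))} :
    Function.Injective ((MonAct.eqvHom.evalAt ((MonAct.regular M).restrict i) a η[M]).app (op T)) := by
  intro φ φ' h
  refine Subtype.ext (whiskerRight_cancel_dominant i
    ((Groth.MiscGeom.Mag.key_evalAt i a φ).trans
      (Eq.trans ?_ (Groth.MiscGeom.Mag.key_evalAt i a φ').symm)))
  exact congrArg (fun z => (G ◁ z) ≫ a.act) h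

theorem good_iff [IsSeparated X.hom] {T : Over (Spec (CommRingCat.of k))} (x : T ⟶ X) :
    Good i a x ↔ ∃ φ, (MonAct.eqvHom.evalAt ((MonAct.regular M).restrict i) a η[M]).app (op T) φ = x := by
  refine ⟨fun ⟨χ, hχ⟩ => ?_, fun ⟨φ, hφ⟩ => ⟨φ.1, (Groth.MiscGeom.Mag.key_evalAt i a φ).trans
    (congrArg (fun z => (G ◁ z) ≫ a.act) hφ)⟩⟩
  have hχ' : ∀ {W : Over (Spec (CommRingCat.of k))} (m : W ⟶ G) (t : W ⟶ T), lift (m ≫ i) t ≫ χ = lift m (t ≫ x) ≫ a.act :=
    fun {W} m t => by rw [← lift_whiskerRight_assoc, hχ, lift_whiskerLeft_assoc]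
  have heq : MonAct.IsEquivariant (((MonAct.regular M).restrict i).prod (MonAct.trivial G T)) a χ := by
    unfold MonAct.IsEquivariant
    let e : G ⊗ (M ⊗ T) ≅ M ⊗ (G ⊗ T) :=
      { hom := lift (snd _ _ ≫ fst _ _) (lift (fst _ _) (snd _ _ ≫ snd _ _))
        inv := lift (snd _ _ ≫ fst _ _) (lift (fst _ _) (snd _ _ ≫ snd _ _))
        hom_inv_id := hom_ext_lift₂ fun W p q => by
          rw [← lift_comp_fst_snd q]; simp
        inv_hom_id := hom_ext_lift₂ fun W p q => by
          rw [← lift_comp_fst_snd q]; simp }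
    have he : ∀ {W : Over (Spec (CommRingCat.of k))} (n : W ⟶ M) (m' : W ⟶ G) (t : W ⟶ T),
        lift n (lift m' t) ≫ e.inv = lift m' (lift n t) := fun {W} n m' t => by simp [e]
    clear_value e
    rw [← cancel_epi e.inv]
    refine whiskerRight_cancel_dominant i (hom_ext_lift₂ fun W m q => ?_)
    rw [← lift_comp_fst_snd q, lift_whiskerRight_assoc, lift_whiskerRight_assoc]
    rw [reassoc_of% he, reassoc_of% he, MonAct.lift_prod_act_assoc, MonAct.lift_trivial_act, lift_whiskerLeft_assoc]
    generalize q ≫ fst G T = m'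
    generalize q ≫ snd G T = t
    have e2 : lift m' (m ≫ i) ≫ ((MonAct.regular M).restrict i).act = (m' * m) ≫ i := by
      rw [MonAct.lift_restrict_act, MonAct.lift_regular_act, MonObj.mul_comp]
    rw [e2, hχ', hχ', MonAct.lift_mul_act]
  refine ⟨⟨χ, heq⟩, ?_⟩
  show lift (toUnit T ≫ η[M]) (𝟙 T) ≫ χ = x
  rw [← Hom.one_def, ← MonObj.one_comp i, hχ', a.lift_one_act, Category.id_comp]

theorem good_local [IsSeparated X.hom] {T : Over (Spec (CommRingCat.of k))} (x : T ⟶ X) (𝒰 : Scheme.OpenCover.{u} T.left)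
    (h : ∀ j, Good i a ((Over.homMk (𝒰.f j) : Over.mk (𝒰.f j ≫ T.hom) ⟶ T) ≫ x)) : Good i a x := by
  choose φ hφ using h
  obtain ⟨χ, hχ⟩ := Groth.MiscGeom.Mag.exists_glue 𝒰 φ fun j l W p q hpq => by
    have hn : p ≫ fst _ _ = q ≫ fst _ _ := by simpa using congrArg (· ≫ fst M T) hpq
    have ht : (p ≫ snd _ _) ≫ (Over.homMk (𝒰.f j) : Over.mk (𝒰.f j ≫ T.hom) ⟶ T) =
        (q ≫ snd _ _) ≫ (Over.homMk (𝒰.f l) : Over.mk (𝒰.f l ≫ T.hom) ⟶ T) := by
      simpa using congrArg (· ≫ snd M T) hpq
    have e : (M ◁ (p ≫ snd _ _)) ≫ φ j = (M ◁ (q ≫ snd _ _)) ≫ φ l := by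
      refine whiskerRight_cancel_dominant i ?_
      have ht' := congrArg (fun z => (G ◁ (z ≫ x)) ≫ a.act) ht
      simp only [Category.assoc] at ht'
      rw [← whisker_exchange_assoc, hφ, ← whisker_exchange_assoc, hφ, ← whiskerLeft_comp_assoc,
        ← whiskerLeft_comp_assoc, Category.assoc, Category.assoc]
      exact ht'
    have e2 : ∀ {Q : Over (Spec (CommRingCat.of k))} (r : W ⟶ M ⊗ Q), r = lift (r ≫ fst _ _) (𝟙 W) ≫ (M ◁ (r ≫ snd _ _)) :=
      fun {Q} r => by rw [lift_whiskerLeft, Category.id_comp, lift_comp_fst_snd]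
    rw [e2 p, e2 q, Category.assoc, Category.assoc, e, hn]
  refine ⟨χ, Groth.MiscGeom.Mag.whiskerLeft_cover_ext 𝒰 fun j => ?_⟩
  rw [whisker_exchange_assoc, hχ, hφ, whiskerLeft_comp_assoc]

variable (k) in
/-- `Spec A` over `k`. -/
abbrev specObj (A : Type u) [CommRing A] [Algebra k A] : Over (Spec (CommRingCat.of k)) :=
  Over.mk (Spec.map (CommRingCat.ofHom (algebraMap k A)))

/-- The morphism of spectra over `k` of an algebra map. -/
abbrev specHom {A B : Type u} [CommRing A] [CommRing B] [Algebra k A] [Algebra k B] (φ : A →ₐ[k] B) :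
    specObj k B ⟶ specObj k A :=
  Over.homMk (Spec.map (CommRingCat.ofHom φ.toRingHom)) (by
    show Spec.map _ ≫ Spec.map _ = Spec.map _
    rw [← Spec.map_comp, ← CommRingCat.ofHom_comp]
    congr 2
    ext r
    exact φ.commutes r)

theorem specHom_hom_ext {A : Type u} [CommRing A] [Algebra k A] {T : Over (Spec (CommRingCat.of k))} (f g : T ⟶ specObj k A)
    (h : f.left = g.left) : f = g := Over.OverMorphism.ext h

/-- `Spec (B ⊗ C) ⟶ N ⊗ Spec C` for `N = Spec B`. -/
abbrev specTensor {N : Over (Spec (CommRingCat.of k))} {B : Type u} [CommRing B] [Algebra k B] (e : specObj k B ≅ N)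
    (C : Type u) [CommRing C] [Algebra k C] : specObj k (TensorProduct k B C) ⟶ N ⊗ specObj k C :=
  lift (specHom (Algebra.TensorProduct.includeLeft (S := k)) ≫ e.hom) (specHom Algebra.TensorProduct.includeRight)

theorem isIso_specTensor {N : Over (Spec (CommRingCat.of k))} {B : Type u} [CommRing B] [Algebra k B] (e : specObj k B ≅ N)
    (C : Type u) [CommRing C] [Algebra k C] : IsIso (specTensor e C) := by
  let q : specObj k (TensorProduct k B C) ⟶ specObj k B ⊗ specObj k C :=
    lift (specHom (Algebra.TensorProduct.includeLeft (S := k))) (specHom Algebra.TensorProduct.includeRight)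
  have hq : q.left = (pullbackSpecIso k B C).inv := pullback.hom_ext
    ((congrArg (fun m => m.left) (lift_fst (specHom (Algebra.TensorProduct.includeLeft (S := k) (A := B) (B := C)))
      (specHom Algebra.TensorProduct.includeRight))).trans (pullbackSpecIso_inv_fst k B C).symm)
    ((congrArg (fun m => m.left) (lift_snd (specHom (Algebra.TensorProduct.includeLeft (S := k) (A := B) (B := C)))
      (specHom Algebra.TensorProduct.includeRight))).trans (pullbackSpecIso_inv_snd k B C).symm)
  haveI : IsIso q := by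
    haveI : IsIso ((Over.forget _).map q) := by
      show IsIso q.left
      rw [hq]; infer_instance
    exact isIso_of_reflects_iso q (Over.forget _)
  have : specTensor e C = q ≫ (e.hom ▷ specObj k C) := by
    rw [lift_whiskerRight]
  rw [this]
  infer_instance

theorem specTensor_whiskerLeft {N : Over (Spec (CommRingCat.of k))} {B : Type u} [CommRing B] [Algebra k B] (e : specObj k B ≅ N)
    {C C' : Type u} [CommRing C] [CommRing C'] [Algebra k C] [Algebra k C'] (φ : C →ₐ[k] C') :
    specTensor e C' ≫ (N ◁ specHom φ) =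
      specHom (Algebra.TensorProduct.map (AlgHom.id k B) φ) ≫ specTensor e C := by
  rw [lift_whiskerLeft, comp_lift, ← Category.assoc]
  congr 1
  · congr 1
    refine specHom_hom_ext _ _ ?_
    show Spec.map _ = Spec.map _ ≫ Spec.map _
    rw [← Spec.map_comp, ← CommRingCat.ofHom_comp]
    congr 2
    ext r
    simp
  · refine specHom_hom_ext _ _ ?_
    show Spec.map _ ≫ Spec.map _ = Spec.map _ ≫ Spec.map _
    rw [← Spec.map_comp, ← Spec.map_comp, ← CommRingCat.ofHom_comp, ← CommRingCat.ofHom_comp]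
    congr 2

theorem specTensor_whiskerRight {N N' : Over (Spec (CommRingCat.of k))} {B B' : Type u} [CommRing B] [CommRing B'] [Algebra k B] [Algebra k B']
    (e : specObj k B ≅ N) (e' : specObj k B' ≅ N') (j : N' ⟶ N) (ib : B →ₐ[k] B')
    (hj : e'.hom ≫ j = specHom ib ≫ e.hom) (C : Type u) [CommRing C] [Algebra k C] :
    specTensor e' C ≫ (j ▷ specObj k C) =
      specHom (Algebra.TensorProduct.map ib (AlgHom.id k C)) ≫ specTensor e C := by
  rw [lift_whiskerRight, comp_lift, Category.assoc, hj, ← Category.assoc, ← Category.assoc]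
  congr 1
  · congr 1
    refine specHom_hom_ext _ _ ?_
    show Spec.map _ ≫ Spec.map _ = Spec.map _ ≫ Spec.map _
    rw [← Spec.map_comp, ← Spec.map_comp, ← CommRingCat.ofHom_comp, ← CommRingCat.ofHom_comp]
    congr 2
  · refine specHom_hom_ext _ _ ?_
    show Spec.map _ = Spec.map _ ≫ Spec.map _
    rw [← Spec.map_comp, ← CommRingCat.ofHom_comp]
    congr 2
    ext r
    simp

theorem exists_specObj_iso (N : Over (Spec (CommRingCat.of k))) [IsAffine N.left] :
    ∃ (B : Type u) (_ : CommRing B) (_ : Algebra k B), Nonempty (specObj k B ≅ N) := by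
  letI := (Spec.preimage (N.left.isoSpec.inv ≫ N.hom)).hom.toAlgebra
  refine ⟨Γ(N.left, ⊤), inferInstance, inferInstance, ⟨Over.isoMk N.left.isoSpec.symm ?_⟩⟩
  exact (Spec.map_preimage (N.left.isoSpec.inv ≫ N.hom)).symm

theorem exists_ideal [IsAffine M.left] [IsAffine G.left] [IsAffine X.left] :
    ∃ (R : Type u) (_ : CommRing R) (_ : Algebra k R) (eX : specObj k R ≅ X) (I : Ideal R),
      ∀ (C : Type u) [CommRing C] [Algebra k C] (φ : R →ₐ[k] C),
        Good i a (specHom φ ≫ eX.hom) ↔ I ≤ RingHom.ker φ := by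
  obtain ⟨B, _, _, ⟨eM⟩⟩ := exists_specObj_iso M
  obtain ⟨B', _, _, ⟨eG⟩⟩ := exists_specObj_iso G
  obtain ⟨R, _, _, ⟨eX⟩⟩ := exists_specObj_iso X
  let j := eG.hom ≫ i ≫ eM.inv
  have hjc : ∀ r, (Spec.preimage j.left).hom (algebraMap k B r) = algebraMap k B' r := fun r => by
    have h := Over.w j
    change j.left ≫ Spec.map _ = Spec.map _ at h
    rw [← Spec.map_preimage j.left, ← Spec.map_comp] at h
    exact congr($(Spec.map_injective h) r)
  let ib : B →ₐ[k] B' := { toRingHom := (Spec.preimage j.left).hom, commutes' := hjc }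
  have hιj : specHom ib = j := specHom_hom_ext _ _ (Spec.map_preimage j.left)
  have hι : Function.Injective ib := by
    haveI : IsIso eG.hom.left := inferInstanceAs (IsIso ((Over.forget _).map eG.hom))
    haveI : IsIso eM.inv.left := inferInstanceAs (IsIso ((Over.forget _).map eM.inv))
    haveI : IsSchemeTheoreticallyDominant j.left :=
      inferInstanceAs (IsSchemeTheoreticallyDominant (eG.hom.left ≫ i.left ≫ eM.inv.left))
    haveI : IsSchemeTheoreticallyDominant (Spec.map (Spec.preimage j.left)) := by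
      rw [Spec.map_preimage]; infer_instance
    intro x y e
    apply (Scheme.ΓSpecIso (CommRingCat.of B)).commRingCatIsoToRingEquiv.symm.injective
    apply (Spec.map (Spec.preimage j.left)).app_injective ⊤
    have e1 := congrArg (Scheme.ΓSpecIso (CommRingCat.of B')).inv.hom e
    have n := Scheme.ΓSpecIso_inv_naturality (Spec.preimage j.left)
    exact (congr($n x)).symm.trans (e1.trans congr($n y))
  have hij : eG.hom ≫ i = specHom ib ≫ eM.hom := by rw [hιj]; simp [j]
  let o := specTensor eG R ≫ (G ◁ eX.hom) ≫ a.act ≫ eX.inv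
  obtain ⟨I, hI⟩ := exists_ideal_lift ib hι (R := R) (R₀ := R) (Spec.preimage o.left).hom
  refine ⟨R, inferInstance, inferInstance, eX, I, fun C _ _ φ => ?_⟩
  haveI := isIso_specTensor eG C
  haveI := isIso_specTensor eM C
  have key : specTensor eG C ≫ (G ◁ (specHom φ ≫ eX.hom)) ≫ a.act ≫ eX.inv =
      specHom (Algebra.TensorProduct.map (AlgHom.id k B') φ) ≫ o := by
    rw [whiskerLeft_comp, Category.assoc, reassoc_of% (specTensor_whiskerLeft eG φ)]
  rw [← hI C φ]
  constructor
  · rintro ⟨χ, hχ⟩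
    let t := specTensor eM C ≫ χ ≫ eX.inv
    refine ⟨(Spec.preimage t.left).hom, ?_⟩
    have h : specHom (Algebra.TensorProduct.map ib (AlgHom.id k C)) ≫ t =
        specHom (Algebra.TensorProduct.map (AlgHom.id k B') φ) ≫ o := by
      rw [← key, ← reassoc_of% (specTensor_whiskerRight eM eG i ib hij C), reassoc_of% hχ]
    have h' := congrArg (fun m => m.left) h
    change Spec.map _ ≫ t.left = Spec.map _ ≫ o.left at h'
    rw [← Spec.map_preimage t.left, ← Spec.map_preimage o.left, ← Spec.map_comp, ← Spec.map_comp] at h'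
    exact congrArg CommRingCat.Hom.hom (Spec.map_injective h')
  · rintro ⟨χ, hχ⟩
    have h1 : ∀ r, χ (algebraMap k R r) = algebraMap k (TensorProduct k B C) r := by
      intro r
      have hinj : Function.Injective (Algebra.TensorProduct.map ib (AlgHom.id k C)) :=
        Module.Flat.rTensor_preserves_injective_linearMap (R := k) (M := C) ib.toLinearMap hι
      apply hinj
      rw [AlgHom.commutes]
      refine (RingHom.congr_fun hχ _).trans ?_
      have h := Over.w o
      change o.left ≫ Spec.map _ = Spec.map _ at h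
      rw [← Spec.map_preimage o.left, ← Spec.map_comp] at h
      have h2 : (Spec.preimage o.left).hom (algebraMap k R r) = algebraMap k (TensorProduct k B' R) r :=
        congr($(Spec.map_injective h) r)
      exact (congrArg (Algebra.TensorProduct.map (AlgHom.id k B') φ) h2).trans (AlgHom.commutes _ r)
    let χ' : R →ₐ[k] TensorProduct k B C := { toRingHom := χ, commutes' := h1 }
    refine ⟨inv (specTensor eM C) ≫ specHom χ' ≫ eX.hom, ?_⟩
    have h : specHom (Algebra.TensorProduct.map ib (AlgHom.id k C)) ≫ specHom χ' =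
        specHom (Algebra.TensorProduct.map (AlgHom.id k B') φ) ≫ o := by
      refine specHom_hom_ext _ _ ?_
      show Spec.map _ ≫ Spec.map _ = Spec.map _ ≫ o.left
      rw [← Spec.map_preimage o.left, ← Spec.map_comp, ← Spec.map_comp]
      exact congrArg Spec.map (CommRingCat.hom_ext hχ)
    rw [← cancel_epi (specTensor eG C), reassoc_of% (specTensor_whiskerRight eM eG i ib hij C),
      IsIso.hom_inv_id_assoc, reassoc_of% h, ← reassoc_of% key, Iso.inv_hom_id, Category.comp_id]

theorem exists_representableBy [IsAffine M.left] [IsAffine G.left] [IsAffine X.left] :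
    ∃ (Z : Over (Spec (CommRingCat.of k))) (j : Z ⟶ X) (e : (MonAct.eqvHom ((MonAct.regular M).restrict i) a).RepresentableBy Z),
      IsClosedImmersion j.left ∧ ∀ (T : Over (Spec (CommRingCat.of k))) (z : T ⟶ Z),
        (MonAct.eqvHom.evalAt ((MonAct.regular M).restrict i) a η[M]).app (op T) (e.homEquiv z) = z ≫ j := by
  obtain ⟨R, _, _, eX, I, hI⟩ := exists_ideal i a
  haveI : IsSeparated X.hom := inferInstance
  let P : ∀ {T : Scheme.{u}}, (T ⟶ X.left) → Prop := fun f =>
    Good i a (Over.homMk f : Over.mk (f ≫ X.hom) ⟶ X)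
  have hP : ∀ {T : Over (Spec (CommRingCat.of k))} (x : T ⟶ X), Good i a x ↔ P x.left := fun {T} x => by
    have e : x.left ≫ X.hom = T.hom := Over.w x
    constructor <;> intro h
    · let u : Over.mk (x.left ≫ X.hom) ⟶ T := Over.homMk (𝟙 T.left) ((Category.id_comp _).trans e.symm)
      have hu : u ≫ x = (Over.homMk x.left : Over.mk (x.left ≫ X.hom) ⟶ X) :=
        Over.OverMorphism.ext (Category.id_comp x.left)
      exact (congrArg (Good i a) hu).mp (h.comp i a u)
    · let u : T ⟶ Over.mk (x.left ≫ X.hom) := Over.homMk (𝟙 T.left) ((Category.id_comp _).trans e)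
      have hu : u ≫ (Over.homMk x.left : Over.mk (x.left ≫ X.hom) ⟶ X) = x :=
        Over.OverMorphism.ext (Category.id_comp x.left)
      exact (congrArg (Good i a) hu).mp (Good.comp i a h u)
  haveI : IsIso eX.inv.left := inferInstanceAs (IsIso ((Over.forget _).map eX.inv))
  obtain ⟨Z, j, hj, hZ⟩ := Groth.AlgGrp1.exists_closed_of_affine_ideals (X := X.left) P
    (fun {T' T} g f h => (hP ((Over.homMk g : Over.mk (g ≫ f ≫ X.hom) ⟶ Over.mk (f ≫ X.hom)) ≫ Over.homMk f)).1
      (h.comp i a _))
    (fun {T} f 𝒰 h => good_local i a _ 𝒰 fun j => (hP _).2 (h j))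
    (fun U => by
      let v := Spec.preimage (U.2.fromSpec ≫ eX.inv.left)
      refine ⟨I.map v.hom, fun C φ => ?_⟩
      letI : Algebra k C := (φ.hom.comp (v.hom.comp (algebraMap k R))).toAlgebra
      let φ' : R →ₐ[k] C := { toRingHom := φ.hom.comp v.hom, commutes' := fun _ => rfl }
      have e : Spec.map φ ≫ U.2.fromSpec = (specHom φ' ≫ eX.hom).left := by
        show _ = Spec.map (v ≫ φ) ≫ eX.hom.left
        rw [Spec.map_comp, Spec.map_preimage, Category.assoc, Category.assoc,
          show eX.inv.left ≫ eX.hom.left = 𝟙 _ from congrArg (fun m => m.left) eX.inv_hom_id, Category.comp_id]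
      rw [e, ← hP, hI C φ', Ideal.map_le_iff_le_comap, RingHom.comap_ker]
      rfl)
  let Z₀ : Over (Spec (CommRingCat.of k)) := Over.mk (j ≫ X.hom)
  let jj : Z₀ ⟶ X := Over.homMk j
  haveI : IsClosedImmersion jj.left := hj
  haveI := Groth.MiscGeom.Mag.mono_of_closedImmersion jj
  obtain ⟨φ₀, hφ₀⟩ := (good_iff i a jj).1 ((hP jj).2 ((hZ j).2 ⟨𝟙 _, Category.id_comp _⟩))
  have hev : ∀ (T : Over (Spec (CommRingCat.of k))) (z : T ⟶ Z₀),
      (MonAct.eqvHom.evalAt ((MonAct.regular M).restrict i) a η[M]).app (op T)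
        ((MonAct.eqvHom ((MonAct.regular M).restrict i) a).map z.op φ₀) = z ≫ jj := by
    intro T z
    rw [NatTrans.naturality_apply, hφ₀]
    rfl
  refine ⟨Z₀, jj, ?_, hj, ?_⟩
  · exact
      { homEquiv := fun {T} => Equiv.ofBijective
          (fun z => (MonAct.eqvHom ((MonAct.regular M).restrict i) a).map z.op φ₀)
          ⟨fun z z' h => (cancel_mono jj).1 ((hev T z).symm.trans ((congrArg _ h).trans (hev T z'))), fun φ => by
            obtain ⟨w, hw⟩ := (hZ _).1 ((hP _).1 ((good_iff i a _).2 ⟨φ, rfl⟩))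
            let x := (MonAct.eqvHom.evalAt ((MonAct.regular M).restrict i) a η[M]).app (op T) φ
            let z : T ⟶ Z₀ := Over.homMk w (show w ≫ j ≫ X.hom = T.hom by rw [← Category.assoc, hw]; exact Over.w x)
            exact ⟨z, evalAt_injective i a ((hev T z).trans (Over.OverMorphism.ext hw))⟩⟩
        homEquiv_comp := fun g h => by simp }
  · exact hev

end Groth.Flatmor4.EqvExt
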