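import Groth.Agent.Flatmor4.EqvExt
import Groth.Agent.Flatmor4.OverRep

/-!
Gluing the functors of extensions of orbit maps along stable affine opens.
-/

set_option autoImplicit false
set_option backward.isDefEq.respectTransparency.types false

universe u

open CategoryTheory CategoryTheory.Limits MonoidalCategory CartesianMonoidalCategory MonObj AlgebraicGeometry Opposite
open Magnet

noncomputable section

namespace Groth.Flatmor4.EqvExt

variable {k : Type u} [Field k] {M G X : Over (Spec (CommRingCat.of k))}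

open OverRep in
theorem isSheafCover_eqvHom [MonObj G] (ρ : MonAct G M) (a : MonAct G X) {T : Over (Spec (CommRingCat.of k))}
    (𝒰 : Scheme.OpenCover.{u} T.left) : IsSheafCover (MonAct.eqvHom ρ a) 𝒰 := by
  intro φ hφ
  obtain ⟨χ, hχ⟩ := Groth.MiscGeom.Mag.exists_glue 𝒰 (fun j => (φ j).1) fun j l W p q hpq => by
    have hn : p ≫ fst _ _ = q ≫ fst _ _ := by simpa using congrArg (· ≫ fst M T) hpq
    have ht : (p ≫ snd _ _) ≫ pieceHom T 𝒰 j = (q ≫ snd _ _) ≫ pieceHom T 𝒰 l := by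
      simpa using congrArg (· ≫ snd M T) hpq
    have e : (M ◁ (p ≫ snd _ _)) ≫ (φ j).1 = (M ◁ (q ≫ snd _ _)) ≫ (φ l).1 :=
      congrArg Subtype.val (hφ j l W _ _ ht)
    have e2 : ∀ {Q : Over (Spec (CommRingCat.of k))} (r : W ⟶ M ⊗ Q),
        r = lift (r ≫ fst _ _) (𝟙 W) ≫ (M ◁ (r ≫ snd _ _)) := fun {Q} r => by
      rw [lift_whiskerLeft, Category.id_comp, lift_comp_fst_snd]
    rw [e2 p, e2 q, Category.assoc, Category.assoc, e, hn]
  have heq : MonAct.IsEquivariant (ρ.prod (MonAct.trivial G T)) a χ := by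
    unfold MonAct.IsEquivariant
    rw [← cancel_epi (α_ G M T).hom]
    refine Groth.MiscGeom.Mag.whiskerLeft_cover_ext 𝒰 fun j => ?_
    have h := (φ j).2
    unfold MonAct.IsEquivariant at h
    rw [associator_naturality_right_assoc, associator_naturality_right_assoc,
      ← MonAct.prod_trivial_act_whiskerLeft_assoc, hχ, ← whiskerLeft_comp_assoc G, hχ]
    exact congrArg _ h
  refine ⟨⟨χ, heq⟩, fun j => Subtype.ext (hχ j), fun b hb => Subtype.ext
    (Groth.MiscGeom.Mag.whiskerLeft_cover_ext 𝒰 fun j => ?_)⟩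
  exact (congrArg Subtype.val (hb j)).trans (hχ j).symm

variable [MonObj M] [MonObj G] (i : G ⟶ M) [IsMonHom i]
  [QuasiCompact i.left] [IsSchemeTheoreticallyDominant i.left] (a : MonAct G X)

omit [QuasiCompact i.left] [IsSchemeTheoreticallyDominant i.left] [MonObj M] [IsMonHom i] in
/-- A stable open carries the action. -/
theorem exists_restrict_action (U : X.left.Opens) (hU : (snd G X).left ⁻¹ᵁ U ≤ a.act.left ⁻¹ᵁ U) :
    ∃ b : MonAct G (Over.mk (U.ι ≫ X.hom)),
      MonAct.IsEquivariant b a (Over.homMk U.ι : Over.mk (U.ι ≫ X.hom) ⟶ X) := by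
  let jU : Over.mk (U.ι ≫ X.hom) ⟶ X := Over.homMk U.ι
  haveI : Mono jU.left := inferInstanceAs (Mono U.ι)
  haveI : Mono jU := (Over.forget _).mono_of_mono_map (inferInstanceAs (Mono U.ι))
  have hr : Set.range ((G ◁ jU) ≫ a.act).left ⊆ Set.range U.ι := by
    rintro _ ⟨p, rfl⟩
    rw [Scheme.Opens.range_ι]
    rw [Over.comp_left, Scheme.Hom.comp_apply]
    refine hU ?_
    show (snd G X).left ((G ◁ jU).left p) ∈ U
    have h2 : (G ◁ jU).left ≫ (snd G X).left = (snd G _).left ≫ U.ι :=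
      congrArg (fun m => m.left) (whiskerLeft_snd G jU)
    rw [← Scheme.Hom.comp_apply, h2, Scheme.Hom.comp_apply]
    exact (Scheme.Opens.range_ι U).subset ⟨_, rfl⟩
  let c : G ⊗ Over.mk (U.ι ≫ X.hom) ⟶ Over.mk (U.ι ≫ X.hom) :=
    Over.homMk (IsOpenImmersion.lift U.ι _ hr) ((Category.assoc _ _ _).symm.trans
      ((congrArg (· ≫ X.hom) (IsOpenImmersion.lift_fac _ _ _)).trans (Over.w ((G ◁ jU) ≫ a.act))))
  have hc : c ≫ jU = (G ◁ jU) ≫ a.act := Over.OverMorphism.ext (IsOpenImmersion.lift_fac _ _ _)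
  refine ⟨MonAct.mk' c (fun T x => ?_) (fun T g h x => ?_), hc⟩
  · rw [← cancel_mono jU, Category.assoc, hc, lift_whiskerLeft_assoc, a.lift_one_act]
  · rw [← cancel_mono jU, Category.assoc, Category.assoc, hc, lift_whiskerLeft_assoc, lift_whiskerLeft_assoc,
      a.lift_mul_act]
    congr 2
    rw [Category.assoc, hc, lift_whiskerLeft_assoc]

theorem exists_representableBy_of_covered [IsAffine M.left] [IsAffine G.left]
    (o : 𝟙_ (Over (Spec (CommRingCat.of k))) ⟶ M)
    (ho : ∀ (T : Over (Spec (CommRingCat.of k))) (m : T ⟶ M), m * (toUnit T ≫ o) = toUnit T ≫ o)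
    (hM : ∀ (T : Over (Spec (CommRingCat.of k))) (K : Type u) [Field K] (_ : T.left ≅ Spec (CommRingCat.of K))
      (W : (M ⊗ T).left.Opens),
      (snd G (M ⊗ T)).left ⁻¹ᵁ W ≤
          ((((MonAct.regular M).restrict i).prod (MonAct.trivial G T)).act).left ⁻¹ᵁ W →
      (lift (toUnit T ≫ o) (𝟙 T)).left ⁻¹ᵁ W = ⊤ → W = ⊤)
    (hcov : ∀ (T : Over (Spec (CommRingCat.of k))) (x : (MonAct.fixedPsh a).obj (op T)),
      ⨆ (U : X.left.Opens) (_ : IsAffineOpen U ∧ (snd G X).left ⁻¹ᵁ U ≤ a.act.left ⁻¹ᵁ U), x.1.left ⁻¹ᵁ U = ⊤) :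
    (MonAct.eqvHom ((MonAct.regular M).restrict i) a).IsRepresentable := by
  let F := MonAct.eqvHom ((MonAct.regular M).restrict i) a
  let I := {U : X.left.Opens // IsAffineOpen U ∧ (snd G X).left ⁻¹ᵁ U ≤ a.act.left ⁻¹ᵁ U}
  have hchart : ∀ U : I, ∃ (H : Over (Spec (CommRingCat.of k))) (ξ : F.obj (op H)),
      Set.range ξ.1.left ⊆ (U.1 : Set X.left) ∧
      ∀ (T : Over (Spec (CommRingCat.of k))) (φ : F.obj (op T)),
        Set.range φ.1.left ⊆ (U.1 : Set X.left) → ∃! t : T ⟶ H, F.map t.op ξ = φ := by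
    rintro ⟨U, hU, hst⟩
    obtain ⟨b, hb⟩ := exists_restrict_action a U hst
    let jU : Over.mk (U.ι ≫ X.hom) ⟶ X := Over.homMk U.ι
    haveI : Mono jU := (Over.forget _).mono_of_mono_map (inferInstanceAs (Mono U.ι))
    haveI : IsAffine (Over.mk (U.ι ≫ X.hom)).left := hU
    obtain ⟨H, -, e, -, -⟩ := exists_representableBy i b
    let ξ : F.obj (op H) := (MonAct.eqvHom.postcomp ((MonAct.regular M).restrict i) jU hb).app (op H) (e.homEquiv (𝟙 H))
    have hξ : ∀ {T : Over (Spec (CommRingCat.of k))} (t : T ⟶ H),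
        F.map t.op ξ = (MonAct.eqvHom.postcomp ((MonAct.regular M).restrict i) jU hb).app (op T) (e.homEquiv t) := by
      intro T t
      rw [e.homEquiv_eq t]
      exact (NatTrans.naturality_apply _ t.op _).symm
    refine ⟨H, ξ, ?_, fun T φ hφ => ?_⟩
    · rintro _ ⟨p, rfl⟩
      exact (Scheme.Opens.range_ι U).subset ⟨(e.homEquiv (𝟙 H)).1.left p, rfl⟩
    let χ : M ⊗ T ⟶ Over.mk (U.ι ≫ X.hom) :=
      Over.homMk (IsOpenImmersion.lift U.ι φ.1.left (hφ.trans (Scheme.Opens.range_ι U).symm.subset))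
        ((Category.assoc _ _ _).symm.trans ((congrArg (· ≫ X.hom) (IsOpenImmersion.lift_fac _ _ _)).trans
          (Over.w φ.1)))
    have hχ : χ ≫ jU = φ.1 := Over.OverMorphism.ext (IsOpenImmersion.lift_fac _ _ _)
    have hχe : MonAct.IsEquivariant (((MonAct.regular M).restrict i).prod (MonAct.trivial G T)) b χ := by
      have h := φ.2
      unfold MonAct.IsEquivariant at h ⊢
      have hb' := hb
      unfold MonAct.IsEquivariant at hb'
      apply (cancel_mono jU).1
      rw [Category.assoc, Category.assoc, hb', ← whiskerLeft_comp_assoc, hχ]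
      exact h
    refine ⟨e.homEquiv.symm ⟨χ, hχe⟩, ?_, fun t ht => e.homEquiv.injective ?_⟩
    · show F.map _ ξ = φ
      rw [hξ, Equiv.apply_symm_apply]
      exact Subtype.ext hχ
    · rw [Equiv.apply_symm_apply]
      refine Subtype.ext ((cancel_mono jU).1 ?_)
      rw [hχ, ← ht]
      exact (congrArg Subtype.val (hξ t)).symm
  choose H ξ hξ hu using hchart
  let pt : ∀ (T : Over (Spec (CommRingCat.of k))), T ⟶ M ⊗ T := fun T => lift (toUnit T ≫ o) (𝟙 T)
  have hfix : ∀ {T : Over (Spec (CommRingCat.of k))} (φ : F.obj (op T)) (T' : Over (Spec (CommRingCat.of k)))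
      (t : T' ⟶ T) (g : T' ⟶ G), lift g (t ≫ pt T ≫ φ.1) ≫ a.act = t ≫ pt T ≫ φ.1 := by
    intro T φ T' t g
    have e := (MonAct.mem_eqvHom_iff (ρ := (MonAct.regular M).restrict i) (a := a) φ.1).1 φ.2 T' g (toUnit T' ≫ o) t
    rw [MonAct.lift_restrict_act, MonAct.lift_regular_act, ho] at e
    have e2 : t ≫ pt T ≫ φ.1 = lift (toUnit T' ≫ o) t ≫ φ.1 := by
      simp [pt, comp_lift_assoc]
    rw [e2]
    exact e.symm
  have hrange : ∀ (U : I) {T : Over (Spec (CommRingCat.of k))} (φ : F.obj (op T)),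
      (pt T ≫ φ.1).left ⁻¹ᵁ U.1 = ⊤ ↔ Set.range φ.1.left ⊆ (U.1 : Set X.left) := by
    intro U T φ
    refine ⟨fun h => ?_, fun h => top_le_iff.1 fun t _ => h ⟨(pt T).left t, rfl⟩⟩
    rintro _ ⟨z, rfl⟩
    let Tt : Over (Spec (CommRingCat.of k)) := Over.mk (T.left.fromSpecResidueField ((snd M T).left z) ≫ T.hom)
    let τ : Tt ⟶ T := Over.homMk (T.left.fromSpecResidueField ((snd M T).left z))
    let W : (M ⊗ Tt).left.Opens := ((M ◁ τ) ≫ φ.1).left ⁻¹ᵁ U.1
    have hW : W = ⊤ := by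
      refine hM Tt (T.left.residueField ((snd M T).left z)) (Iso.refl _) W (fun p hp => ?_) ?_
      · let ψ := F.map τ.op φ
        have he : ((((MonAct.regular M).restrict i).prod (MonAct.trivial G Tt)).act ≫ ψ.1) =
            (G ◁ ψ.1) ≫ a.act := ψ.2
        show (((M ◁ τ) ≫ φ.1).left) (((((MonAct.regular M).restrict i).prod (MonAct.trivial G Tt)).act).left p) ∈ U.1
        have e1 : ((((MonAct.regular M).restrict i).prod (MonAct.trivial G Tt)).act).left ≫ ((M ◁ τ) ≫ φ.1).left =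
            (G ◁ ψ.1).left ≫ a.act.left := congrArg (fun m => m.left) he
        rw [← Scheme.Hom.comp_apply, e1, Scheme.Hom.comp_apply]
        refine U.2.2 ?_
        show (snd G X).left ((G ◁ ψ.1).left p) ∈ U.1
        have e2 : (G ◁ ψ.1).left ≫ (snd G X).left = (snd G (M ⊗ Tt)).left ≫ ψ.1.left :=
          congrArg (fun m => m.left) (whiskerLeft_snd G ψ.1)
        rw [← Scheme.Hom.comp_apply, e2, Scheme.Hom.comp_apply]
        exact hp
      · have e : lift (toUnit Tt ≫ o) (𝟙 Tt) ≫ (M ◁ τ) ≫ φ.1 = τ ≫ pt T ≫ φ.1 := by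
          simp [pt, comp_lift_assoc]
        show (lift (toUnit Tt ≫ o) (𝟙 Tt) ≫ (M ◁ τ) ≫ φ.1).left ⁻¹ᵁ U.1 = ⊤
        rw [e]
        exact top_le_iff.1 fun t _ => h.ge (Set.mem_univ (τ.left t))
    obtain ⟨w, hw, -⟩ := Scheme.exists_preimage_of_isPullback (Groth.MiscGeom.Mag.isPullback_whiskerLeft M τ)
      z (IsLocalRing.closedPoint _) (Scheme.fromSpecResidueField_apply _ _).symm
    have := hW.ge (Set.mem_univ w)
    rw [← hw]
    exact this
  exact OverRep.Atlas.representable (F := F)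
    ⟨I, H, ξ, fun U T φ => (pt T ≫ φ.1).left ⁻¹ᵁ U.1
      , fun U T T' g φ => by
        have e : pt T' ≫ (M ◁ g) ≫ φ.1 = g ≫ pt T ≫ φ.1 := by
          simp [pt, comp_lift_assoc]
        show (pt T' ≫ (M ◁ g) ≫ φ.1).left ⁻¹ᵁ U.1 = _
        rw [e]
        rfl
      , fun U => (hrange U _).2 (hξ U)
      , fun U T φ h => hu U T φ ((hrange U φ).1 h)
      , fun T φ t => by
        have := hcov T ⟨pt T ≫ φ.1, hfix φ⟩
        have ht : t ∈ (⊤ : T.left.Opens) := trivial
        rw [← this] at ht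
        simp only [TopologicalSpace.Opens.mem_iSup] at ht
        obtain ⟨U, hU, ht⟩ := ht
        exact ⟨⟨U, hU⟩, ht⟩⟩
    fun T 𝒰 => isSheafCover_eqvHom _ a 𝒰

end Groth.Flatmor4.EqvExt
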