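import Groth.Agent.MiscGeom.MagnetBase
import Groth.Agent.Limits.LfpCriterion
import Groth.Agent.Limits.DescentSetup
import Groth.Prelude.Def_Magnet2

/-!
The functor of equivariant maps out of an affine family commutes with limits of affine schemes.
-/

set_option autoImplicit false
set_option linter.style.haveILetI false
set_option backward.isDefEq.respectTransparency.types false

universe u

open CategoryTheory CategoryTheory.Limits MonoidalCategory CartesianMonoidalCategory MonObj AlgebraicGeometry Opposite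
open Magnet

noncomputable section

namespace Groth.Flatmor4.EqvLfp

variable {S : Scheme.{u}} {J : Type u} [Preorder J] [IsDirected J (· ≤ ·)] [Nonempty J] (D : Jᵒᵖ ⥤ Scheme.{u})
  [∀ j, IsAffine (D.obj j)] (t : D ⟶ (Functor.const Jᵒᵖ).obj S) {c : Cone D} (hc : IsLimit c)
  (τ : c.pt ⟶ S) (hτ : ∀ j, c.π.app j ≫ t.app j = τ)

/-- A stage as a scheme over `S`. -/
abbrev stage (j : Jᵒᵖ) : Over S := Over.mk (t.app j)

/-- The transition between stages. -/
abbrev trans {j k : Jᵒᵖ} (m : j ⟶ k) : stage D t j ⟶ stage D t k :=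
  Over.homMk (D.map m) ((t.naturality m).trans (Category.comp_id _))

/-- The projection to a stage. -/
abbrev proj (j : Jᵒᵖ) : Over.mk τ ⟶ stage D t j := Over.homMk (c.π.app j) (hτ j)

omit [IsDirected J (· ≤ ·)] [Nonempty J] [∀ j, IsAffine (D.obj j)] in
theorem bcDiagram_map (B : Over S) {j k : Jᵒᵖ} (m : j ⟶ k) :
    (B ◁ trans D t m).left = (Groth.Limits.bcDiagram t B.hom).map m := by
  refine pullback.hom_ext ?_ ?_
  · refine (congrArg (fun z => z.left) (whiskerLeft_fst B (trans D t m))).trans ?_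
    exact (pullback.lift_fst _ _ _).symm
  · refine (congrArg (fun z => z.left) (whiskerLeft_snd B (trans D t m))).trans ?_
    exact (pullback.lift_snd _ _ _).symm

omit [IsDirected J (· ≤ ·)] [Nonempty J] [∀ j, IsAffine (D.obj j)] in
theorem bcCone_app (B : Over S) (j : Jᵒᵖ) :
    (B ◁ proj D t τ hτ j).left = (Groth.Limits.bcCone t B.hom c τ hτ).π.app j := by
  refine pullback.hom_ext ?_ ?_
  · refine (congrArg (fun z => z.left) (whiskerLeft_fst B (proj D t τ hτ j))).trans ?_
    exact (pullback.lift_fst _ _ _).symm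
  · refine (congrArg (fun z => z.left) (whiskerLeft_snd B (proj D t τ hτ j))).trans ?_
    exact (pullback.lift_snd _ _ _).symm

omit [IsDirected J (· ≤ ·)] [Nonempty J] in
theorem isAffine_bc (B : Over S) [IsAffineHom B.hom] (j : Jᵒᵖ) : IsAffine ((Groth.Limits.bcDiagram t B.hom).obj j) :=
  @isAffine_of_isAffineHom _ _ (pullback.snd B.hom (t.app j))
    (MorphismProperty.pullback_snd (P := @IsAffineHom) _ _ inferInstance) inferInstance

omit [IsDirected J (· ≤ ·)] [Nonempty J] in
theorem isAffineHom_bc (B : Over S) [IsAffineHom B.hom] {j k : Jᵒᵖ} (m : j ⟶ k) :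
    IsAffineHom ((Groth.Limits.bcDiagram t B.hom).map m) :=
  haveI := isAffine_bc D t B j
  haveI := isAffine_bc D t B k
  isAffineHom_of_isAffine _

include hc in
theorem exists_stage_hom (B : Over S) [IsAffineHom B.hom] {X : Over S} [LocallyOfFinitePresentation X.hom]
    (g : B ⊗ Over.mk τ ⟶ X) :
    ∃ (j : Jᵒᵖ) (gj : B ⊗ stage D t j ⟶ X), (B ◁ proj D t τ hτ j) ≫ gj = g := by
  let E := Groth.Limits.bcDiagram t B.hom
  haveI : ∀ {j k : Jᵒᵖ} (m : j ⟶ k), IsAffineHom (E.map m) := fun m => isAffineHom_bc D t B m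
  haveI : ∀ j, IsAffine (E.obj j) := fun j => isAffine_bc D t B j
  let tE : E ⟶ (Functor.const Jᵒᵖ).obj S :=
    { app := fun j => pullback.fst B.hom (t.app j) ≫ B.hom
      naturality := fun j k m => (Category.assoc _ _ _).symm.trans
        ((congrArg (· ≫ B.hom) (pullback.lift_fst _ _ _)).trans (Category.comp_id _).symm) }
  obtain ⟨j, gj, h₁, h₂⟩ := Scheme.exists_π_app_comp_eq_of_locallyOfFinitePresentation E tE X.hom
    (Groth.Limits.bcCone t B.hom c τ hτ) (Groth.Limits.isLimitBcCone t B.hom c τ hτ hc) g.left (by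
      ext i : 2
      refine ((Category.assoc _ _ _).symm.trans (congrArg (· ≫ B.hom) (pullback.lift_fst _ _ _))).trans ?_
      exact (Over.w g).symm)
  refine ⟨j, Over.homMk gj h₂, Over.OverMorphism.ext ?_⟩
  show (B ◁ proj D t τ hτ j).left ≫ gj = g.left
  rw [bcCone_app D t τ hτ B j]
  exact h₁

include hc in
theorem exists_stage_eq (B : Over S) [IsAffineHom B.hom] {X : Over S} [LocallyOfFiniteType X.hom]
    {j : Jᵒᵖ} (a b : B ⊗ stage D t j ⟶ X) (h : (B ◁ proj D t τ hτ j) ≫ a = (B ◁ proj D t τ hτ j) ≫ b) :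
    ∃ (k : Jᵒᵖ) (m : k ⟶ j), (B ◁ trans D t m) ≫ a = (B ◁ trans D t m) ≫ b := by
  let E := Groth.Limits.bcDiagram t B.hom
  haveI : ∀ {j k : Jᵒᵖ} (m : j ⟶ k), IsAffineHom (E.map m) := fun m => isAffineHom_bc D t B m
  haveI : ∀ j, IsAffine (E.obj j) := fun j => isAffine_bc D t B j
  let tE : E ⟶ (Functor.const Jᵒᵖ).obj S :=
    { app := fun j => pullback.fst B.hom (t.app j) ≫ B.hom
      naturality := fun j k m => (Category.assoc _ _ _).symm.trans
        ((congrArg (· ≫ B.hom) (pullback.lift_fst _ _ _)).trans (Category.comp_id _).symm) }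
  obtain ⟨k, m, hk⟩ := Scheme.exists_hom_comp_eq_comp_of_locallyOfFiniteType E tE X.hom
    (Groth.Limits.bcCone t B.hom c τ hτ) (Groth.Limits.isLimitBcCone t B.hom c τ hτ hc) a.left b.left
    (Over.w a).symm (Over.w b).symm (by
      rw [← bcCone_app D t τ hτ B j]
      exact congrArg (fun z => z.left) h)
  refine ⟨k, m, Over.OverMorphism.ext ?_⟩
  show (B ◁ trans D t m).left ≫ a.left = (B ◁ trans D t m).left ≫ b.left
  rw [bcDiagram_map D t B m]
  exact hk

end Groth.Flatmor4.EqvLfp

namespace Groth.Flatmor4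

variable {S : Scheme.{u}} {A B X : Over S} [MonObj A] [IsAffineHom A.hom] [IsAffineHom B.hom]

open EqvLfp in
/-- A scheme representing equivariant maps into a finitely presented target is finitely presented. -/
theorem locallyOfFinitePresentation_of_representableBy_eqvHom [LocallyOfFinitePresentation X.hom]
    (ρ : MonAct A B) (a : MonAct A X) {Z : Over S} (e : (MonAct.eqvHom ρ a).RepresentableBy Z) :
    LocallyOfFinitePresentation Z.hom := by
  refine Groth.Limits.locallyOfFinitePresentation_of_exists_factor Z.hom fun U hU J _ _ _ D t c hc hD j₀ g hg => ?_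
  haveI := hD
  let t' : D ⟶ (Functor.const Jᵒᵖ).obj S := t ≫ (Functor.const Jᵒᵖ).map U.ι
  let τ : c.pt ⟶ S := c.π.app j₀ ≫ t'.app j₀
  have hτ : ∀ j, c.π.app j ≫ t'.app j = τ := fun j => by
    have key : ∀ {i k : Jᵒᵖ} (m : i ⟶ k), c.π.app i ≫ t'.app i = c.π.app k ≫ t'.app k := fun {i k} m => by
      rw [← c.w m, Category.assoc]
      have := t'.naturality m
      simp only [Functor.const_obj_map] at this
      exact congrArg (c.π.app i ≫ ·) (this.trans (Category.comp_id _)).symm
    exact (key (IsCofiltered.minToLeft j j₀)).symm.trans (key (IsCofiltered.minToRight j j₀))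
  let gc : Over.mk τ ⟶ Z := Over.homMk g hg
  obtain ⟨j, gj, hgj⟩ := exists_stage_hom D t' hc τ hτ B (e.homEquiv gc).1
  haveI : IsAffineHom (A ⊗ B).hom := by
    have : IsAffineHom (pullback.fst A.hom B.hom ≫ A.hom) :=
      haveI : IsAffineHom (pullback.fst A.hom B.hom) := MorphismProperty.pullback_fst (P := @IsAffineHom) _ _ inferInstance
      inferInstance
    exact this
  obtain ⟨k, m, hm⟩ := exists_stage_eq D t' hc τ hτ (A ⊗ B)
    ((α_ A B (stage D t' j)).hom ≫ (ρ.prod (MonAct.trivial A _)).act ≫ gj)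
    ((α_ A B (stage D t' j)).hom ≫ (A ◁ gj) ≫ a.act) (by
      have h := (e.homEquiv gc).2
      unfold MonAct.IsEquivariant at h
      rw [associator_naturality_right_assoc, associator_naturality_right_assoc,
        ← MonAct.prod_trivial_act_whiskerLeft_assoc, ← whiskerLeft_comp_assoc A, hgj]
      exact congrArg _ h)
  rw [associator_naturality_right_assoc, associator_naturality_right_assoc,
    ← MonAct.prod_trivial_act_whiskerLeft_assoc, ← whiskerLeft_comp_assoc A] at hm
  let φ : (MonAct.eqvHom ρ a).obj (op (stage D t' k)) := ⟨(B ◁ trans D t' m) ≫ gj, (cancel_epi _).1 hm⟩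
  let p : stage D t' k ⟶ Z := e.homEquiv.symm φ
  have hp : proj D t' τ hτ k ≫ p = gc := e.homEquiv.injective (Subtype.ext (by
    rw [e.homEquiv_comp, Equiv.apply_symm_apply]
    show (B ◁ proj D t' τ hτ k) ≫ (B ◁ trans D t' m) ≫ gj = _
    rw [← whiskerLeft_comp_assoc, ← hgj]
    congr 2
    exact Over.OverMorphism.ext (c.w m)))
  exact ⟨k, p.left, Over.w p, congrArg (fun z => z.left) hp⟩

end Groth.Flatmor4
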