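import Mathlib.RingTheory.Flat.Equalizer
import Mathlib.RingTheory.Flat.Stability
import Mathlib.RingTheory.Flat.FaithfullyFlat.Algebra
import Mathlib.RingTheory.Spectrum.Prime.Topology
import Mathlib.Algebra.Algebra.Subalgebra.Prod
import Mathlib.LinearAlgebra.TensorProduct.Prod
import Mathlib.RingTheory.Finiteness.Basic
import Mathlib.RingTheory.Ideal.Quotient.Operations

universe u
open TensorProduct

namespace Groth.Flatmor4

variable (R A B : Type u) [CommRing R] [CommRing A] [CommRing B]
    [Algebra R A] [Algebra R B] (I : Ideal A) [Algebra B (A ⧸ I)] [IsScalarTower R B (A ⧸ I)]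

/-- the difference map `B × A → A ⧸ I` -/
noncomputable def diffMap : B × A →ₗ[R] A ⧸ I :=
  ((IsScalarTower.toAlgHom R B (A ⧸ I)).comp (AlgHom.fst R B A)).toLinearMap -
    ((Ideal.Quotient.mkₐ R I).comp (AlgHom.snd R B A)).toLinearMap

/-- the fibre product as an algebra -/
noncomputable abbrev fibProd : Subalgebra R (B × A) :=
  AlgHom.equalizer ((IsScalarTower.toAlgHom R B (A ⧸ I)).comp (AlgHom.fst R B A))
    ((Ideal.Quotient.mkₐ R I).comp (AlgHom.snd R B A))

lemma diffMap_surjective : Function.Surjective (diffMap R A B I) := by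
  intro c
  obtain ⟨a, rfl⟩ := Ideal.Quotient.mk_surjective c
  exact ⟨(0, -a), by simp [diffMap]⟩

lemma diffMap_exact :
    Function.Exact (fibProd R A B I).val.toLinearMap (diffMap R A B I) := by
  intro p
  constructor
  · intro h
    exact ⟨⟨p, sub_eq_zero.mp h⟩, rfl⟩
  · rintro ⟨x, rfl⟩
    exact sub_eq_zero.mpr x.2

lemma flat_prod {R P Q : Type u} [CommRing R] [AddCommGroup P] [Module R P] [AddCommGroup Q]
    [Module R Q] [Module.Flat R P] [Module.Flat R Q] : Module.Flat R (P × Q) := by
  rw [Module.Flat.iff_rTensor_preserves_injective_linearMap]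
  intro M N _ _ _ _ g hg x y hxy
  apply (TensorProduct.prodRight R R M P Q).injective
  have key : ∀ z, TensorProduct.prodRight R R N P Q (g.rTensor (P × Q) z) =
      (g.rTensor P (TensorProduct.prodRight R R M P Q z).1,
        g.rTensor Q (TensorProduct.prodRight R R M P Q z).2) := by
    intro z
    induction z with
    | zero => simp [Prod.zero_eq_mk]
    | tmul m p => simp
    | add z w hz hw => simp [hz, hw]
  have h := congr_arg (TensorProduct.prodRight R R N P Q) hxy
  rw [key, key, Prod.ext_iff] at h
  exact Prod.ext (Module.Flat.rTensor_preserves_injective_linearMap g hg h.1)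
    (Module.Flat.rTensor_preserves_injective_linearMap g hg h.2)

theorem fibProd_flat [Module.Flat R A] [Module.Flat R B] [Module.Flat B (A ⧸ I)] :
    Module.Flat R (fibProd R A B I) := by
  haveI : Module.Flat R (A ⧸ I) := Module.Flat.trans R B (A ⧸ I)
  rw [Module.Flat.iff_rTensor_preserves_injective_linearMap]
  intro M N _ _ _ _ g hg
  let j := (fibProd R A B I).val.toLinearMap
  have hj : Function.Injective (j.lTensor M) :=
    LinearMap.lTensor_injective_of_exact_of_flat (diffMap R A B I) (diffMap_surjective R A B I) j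
      Subtype.val_injective (diffMap_exact R A B I) M
  intro x y hxy
  apply hj
  haveI := flat_prod (R := R) (P := B) (Q := A)
  apply Module.Flat.rTensor_preserves_injective_linearMap (M := B × A) g hg
  have := congr_arg (j.lTensor N) hxy
  rwa [← LinearMap.comp_apply, ← LinearMap.comp_apply, LinearMap.lTensor_comp_rTensor,
    ← LinearMap.rTensor_comp_lTensor] at this

variable (R' : Type u) [CommRing R'] [Algebra R R']

lemma lTensor_algebraMap_injective [Module.Finite B (A ⧸ I)] [Module.Flat B (A ⧸ I)]
    (hinj : Function.Injective (algebraMap B (A ⧸ I))) :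
    Function.Injective ((IsScalarTower.toAlgHom R B (A ⧸ I)).toLinearMap.lTensor R') := by
  haveI : FaithfulSMul B (A ⧸ I) := (faithfulSMul_iff_algebraMap_injective _ _).mpr hinj
  haveI : Algebra.IsIntegral B (A ⧸ I) := Algebra.IsIntegral.of_finite B (A ⧸ I)
  haveI : Module.FaithfullyFlat B (A ⧸ I) :=
    Module.FaithfullyFlat.of_comap_surjective
      ((RingHom.IsIntegral.comap_surjective (f := algebraMap B (A ⧸ I))
        (Algebra.IsIntegral.isIntegral)) hinj)
  rw [LinearMap.lTensor_inj_iff_rTensor_inj]
  have h := (TensorProduct.AlgebraTensorModule.cancelBaseChange R B B (A ⧸ I) R').injective.comp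
    (Module.FaithfullyFlat.tensorProduct_mk_injective (A := B) (B := A ⧸ I) (B ⊗[R] R'))
  intro x y hxy
  apply h
  have key : ∀ z : B ⊗[R] R', TensorProduct.AlgebraTensorModule.cancelBaseChange R B B (A ⧸ I) R'
      (1 ⊗ₜ[B] z) = (IsScalarTower.toAlgHom R B (A ⧸ I)).toLinearMap.rTensor R' z := by
    intro z
    induction z with
    | zero => simp
    | tmul b r => simp [Algebra.algebraMap_eq_smul_one]
    | add z w hz hw => simp [tmul_add, hz, hw]
  simpa only [Function.comp_apply, TensorProduct.mk_apply, key] using hxy

theorem fibProd_baseChange [Module.Flat R A] [Module.Flat R B] [Module.Finite B (A ⧸ I)]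
    [Module.Flat B (A ⧸ I)] (hinj : Function.Injective (algebraMap B (A ⧸ I))) :
    Function.Injective (((AlgHom.snd R B A).comp (fibProd R A B I).val).toLinearMap.lTensor R') ∧
    ∀ (b : R' ⊗[R] B) (a : R' ⊗[R] A),
      (IsScalarTower.toAlgHom R B (A ⧸ I)).toLinearMap.lTensor R' b =
        (Ideal.Quotient.mkₐ R I).toLinearMap.lTensor R' a →
      ∃ x : R' ⊗[R] (fibProd R A B I),
        ((AlgHom.fst R B A).comp (fibProd R A B I).val).toLinearMap.lTensor R' x = b ∧
        ((AlgHom.snd R B A).comp (fibProd R A B I).val).toLinearMap.lTensor R' x = a := by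
  haveI : Module.Flat R (A ⧸ I) := Module.Flat.trans R B (A ⧸ I)
  let j := (fibProd R A B I).val.toLinearMap
  let e := TensorProduct.prodRight R R R' B A
  have hj : Function.Injective (j.lTensor R') :=
    LinearMap.lTensor_injective_of_exact_of_flat (diffMap R A B I) (diffMap_surjective R A B I) j
      Subtype.val_injective (diffMap_exact R A B I) R'
  have he : ∀ x, e (j.lTensor R' x) =
      (((AlgHom.fst R B A).comp (fibProd R A B I).val).toLinearMap.lTensor R' x,
        ((AlgHom.snd R B A).comp (fibProd R A B I).val).toLinearMap.lTensor R' x) := by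
    intro x
    induction x with
    | zero => simp [Prod.zero_eq_mk]
    | tmul r p => simp [e, j]
    | add z w hz hw => simp [hz, hw]
  have hd : ∀ z, (diffMap R A B I).lTensor R' z =
      (IsScalarTower.toAlgHom R B (A ⧸ I)).toLinearMap.lTensor R' (e z).1 -
        (Ideal.Quotient.mkₐ R I).toLinearMap.lTensor R' (e z).2 := by
    intro z
    induction z with
    | zero => simp
    | tmul r p => simp [e, diffMap, tmul_sub]
    | add z w hz hw => simp [hz, hw]; abel
  have hex := lTensor_exact R' (diffMap_exact R A B I) (diffMap_surjective R A B I)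
  refine ⟨?_, fun b a hab => ?_⟩
  · refine (injective_iff_map_eq_zero _).mpr fun x hx => hj ?_
    rw [map_zero]
    apply e.injective
    rw [map_zero, he]
    refine Prod.ext (lTensor_algebraMap_injective R A B I R' hinj ?_) hx
    have := hd (j.lTensor R' x)
    rw [(hex _).mpr ⟨x, rfl⟩, he] at this
    simp only [hx, map_zero, sub_zero] at this
    simpa using this.symm
  · obtain ⟨x, hx⟩ := (hex (e.symm (b, a))).mp (by simp [hd, hab])
    refine ⟨x, ?_⟩
    have := he x
    rw [show j.lTensor R' x = e.symm (b, a) from hx, LinearEquiv.apply_symm_apply] at this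
    exact ⟨(congr_arg Prod.fst this).symm, (congr_arg Prod.snd this).symm⟩

end Groth.Flatmor4
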