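import Groth.Agent.Flatmor4.GenericSpecialize
import Groth.Agent.FlatMor2.FibCrit.Open

/-!
Fibre dimensions of flat morphisms near generic points of fibres.
-/

set_option autoImplicit false
set_option linter.style.haveILetI false

universe u

open CategoryTheory AlgebraicGeometry MvPolynomial

namespace Groth.Flatmor4

/-- For a flat morphism locally of finite presentation, fibre dimensions near a point are at least
the height of the point in its fibre. -/
theorem exists_open_height_le_fibreDimAt {X Y : Scheme.{u}} (f : X ⟶ Y) [Flat f]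
    [LocallyOfFinitePresentation f] (x : X) :
    ∃ W : X.Opens, x ∈ W ∧
      ∀ x' ∈ W, ((Order.height (f.asFiber x) : ℕ∞) : WithBot ℕ∞) ≤ FlatMor.fibreDimAt f x' := by
  obtain ⟨U, hU, hxU, -⟩ := exists_isAffineOpen_mem_and_subset (U := ⊤) (Set.mem_univ (f x))
  obtain ⟨V, hV, hxV, hVU⟩ := exists_isAffineOpen_mem_and_subset (U := f ⁻¹ᵁ U) hxU
  have e : V ≤ f ⁻¹ᵁ U := hVU
  letI := (f.appLE U V e).hom.toAlgebra
  haveI : Module.Flat Γ(Y, U) Γ(X, V) := f.flat_appLE hU hV e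
  haveI : Algebra.FinitePresentation Γ(Y, U) Γ(X, V) := f.finitePresentation_appLE hU hV e
  obtain ⟨n, v, hn, hq⟩ := exists_comap_aeval_eq f hU hV e hxV
  letI aB := (aeval (R := Γ(Y, U)) v).toRingHom.toAlgebra
  haveI : IsScalarTower Γ(Y, U) (MvPolynomial (Fin n) Γ(Y, U)) Γ(X, V) :=
    IsScalarTower.of_algebraMap_eq fun r => ((aeval (R := Γ(Y, U)) v).commutes r).symm
  have hfl : ∀ q : PrimeSpectrum Γ(X, V),
      Module.Flat Γ(Y, U) (Localization.AtPrime (q.asIdeal.under (MvPolynomial (Fin n) Γ(Y, U)))) := by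
    intro q
    haveI : Module.Flat (MvPolynomial (Fin n) Γ(Y, U))
      (Localization.AtPrime (q.asIdeal.under (MvPolynomial (Fin n) Γ(Y, U)))) :=
      IsLocalization.flat _ (q.asIdeal.under (MvPolynomial (Fin n) Γ(Y, U))).primeCompl
    exact Module.Flat.trans Γ(Y, U) (MvPolynomial (Fin n) Γ(Y, U)) _
  have hO := FlatMor2.FibCrit.isOpen_both Γ(Y, U) (MvPolynomial (Fin n) Γ(Y, U)) Γ(X, V)
  refine ⟨⟨_, hV.fromSpec.isOpenEmbedding.isOpenMap _ hO⟩, ⟨hV.primeIdealOf ⟨x, hxV⟩,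
    ⟨hfl _, flat_mvPolynomial_atPrime v _ hq⟩, hV.fromSpec_primeIdealOf _⟩, ?_⟩
  rintro _ ⟨q', ⟨-, hq'⟩, rfl⟩
  obtain ⟨P, hPp, hPle, hP⟩ := exists_prime_le_of_flat v q'.asIdeal hq' q'.asIdeal le_rfl
  let z := hV.fromSpec ⟨P, hPp⟩
  have hzV : z ∈ V := hV.range_fromSpec.le ⟨_, rfl⟩
  have hzP : hV.primeIdealOf ⟨z, hzV⟩ = ⟨P, hPp⟩ :=
    hV.fromSpec.isEmbedding.injective (hV.fromSpec_primeIdealOf _)
  have hzx : z ⤳ hV.fromSpec q' :=
    ((PrimeSpectrum.le_iff_specializes ⟨P, hPp⟩ q').1 hPle).map hV.fromSpec.continuous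
  have hnz := natCast_le_height_asFiber f hU hV e hzV v (by rw [hzP]; exact hP)
  rw [hn]
  exact (WithBot.coe_le_coe.mpr hnz).trans ((height_asFiber_le_fibreDimAt f z).trans
    (FibreDim.fibreDimAt_le_of_specializes f hzx))

theorem exists_opens_fibreDim_pieces {X S : Scheme.{u}} (f : X ⟶ S) [Flat f]
    [LocallyOfFinitePresentation f] :
    ∃ U : ℕ → X.Opens, (∀ s : S, Dense ((f.fiberι s) ⁻¹' ((⨆ d, U d : X.Opens) : Set ↑X))) ∧
      ∀ (d : ℕ) (x : X), x ∈ U d → FlatMor.fibreDimAt f x = d := by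
  refine ⟨fun d => ⟨interior {x | FlatMor.fibreDimAt f x = d}, isOpen_interior⟩, fun s w => ?_,
    fun d x hx => (interior_subset (s := {x | FlatMor.fibreDimAt f x = (d : WithBot ℕ∞)}) hx :)⟩
  obtain ⟨η, hη, hsp⟩ := FibreDim.exists_max_specializes w
  refine closure_mono (Set.singleton_subset_iff.mpr ?_) (specializes_iff_mem_closure.mp hsp)
  have hz : ∀ z', f.base z' = f.base (f.fiberι s η) → z' ⤳ f.fiberι s η → z' = f.fiberι s η := by
    intro z' hz' hsp'
    obtain ⟨a, rfl⟩ : z' ∈ Set.range (f.fiberι s).base := by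
      rw [f.range_fiberι]
      exact hz'.trans (FibreDim.apply_fiberι f s η)
    have ha : a ⤳ η := (f.fiberι s).isEmbedding.toIsInducing.specializes_iff.1 hsp'
    exact congrArg _ (ha.antisymm (hη ha)).eq
  obtain ⟨hd, -⟩ := FibreDim.fibreDimAt_eq_height_of_max f hz
  obtain ⟨t, e, ht, -, -, -⟩ := FibreDim.exists_fibre_quantities f (f.fiberι s η)
  rw [ht] at hd
  obtain ⟨W, hW, hWd⟩ := exists_open_height_le_fibreDimAt f (f.fiberι s η)
  rw [ht] at hWd
  refine Set.mem_preimage.mpr (TopologicalSpace.Opens.mem_iSup.mpr ⟨t, mem_interior.mpr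
    ⟨(W : Set X) ∩ {x | FlatMor.fibreDimAt f x ≤ t}, fun a ha => le_antisymm ha.2 (hWd a ha.1),
      W.isOpen.inter (FibreDim.isOpen_fibreDimAt_le f t), hW, hd.le⟩⟩)

end Groth.Flatmor4
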