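import Mathlib
import Groth.Agent.S1386
import Groth.Agent.S2156
import Groth.Agent.SpectralTopology.ConsBase
import Groth.Agent.PropsBasic2.Misc

/-!
The fibrewise criterion of smoothness.
-/

set_option autoImplicit false
set_option linter.style.haveILetI false
set_option backward.isDefEq.respectTransparency.types false

universe u

open CategoryTheory CategoryTheory.Limits AlgebraicGeometry

namespace Groth.Flatmor4

variable {X Y S : Scheme.{u}}

/-- A morphism over `S` from a flat scheme whose fibre map at `s` is smooth is flat on the target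
and smooth at every point over `s`. -/
theorem flat_and_mem_smoothLocus_of_fibre (g : Y ⟶ S) (h : X ⟶ S)
    [LocallyOfFinitePresentation g] [LocallyOfFinitePresentation h] [Flat h]
    (f : X ⟶ Y) [LocallyOfFinitePresentation f] (w : f ≫ g = h) (x : X)
    (hs : Smooth (pullback.snd f (g.fiberι (g (f x))))) :
    (g.stalkMap (f x)).hom.Flat ∧ x ∈ f.smoothLocus := by
  subst w
  set s := g (f x)
  let e := Groth.SpectralTopology.isPullback_fiberMap f g s
  haveI hfm : Smooth (MoreMor.fiberMap f g s) := by
    rw [← e.isoPullback_hom_snd]; infer_instance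
  have hflat := ((Groth.Agent.S1386.result f g).1 x).1
    ⟨Flat.stalkMap (f ≫ g) x, Flat.stalkMap (MoreMor.fiberMap f g s) _⟩
  refine ⟨hflat.1, ?_⟩
  haveI : LocallyOfFinitePresentation (f.fiberToSpecResidueField (f x)) :=
    MorphismProperty.pullback_snd _ _ inferInstance
  refine (Groth.Agent.S2156.result f x).2 ⟨hflat.2, ?_⟩
  -- the fibre over `f x` is a base change of the fibre map over `s`
  let j : Spec (Y.residueField (f x)) ⟶ g.fiber s :=
    pullback.lift (Y.fromSpecResidueField (f x)) (Spec.map (g.residueFieldMap (f x)))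
      (g.SpecMap_residueFieldMap_fromSpecResidueField (f x)).symm
  have hj : j ≫ g.fiberι s = Y.fromSpecResidueField (f x) := pullback.lift_fst _ _ _
  let m : f.fiber (f x) ⟶ (f ≫ g).fiber s :=
    e.lift (f.fiberι (f x)) (f.fiberToSpecResidueField (f x) ≫ j) (by
      rw [f.fiber_fac, Category.assoc, hj])
  have hsq : IsPullback m (f.fiberToSpecResidueField (f x)) (MoreMor.fiberMap f g s) j := by
    refine IsPullback.of_right ?_ (e.lift_snd _ _ _) e
    rw [e.lift_fst, hj]
    exact Groth.SpectralTopology.isPullback_fiber f (f x)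
  haveI : Smooth (f.fiberToSpecResidueField (f x)) := MorphismProperty.of_isPullback hsq hfm
  rw [Scheme.Hom.smoothLocus_eq_top]
  trivial

theorem smooth_opens (f : X ⟶ Y) [LocallyOfFinitePresentation f] :
    Smooth (f.smoothLocus.ι ≫ f) := by
  rw [← Scheme.Hom.smoothLocus_eq_top_iff, ← Scheme.Hom.preimage_smoothLocus_eq]
  exact top_le_iff.mp fun a _ ↦ a.2

end Groth.Flatmor4
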