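import Groth.Agent.Flatmor4.MiracleScheme
import Groth.Agent.VectorBundles.RegularNormal
import Groth.Agent.Ega4Algebra1.RegularLocal
import Groth.Agent.FibreDim.Equidim

/-!
A finite dominant morphism of regular schemes is flat.
-/

set_option autoImplicit false
set_option linter.style.haveILetI false

universe u

open CategoryTheory AlgebraicGeometry IsLocalRing TensorProduct

namespace Groth.Flatmor4

theorem isMaximal_of_comap {R : Type u} [CommRing R] {I : Ideal R} (P : Ideal (R ⧸ I)) [hP : P.IsPrime]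
    (h : (P.comap (Ideal.Quotient.mk I)).IsMaximal) : P.IsMaximal := by
  rcases Ideal.map_eq_top_or_isMaximal_of_surjective (Ideal.Quotient.mk I)
    Ideal.Quotient.mk_surjective h with h' | h' <;>
    rw [Ideal.map_comap_of_surjective _ Ideal.Quotient.mk_surjective] at h'
  · exact absurd h' hP.ne_top
  · exact h'

/-- A local domain which is a localization of a finite algebra over a normal local domain `L`, and
into which `L` injects, has the dimension of `L` and zero-dimensional closed fibre. -/
theorem dim_eq_of_finite_of_normal (A B L S : Type u) [CommRing A] [CommRing B] [CommRing L]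
    [CommRing S] [Algebra A B] [Module.Finite A B] [Algebra A L] [Algebra B S] [Algebra A S]
    [Algebra L S] [IsScalarTower A B S] [IsScalarTower A L S] [IsLocalRing L] [IsNoetherianRing L]
    [IsDomain L] [IsIntegrallyClosed L] [IsLocalRing S] [IsDomain S] [IsLocalHom (algebraMap L S)]
    (q : Ideal B) [q.IsPrime] [IsLocalization.AtPrime S q]
    (hinj : Function.Injective (algebraMap L S)) :
    ringKrullDim S = ringKrullDim L ∧
      ringKrullDim (S ⧸ (maximalIdeal L).map (algebraMap L S)) = 0 := by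
  let θ : L ⊗[A] B →ₐ[L] S := Algebra.TensorProduct.lift (Algebra.ofId L S)
    (IsScalarTower.toAlgHom A B S) fun _ _ => Commute.all _ _
  let B' := θ.range
  haveI : Module.Finite L B' := Module.Finite.of_surjective θ.rangeRestrict.toLinearMap
    θ.rangeRestrict_surjective
  haveI : IsNoetherianRing B' := IsNoetherianRing.of_finite L B'
  haveI : FaithfulSMul L B' := (faithfulSMul_iff_algebraMap_injective L B').mpr fun a b h =>
    hinj (congrArg Subtype.val h)
  haveI : Algebra.IsIntegral L B' := Algebra.IsIntegral.of_finite L B'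
  let Q : Ideal B' := (maximalIdeal S).comap B'.val.toRingHom
  haveI : Q.IsPrime := Ideal.IsPrime.comap _
  have hB : ∀ b : B, algebraMap B S b ∈ B' := fun b =>
    ⟨1 ⊗ₜ b, by simp [θ]⟩
  haveI hloc : IsLocalization.AtPrime S Q := by
    refine (isLocalization_iff _ _).mpr ⟨fun y => ?_, fun z => ?_, fun {a b} h => ⟨1, by
      simpa using (Subtype.ext h : a = b)⟩⟩
    · exact not_not.mp y.2
    · obtain ⟨⟨b, s⟩, hbs⟩ := IsLocalization.surj q.primeCompl z
      refine ⟨⟨⟨_, hB b⟩, ⟨⟨_, hB s⟩, ?_⟩⟩, hbs⟩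
      exact fun hm => (hm : algebraMap B S s ∈ maximalIdeal S)
        (IsLocalization.map_units S s)
  have hQm : Q.comap (algebraMap L B') = maximalIdeal L :=
    ((local_hom_TFAE (algebraMap L S)).out 0 4 rfl rfl).mp inferInstance
  haveI : Q.LiesOver (maximalIdeal L) := ⟨hQm.symm⟩
  haveI : Ring.KrullDimLE 0 (B' ⧸ (maximalIdeal L).map (algebraMap L B')) :=
    Ring.KrullDimLE.mk₀ fun P hP => by
      let P' := P.comap (Ideal.Quotient.mk ((maximalIdeal L).map (algebraMap L B')))
      haveI : P'.IsPrime := Ideal.IsPrime.comap _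
      have hle : maximalIdeal L ≤ P'.comap (algebraMap L B') := fun a ha => by
        show Ideal.Quotient.mk _ (algebraMap L B' a) ∈ P
        rw [Ideal.Quotient.eq_zero_iff_mem.mpr (Ideal.mem_map_of_mem _ ha)]
        exact zero_mem _
      have h := ((maximalIdeal.isMaximal L).eq_of_le (Ideal.IsPrime.comap _).ne_top hle)
      haveI : P'.IsMaximal := Ideal.isMaximal_of_isIntegral_of_isMaximal_comap P'
        (h ▸ maximalIdeal.isMaximal L)
      exact isMaximal_of_comap P this
  have h0 : (Q.map (Ideal.Quotient.mk ((maximalIdeal L).map (algebraMap L B')))).height = 0 := by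
    haveI : (Q.map (Ideal.Quotient.mk ((maximalIdeal L).map (algebraMap L B')))).IsPrime :=
      Ideal.map_isPrime_of_surjective Ideal.Quotient.mk_surjective (by
        rw [Ideal.mk_ker, Ideal.map_le_iff_le_comap, hQm])
    exact Ideal.height_eq_zero_iff.mpr
      (Ideal.mem_minimalPrimes_of_krullDimLE_zero _)
  have hht := Ideal.height_eq_height_add_of_liesOver_of_hasGoingDown (maximalIdeal L) Q
  rw [h0, add_zero] at hht
  refine ⟨?_, ?_⟩
  · rw [IsLocalization.AtPrime.ringKrullDim_eq_height Q S, hht, maximalIdeal_height_eq_ringKrullDim]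
  · let J := (maximalIdeal L).map (algebraMap L S)
    have hJ : J ≤ maximalIdeal S := ((local_hom_TFAE (algebraMap L S)).out 0 2 rfl rfl).mp inferInstance
    haveI : Nontrivial (S ⧸ J) := Ideal.Quotient.nontrivial_iff.mpr
      (ne_top_of_le_ne_top (maximalIdeal.isMaximal S).ne_top hJ)
    refine le_antisymm (Ring.krullDimLE_iff.mp ?_) ringKrullDim_nonneg_of_nontrivial
    refine Ring.KrullDimLE.mk₀ fun P hP => ?_
    let R := P.comap (Ideal.Quotient.mk J)
    haveI : R.IsPrime := Ideal.IsPrime.comap _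
    have hJR : J ≤ R := fun a ha => by
      show Ideal.Quotient.mk J a ∈ P
      rw [Ideal.Quotient.eq_zero_iff_mem.mpr ha]
      exact zero_mem _
    let R' : Ideal B' := R.comap B'.val.toRingHom
    haveI : R'.IsPrime := Ideal.IsPrime.comap _
    have hle : maximalIdeal L ≤ R'.comap (algebraMap L B') := fun a ha =>
      hJR (Ideal.mem_map_of_mem (algebraMap L S) ha)
    have h := (maximalIdeal.isMaximal L).eq_of_le (Ideal.IsPrime.comap _).ne_top hle
    haveI : R'.IsMaximal := Ideal.isMaximal_of_isIntegral_of_isMaximal_comap R'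
      (h ▸ maximalIdeal.isMaximal L)
    have hR'Q : R' = Q := ‹R'.IsMaximal›.eq_of_le ‹Q.IsPrime›.ne_top
      (Ideal.comap_mono (IsLocalRing.le_maximalIdeal ‹R.IsPrime›.ne_top))
    have hR : R = maximalIdeal S := by
      rw [← IsLocalization.map_under Q.primeCompl S R,
        ← IsLocalization.AtPrime.map_eq_maximalIdeal Q S]
      exact congrArg (Ideal.map (algebraMap B' S)) hR'Q
    exact isMaximal_of_comap P (show R.IsMaximal from hR ▸ maximalIdeal.isMaximal S)

/-- A finite morphism of regular schemes mapping maximal points to maximal points is flat. -/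
theorem flat_of_finite_of_isMax {X Y : Scheme.{u}} (f : X ⟶ Y) [IsFinite f]
    (hX : ∀ x : X, IsRegularLocalRing (X.presheaf.stalk x))
    (hY : ∀ y : Y, IsRegularLocalRing (Y.presheaf.stalk y))
    (hmax : ∀ η : X, IsMax η → IsMax (f η)) : Flat f := by
  refine Flat.of_stalkMap f fun x => ?_
  haveI := hX x
  haveI := hY (f x)
  haveI := Ega4Algebra1.isDomain_of_isRegularLocalRing (X.presheaf.stalk x)
  haveI := Ega4Algebra1.isDomain_of_isRegularLocalRing (Y.presheaf.stalk (f x))
  haveI := VectorBundles.isIntegrallyClosed_of_isRegularLocalRing (Y.presheaf.stalk (f x))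
  obtain ⟨V, hV, hxV, -⟩ := exists_isAffineOpen_mem_and_subset (U := ⊤) (Set.mem_univ (f x))
  have hU : IsAffineOpen (f ⁻¹ᵁ V) := hV.preimage f
  letI := (f.app V).hom.toAlgebra
  haveI : Module.Finite Γ(Y, V) Γ(X, f ⁻¹ᵁ V) := f.finite_app _ hV
  letI := (Y.presheaf.germ V (f x) hxV).hom.toAlgebra
  letI := (X.presheaf.germ (f ⁻¹ᵁ V) x hxV).hom.toAlgebra
  letI := (f.stalkMap x).hom.toAlgebra
  letI : Algebra Γ(Y, V) (X.presheaf.stalk x) :=
    ((X.presheaf.germ (f ⁻¹ᵁ V) x hxV).hom.comp (f.app V).hom).toAlgebra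
  haveI : IsScalarTower Γ(Y, V) Γ(X, f ⁻¹ᵁ V) (X.presheaf.stalk x) :=
    IsScalarTower.of_algebraMap_eq' rfl
  haveI : IsScalarTower Γ(Y, V) (Y.presheaf.stalk (f x)) (X.presheaf.stalk x) :=
    IsScalarTower.of_algebraMap_eq fun a => (f.germ_stalkMap_apply V x hxV a).symm
  haveI : IsLocalHom (algebraMap (Y.presheaf.stalk (f x)) (X.presheaf.stalk x)) :=
    inferInstanceAs (IsLocalHom (f.stalkMap x).hom)
  haveI := hU.isLocalization_stalk ⟨x, hxV⟩
  have hinj : Function.Injective (algebraMap (Y.presheaf.stalk (f x)) (X.presheaf.stalk x)) := by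
    rw [RingHom.injective_iff_ker_eq_bot]
    let p0 : PrimeSpectrum (X.presheaf.stalk x) := ⟨⊥, Ideal.isPrime_bot⟩
    have h1 : IsMax ((X.fromSpecStalk x).base p0) := by
      rw [FibreDim.isMax_fromSpecStalk_iff]
      rw [IsDomain.minimalPrimes_eq_singleton_bot]
      rfl
    have h2 := hmax _ h1
    rw [← Scheme.Hom.comp_apply, ← Scheme.SpecMap_stalkMap_fromSpecStalk f, Scheme.Hom.comp_apply] at h2
    rw [show (Spec.map (f.stalkMap x)) p0 = PrimeSpectrum.comap (f.stalkMap x).hom p0 from rfl,
      FibreDim.isMax_fromSpecStalk_iff, IsDomain.minimalPrimes_eq_singleton_bot,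
      Set.mem_singleton_iff] at h2
    exact h2
  obtain ⟨h1, h2⟩ := dim_eq_of_finite_of_normal Γ(Y, V) Γ(X, f ⁻¹ᵁ V) (Y.presheaf.stalk (f x))
    (X.presheaf.stalk x) (hU.primeIdealOf ⟨x, hxV⟩).asIdeal hinj
  haveI := Calg4.isCohenMacaulayLocalRing_of_isRegularLocalRing (X.presheaf.stalk x)
  exact Calg1.flat_of_isRegularLocalRing_of_isCohenMacaulay (Y.presheaf.stalk (f x))
    (X.presheaf.stalk x) (by rw [h2, add_zero, h1])

end Groth.Flatmor4
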