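import Groth.Agent.Flatmor4.GenStable
import Mathlib.AlgebraicGeometry.IdealSheaf.Subscheme
import Mathlib.AlgebraicGeometry.Morphisms.Flat
import Mathlib.AlgebraicGeometry.Morphisms.ClosedImmersion

/-! Flat closed subschemes. -/

set_option backward.isDefEq.respectTransparency false

universe u

open AlgebraicGeometry CategoryTheory TopologicalSpace

namespace Groth.Flatmor4

variable {X : Scheme.{u}}

lemma flat_subschemeι_iff (I : X.IdealSheafData) :
    Flat I.subschemeι ↔ ∀ U : X.affineOpens, (I.ideal U).Pure := by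
  have key : ∀ U : X.affineOpens, (I.ideal U).Pure ↔ (I.subschemeι.app U).hom.Flat := by
    intro U
    rw [← I.ker_subschemeι_app U]
    algebraize [(I.subschemeι.app U).hom]
    have hs : Function.Surjective (Algebra.ofId Γ(X, U) Γ(I.subscheme, I.subschemeι ⁻¹ᵁ U)) :=
      I.subschemeι_app_surjective U
    exact Module.Flat.equiv_iff (Ideal.quotientKerAlgEquivOfSurjective hs).toLinearEquiv
  refine ⟨fun h U => (key U).2 ?_, fun h => ?_⟩
  · have := HasRingHomProperty.appLE @Flat I.subschemeι h U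
      ⟨_, U.2.preimage I.subschemeι⟩ le_rfl
    simpa [Scheme.Hom.appLE, CommRingCat.hom_id, RingHom.comp_id] using this
  · rw [flat_iff]
    intro U hU V hV e
    rw [Scheme.Hom.appLE, CommRingCat.hom_comp]
    refine RingHom.Flat.comp ((key ⟨U, hU⟩).1 (h _)) ?_
    have := HasRingHomProperty.appLE @Flat (𝟙 I.subscheme) inferInstance
      ⟨_, hU.preimage I.subschemeι⟩ ⟨V, hV⟩ e
    simpa [Scheme.Hom.appLE, CommRingCat.hom_id, RingHom.comp_id] using this

lemma zeroLocus_ideal_eq_preimage (I : X.IdealSheafData) (U : X.affineOpens) :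
    PrimeSpectrum.zeroLocus (I.ideal U : Set Γ(X, U)) = U.2.fromSpec ⁻¹' (I.support : Set X) := by
  ext p
  have hmem : U.2.fromSpec p ∈ U.1 := by
    have : U.2.fromSpec p ∈ Set.range U.2.fromSpec := ⟨p, rfl⟩
    rwa [U.2.range_fromSpec] at this
  show _ ↔ U.2.fromSpec p ∈ I.support
  rw [I.mem_support_iff_of_mem (U := U) hmem, ← U.2.fromSpec_preimage_zeroLocus]
  rfl

lemma stableUnderGeneralization_preimage {Z : Set X} (hg : StableUnderGeneralization Z)
    (U : X.affineOpens) : StableUnderGeneralization (U.2.fromSpec ⁻¹' Z) :=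
  fun _ _ h hx => hg (h.map U.2.fromSpec.continuous) hx

/-- The ideal sheaf of sections with zero germs on a closed set stable under generalization. -/
noncomputable def genIdeal (Z : Closeds X) (hg : StableUnderGeneralization (Z : Set X)) :
    X.IdealSheafData :=
  Scheme.IdealSheafData.mkOfMemSupportIff
    (fun U => kerOn (U.2.fromSpec ⁻¹' (Z : Set X)))
    (fun U f => by
      let F := X.presheaf.map (homOfLE (X.basicOpen_le f)).op
      let V := X.affineBasicOpen f
      have hUc : IsClosed (U.2.fromSpec ⁻¹' (Z : Set X)) := Z.isClosed.preimage U.2.fromSpec.continuous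
      have hUg := stableUnderGeneralization_preimage hg U
      have hVc : IsClosed (V.2.fromSpec ⁻¹' (Z : Set X)) := Z.isClosed.preimage V.2.fromSpec.continuous
      have hVg := stableUnderGeneralization_preimage hg V
      let : Algebra Γ(X, U) Γ(X, V) := F.hom.toAlgebra
      have : IsLocalization.Away f Γ(X, V) := U.2.isLocalization_of_eq_basicOpen _ _ rfl
      have := pure_kerOn hVc hVg
      have hpU := pure_kerOn hUc hUg
      let K : Ideal Γ(X, V) := (kerOn (U.2.fromSpec ⁻¹' (Z : Set X))).map F.hom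
      have : K.Pure := by
        refine Ideal.Pure.of_inf_eq_mul _ fun J _ => le_antisymm ?_ Ideal.mul_le_inf
        rintro x ⟨hxK, hxJ⟩
        obtain ⟨⟨⟨a, ha⟩, s⟩, hs⟩ := (IsLocalization.mem_map_algebraMap_iff
          (Submonoid.powers f) Γ(X, V)).1 hxK
        obtain ⟨y, hy, hay⟩ := @Ideal.exists_eq_mul_of_pure _ _ (kerOn (U.2.fromSpec ⁻¹' (Z : Set X))) hpU _ ha
        have hxy : x = algebraMap Γ(X, U) Γ(X, V) y * x := by
          refine (IsLocalization.map_units Γ(X, V) s).mul_left_injective ?_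
          simp only [mul_assoc, hs, ← map_mul]
          rw [mul_comm y, ← hay]
        rw [hxy]
        exact Ideal.mul_mem_mul (Ideal.mem_map_of_mem _ hy) hxJ
      refine Ideal.zeroLocus_inj_of_pure (I := K).1 ?_
      rw [zeroLocus_kerOn hVc hVg,
        ← U.2.map_fromSpec V.2 (homOfLE (X.basicOpen_le f)).op, Scheme.Hom.comp_base,
        TopCat.coe_comp, Set.preimage_comp]
      conv_rhs => rw [← zeroLocus_kerOn hUc hUg]
      erw [PrimeSpectrum.preimage_comap_zeroLocus]
      exact PrimeSpectrum.zeroLocus_span _)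
    (Z : Set X)
    (fun U x hx => by
      have hUc : IsClosed (U.2.fromSpec ⁻¹' (Z : Set X)) := Z.isClosed.preimage U.2.fromSpec.continuous
      trans x ∈ X.zeroLocus (U := U.1) (kerOn (U.2.fromSpec ⁻¹' (Z : Set X)) : Set Γ(X, U)) ∩ U.1
      · rw [← U.2.fromSpec_image_zeroLocus,
          zeroLocus_kerOn hUc (stableUnderGeneralization_preimage hg U),
          Set.image_preimage_eq_inter_range, IsAffineOpen.range_fromSpec]
        simp [hx]
      · simp [hx])

lemma flat_genIdeal (Z : Closeds X) (hg : StableUnderGeneralization (Z : Set X)) :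
    Flat (genIdeal Z hg).subschemeι :=
  (flat_subschemeι_iff _).2 fun U => pure_kerOn (Z.isClosed.preimage U.2.fromSpec.continuous)
    (stableUnderGeneralization_preimage hg U)

lemma support_genIdeal (Z : Closeds X) (hg : StableUnderGeneralization (Z : Set X)) :
    (genIdeal Z hg).support = Z :=
  TopologicalSpace.Closeds.ext rfl

lemma ideal_eq_of_flat {I : X.IdealSheafData} (h : Flat I.subschemeι) (U : X.affineOpens) :
    I.ideal U = kerOn (U.2.fromSpec ⁻¹' (I.support : Set X)) := by
  have := (flat_subschemeι_iff I).1 h U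
  rw [← zeroLocus_ideal_eq_preimage, kerOn_zeroLocus_of_pure]

lemma stableUnderGeneralization_support {I : X.IdealSheafData} (h : Flat I.subschemeι) :
    StableUnderGeneralization (I.support : Set X) := by
  intro x y hspec hx
  obtain ⟨_, ⟨U, hU, rfl⟩, hxU, -⟩ :=
    X.isBasis_affineOpens.exists_subset_of_mem_open (Set.mem_univ x) isOpen_univ
  have := (flat_subschemeι_iff I).1 h ⟨U, hU⟩
  have hyU : y ∈ U := hspec.mem_open U.2 hxU
  have hs := stableUnderGeneralization_zeroLocus (I.ideal ⟨U, hU⟩)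
  rw [zeroLocus_ideal_eq_preimage] at hs
  obtain ⟨p, rfl⟩ : x ∈ Set.range hU.fromSpec := by rwa [hU.range_fromSpec]
  obtain ⟨q, rfl⟩ : y ∈ Set.range hU.fromSpec := by rwa [hU.range_fromSpec]
  exact hs (hU.fromSpec.isOpenEmbedding.isInducing.specializes_iff.1 hspec) hx

lemma exists_lift_of_range_subset {I : X.IdealSheafData} (h : Flat I.subschemeι) {Y : Scheme.{u}}
    (g : Y ⟶ X) (hg : Set.range g.base ⊆ (I.support : Set X)) :
    ∃ g' : Y ⟶ I.subscheme, g' ≫ I.subschemeι = g := by
  have hle : I ≤ g.ker := by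
    refine Scheme.IdealSheafData.le_ofIdeals_iff.2 fun U s hs => ?_
    rw [ideal_eq_of_flat h U] at hs
    rw [RingHom.mem_ker]
    apply TopCat.Presheaf.section_ext Y.sheaf
    intro y hy
    have hgy : g.base y ∈ U.1 := hy
    obtain ⟨t, ht, hts⟩ := hs (U.2.primeIdealOf ⟨g.base y, hgy⟩) (by
      show U.2.fromSpec _ ∈ (I.support : Set X)
      rw [U.2.fromSpec_primeIdealOf]
      exact hg ⟨y, rfl⟩)
    have h0 : X.presheaf.germ U.1 (g.base y) hgy s = 0 := by
      let _ := TopCat.Presheaf.algebra_section_stalk X.presheaf (⟨g.base y, hgy⟩ : U.1)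
      have := U.2.isLocalization_stalk ⟨g.base y, hgy⟩
      exact (IsLocalization.map_eq_zero_iff (U.2.primeIdealOf ⟨g.base y, hgy⟩).asIdeal.primeCompl
        _ _).2 ⟨⟨t, ht⟩, hts⟩
    show Y.presheaf.germ (g ⁻¹ᵁ U.1) y hy (g.app U s) = Y.presheaf.germ (g ⁻¹ᵁ U.1) y hy 0
    rw [map_zero, ← Scheme.Hom.germ_stalkMap_apply g U.1 y hgy, h0, map_zero]
  exact ⟨IsClosedImmersion.lift I.subschemeι g (by rwa [Scheme.IdealSheafData.ker_subschemeι]),
    IsClosedImmersion.lift_fac _ _ _⟩

end Groth.Flatmor4
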