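import Groth.Agent.Flatmor4.GenericSpecialize

/-!
Dimensions of components and fibres of flat morphisms of schemes of finite type over a field.
-/

set_option autoImplicit false
set_option linter.style.haveILetI false

universe u

open CategoryTheory CategoryTheory.Limits AlgebraicGeometry

namespace Groth.Flatmor4

variable {k : Type u} [Field k] {X Y : Scheme.{u}}

theorem height_eq_height_add (qY : Y ⟶ Spec (CommRingCat.of k)) [LocallyOfFiniteType qY]
    (f : X ⟶ Y) [LocallyOfFiniteType f] (x : X) :
    Order.height x = Order.height (f x) + Order.height (f.asFiber x) := by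
  obtain ⟨a, ha, ha'⟩ := Variety2.Dim.exists_trdegAt_eq_height (f ≫ qY) x
  obtain ⟨b, hb, hb'⟩ := Variety2.Dim.exists_trdegAt_eq_height qY (f x)
  obtain ⟨c, hc, hc'⟩ := FibreDim.exists_relTrdeg_eq_height f x
  have h := Variety2.Dim.trdegAt_eq_add (f ≫ qY) qY f rfl x
  rw [ha, hb, hc] at h
  rw [ha', hb', hc']
  exact_mod_cast h

theorem forall_component_dim_iff (P : WithBot ℕ∞ → Prop) :
    (∀ Z ∈ irreducibleComponents (X : Type u), P (topologicalKrullDim Z)) ↔
      ∀ η : X, IsMax η → P (Order.height η : ℕ∞) := by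
  constructor
  · intro h η hη
    rw [← Variety2.Dim.dim_closure_singleton η]
    exact h _ ((PropsBasic2.closure_mem_irreducibleComponents_iff η).mpr
      fun z hz => (hz.antisymm (hη hz)).eq)
  · intro h Z hZ
    have hg := hZ.1.isGenericPoint_genericPoint (isClosed_of_mem_irreducibleComponents Z hZ)
    rw [← hg.def, Variety2.Dim.dim_closure_singleton]
    refine h _ fun z hz => le_of_eq ?_
    have hc : closure {hZ.1.genericPoint} ∈ irreducibleComponents (X : Type u) := by rwa [hg.def]
    exact (PropsBasic2.closure_mem_irreducibleComponents_iff _).mp hc z hz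

theorem dim_eq_height_genericPoint [IrreducibleSpace X] :
    topologicalKrullDim X = (Order.height (genericPoint X) : ℕ∞) := by
  rw [← Variety2.Dim.dim_closure_singleton]
  rw [genericPoint_closure]
  exact (Homeomorph.Set.univ X).isHomeomorph.topologicalKrullDim_eq.symm

theorem forall_fibre_component_dim_iff (f : X ⟶ Y) [LocallyOfFiniteType f] (P : WithBot ℕ∞ → Prop) :
    (∀ (y : Y), ∀ Z ∈ irreducibleComponents (f.fiber y : Type u), P (topologicalKrullDim Z)) ↔
      ∀ z : X, IsMax (f.asFiber z) → P (Order.height (f.asFiber z) : ℕ∞) := by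
  constructor
  · intro h z hz
    have hz' := (FibreDim.isMax_asFiber_iff f z).mp hz
    obtain ⟨Z, hZ, hd⟩ := (Set.ext_iff.mp (FibreDim.component_dims_eq f (f z)) _).mpr
      ⟨z, ⟨rfl, hz'⟩, rfl⟩
    rw [← (FibreDim.fibreDimAt_eq_height_of_max f hz').1, ← hd]
    exact h _ Z hZ
  · intro h y Z hZ
    obtain ⟨z, ⟨rfl, hz⟩, hd⟩ := (Set.ext_iff.mp (FibreDim.component_dims_eq f y) _).mp
      ⟨Z, hZ, rfl⟩
    simp only at hd
    rw [← hd, (FibreDim.fibreDimAt_eq_height_of_max f hz).1]
    exact h z ((FibreDim.isMax_asFiber_iff f z).mpr hz)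

theorem fibreDimAt_eq_of_forall (f : X ⟶ Y) [LocallyOfFiniteType f] {n : ℕ}
    (h : ∀ z : X, IsMax (f.asFiber z) → Order.height (f.asFiber z) = n) (x : X) :
    FlatMor.fibreDimAt f x = n := by
  obtain ⟨z, -, -, hz, hd⟩ := FibreDim.exists_maximal_fibre_point f x
  rw [← hd, h z (Order.coheight_eq_zero.mp hz)]
  rfl

variable (f : X ⟶ Y) [Flat f]

theorem isMax_image {η : X} (hη : IsMax η) : IsMax (f η) := by
  intro y hy
  obtain ⟨η', hη', rfl⟩ := Flat.generalizingMap f (show y ⤳ f η from hy)
  exact le_of_eq (congrArg f (hη'.antisymm (hη hη')).eq)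

omit [Flat f] in
theorem isMax_asFiber_of_isMax {η : X} (hη : IsMax η) : IsMax (f.asFiber η) :=
  (FibreDim.isMax_asFiber_iff f η).mpr fun _ _ hz => (hz.antisymm (hη hz)).eq

variable [LocallyOfFinitePresentation f]

/-- Relative heights of fibre generic points agree with those of generizations of the same kind. -/
theorem height_asFiber_eq_of_specializes {η z : X} (hsp : η ⤳ z) (hη : IsMax (f.asFiber η))
    (hz : IsMax (f.asFiber z)) : Order.height (f.asFiber η) = Order.height (f.asFiber z) := by
  have h1 := height_asFiber_le_fibreDimAt_of_specializes f hsp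
  rw [(FibreDim.fibreDimAt_eq_height_of_max f ((FibreDim.isMax_asFiber_iff f η).mp hη)).1] at h1
  have h2 := FibreDim.fibreDimAt_le_of_specializes f hsp
  rw [(FibreDim.fibreDimAt_eq_height_of_max f ((FibreDim.isMax_asFiber_iff f η).mp hη)).1,
    (FibreDim.fibreDimAt_eq_height_of_max f ((FibreDim.isMax_asFiber_iff f z).mp hz)).1] at h2
  exact le_antisymm (WithBot.coe_le_coe.mp h2) (WithBot.coe_le_coe.mp h1)

/-- A flat morphism has equidimensional fibres as soon as it has so at the maximal points. -/
theorem forall_isMax_asFiber_iff (P : ℕ∞ → Prop) :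
    (∀ η : X, IsMax η → P (Order.height (f.asFiber η))) ↔
      ∀ z : X, IsMax (f.asFiber z) → P (Order.height (f.asFiber z)) := by
  refine ⟨fun h z hz => ?_, fun h η hη => h η (isMax_asFiber_of_isMax f hη)⟩
  obtain ⟨η, hη, hsp⟩ := FibreDim.exists_max_specializes z
  rw [← height_asFiber_eq_of_specializes f hsp (isMax_asFiber_of_isMax f hη) hz]
  exact h η hη

/-- Preimages of irreducible closed subsets under a flat morphism with equidimensional fibres. -/
theorem dim_component_preimage (qY : Y ⟶ Spec (CommRingCat.of k)) [LocallyOfFiniteType qY] {n : ℕ}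
    (hn : ∀ x : X, FlatMor.fibreDimAt f x = n) (V : Set Y) (hV : IsClosed V) (hVirr : IsIrreducible V)
    (W : Set ↥(f ⁻¹' V)) (hW : W ∈ irreducibleComponents ↥(f ⁻¹' V)) :
    topologicalKrullDim W = topologicalKrullDim V + (n : WithBot ℕ∞) := by
  have hF : IsClosed (f ⁻¹' V) := hV.preimage f.continuous
  have hWc : IsClosed (Subtype.val '' W : Set X) :=
    hF.isClosedMap_subtype_val _ (isClosed_of_mem_irreducibleComponents W hW)
  have hWi : IsIrreducible (Subtype.val '' W : Set X) := hW.1.image _ continuous_subtype_val.continuousOn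
  have hw := hWi.isGenericPoint_genericPoint hWc
  have hv := hVirr.isGenericPoint_genericPoint hV
  set w := hWi.genericPoint
  set v := hVirr.genericPoint
  have hwF : w ∈ f ⁻¹' V := by
    obtain ⟨a, -, ha⟩ := hw.mem
    exact ha ▸ a.2
  have hmax : ∀ a : X, a ∈ f ⁻¹' V → a ⤳ w → a = w := by
    intro a haF haw
    have hcl : closure {a} ⊆ f ⁻¹' V := hF.closure_subset_iff.mpr (Set.singleton_subset_iff.mpr haF)
    have hi : IsIrreducible (Subtype.val ⁻¹' closure {a} : Set ↥(f ⁻¹' V)) := by
      have hz : IsGenericPoint (⟨a, haF⟩ : ↥(f ⁻¹' V)) (Subtype.val ⁻¹' closure {a}) := by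
        show closure {_} = _
        rw [Topology.IsInducing.subtypeVal.closure_eq_preimage_closure_image, Set.image_singleton]
      exact hz.isIrreducible
    have hsub : W ⊆ Subtype.val ⁻¹' closure {a} := fun b hb =>
      specializes_iff_mem_closure.mp (haw.trans (hw.specializes ⟨b, hb, rfl⟩))
    have ha : (⟨a, haF⟩ : ↥(f ⁻¹' V)) ∈ W := hW.2 hi hsub (subset_closure rfl)
    exact (haw.antisymm (hw.specializes ⟨_, ha, rfl⟩)).eq
  have hfw : f w = v := by
    obtain ⟨a, ha, hav⟩ := Flat.generalizingMap f (hv.specializes hwF)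
    rw [← hmax a (show f a ∈ V from hav ▸ hv.mem) ha, hav]
  have hwm : ∀ a, f.base a = f.base w → a ⤳ w → a = w := fun a ha haw =>
    hmax a (show f a ∈ V from ha ▸ hwF) haw
  have h1 := (FibreDim.fibreDimAt_eq_height_of_max f hwm).1
  rw [hn w] at h1
  have h2 : Order.height (f.asFiber w) = n := WithBot.coe_injective h1.symm
  have hWdim : topologicalKrullDim W = topologicalKrullDim (Subtype.val '' W : Set X) :=
    (Topology.IsEmbedding.subtypeVal.homeomorphImage W).isHomeomorph.topologicalKrullDim_eq
  rw [hWdim, ← hw.def, ← hv.def, Variety2.Dim.dim_closure_singleton,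
    Variety2.Dim.dim_closure_singleton, height_eq_height_add qY f w, h2, hfw]
  rfl

end Groth.Flatmor4
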