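import Groth.Agent.Flatmor4.FlatClosedSubscheme
import Groth.Agent.Flatmor4.FlatModAffine
import Groth.Agent.QCohMod.FTCriterion
import Groth.Agent.PropsBasic.LocFreeRank
import Groth.Agent.LocFree.Affine

/-! Finite flat modules and closed subsets stable under generalization. -/

universe u

open AlgebraicGeometry CategoryTheory TopologicalSpace

namespace Groth.Flatmor4

open Groth.QCohMod

variable {X : Scheme.{u}}

/-- A quasi-coherent module with flat sections on affine opens is flat. -/
lemma isFlat_of_flat_sections (M : X.Modules) [M.IsQuasicoherent]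
    (h : ∀ U : X.Opens, IsAffineOpen U → Module.Flat Γ(X, U) Γ(M, U)) : FlatMod.IsFlat M := by
  intro x
  obtain ⟨U, hU, hx⟩ := exists_affine_mem x
  let _ := stalkModule M x hx
  let _ : Algebra Γ(X, U) (X.presheaf.stalk x) :=
    TopCat.Presheaf.algebra_section_stalk X.presheaf ⟨x, hx⟩
  have : IsLocalization.AtPrime (X.presheaf.stalk x) (hU.primeIdealOf ⟨x, hx⟩).asIdeal :=
    hU.isLocalization_stalk ⟨x, hx⟩
  have := isLocalizedModule_germ M hU x hx
  have : IsScalarTower Γ(X, U) (X.presheaf.stalk x) (M.presheaf.stalk x) :=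
    ⟨fun r s m => mul_smul (X.presheaf.germ U x hx r) s m⟩
  have := h U hU
  exact Module.Flat.of_isLocalizedModule (X.presheaf.stalk x)
    (hU.primeIdealOf ⟨x, hx⟩).asIdeal.primeCompl (germₗ M x hx)

lemma fibreRank_eq_rankAtStalk (M : X.Modules) [M.IsQuasicoherent] {U : X.Opens}
    (hU : IsAffineOpen U) [Module.Finite Γ(X, U) Γ(M, U)] [Module.Flat Γ(X, U) Γ(M, U)]
    (p : PrimeSpectrum Γ(X, U)) :
    Groth.PropsBasic.LocFree.fibreRank M (hU.fromSpec p) = Module.rankAtStalk Γ(M, U) p := by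
  have hy : hU.fromSpec p ∈ U := by
    rw [← SetLike.mem_coe, ← hU.range_fromSpec]
    exact ⟨p, rfl⟩
  have hp : hU.primeIdealOf ⟨hU.fromSpec p, hy⟩ = p :=
    hU.fromSpec.isOpenEmbedding.injective (hU.fromSpec_primeIdealOf _)
  rw [Groth.PropsBasic.LocFree.fibreRank_eq M hU _ hy, hp, Module.rankAtStalk_eq]

/-- Finite type flat modules are finite locally free if all closed sets stable under generalization
are open. -/
theorem isFinLocFree_of_finite_flat
    (H : ∀ Z : Set X, IsClosed Z → StableUnderGeneralization Z → IsOpen Z) (M : X.Modules)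
    [M.IsQuasicoherent] (hft : CohB1.IsFT M) (hflat : FlatMod.IsFlat M) : FlatMod.IsFinLocFree M := by
  let r : X → ℕ := Groth.PropsBasic.LocFree.fibreRank M
  have hfin : ∀ U : X.Opens, IsAffineOpen U → Module.Finite Γ(X, U) Γ(M, U) :=
    fun U hU => finite_sections M hft hU
  have hfree : ∀ x : X, Module.Free (X.presheaf.stalk x) (M.presheaf.stalk x) := by
    intro x
    obtain ⟨U, hU, hx⟩ := exists_affine_mem x
    have := hfin U hU
    have : Module.Flat (X.presheaf.stalk x) (M.presheaf.stalk x) := hflat x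
    exact Groth.LocFree.free_stalk_of_flat hU hx
  have hfl : ∀ U : X.Opens, IsAffineOpen U → Module.Flat Γ(X, U) Γ(M, U) := fun U hU =>
    Groth.PropsBasic.LocFree.flat_sections_of_free_stalk M hU fun y _ => hfree y
  have hlt : ∀ n, IsOpen {x | r x < n} := by
    intro n
    rw [isOpen_iff_forall_mem_open]
    intro x hx
    obtain ⟨U, hU, hxU⟩ := exists_affine_mem x
    have := hfin U hU
    have := hfl U hU
    refine ⟨hU.fromSpec '' {p | Module.rankAtStalk Γ(M, U) p < n}, ?_,
      hU.fromSpec.isOpenEmbedding.isOpenMap _ (isOpen_setOf_rankAtStalk_lt _ n),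
      hU.primeIdealOf ⟨x, hxU⟩, ?_, hU.fromSpec_primeIdealOf _⟩
    · rintro _ ⟨p, hp, rfl⟩
      show r _ < n
      rw [show r (hU.fromSpec p) = _ from fibreRank_eq_rankAtStalk M hU p]
      exact hp
    · show Module.rankAtStalk Γ(M, U) _ < n
      rw [← fibreRank_eq_rankAtStalk M hU, hU.fromSpec_primeIdealOf]
      exact hx
  have hgen : ∀ {x y : X}, y ⤳ x → r y = r x := by
    intro x y hs
    obtain ⟨U, hU, hxU⟩ := exists_affine_mem x
    have := hfin U hU
    have := hfl U hU
    obtain ⟨q, rfl⟩ : y ∈ Set.range hU.fromSpec := by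
      rw [hU.range_fromSpec]; exact hs.mem_open U.2 hxU
    obtain ⟨p, rfl⟩ : x ∈ Set.range hU.fromSpec := by rwa [hU.range_fromSpec]
    simp only [r, fibreRank_eq_rankAtStalk M hU]
    exact Module.rankAtStalk_eq_of_le_of_finite_of_flat (M := Γ(M, U)) ((PrimeSpectrum.le_iff_specializes _ _).2
      (hU.fromSpec.isOpenEmbedding.isInducing.specializes_iff.1 hs))
  have hlc : IsLocallyConstant r := by
    rw [IsLocallyConstant.iff_isOpen_fiber]
    intro n
    have hge : IsOpen {x | n ≤ r x} := H _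
      (by convert (hlt n).isClosed_compl using 1; ext; simp)
      (fun x y hs (hx : n ≤ r x) => show n ≤ r y by rwa [hgen hs])
    convert hge.inter (hlt (n + 1)) using 1
    ext x
    simp
    omega
  intro x
  obtain ⟨V, hVo, hxV, hV⟩ := hlc.exists_open x
  obtain ⟨U, hU, hxU, hUV⟩ := TopologicalSpace.Opens.isBasis_iff_nbhd.mp X.isBasis_affineOpens
    (show x ∈ (⟨V, hVo⟩ : X.Opens) from hxV)
  have := hfl U hU
  exact Groth.PropsBasic.LocFree.exists_free_nhd_of_flat M hft hU x hxU fun y hy => hV y (hUV hy)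

/-- If finite type flat modules are finite locally free, closed sets stable under generalization are
open. -/
theorem isOpen_of_forall_isFinLocFree
    (H : ∀ F : X.Modules, F.IsQuasicoherent → CohB1.IsFT F → FlatMod.IsFlat F → FlatMod.IsFinLocFree F)
    (Z : Set X) (hc : IsClosed Z) (hg : StableUnderGeneralization Z) : IsOpen Z := by
  let I := genIdeal ⟨Z, hc⟩ hg
  let ι := I.subschemeι
  let M : X.Modules := (Scheme.Modules.pushforward ι).obj (Coh.structureModule I.subscheme)
  have hq : M.IsQuasicoherent := isQCoh_pushforward (M := Coh.structureModule I.subscheme) ι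
  have he : ∀ U : X.affineOpens, Nonempty ((Γ(X, U) ⧸ I.ideal U) ≃ₗ[Γ(X, U)] Γ(M, U)) := by
    intro U
    let f : Γ(X, U) →ₗ[Γ(X, U)] Γ(M, U) := LinearMap.toSpanSingleton _ _
      (1 : Γ(I.subscheme, ι ⁻¹ᵁ U.1))
    have hf : ∀ r, f r = (ι.app U r : Γ(I.subscheme, ι ⁻¹ᵁ U.1)) := fun r => by
      show ι.app U r * 1 = ι.app U r
      exact mul_one _
    have hs : Function.Surjective f := fun z => by
      obtain ⟨r, hr⟩ := I.subschemeι_app_surjective U z
      exact ⟨r, (hf r).trans hr⟩
    have hk : LinearMap.ker f = I.ideal U := by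
      ext r
      rw [LinearMap.mem_ker, ← I.ker_subschemeι_app U, RingHom.mem_ker, hf]
      rfl
    exact ⟨(Submodule.quotEquivOfEq _ _ hk.symm).trans (f.quotKerEquivOfSurjective hs)⟩
  have hfl := H M hq ((isFT_iff M).2 fun U hU => by
      obtain ⟨e⟩ := he ⟨U, hU⟩
      exact Module.Finite.equiv e)
    (isFlat_of_flat_sections M fun U hU => by
      obtain ⟨e⟩ := he ⟨U, hU⟩
      have : Module.Flat Γ(X, U) (Γ(X, U) ⧸ I.ideal ⟨U, hU⟩) :=
        (flat_subschemeι_iff I).1 (flat_genIdeal _ _) ⟨U, hU⟩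
      exact Module.Flat.of_linearEquiv e.symm)
  rw [isOpen_iff_forall_mem_open]
  intro x hx
  obtain ⟨U, hU, hxU⟩ := exists_affine_mem x
  obtain ⟨e⟩ := he ⟨U, hU⟩
  have := Groth.LocFree.projective_sections hfl hU
  have : Module.Projective Γ(X, U) (Γ(X, U) ⧸ I.ideal ⟨U, hU⟩) := Module.Projective.of_equiv e.symm
  have hz := isOpen_zeroLocus_of_projective_quotient (I.ideal ⟨U, hU⟩)
  rw [zeroLocus_ideal_eq_preimage] at hz
  refine ⟨hU.fromSpec '' (hU.fromSpec ⁻¹' (I.support : Set X)), ?_,
    hU.fromSpec.isOpenEmbedding.isOpenMap _ hz, hU.primeIdealOf ⟨x, hxU⟩, ?_,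
    hU.fromSpec_primeIdealOf _⟩
  · exact (Set.image_preimage_subset _ _).trans (le_of_eq rfl)
  · show hU.fromSpec _ ∈ Z
    rw [hU.fromSpec_primeIdealOf]
    exact hx

end Groth.Flatmor4
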