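import Mathlib.AlgebraicGeometry.Morphisms.Flat
import Mathlib.AlgebraicGeometry.Morphisms.ClosedImmersion
import Mathlib.AlgebraicGeometry.IdealSheaf.Subscheme
import Mathlib.RingTheory.Flat.TorsionFree

/-!
Scheme-theoretic images of flat schemes over a Dedekind domain are flat.
-/

set_option autoImplicit false
set_option linter.style.haveILetI false

universe u

open CategoryTheory AlgebraicGeometry Opposite TopologicalSpace

namespace Groth.Flatmor4

variable {R : Type u} [CommRing R]

/-- The structure map on sections. -/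
noncomputable def toSections {Y : Scheme.{u}} (q : Y ⟶ Spec (.of R)) (V : Y.Opens) : R →+* Γ(Y, V) :=
  (q.appLE ⊤ V le_top).hom.comp (Scheme.ΓSpecIso (.of R)).inv.hom

lemma res_toSections {Y : Scheme.{u}} (q : Y ⟶ Spec (.of R)) {V W : Y.Opens} (h : W ≤ V) (r : R) :
    Y.presheaf.map (homOfLE h).op (toSections q V r) = toSections q W r := by
  change (q.appLE ⊤ V le_top ≫ Y.presheaf.map (homOfLE h).op) _ = _
  rw [Scheme.Hom.appLE_map]
  rfl

/-- Multiplication by a non-zero element of the base is injective on sections of a flat scheme. -/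
lemma eq_zero_of_toSections_mul [IsDomain R] {X : Scheme.{u}} (p : X ⟶ Spec (.of R)) [Flat p] {W : X.Opens}
    {r : R} (hr : r ≠ 0) (s : Γ(X, W)) (h : toSections p W r * s = 0) : s = 0 := by
  have hcov : W ≤ ⨆ U : {U : X.affineOpens // (U : X.Opens) ≤ W}, (U.1 : X.Opens) := by
    intro x hx
    obtain ⟨_, ⟨U, hU, rfl⟩, hxU, hUW⟩ :=
      X.isBasis_affineOpens.exists_subset_of_mem_open hx W.isOpen
    exact Opens.mem_iSup.mpr ⟨⟨⟨U, hU⟩, hUW⟩, hxU⟩
  refine X.sheaf.eq_of_locally_eq' (fun U : {U : X.affineOpens // (U : X.Opens) ≤ W} => (U.1 : X.Opens))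
    W (fun U => homOfLE U.2) hcov s 0 fun U => ?_
  change X.presheaf.map (homOfLE U.2).op s = X.presheaf.map (homOfLE U.2).op 0
  rw [map_zero]
  have h1 := congrArg (X.presheaf.map (homOfLE U.2).op).hom h
  rw [map_mul, map_zero, res_toSections] at h1
  letI := (toSections p (U.1 : X.Opens)).toAlgebra
  haveI : Module.Flat R Γ(X, (U.1 : X.Opens)) := by
    have h0 : (p.appLE ⊤ U.1 le_top).hom.Flat :=
      HasRingHomProperty.appLE @Flat p inferInstance ⟨⊤, isAffineOpen_top _⟩ U.1 le_top
    exact RingHom.Flat.comp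
      (RingHom.Flat.of_bijective (Scheme.ΓSpecIso (.of R)).commRingCatIsoToRingEquiv.symm.bijective) h0
  exact (smul_eq_zero.mp (show r • _ = (0 : Γ(X, (U.1 : X.Opens))) from h1)).resolve_left hr

theorem flat_imageι_comp [IsDedekindDomain R] {X Y : Scheme.{u}} (p : X ⟶ Spec (.of R))
    (q : Y ⟶ Spec (.of R)) (f : X ⟶ Y) (w : f ≫ q = p) [Flat p] : Flat (f.imageι ≫ q) := by
  -- the saturation of the kernel
  let J : Y.IdealSheafData :=
    { ideal := fun V =>
        { carrier := {s | ∃ r : R, r ≠ 0 ∧ toSections q V r * s ∈ f.ker.ideal V}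
          zero_mem' := ⟨1, one_ne_zero, by simp⟩
          add_mem' := by
            rintro a b ⟨r, hr, ha⟩ ⟨r', hr', hb⟩
            refine ⟨r * r', mul_ne_zero hr hr', ?_⟩
            have : toSections q V (r * r') * (a + b) = toSections q V r' * (toSections q V r * a) +
                toSections q V r * (toSections q V r' * b) := by rw [map_mul]; ring
            rw [this]
            exact add_mem (Ideal.mul_mem_left _ _ ha) (Ideal.mul_mem_left _ _ hb)
          smul_mem' := by
            rintro c a ⟨r, hr, ha⟩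
            refine ⟨r, hr, ?_⟩
            rw [smul_eq_mul, mul_left_comm]
            exact Ideal.mul_mem_left _ _ ha }
      map_ideal_basicOpen := fun V g => by
        haveI := V.2.isLocalization_basicOpen g
        apply le_antisymm
        · rw [Ideal.map_le_iff_le_comap]
          rintro s ⟨r, hr, hs⟩
          refine ⟨r, hr, ?_⟩
          have := Ideal.mem_map_of_mem (Y.presheaf.map (homOfLE (Y.basicOpen_le g)).op).hom hs
          rw [f.ker.map_ideal_basicOpen, map_mul, res_toSections] at this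
          exact this
        · rintro x ⟨r, hr, hx⟩
          rw [← f.ker.map_ideal_basicOpen] at hx
          obtain ⟨a, ⟨_, n, rfl⟩, rfl⟩ := IsLocalization.exists_mk'_eq (Submonoid.powers g) x
          change _ ∈ Ideal.map (algebraMap Γ(Y, (V : Y.Opens)) Γ(Y, Y.basicOpen g)) _
          rw [IsLocalization.mk'_mem_map_algebraMap_iff]
          have hx' : IsLocalization.mk' Γ(Y, Y.basicOpen g) (toSections q V r * a)
              (⟨g ^ n, n, rfl⟩ : Submonoid.powers g) ∈
              (f.ker.ideal V).map (algebraMap Γ(Y, (V : Y.Opens)) Γ(Y, Y.basicOpen g)) := by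
            rw [← IsLocalization.mul_mk'_eq_mk'_of_mul]
            have e : algebraMap Γ(Y, (V : Y.Opens)) Γ(Y, Y.basicOpen g) (toSections q V r) =
                toSections q (Y.basicOpen g) r := res_toSections q (Y.basicOpen_le g) r
            rw [e]
            exact hx
          rw [IsLocalization.mk'_mem_map_algebraMap_iff] at hx'
          obtain ⟨t, ht, hx'⟩ := hx'
          exact ⟨t, ht, r, hr, by rwa [mul_left_comm] at hx'⟩ }
  have hJ : J ≤ f.ker := by
    rw [Scheme.Hom.ker, Scheme.IdealSheafData.le_ofIdeals_iff]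
    rintro V s ⟨r, hr, hs⟩
    rw [RingHom.mem_ker]
    apply eq_zero_of_toSections_mul p hr
    have h1 : (f.app V).hom (toSections q V r * s) = 0 := f.ideal_ker_le V hs
    rw [map_mul] at h1
    convert h1 using 2
    subst w
    change (f ≫ q).appLE ⊤ (f ⁻¹ᵁ V) le_top _ = (q.appLE ⊤ V le_top ≫ f.app V) _
    rw [Scheme.Hom.app_eq_appLE, Scheme.Hom.appLE_comp_appLE]
  refine HasRingHomProperty.of_iSup_eq_top (P := @Flat)
    (fun V : Y.affineOpens => (⟨f.imageι ⁻¹ᵁ V, V.2.preimage f.imageι⟩ : f.image.affineOpens)) ?_ ?_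
  · rw [eq_top_iff]
    intro x _
    obtain ⟨_, ⟨V, hV, rfl⟩, hxV, -⟩ :=
      Y.isBasis_affineOpens.exists_subset_of_mem_open (Set.mem_univ (f.imageι x)) isOpen_univ
    exact Opens.mem_iSup.mpr ⟨⟨V, hV⟩, hxV⟩
  intro V
  letI := ((Ideal.Quotient.mk (f.ker.ideal V)).comp (toSections q V)).toAlgebra
  haveI : Module.Flat R (Γ(Y, (V : Y.Opens)) ⧸ f.ker.ideal V) := by
    rw [IsDedekindDomain.flat_iff_torsion_eq_bot, Submodule.eq_bot_iff]
    rintro z ⟨⟨r, hr⟩, hz⟩
    obtain ⟨s, rfl⟩ := Ideal.Quotient.mk_surjective z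
    refine Ideal.Quotient.eq_zero_iff_mem.mpr (hJ V ⟨r, nonZeroDivisors.ne_zero hr, ?_⟩)
    rw [← Ideal.Quotient.eq_zero_iff_mem, map_mul]
    exact hz
  have h0 : ((Ideal.Quotient.mk (f.ker.ideal V)).comp (toSections q V)).Flat :=
    RingHom.flat_algebraMap_iff.mpr this
  have h1 : ((f.ker.subschemeObjIso V).inv.hom.comp
      ((Ideal.Quotient.mk (f.ker.ideal V)).comp (toSections q V))).Flat :=
    RingHom.Flat.comp h0
      (RingHom.Flat.of_bijective (f.ker.subschemeObjIso V).commRingCatIsoToRingEquiv.symm.bijective)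
  have h2 := RingHom.Flat.comp
    (RingHom.Flat.of_bijective (Scheme.ΓSpecIso (.of R)).commRingCatIsoToRingEquiv.bijective) h1
  convert h2 using 1
  ext x
  change ((f.imageι ≫ q).appLE ⊤ (f.imageι ⁻¹ᵁ V) le_top) x =
    (CommRingCat.ofHom (Ideal.Quotient.mk (f.ker.ideal V)) ≫ (f.ker.subschemeObjIso V).inv)
      (q.appLE ⊤ V le_top ((Scheme.ΓSpecIso (.of R)).inv ((Scheme.ΓSpecIso (.of R)).hom x)))
  rw [← Scheme.IdealSheafData.subschemeι_app, ← ConcreteCategory.comp_apply,
    ← ConcreteCategory.comp_apply, ← ConcreteCategory.comp_apply]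
  rw [Iso.hom_inv_id_assoc, Scheme.Hom.app_eq_appLE, Scheme.Hom.appLE_comp_appLE]

end Groth.Flatmor4
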