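import Groth.Agent.Flatmor4.FPSections
import Groth.Agent.PropsBasic2.TildePullback
import Groth.Agent.QCohMod.PullbackQCoh
import Groth.Agent.QCohMod.FTCriterion
import Mathlib.RingTheory.Extension.Presentation.Core
import Mathlib.RingTheory.RingHom.FiniteType
import Groth.Prelude.Def_CohB1
import Groth.Agent.Flatmor4.ModuleApprox
import Groth.Agent.Flatmor4.FlatModAffine
import Groth.Agent.FlatMorOne.FlatLocusModelFlat

/-! Noetherian approximation with a flat module. -/

universe u
set_option autoImplicit false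
set_option linter.style.haveILetI false
open CategoryTheory AlgebraicGeometry TopologicalSpace TensorProduct Groth.QCohMod

namespace Groth.Flatmor4

/-- A flat module gives a sheaf with flat global sections over the base. -/
theorem flat_sections_tilde {R₁ B₀ : Type u} [CommRing R₁] [CommRing B₀] [Algebra R₁ B₀]
    (N : Type u) [AddCommGroup N] [Module B₀ N] [Module R₁ N] [IsScalarTower R₁ B₀ N]
    [Module.Flat R₁ N] :
    letI := sectionModule (Spec.map (CommRingCat.ofHom (algebraMap R₁ B₀)))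
      (tilde (ModuleCat.of (CommRingCat.of B₀) N)) (U := ⊤) (V := ⊤) le_top
    Module.Flat Γ(Spec (CommRingCat.of R₁), ⊤)
      Γ(tilde (ModuleCat.of (CommRingCat.of B₀) N), (⊤ : (Spec (CommRingCat.of B₀)).Opens)) := by
  let G := tilde (ModuleCat.of (CommRingCat.of B₀) N)
  let φ : CommRingCat.of R₁ ⟶ CommRingCat.of B₀ := CommRingCat.ofHom (algebraMap R₁ B₀)
  letI := sectionModule (Spec.map φ) G (U := ⊤) (V := ⊤) le_top
  letI : Algebra R₁ Γ(Spec (CommRingCat.of R₁), ⊤) := (Scheme.ΓSpecIso (.of R₁)).inv.hom.toAlgebra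
  letI : Module R₁ Γ(G, (⊤ : (Spec (CommRingCat.of B₀)).Opens)) :=
    Module.compHom _ (algebraMap R₁ Γ(Spec (CommRingCat.of R₁), ⊤))
  haveI : IsScalarTower R₁ Γ(Spec (CommRingCat.of R₁), ⊤) Γ(G, (⊤ : (Spec (CommRingCat.of B₀)).Opens)) :=
    .of_algebraMap_smul fun _ _ => rfl
  have hbij : Function.Bijective (algebraMap R₁ Γ(Spec (CommRingCat.of R₁), ⊤)) :=
    (Scheme.ΓSpecIso (.of R₁)).commRingCatIsoToRingEquiv.symm.bijective
  haveI : IsLocalization (⊥ : Submonoid R₁) R₁ := IsLocalization.self bot_le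
  haveI : IsLocalization (⊥ : Submonoid R₁) Γ(Spec (CommRingCat.of R₁), ⊤) :=
    IsLocalization.isLocalization_of_algEquiv (S := R₁) _
      (AlgEquiv.ofBijective (Algebra.ofId R₁ _) hbij)
  rw [Module.flat_iff_of_isLocalization Γ(Spec (CommRingCat.of R₁), ⊤) (⊥ : Submonoid R₁)]
  let e := (tilde.isoTop (ModuleCat.of (CommRingCat.of B₀) N)).toLinearEquiv
  refine Module.Flat.of_linearEquiv (M := N)
    (LinearEquiv.symm { e.toAddEquiv with map_smul' := fun a x => ?_ })
  show (show Γ(G, (⊤ : (Spec (CommRingCat.of B₀)).Opens)) from e (a • x)) =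
    (Spec.map φ).appLE ⊤ ⊤ le_top ((Scheme.ΓSpecIso (.of R₁)).inv a) • (show Γ(G, (⊤ : (Spec (CommRingCat.of B₀)).Opens)) from e x)
  rw [← IsScalarTower.algebraMap_smul B₀ a x, map_smul]
  refine (Scheme.Modules.smul_Spec_def (R := CommRingCat.of B₀) (algebraMap R₁ B₀ a)
    (show Γ(G, (⊤ : (Spec (CommRingCat.of B₀)).Opens)) from e x)).trans ?_
  congr 1
  have h := ConcreteCategory.congr_hom (Scheme.ΓSpecIso_inv_naturality φ) a
  simp only [ConcreteCategory.comp_apply] at h
  rw [Scheme.Hom.appLE]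
  simp only [ConcreteCategory.comp_apply]
  congr 1

/-- Extension of scalars along the structure map is the tensor product. -/
theorem nonempty_extendScalars_iso {B₀ B : CommRingCat.{u}} [alg : Algebra B₀ B] (φ : B₀ ⟶ B)
    (hφ : φ.hom = algebraMap B₀ B) (N : ModuleCat.{u} B₀) (M : ModuleCat.{u} B)
    (e : TensorProduct B₀ B N ≃ₗ[B] M) :
    Nonempty ((ModuleCat.extendScalars φ.hom).obj N ≅ M) := by
  obtain rfl : alg = φ.hom.toAlgebra := Algebra.algebra_ext _ _ fun a => by rw [hφ]; rfl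
  exact ⟨e.toModuleIso⟩

/-- Noetherian approximation with a flat module. -/
theorem exists_approximation_flat_module {X S : Scheme.{u}} (f : X ⟶ S) [IsAffine X] [IsAffine S]
    [LocallyOfFinitePresentation f] (F : X.Modules) [F.IsQuasicoherent] (hF : CohB1.IsFP F)
    (hfl : FlatMod.IsFlatOver f F) :
    ∃ (X₀ S₀ : Scheme.{u}) (f₀ : X₀ ⟶ S₀) (g : S ⟶ S₀) (g' : X ⟶ X₀),
      IsAffine X₀ ∧ IsAffine S₀ ∧ IsPullback g' f f₀ g ∧
      Algebra.FiniteType ℤ Γ(S₀, ⊤) ∧ LocallyOfFiniteType f₀ ∧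
      ∃ F₀ : X₀.Modules, Coh.IsCoh F₀ ∧ FlatMod.IsFlatOver f₀ F₀ ∧
        Nonempty ((Scheme.Modules.pullback g').obj F₀ ≅ F) := by
  classical
  let A := Γ(S, ⊤)
  let B := Γ(X, ⊤)
  letI : Algebra A B := f.appTop.hom.toAlgebra
  haveI : Algebra.FinitePresentation A B :=
    (HasRingHomProperty.iff_of_isAffine (P := @LocallyOfFinitePresentation)).mp ‹_›
  -- the module
  let F' := (Scheme.Modules.pullback X.isoSpec.inv).obj F
  haveI hF'q : F'.IsQuasicoherent := isQCoh_pullback_obj X.isoSpec.inv F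
  have hF' : CohB1.IsFP F' := isFP_pullback X.isoSpec.inv F hF
  let M : ModuleCat.{u} B := moduleSpecΓFunctor.obj F'
  haveI : Module.FinitePresentation B M := by
    haveI := finitePresentation_sections_of_isFP F' hF' (isAffineOpen_top (Spec B))
    letI : Algebra B Γ(Spec B, ⊤) := (Scheme.ΓSpecIso B).inv.hom.toAlgebra
    letI : Module B Γ(F', (⊤ : (Spec B).Opens)) := inferInstanceAs (Module B M)
    haveI : IsScalarTower B Γ(Spec B, ⊤) Γ(F', (⊤ : (Spec B).Opens)) :=
      .of_algebraMap_smul fun r x => by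
        rw [Scheme.Modules.smul_Spec_def]
        congr 1
    have hbij : Function.Bijective (algebraMap B Γ(Spec B, ⊤)) :=
      (Scheme.ΓSpecIso B).commRingCatIsoToRingEquiv.symm.bijective
    haveI : Module.FinitePresentation B Γ(Spec B, ⊤) :=
      Module.FinitePresentation.of_equiv (LinearEquiv.ofBijective (Algebra.linearMap B _) hbij)
    exact Module.FinitePresentation.trans B Γ(F', (⊤ : (Spec B).Opens)) Γ(Spec B, ⊤)
  letI : Module A M := Module.compHom _ (algebraMap A B)
  haveI : IsScalarTower A B M := IsScalarTower.of_algebraMap_smul fun _ _ => rfl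
  haveI : Module.Flat A M := by
    have hfl' : FlatMod.IsFlatOver (X.isoSpec.inv ≫ f) F' := fun y =>
      (isFlatOverAt_pullback_iff X.isoSpec.inv f F y
        (Flat.stalkMap X.isoSpec.inv y)).mp (hfl _)
    have hflat := (flat_sections_iff (X.isoSpec.inv ≫ f) F' (isAffineOpen_top (Spec B))
      (isAffineOpen_top S) le_top).mpr fun y _ => hfl' y
    letI := sectionModule (X.isoSpec.inv ≫ f) F' (U := ⊤) (V := ⊤) le_top
    refine @Module.Flat.of_linearEquiv _ _ _ _ _ _ _ _ hflat
      { toFun := fun x => (show Γ(F', (⊤ : (Spec B).Opens)) from x)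
        invFun := fun x => x
        map_add' := fun _ _ => rfl
        map_smul' := fun a x => ?_
        left_inv := fun _ => rfl
        right_inv := fun _ => rfl }
    show (show Γ(F', (⊤ : (Spec B).Opens)) from (algebraMap A B a • x : M)) =
      (X.isoSpec.inv ≫ f).appLE ⊤ ⊤ le_top a • (show Γ(F', (⊤ : (Spec B).Opens)) from x)
    refine (Scheme.Modules.smul_Spec_def (R := B) (algebraMap A B a)
      (show Γ(F', (⊤ : (Spec B).Opens)) from x)).trans ?_
    congr 1
    have hinv : X.isoSpec.inv.appTop = (Scheme.ΓSpecIso B).inv := by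
      rw [← Iso.hom_comp_eq_id, ← Scheme.toSpecΓ_appTop]
      exact ((Scheme.Hom.comp_appTop X.isoSpec.inv X.isoSpec.hom).symm.trans
        (congrArg Scheme.Hom.appTop X.isoSpec.inv_hom_id)).trans Scheme.Hom.id_appTop
    simp [Scheme.Hom.appLE, RingHom.algebraMap_toAlgebra]
    erw [← hinv]
    rfl
  obtain ⟨R₁, _, _, B₀, _, _, _, _, _, _, N, _, _, _, _, _, _, fN, hZ, hftB, hN, hflN, hp, hfN⟩ :=
    Groth.FlatMorOne.exists_flat_model A B M
  let eN : TensorProduct B₀ B N ≃ₗ[B] M := hfN.equiv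
  have hpb := isPullback_SpecMap_of_isPushout _ _ _ _
    ((CommRingCat.isPushout_iff_isPushout (R' := A) (S := B₀) (S' := B)).mpr hp)
  let φ : CommRingCat.of B₀ ⟶ B := CommRingCat.ofHom (algebraMap B₀ B)
  refine ⟨Spec (.of B₀), Spec (.of R₁), Spec.map (CommRingCat.ofHom (algebraMap R₁ B₀)),
    S.isoSpec.hom ≫ Spec.map (CommRingCat.ofHom (algebraMap R₁ A)),
    X.isoSpec.hom ≫ Spec.map φ, inferInstance, inferInstance,
    ?_, ?_, ?_, ?_⟩
  · refine (IsPullback.of_horiz_isIso ⟨?_⟩).paste_horiz hpb.flip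
    exact Scheme.isoSpec_hom_naturality f
  · rw [← RingHom.finiteType_algebraMap, RingHom.ext_int (algebraMap ℤ Γ(Spec (.of R₁), ⊤))
      ((Scheme.ΓSpecIso (.of R₁)).inv.hom.comp (algebraMap ℤ R₁))]
    exact RingHom.FiniteType.comp_surjective (f := algebraMap ℤ R₁)
      (g := (Scheme.ΓSpecIso (.of R₁)).inv.hom) (RingHom.finiteType_algebraMap.mpr inferInstance)
      (Scheme.ΓSpecIso (.of R₁)).commRingCatIsoToRingEquiv.symm.surjective
  · rw [HasRingHomProperty.Spec_iff (P := @LocallyOfFiniteType)]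
    exact RingHom.finiteType_algebraMap.mpr inferInstance
  let N' : ModuleCat.{u} (CommRingCat.of B₀) := ModuleCat.of B₀ N
  let F₀ : (Spec (CommRingCat.of B₀)).Modules := tilde N'
  haveI hq0 : F₀.IsQuasicoherent := inferInstanceAs (tilde N').IsQuasicoherent
  refine ⟨F₀, ⟨hq0, ?_⟩, ?_, ⟨?_⟩⟩
  · haveI : Module.Finite (CommRingCat.of B₀) N' := hN
    exact isFT_tilde N'
  · intro y
    refine (flat_sections_iff _ F₀ (isAffineOpen_top (Spec (.of B₀))) (isAffineOpen_top (Spec (.of R₁))) le_top).mp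
      ?_ y trivial
    exact flat_sections_tilde N
  · letI : Algebra (CommRingCat.of B₀) B := inferInstanceAs (Algebra B₀ B)
    let iN := (nonempty_extendScalars_iso φ rfl N' M eN).some
    let i0 : tilde M ≅ F' := @asIso _ _ _ _ (Scheme.Modules.fromTildeΓ (R := B) F')
      (Scheme.Modules.isIso_fromTildeΓ_of_isQuasicoherent (R := B) F')
    let i1 : (Scheme.Modules.pullback (Spec.map φ)).obj F₀ ≅ F' :=
      (Groth.PropsBasic2.TildePullback.iso φ).app N' ≪≫
        (tilde.functor B).mapIso iN ≪≫ i0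
    exact ((Scheme.Modules.pullbackComp X.isoSpec.hom (Spec.map φ)).app F₀).symm ≪≫
      (Scheme.Modules.pullback X.isoSpec.hom).mapIso i1 ≪≫
      (Scheme.Modules.pullbackComp X.isoSpec.hom X.isoSpec.inv).app F ≪≫
      (Scheme.Modules.pullbackCongr X.isoSpec.hom_inv_id).app F ≪≫
      (Scheme.Modules.pullbackId X).app F

end Groth.Flatmor4
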