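import Groth.Agent.Divisors.AssocNzd
import Groth.Agent.Flatmor4.FlatDedekind
import Mathlib.AlgebraicGeometry.Morphisms.Flat

/-! Flatness over schemes with Bezout local rings through associated points. -/

universe u

open AlgebraicGeometry CategoryTheory

namespace Groth.Flatmor4

open Groth.Divisors

variable {X Y : Scheme.{u}}

/-- A section with nonzero germ at `x` has nonzero germ at an associated point specializing to `x`. -/
lemma exists_weakAss_specializes {U : X.Opens} (hU : IsAffineOpen U) {x : X} (hx : x ∈ U)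
    (t : Γ(X, U)) (ht : X.presheaf.germ U x hx t ≠ 0) :
    ∃ (z : X) (hz : z ∈ U), z ⤳ x ∧ Curv2.IsWeakAssPoint (Coh.structureModule X) z ∧
      X.presheaf.germ U z hz t ≠ 0 := by
  let A : Ideal Γ(X, U) := (Submodule.span Γ(X, U) {t}).annihilator
  have hker : ∀ (y : X) (hy : y ∈ U), X.presheaf.germ U y hy t = 0 ↔
      ∃ c, c ∉ (hU.primeIdealOf ⟨y, hy⟩).asIdeal ∧ c * t = 0 := by
    intro y hy
    let _ := TopCat.Presheaf.algebra_section_stalk X.presheaf (⟨y, hy⟩ : U)
    have := hU.isLocalization_stalk ⟨y, hy⟩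
    refine (IsLocalization.map_eq_zero_iff (hU.primeIdealOf ⟨y, hy⟩).asIdeal.primeCompl
      (X.presheaf.stalk y) t).trans ⟨fun ⟨c, hc⟩ => ⟨c.1, c.2, hc⟩, fun ⟨c, hc, hc'⟩ => ⟨⟨c, hc⟩, hc'⟩⟩
  have hle : A ≤ (hU.primeIdealOf ⟨x, hx⟩).asIdeal := by
    intro c hc
    by_contra hcp
    exact ht ((hker x hx).2 ⟨c, hcp, (Submodule.mem_annihilator_span_singleton _ _).1 hc⟩)
  obtain ⟨q, hq, hqp⟩ := Ideal.exists_minimalPrimes_le hle
  let q' : PrimeSpectrum Γ(X, U) := ⟨q, hq.1.1⟩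
  have hzU : hU.fromSpec q' ∈ U := by
    rw [← SetLike.mem_coe, ← hU.range_fromSpec]
    exact ⟨q', rfl⟩
  have hp : hU.primeIdealOf ⟨hU.fromSpec q', hzU⟩ = q' :=
    hU.fromSpec.isOpenEmbedding.injective (hU.fromSpec_primeIdealOf _)
  refine ⟨hU.fromSpec q', hzU, ?_, ?_, fun h0 => ?_⟩
  · have := ((PrimeSpectrum.le_iff_specializes q' (hU.primeIdealOf ⟨x, hx⟩)).1 hqp).map
      hU.fromSpec.continuous
    rwa [hU.fromSpec_primeIdealOf] at this
  · rw [isWeakAssPoint_iff_weakAss (isQCoh_structureModule X) hU hzU, hp]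
    exact ⟨t, hq⟩
  · obtain ⟨c, hc, hct⟩ := (hker _ hzU).1 h0
    rw [hp] at hc
    exact hc (hq.1.2 ((Submodule.mem_annihilator_span_singleton _ _).2 hct))

/-- A nonzero germ in a domain stays nonzero at generalizations. -/
lemma germ_ne_zero_of_specializes {V : Y.Opens} {y w : Y} (hy : y ∈ V) (hw : w ∈ V) (hs : w ⤳ y)
    [IsDomain (Y.presheaf.stalk y)] (a : Γ(Y, V)) (ha : Y.presheaf.germ V y hy a ≠ 0) :
    Y.presheaf.germ V w hw a ≠ 0 := by
  obtain ⟨_, ⟨W, hW, rfl⟩, hyW, hWV⟩ := Y.isBasis_affineOpens.exists_subset_of_mem_open hy V.2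
  have hwW : w ∈ W := hs.mem_open W.2 hyW
  rw [← TopCat.Presheaf.germ_res_apply Y.presheaf (homOfLE hWV) y hyW] at ha
  rw [← TopCat.Presheaf.germ_res_apply Y.presheaf (homOfLE hWV) w hwW]
  set a' : Γ(Y, W) := Y.presheaf.map (homOfLE hWV).op a
  have hiff : ∀ {v : Y} (hv : v ∈ W) (c : Γ(Y, W)),
      c ∉ (hW.primeIdealOf ⟨v, hv⟩).asIdeal ↔ IsUnit (Y.presheaf.germ W v hv c) :=
    fun hv c => (isUnit_germ_iff hW hv c).symm
  intro h0
  let _ := TopCat.Presheaf.algebra_section_stalk Y.presheaf (⟨w, hwW⟩ : W)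
  have := hW.isLocalization_stalk ⟨w, hwW⟩
  obtain ⟨⟨c, hc⟩, hca⟩ := (IsLocalization.map_eq_zero_iff
    (hW.primeIdealOf ⟨w, hwW⟩).asIdeal.primeCompl (Y.presheaf.stalk w) a').1 h0
  have h1 : Y.presheaf.germ W y hyW c = 0 := by
    have := congrArg (Y.presheaf.germ W y hyW).hom hca
    rw [map_mul, map_zero] at this
    exact (mul_eq_zero.1 this).resolve_right fun h => ha h
  let _ := TopCat.Presheaf.algebra_section_stalk Y.presheaf (⟨y, hyW⟩ : W)
  have := hW.isLocalization_stalk ⟨y, hyW⟩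
  obtain ⟨⟨e, he⟩, hec⟩ := (IsLocalization.map_eq_zero_iff
    (hW.primeIdealOf ⟨y, hyW⟩).asIdeal.primeCompl (Y.presheaf.stalk y) c).1 h1
  have hle : (hW.primeIdealOf ⟨w, hwW⟩).asIdeal ≤ (hW.primeIdealOf ⟨y, hyW⟩).asIdeal := by
    refine (PrimeSpectrum.le_iff_specializes _ _).2
      (hW.fromSpec.isOpenEmbedding.isInducing.specializes_iff.1 ?_)
    rwa [hW.fromSpec_primeIdealOf, hW.fromSpec_primeIdealOf]
  rcases (hW.primeIdealOf ⟨w, hwW⟩).2.mem_or_mem
    ((show e * c = 0 from hec) ▸ (hW.primeIdealOf ⟨w, hwW⟩).asIdeal.zero_mem) with h | h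
  · exact he (hle h)
  · exact hc h

/-- Over Bezout local domains: flat iff the associated points lie over points with field stalks. -/
theorem flat_iff_forall_weakAss_isField (f : X ⟶ Y)
    (hdom : ∀ y : Y, IsDomain (Y.presheaf.stalk y) ∧ IsBezout (Y.presheaf.stalk y)) :
    Flat f ↔ ∀ z : X, Curv2.IsWeakAssPoint (Coh.structureModule X) z →
      IsField (Y.presheaf.stalk (f z)) := by
  constructor
  · intro hf z hz
    have := (hdom (f z)).1
    letI := (f.stalkMap z).hom.toAlgebra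
    have : Module.Flat (Y.presheaf.stalk (f z)) (X.presheaf.stalk z) := Flat.stalkMap f z
    obtain ⟨b, h1, h2⟩ := (isAssociatedPrime_stalk_iff z).1 ((weakAss_structure_iff_stalk z).1 hz)
    by_contra hnf
    obtain ⟨a, ha0, hau⟩ : ∃ a : Y.presheaf.stalk (f z), a ≠ 0 ∧ ¬ IsUnit a := by
      by_contra! hcon
      exact hnf ⟨exists_pair_ne _, mul_comm, fun {a} ha => (hcon a ha).exists_right_inv⟩
    obtain ⟨n, hn⟩ := h2 (f.stalkMap z a) (fun hu => hau (IsLocalHom.map_nonunit _ hu))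
    have hreg : IsSMulRegular (Y.presheaf.stalk (f z)) (a ^ n) :=
      (IsRegular.of_ne_zero (pow_ne_zero n ha0)).left
    have := Module.Flat.isSMulRegular_of_isRegular (M := X.presheaf.stalk z)
      (IsRegular.of_ne_zero (pow_ne_zero n ha0))
    have hb : b = 0 := this (by
      show a ^ n • b = a ^ n • (0 : X.presheaf.stalk z)
      rw [smul_zero, Algebra.smul_def, map_pow]
      exact hn)
    exact h1 1 (by rw [hb, mul_zero]) isUnit_one
  · intro H
    refine Flat.of_stalkMap f fun x => ?_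
    letI := (f.stalkMap x).hom.toAlgebra
    have := (hdom (f x)).1
    have := (hdom (f x)).2
    show Module.Flat (Y.presheaf.stalk (f x)) (X.presheaf.stalk x)
    rw [Module.Flat.flat_iff_torsion_eq_bot_of_isBezout, Submodule.eq_bot_iff]
    intro b hb
    obtain ⟨⟨a, ha⟩, hab⟩ := hb
    have hab' : f.stalkMap x a * b = 0 := hab
    obtain ⟨V, hxV, a', rfl⟩ := TopCat.Presheaf.exists_germ_eq Y.presheaf a
    obtain ⟨U', hxU', t', rfl⟩ := TopCat.Presheaf.exists_germ_eq X.presheaf b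
    rw [Scheme.Hom.germ_stalkMap_apply] at hab'
    let W := U' ⊓ f ⁻¹ᵁ V
    have hxW : x ∈ W := ⟨hxU', hxV⟩
    rw [← TopCat.Presheaf.germ_res_apply X.presheaf (homOfLE (inf_le_left : W ≤ U')) x hxW t',
      ← TopCat.Presheaf.germ_res_apply X.presheaf (homOfLE (inf_le_right : W ≤ f ⁻¹ᵁ V)) x hxW,
      ← map_mul, ← map_zero (X.presheaf.germ W x hxW).hom] at hab'
    obtain ⟨W', hxW', i, j, he⟩ := X.presheaf.germ_eq x _ _ _ _ hab'
    obtain ⟨_, ⟨U, hU, rfl⟩, hxU, hUW⟩ := X.isBasis_affineOpens.exists_subset_of_mem_open hxW' W'.2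
    have he' := congrArg (X.presheaf.map (homOfLE hUW).op).hom he
    rw [← TopCat.Presheaf.germ_res_apply X.presheaf
      (homOfLE hUW ≫ i ≫ homOfLE (inf_le_left : W ≤ U')) x hxU t']
    by_contra hne
    obtain ⟨z, hzU, hzx, hwa, hz⟩ := exists_weakAss_specializes hU hxU _ hne
    have hzV : f z ∈ V := (i.le (hUW hzU)).2
    have hfld := H z hwa
    have ha0 : Y.presheaf.germ V (f z) hzV a' ≠ 0 :=
      germ_ne_zero_of_specializes hxV hzV (hzx.map f.continuous) a' (nonZeroDivisors.ne_zero ha)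
    have hu : IsUnit (Y.presheaf.germ V (f z) hzV a') := by
      obtain ⟨c, hc⟩ := hfld.mul_inv_cancel ha0
      exact IsUnit.of_mul_eq_one c hc
    have hu' := hu.map (f.stalkMap z).hom
    erw [Scheme.Hom.germ_stalkMap_apply] at hu'
    have h0 := congrArg (X.presheaf.germ U z hzU).hom he'
    simp only [map_mul, map_zero] at h0
    erw [TopCat.Presheaf.germ_res_apply, TopCat.Presheaf.germ_res_apply,
      TopCat.Presheaf.germ_res_apply, TopCat.Presheaf.germ_res_apply,
      TopCat.Presheaf.germ_res_apply, TopCat.Presheaf.germ_res_apply] at h0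
    simp only [TopCat.Presheaf.germ_res_apply] at hz
    exact hz (hu'.mul_right_eq_zero.1 h0)

end Groth.Flatmor4
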