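import Groth.Prelude.Def_MoreMor
import Mathlib.RingTheory.Spectrum.Prime.Topology

universe u
open CategoryTheory AlgebraicGeometry PrimeSpectrum

namespace Groth.Flatmor4

variable {X S : Scheme.{u}}

/-- A lift of a nilpotent thickening of an affine scheme lands in any open containing the reduction. -/
lemma range_subset_of_comp {A : Type u} [CommRing A] (I : Ideal A) (hI : I ^ 2 = ⊥)
    (l : Spec (CommRingCat.of A) ⟶ X) (U : X.Opens)
    (h : Set.range (Spec.map (CommRingCat.ofHom (Ideal.Quotient.mk I)) ≫ l).base ⊆ (U : Set X)) :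
    Set.range l.base ⊆ (U : Set X) := by
  have hsurj : Function.Surjective (Spec.map (CommRingCat.ofHom (Ideal.Quotient.mk I))).base := by
    intro p
    have hp : I ≤ p.asIdeal := p.isPrime.le_of_pow_le (n := 2) (by simp [hI])
    have : p ∈ Set.range (PrimeSpectrum.comap (Ideal.Quotient.mk I)) := by
      rw [range_comap_of_surjective _ _ Ideal.Quotient.mk_surjective, Ideal.mk_ker]
      exact hp
    exact this
  rintro _ ⟨p, rfl⟩
  obtain ⟨q, rfl⟩ := hsurj p
  exact h ⟨q, rfl⟩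

theorem isFormallySmoothHom_resLE (f : X ⟶ S) (hf : MoreMor.IsFormallySmoothHom f)
    (U : X.Opens) (V : S.Opens) (h : U ≤ f ⁻¹ᵁ V) :
    MoreMor.IsFormallySmoothHom (f.resLE V U h) := by
  intro A _ I hI a b hab
  obtain ⟨l, hl1, hl2⟩ := hf A I hI (a ≫ U.ι) (b ≫ V.ι)
    (by rw [reassoc_of% hab, Scheme.Hom.resLE_comp_ι, Category.assoc])
  have hr : Set.range l.base ⊆ (U : Set X) := by
    refine range_subset_of_comp I hI l U ?_
    rw [hl1]
    rintro _ ⟨p, rfl⟩
    exact (a.base p).2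
  refine ⟨IsOpenImmersion.lift U.ι l (by simpa using hr), ?_, ?_⟩
  · rw [← cancel_mono U.ι, Category.assoc, IsOpenImmersion.lift_fac, hl1]
  · rw [← cancel_mono V.ι, Category.assoc, Scheme.Hom.resLE_comp_ι,
      IsOpenImmersion.lift_fac_assoc, hl2]

theorem isFormallyEtaleHom_resLE (f : X ⟶ S) (hf : MoreMor.IsFormallyEtaleHom f)
    (U : X.Opens) (V : S.Opens) (h : U ≤ f ⁻¹ᵁ V) :
    MoreMor.IsFormallyEtaleHom (f.resLE V U h) := by
  intro A _ I hI a b hab
  have hs : MoreMor.IsFormallySmoothHom f := fun A _ I hI a b hab => (hf A I hI a b hab).exists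
  obtain ⟨l, hl1, hl2⟩ := isFormallySmoothHom_resLE f hs U V h A I hI a b hab
  refine ⟨l, ⟨hl1, hl2⟩, fun l' hl' => ?_⟩
  rw [← cancel_mono U.ι]
  refine (hf A I hI (a ≫ U.ι) (b ≫ V.ι)
    (by rw [reassoc_of% hab, Scheme.Hom.resLE_comp_ι, Category.assoc])).unique ?_ ?_
  · exact ⟨by rw [reassoc_of% hl'.1], by
      rw [Category.assoc, ← Scheme.Hom.resLE_comp_ι f h, reassoc_of% hl'.2]⟩
  · exact ⟨by rw [reassoc_of% hl1], by
      rw [Category.assoc, ← Scheme.Hom.resLE_comp_ι f h, reassoc_of% hl2]⟩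

end Groth.Flatmor4
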