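import Groth.Agent.Flatmor4.FpqcSubterminal
import Groth.Agent.AlgSp3.DimFacts
import Groth.Agent.AlgSp3.FibreBaseChange
import Groth.Agent.FlatMor2.NoethFibre

set_option autoImplicit false
set_option linter.style.haveILetI false
set_option backward.isDefEq.respectTransparency.types false

universe u

open CategoryTheory CategoryTheory.Limits AlgebraicGeometry

namespace Groth.Flatmor4

/-- Over any point of the base of a base change there is a point with the same transcendence degree. -/
theorem exists_resTrdeg_eq {X Y X' Y' : Scheme.{u}} {f : X ⟶ Y} [LocallyOfFiniteType f] {g : Y' ⟶ Y}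
    {f' : X' ⟶ Y'} {g' : X' ⟶ X} (hc : IsPullback g' f' f g) (x : X) (y' : Y') (h : f x = g y') :
    ∃ x' : X', g' x' = x ∧ f' x' = y' ∧ Dual3.resTrdeg f' x' = Dual3.resTrdeg f x := by
  haveI : LocallyOfFiniteType f' := MorphismProperty.of_isPullback hc inferInstance
  obtain ⟨x', h1, h2, h3⟩ := Groth.AlgSp3.exists_fibreStalkDim_eq f g f' g' hc x y' h
  refine ⟨x', h1, h2, ?_⟩
  subst h1
  obtain ⟨t, ht, -⟩ := Groth.FibreDim.exists_relTrdeg_eq_height f (g' x')
  obtain ⟨t', ht', -⟩ := Groth.FibreDim.exists_relTrdeg_eq_height f' x'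
  have e := Groth.FibreDim.fibreDimAt_baseChange f g f' g' hc x'
  have h4 : Dual3.resTrdeg f (g' x') = t := ht
  have h5 : Dual3.resTrdeg f' x' = t' := ht'
  rw [Groth.AlgSp3.fibreDimAt_eq_fibreStalkDim_add f' x',
    Groth.AlgSp3.fibreDimAt_eq_fibreStalkDim_add f (g' x'), h3, h4, h5] at e
  rw [h4, h5]
  haveI : LocallyOfFiniteType (f.fiberToSpecResidueField (f (g' x'))) :=
    inferInstanceAs (LocallyOfFiniteType (pullback.snd f _))
  haveI : IsLocallyNoetherian (f.fiber (f (g' x'))) :=
    LocallyOfFiniteType.isLocallyNoetherian (f.fiberToSpecResidueField (f (g' x')))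
  obtain ⟨r, hr⟩ : ∃ r : ℕ,
      ringKrullDim ↥((f.fiber (f (g' x'))).presheaf.stalk (f.asFiber (g' x'))) = r := by
    have h6 := ringKrullDim_lt_top (R := ↥((f.fiber (f (g' x'))).presheaf.stalk (f.asFiber (g' x'))))
    have h7 := ringKrullDim_nonneg_of_nontrivial
      (R := ↥((f.fiber (f (g' x'))).presheaf.stalk (f.asFiber (g' x'))))
    generalize ringKrullDim ↥((f.fiber (f (g' x'))).presheaf.stalk (f.asFiber (g' x'))) = a at h6 h7
    cases a with
    | bot => simp at h7
    | coe a =>
      cases a with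
      | top => exact absurd h6 (lt_irrefl _)
      | coe a => exact ⟨a, rfl⟩
  rw [hr, map_natCast, map_natCast] at e
  norm_cast at e ⊢
  omega

end Groth.Flatmor4

namespace Groth.Flatmor4

theorem resTrdeg_baseChange_le {X Y X' Y' : Scheme.{u}} {f : X ⟶ Y} [LocallyOfFiniteType f] {g : Y' ⟶ Y}
    {f' : X' ⟶ Y'} {g' : X' ⟶ X} (hc : IsPullback g' f' f g) (x' : X') :
    Dual3.resTrdeg f' x' ≤ Dual3.resTrdeg f (g' x') := by
  haveI : LocallyOfFiniteType f' := MorphismProperty.of_isPullback hc inferInstance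
  have hle := Groth.AlgSp3.fibreStalkDim_le_baseChange f g f' g' hc x'
  obtain ⟨t, ht, -⟩ := Groth.FibreDim.exists_relTrdeg_eq_height f (g' x')
  obtain ⟨t', ht', -⟩ := Groth.FibreDim.exists_relTrdeg_eq_height f' x'
  have e := Groth.FibreDim.fibreDimAt_baseChange f g f' g' hc x'
  have h4 : Dual3.resTrdeg f (g' x') = t := ht
  have h5 : Dual3.resTrdeg f' x' = t' := ht'
  rw [Groth.AlgSp3.fibreDimAt_eq_fibreStalkDim_add f' x',
    Groth.AlgSp3.fibreDimAt_eq_fibreStalkDim_add f (g' x'), h4, h5, map_natCast, map_natCast] at e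
  rw [h4, h5]
  haveI : LocallyOfFiniteType (f.fiberToSpecResidueField (f (g' x'))) :=
    inferInstanceAs (LocallyOfFiniteType (pullback.snd f _))
  haveI : IsLocallyNoetherian (f.fiber (f (g' x'))) :=
    LocallyOfFiniteType.isLocallyNoetherian (f.fiberToSpecResidueField (f (g' x')))
  haveI : LocallyOfFiniteType (f'.fiberToSpecResidueField (f' x')) :=
    inferInstanceAs (LocallyOfFiniteType (pullback.snd f' _))
  haveI : IsLocallyNoetherian (f'.fiber (f' x')) :=
    LocallyOfFiniteType.isLocallyNoetherian (f'.fiberToSpecResidueField (f' x'))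
  have key : ∀ (R : Type u) [CommRing R] [IsLocalRing R] [IsNoetherianRing R],
      ∃ r : ℕ, ringKrullDim R = r := by
    intro R _ _ _
    have h6 := ringKrullDim_lt_top (R := R)
    have h7 := ringKrullDim_nonneg_of_nontrivial (R := R)
    generalize ringKrullDim R = a at h6 h7
    cases a with
    | bot => simp at h7
    | coe a =>
      cases a with
      | top => exact absurd h6 (lt_irrefl _)
      | coe a => exact ⟨a, rfl⟩
  obtain ⟨r, hr⟩ := key ↥((f.fiber (f (g' x'))).presheaf.stalk (f.asFiber (g' x')))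
  obtain ⟨r', hr'⟩ := key ↥((f'.fiber (f' x')).presheaf.stalk (f'.asFiber x'))
  rw [hr, hr'] at e hle
  norm_cast at e hle ⊢
  omega

end Groth.Flatmor4
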