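import Groth.Agent.Flatmor4.FpqcSubterminal
import Groth.Agent.SmoothWeil.Geom
import Groth.Agent.PropsBasic.LocFreeRank
import Groth.Agent.QCohMod.PullbackQCoh

/-!
Freeness near the generic points of the fibres of a smooth morphism with geometrically irreducible
fibres can be tested on stalks at these points.
-/

set_option autoImplicit false
set_option linter.style.haveILetI false

universe u

open CategoryTheory CategoryTheory.Limits AlgebraicGeometry TensorProduct Opposite TopologicalSpace
  IsLocalRing Groth.QCohMod Groth.PropsBasic.FPSections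

namespace Groth.Flatmor4

section Algebra

variable {B : Type u} [CommRing B] [IsLocalRing B] {B' : Type u} [CommRing B'] [IsLocalRing B']
  [Algebra B B'] {p : ℕ} {M : Type u} [AddCommGroup M] [Module B M]

/-- A basis of given size descends along a faithfully flat local extension, for finite modules. -/
theorem nonempty_basis_of_faithfullyFlat [Module.Finite B M] [Module.FaithfullyFlat B B']
    [IsLocalHom (algebraMap B B')] (b' : Module.Basis (Fin p) B' (B' ⊗[B] M)) :
    Nonempty (Module.Basis (Fin p) B M) := by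
  classical
  let c := Module.finBasis (ResidueField B) ((ResidueField B) ⊗[B] M)
  have hd : Module.finrank (ResidueField B) ((ResidueField B) ⊗[B] M) = p := by
    have h1 : Module.finrank (ResidueField B') ((ResidueField B') ⊗[(ResidueField B)] ((ResidueField B) ⊗[B] M)) = Module.finrank (ResidueField B) ((ResidueField B) ⊗[B] M) :=
      Module.finrank_baseChange
    rw [← h1, ((AlgebraTensorModule.cancelBaseChange B (ResidueField B) (ResidueField B') (ResidueField B') M).trans
        (AlgebraTensorModule.cancelBaseChange B B' (ResidueField B') (ResidueField B') M).symm).finrank_eq,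
      Module.finrank_eq_card_basis (b'.baseChange (ResidueField B')), Fintype.card_fin]
  let c' := c.reindex (finCongr hd)
  choose m hm using fun i => TensorProduct.mk_surjective B M (ResidueField B) Ideal.Quotient.mk_surjective (c' i)
  have hspan := IsLocalRing.span_eq_top_of_tmul_eq_basis m c' hm
  let φ := Fintype.linearCombination B m
  have hs : Function.Surjective φ := by
    rw [← LinearMap.range_eq_top, Fintype.range_linearCombination, hspan]
  let e : B' ⊗[B] (Fin p → B) ≃ₗ[B'] (Fin p → B') := TensorProduct.piScalarRight B B' B' (Fin p)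
  let ψ : (Fin p → B') →ₗ[B'] (Fin p → B') :=
    b'.equivFun.toLinearMap ∘ₗ (φ.baseChange B') ∘ₗ e.symm.toLinearMap
  have hψ : Function.Surjective ψ :=
    b'.equivFun.surjective.comp
      ((LinearMap.lTensor_surjective B' hs).comp e.symm.surjective)
  have hinj : Function.Injective (φ.lTensor B') := by
    have h1 := OrzechProperty.injective_of_surjective_endomorphism ψ hψ
    intro x y hxy
    refine e.injective (h1 ?_)
    show b'.equivFun (φ.baseChange B' (e.symm (e x))) = b'.equivFun (φ.baseChange B' (e.symm (e y)))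
    rw [e.symm_apply_apply, e.symm_apply_apply]
    exact congrArg b'.equivFun hxy
  exact ⟨(Pi.basisFun B (Fin p)).map (LinearEquiv.ofBijective φ
    ⟨(Module.FaithfullyFlat.lTensor_injective_iff_injective B B' φ).mp hinj, hs⟩)⟩

/-- A spanning family of the size of a basis is linearly independent. -/
theorem eq_zero_of_span {A N : Type u} [CommRing A] [AddCommGroup N] [Module A N]
    (b : Module.Basis (Fin p) A N) (m : Fin p → N) (hm : Submodule.span A (Set.range m) = ⊤)
    (r : Fin p → A) (hr : ∑ i, r i • m i = 0) : r = 0 := by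
  let φ := Fintype.linearCombination A m
  have hs : Function.Surjective φ := by
    rw [← LinearMap.range_eq_top, Fintype.range_linearCombination, hm]
  have h1 := OrzechProperty.injective_of_surjective_endomorphism (b.equivFun.toLinearMap ∘ₗ φ)
    (b.equivFun.surjective.comp hs)
  refine h1 ?_
  show b.equivFun (φ r) = b.equivFun (φ 0)
  rw [map_zero φ, Fintype.linearCombination_apply, hr]

end Algebra

section Scheme

variable {X : Scheme.{u}}

theorem finite_stalk (F : X.Modules) [F.IsQuasicoherent] (hF : CohB1.IsFT F) (x : X) :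
    Module.Finite (X.presheaf.stalk x) (F.presheaf.stalk x) := by
  obtain ⟨U, hU, hx, -⟩ := exists_isAffineOpen_mem_and_subset (x := x) (Opens.mem_top x)
  haveI := finite_sections F hF hU
  letI := stalkModule F x hx
  letI : Algebra Γ(X, U) (X.presheaf.stalk x) :=
    TopCat.Presheaf.algebra_section_stalk X.presheaf ⟨x, hx⟩
  haveI : IsLocalization.AtPrime (X.presheaf.stalk x) (hU.primeIdealOf ⟨x, hx⟩).asIdeal :=
    hU.isLocalization_stalk ⟨x, hx⟩
  haveI : IsScalarTower Γ(X, U) (X.presheaf.stalk x) (F.presheaf.stalk x) :=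
    .of_algebraMap_smul fun _ _ => rfl
  haveI := isLocalizedModule_germ F hU x hx
  exact Module.Finite.of_isLocalizedModule (hU.primeIdealOf ⟨x, hx⟩).asIdeal.primeCompl (germₗ F x hx)

/-- A module free of rank `p` near a point has a stalk basis of size `p`. -/
theorem nonempty_stalkBasis {F : X.Modules} [F.IsQuasicoherent] {p : ℕ} {x : X}
    (h : FlatFun.IsFreeOfRankNear F p x) :
    Nonempty (Module.Basis (Fin p) (X.presheaf.stalk x) (F.presheaf.stalk x)) := by
  obtain ⟨U, hxU, ⟨e⟩⟩ := h
  obtain ⟨D, hD, hx, hDU⟩ := exists_isAffineOpen_mem_and_subset (x := x) (U := U) hxU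
  obtain ⟨c⟩ := Groth.PropsBasic.LocFree.exists_free_iso_of_le F e hD hDU
  let N := ModuleCat.of Γ(X, D) (ULift.{u} (Fin p) →₀ Γ(X, D))
  let e₁ : N ≃ₗ[Γ(X, D)] (moduleSpecΓFunctor (R := Γ(X, D))).obj (F.restrict hD.fromSpec) :=
    (tilde.toTildeΓNatIso.app N ≪≫ (moduleSpecΓFunctor (R := Γ(X, D))).mapIso c.symm).toLinearEquiv
  let e₂ : (moduleSpecΓFunctor (R := Γ(X, D))).obj (F.restrict hD.fromSpec) ≃ₗ[Γ(X, D)] Γ(F, D) :=
    { topEquiv hD F with
      map_smul' := fun r x => by
        have := secEquiv_smul hD F ⊤ (image_top_fromSpec hD) le_rfl r x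
        rw [resFun_self] at this
        exact this }
  let b : Module.Basis (Fin p) Γ(X, D) Γ(F, D) :=
    (Finsupp.basisSingleOne.map (e₁.trans e₂)).reindex Equiv.ulift
  letI := stalkModule F x hx
  letI : Algebra Γ(X, D) (X.presheaf.stalk x) :=
    TopCat.Presheaf.algebra_section_stalk X.presheaf ⟨x, hx⟩
  haveI : IsLocalization.AtPrime (X.presheaf.stalk x) (hD.primeIdealOf ⟨x, hx⟩).asIdeal :=
    hD.isLocalization_stalk ⟨x, hx⟩
  haveI : IsScalarTower Γ(X, D) (X.presheaf.stalk x) (F.presheaf.stalk x) :=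
    .of_algebraMap_smul fun _ _ => rfl
  haveI := isLocalizedModule_germ F hD x hx
  exact ⟨b.ofIsLocalizedModule (X.presheaf.stalk x) (hD.primeIdealOf ⟨x, hx⟩).asIdeal.primeCompl
    (germₗ F x hx)⟩

variable {T : Scheme.{u}} (f : X ⟶ T) [Smooth f] [GeometricallyIrreducible f]

omit [Smooth f] in
theorem exists_isGenericPtOfFibre (t : T) :
    ∃ x : X, f x = t ∧ FlatFun.IsGenericPtOfFibre f x := by
  refine ⟨f.fiberι t (genericPoint (f.fiber t)), ?_, fun z hz => ?_⟩
  · exact (f.range_fiberι t).le ⟨_, rfl⟩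
  · obtain ⟨w, rfl⟩ : z ∈ Set.range (f.fiberι t) := (f.range_fiberι t).ge
      (hz.trans ((f.range_fiberι t).le ⟨_, rfl⟩))
    exact (genericPoint_specializes w).map (f.fiberι t).continuous

/-- A section vanishing at the generic points of all fibres vanishes. -/
theorem eq_zero_of_germ_generic (D : X.Opens) (b : Γ(X, D))
    (h : ∀ (y : X) (hy : y ∈ D), FlatFun.IsGenericPtOfFibre f y → X.presheaf.germ D y hy b = 0) :
    b = 0 := by
  let T₀ : T.Opens := ⟨f '' D, f.isOpenMap _ D.isOpen⟩
  have hD : D ≤ f ⁻¹ᵁ T₀ := fun y hy => ⟨y, hy, rfl⟩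
  let Ws := {V : X.Opens // ∃ hV : V ≤ D, X.presheaf.map (homOfLE hV).op b = 0}
  let W : X.Opens := ⨆ V : Ws, V.1
  have hWD : W ≤ D := iSup_le fun V => V.2.1
  have hW0 : X.presheaf.map (homOfLE hWD).op b = 0 := by
    refine TopCat.Sheaf.eq_of_locally_eq' X.sheaf (fun V : Ws => V.1) W
      (fun V => homOfLE (le_iSup (fun V : Ws => V.1) V)) le_rfl _ _ fun V => ?_
    show X.presheaf.map _ (X.presheaf.map _ b) = X.presheaf.map _ 0
    rw [map_zero, ← CategoryTheory.comp_apply, ← X.presheaf.map_comp]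
    exact V.2.2
  have hgen : ∀ y, y ∈ D → FlatFun.IsGenericPtOfFibre f y → y ∈ W := by
    intro y hy hgen
    obtain ⟨V, hyV, i₁, i₂, e⟩ := X.presheaf.germ_eq y hy hy b 0
      ((h y hy hgen).trans (map_zero _).symm)
    rw [map_zero] at e
    exact Opens.mem_iSup.mpr ⟨⟨V, leOfHom i₁, e⟩, hyV⟩
  let X₀ := f ⁻¹ᵁ T₀
  haveI : Smooth (f ∣_ T₀) := IsZariskiLocalAtTarget.restrict ‹Smooth f› T₀
  have hdense : CInt.IsSchematicallyDense (X₀.ι ⁻¹ᵁ W) := by
    refine Groth.SmoothWeil.isSchematicallyDense_of_surjective (f ∣_ T₀) _ fun t => ?_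
    obtain ⟨z, hz, hzt⟩ := t.2
    obtain ⟨y, hy, hygen⟩ := exists_isGenericPtOfFibre f t.1
    have hyD : y ∈ D := (hygen z (hzt.trans hy.symm)).mem_open D.isOpen hz
    refine ⟨⟨y, show f y ∈ T₀ from (congrArg (· ∈ T₀) hy).mpr t.2⟩, hgen y hyD hygen, Subtype.ext ?_⟩
    exact (morphismRestrict_base_coe f T₀ _).trans hy
  haveI : IsIso (X₀.ι.app D) := X₀.ι.isIso_app D (by rw [Scheme.Opens.opensRange_ι]; exact hD)
  refine (ConcreteCategory.bijective_of_isIso (X₀.ι.app D)).1 ?_
  rw [map_zero]
  refine hdense (X₀.ι ⁻¹ᵁ D) ?_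
  rw [map_zero]
  have h1 : X₀.ι.app W (X.presheaf.map (homOfLE hWD).op b) = 0 := by rw [hW0, map_zero]
  have h2 := ConcreteCategory.congr_hom (X₀.ι.naturality (homOfLE hWD).op) b
  rw [ConcreteCategory.comp_apply, ConcreteCategory.comp_apply, h1] at h2
  have h3 := congrArg ((X₀ : Scheme.{u}).presheaf.map
    (homOfLE (inf_le_right : X₀.ι ⁻¹ᵁ D ⊓ X₀.ι ⁻¹ᵁ W ≤ X₀.ι ⁻¹ᵁ W)).op) h2
  rw [map_zero, ← CategoryTheory.comp_apply, ← Functor.map_comp] at h3
  exact h3.symm

/-- A module of finite type with a stalk basis of size `p` at every fibre-generic point is free of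
rank `p` near each of them. -/
theorem isFreeOfRankNear_generic (F : X.Modules) [F.IsQuasicoherent] (hF : CohB1.IsFT F) {p : ℕ}
    (hb : ∀ y : X, FlatFun.IsGenericPtOfFibre f y →
      Nonempty (Module.Basis (Fin p) (X.presheaf.stalk y) (F.presheaf.stalk y)))
    (x : X) (hx : FlatFun.IsGenericPtOfFibre f x) : FlatFun.IsFreeOfRankNear F p x := by
  classical
  obtain ⟨U, hU, hxU, -⟩ := exists_isAffineOpen_mem_and_subset (x := x) (Opens.mem_top x)
  haveI := finite_sections F hF hU
  let R := Γ(X, U)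
  let M := Γ(F, U)
  letI := stalkModule F x hxU
  letI : Algebra R (X.presheaf.stalk x) :=
    TopCat.Presheaf.algebra_section_stalk X.presheaf ⟨x, hxU⟩
  haveI : IsLocalization.AtPrime (X.presheaf.stalk x) (hU.primeIdealOf ⟨x, hxU⟩).asIdeal :=
    hU.isLocalization_stalk ⟨x, hxU⟩
  haveI : IsScalarTower R (X.presheaf.stalk x) (F.presheaf.stalk x) :=
    .of_algebraMap_smul fun _ _ => rfl
  haveI := isLocalizedModule_germ F hU x hxU
  let S := (hU.primeIdealOf ⟨x, hxU⟩).asIdeal.primeCompl
  obtain ⟨b⟩ := hb x hx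
  choose ms hms using fun i => IsLocalizedModule.surj S (germₗ F x hxU) (b i)
  let m : Fin p → M := fun i => (ms i).1
  let Q := Submodule.span R (Set.range m)
  have hQ : ∀ v : M, ∃ c : S, c • v ∈ Q := by
    intro v
    have hv : germₗ F x hxU v ∈ Submodule.span (X.presheaf.stalk x) (Set.range fun i => germₗ F x hxU (m i)) := by
      suffices Submodule.span (X.presheaf.stalk x) (Set.range fun i => germₗ F x hxU (m i)) = ⊤ by
        rw [this]; trivial
      rw [eq_top_iff, ← b.span_eq, Submodule.span_le]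
      rintro _ ⟨i, rfl⟩
      have hu : IsUnit (algebraMap R (X.presheaf.stalk x) ((ms i).2 : R)) :=
        IsLocalization.map_units (X.presheaf.stalk x) ((ms i).2 : S)
      have e := hms i
      rw [Submonoid.smul_def, ← algebraMap_smul (X.presheaf.stalk x) ((ms i).2 : R)] at e
      rw [SetLike.mem_coe, ← Submodule.smul_mem_iff_of_isUnit _ hu, e]
      exact Submodule.subset_span ⟨i, rfl⟩
    rw [Set.range_comp' (germₗ F x hxU) m,
      ← Submodule.localized'_span (X.presheaf.stalk x) S (germₗ F x hxU) (Set.range m)] at hv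
    obtain ⟨q, hq, s, hqs⟩ := hv
    rw [IsLocalizedModule.mk'_eq_iff] at hqs
    obtain ⟨c, hc⟩ := (IsLocalizedModule.eq_iff_exists S (germₗ F x hxU)).mp
      (hqs.trans ((map_smul (germₗ F x hxU) (s : R) v).symm))
    refine ⟨c * s, ?_⟩
    rw [mul_smul]
    exact hc ▸ Q.smul_mem (c : R) hq
  obtain ⟨gens, hgens⟩ := (Module.Finite.fg_top (R := R) (M := M))
  choose c hc using hQ
  let g : S := ∏ v ∈ gens, c v
  have hg : ∀ v : M, g • v ∈ Q := by
    intro v
    have hv : v ∈ Submodule.span R (gens : Set M) := by rw [hgens]; trivial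
    refine (Submodule.span_le.mpr ?_ : Submodule.span R (gens : Set M) ≤ Q.comap (LinearMap.lsmul R M (g : R))) hv
    intro w hw
    obtain ⟨d, hd⟩ := Finset.dvd_prod_of_mem c (Finset.mem_coe.mp hw)
    show (g : R) • w ∈ Q
    rw [show (g : R) = (d : R) * (c w : R) by rw [← Submonoid.coe_mul, mul_comm, ← hd], mul_smul]
    exact Q.smul_mem _ (hc w)
  let D := X.basicOpen (g : R)
  have hD : IsAffineOpen D := hU.basicOpen _
  have hxD : x ∈ D := (mem_basicOpen_iff_notMem_primeIdealOf hU (g : R) x hxU).mpr g.2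
  letI := resModule F (g : R)
  haveI := isScalarTower_resModule F (g : R)
  haveI := IsAffineOpen.isLocalization_basicOpen hU (g : R)
  haveI := isLocalizedModule_resₗ F hU (g : R)
  let mD : Fin p → Γ(F, D) := fun i => resₗ F (g : R) (m i)
  have hspan : Submodule.span Γ(X, D) (Set.range mD) = ⊤ := by
    rw [eq_top_iff]
    intro v _
    obtain ⟨⟨w, s⟩, hw⟩ := IsLocalizedModule.surj (Submonoid.powers (g : R)) (resₗ F (g : R)) v
    have hu : IsUnit (algebraMap R Γ(X, D) (g : R)) :=
      IsLocalization.map_units (M := Submonoid.powers (g : R)) Γ(X, D) ⟨_, Submonoid.mem_powers _⟩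
    obtain ⟨n, hn⟩ := s.2
    rw [← Submodule.smul_mem_iff_of_isUnit _ (hu.pow (n + 1)), ← map_pow, algebraMap_smul, pow_succ',
      mul_smul, show (g : R) ^ n • v = resₗ F (g : R) w by rw [← hw, Submonoid.smul_def, ← hn],
      ← map_smul]
    have h1 : resₗ F (g : R) ((g : R) • w) ∈ Q.map (resₗ F (g : R)) := ⟨_, hg w, rfl⟩
    rw [Submodule.map_span, ← Set.range_comp] at h1
    exact Submodule.span_le_restrictScalars R Γ(X, D) _ h1
  have hli : ∀ r : Fin p → Γ(X, D), ∑ i, r i • mD i = 0 → r = 0 := by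
    intro r hr
    funext i
    refine eq_zero_of_germ_generic f D (r i) fun y hy hgy => ?_
    letI := stalkModule F y hy
    letI : Algebra Γ(X, D) (X.presheaf.stalk y) :=
      TopCat.Presheaf.algebra_section_stalk X.presheaf ⟨y, hy⟩
    haveI : IsLocalization.AtPrime (X.presheaf.stalk y) (hD.primeIdealOf ⟨y, hy⟩).asIdeal :=
      hD.isLocalization_stalk ⟨y, hy⟩
    haveI : IsScalarTower Γ(X, D) (X.presheaf.stalk y) (F.presheaf.stalk y) :=
      .of_algebraMap_smul fun _ _ => rfl
    haveI := isLocalizedModule_germ F hD y hy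
    obtain ⟨by'⟩ := hb y hgy
    have hs : Submodule.span (X.presheaf.stalk y) (Set.range fun j => germₗ F y hy (mD j)) = ⊤ := by
      rw [← span_eq_top_of_isLocalizedModule (X.presheaf.stalk y)
        (hD.primeIdealOf ⟨y, hy⟩).asIdeal.primeCompl (germₗ F y hy) hspan, ← Set.range_comp]
      rfl
    refine congrFun (eq_zero_of_span by' _ hs (fun j => X.presheaf.germ D y hy (r j)) ?_) i
    have h2 := congrArg (germₗ F y hy) hr
    rw [map_sum, map_zero] at h2
    refine Eq.trans (Finset.sum_congr rfl fun j _ => ?_) h2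
    rw [map_smul]
    exact algebraMap_smul (X.presheaf.stalk y) (r j) (germₗ F y hy (mD j))
  let bD : Module.Basis (Fin p) Γ(X, D) Γ(F, D) :=
    Module.Basis.mk (Fintype.linearIndependent_iff.mpr fun r hr => congrFun (hli r hr)) hspan.ge
  exact ⟨D, hxD, Groth.PropsBasic.LocFree.nonempty_iso_free_of_basis F hD (bD.reindex Equiv.ulift.symm)⟩

end Scheme

end Groth.Flatmor4

namespace Groth.Flatmor4

section XT

variable {X S : Scheme.{u}} (f : X ⟶ S) [Smooth f] [GeometricallyIrreducible f] (F : X.Modules)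
  [F.IsQuasicoherent]

omit [Smooth f] [GeometricallyIrreducible f] [F.IsQuasicoherent] in
theorem XTmap_generic {T T' : Over S} (g : T' ⟶ T) (y : PicF.XT f T) (y' : PicF.XT f T')
    (hy : FlatFun.IsGenericPtOfFibre (PicF.XTproj f T) y)
    (hy' : FlatFun.IsGenericPtOfFibre (PicF.XTproj f T') y')
    (h : g.left (PicF.XTproj f T' y') = PicF.XTproj f T y) : PicF.XTmap f g y' = y := by
  obtain ⟨z, hz1, hz2⟩ := exists_XT_over f g y _ h
  have h1 : PicF.XTmap f g y' ⤳ y := hz1 ▸ (hy' z hz2).map (PicF.XTmap f g).continuous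
  have h2 : y ⤳ PicF.XTmap f g y' := hy _ (by
    rw [← h]
    exact congr($((isPullback_XTmap f g).w) y'))
  exact (h1.antisymm h2).eq

omit [F.IsQuasicoherent] [Smooth f] [GeometricallyIrreducible f] in
/-- Stalks of the inverse image to a bigger test scheme. -/
theorem nonempty_ET_stalkEquiv {T T' : Over S} (g : T' ⟶ T) (y' : PicF.XT f T') :
    letI := stalkAlg (PicF.XTmap f g) y'
    Nonempty ((PicF.XT f T').presheaf.stalk y' ⊗[(PicF.XT f T).presheaf.stalk (PicF.XTmap f g y')]
        (FGA.ET f F T).presheaf.stalk (PicF.XTmap f g y') ≃ₗ[(PicF.XT f T').presheaf.stalk y']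
      (FGA.ET f F T').presheaf.stalk y') := by
  letI := stalkAlg (PicF.XTmap f g) y'
  exact ⟨(pullStalkEquiv (PicF.XTmap f g) (FGA.ET f F T) y').trans
    (LinearEquiv.ofBijective (stalkLin (FGA.ETiso f F g).hom y')
      (ConcreteCategory.bijective_of_isIso ((stalk y').map (FGA.ETiso f F g).hom)))⟩

end XT

end Groth.Flatmor4
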