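import Groth.Agent.Flatmor4.StageBasis
import Groth.Agent.Flatmor4.FpqcDims
import Groth.Agent.Flatmor4.FreeFibre
import Groth.Agent.FibreDim.Smooth
import Groth.Agent.VarietyBC.AffineNhd
import Groth.Agent.FlatMor2.FibCrit.Fibre

/-!
Smooth morphisms with irreducible fibres: the generic points of the fibres are exactly the points of
maximal transcendence degree, and flat finitely presented modules are free there.
-/

set_option autoImplicit false
set_option linter.style.haveILetI false
set_option backward.isDefEq.respectTransparency.types false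

universe u

open CategoryTheory CategoryTheory.Limits AlgebraicGeometry TensorProduct IsLocalRing Groth.QCohMod

namespace Groth.Flatmor4

variable {X T : Scheme.{u}} (f : X ⟶ T) (d : ℕ) [SmoothOfRelativeDimension d f]

theorem asFiber_isMax {x : X} (hx : FlatFun.IsGenericPtOfFibre f x) (z : f.fiber (f x))
    (h : z ⤳ f.asFiber x) : z = f.asFiber x := by
  apply (f.fiberι (f x)).isEmbedding.injective
  rw [f.fiberι_asFiber]
  have h1 : f.fiberι (f x) z ⤳ x := by
    have := h.map (f.fiberι (f x)).continuous
    rwa [f.fiberι_asFiber] at this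
  exact (h1.antisymm (hx _ ((f.range_fiberι (f x)).le ⟨z, rfl⟩))).eq

theorem ringKrullDim_fibre_stalk_generic [GeometricallyIrreducible f] {x : X}
    (hx : FlatFun.IsGenericPtOfFibre f x) :
    ringKrullDim ((f.fiber (f x)).presheaf.stalk (f.asFiber x)) = 0 := by
  rw [ringKrullDim_stalk_eq_coheight]
  have : Order.coheight (f.asFiber x) = 0 :=
    Order.coheight_eq_zero.2 fun z (hz : f.asFiber x ≤ z) => (asFiber_isMax f hx z hz).symm ▸ le_rfl
  simp [this]

theorem one_le_ringKrullDim_fibre_stalk [GeometricallyIrreducible f] {x : X}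
    (hx : ¬ FlatFun.IsGenericPtOfFibre f x) :
    1 ≤ ringKrullDim ((f.fiber (f x)).presheaf.stalk (f.asFiber x)) := by
  rw [ringKrullDim_stalk_eq_coheight]
  let η := genericPoint (f.fiber (f x))
  have hne : f.asFiber x ≠ η := by
    intro h
    refine hx fun x' hx' => ?_
    obtain ⟨w, rfl⟩ : x' ∈ Set.range (f.fiberι (f x)) := (f.range_fiberι (f x)).ge hx'
    have h2 : f.asFiber x ⤳ w := h ▸ genericPoint_specializes w
    have := h2.map (f.fiberι (f x)).continuous
    rwa [f.fiberι_asFiber] at this
  have hlt : f.asFiber x < η := lt_of_le_not_ge (genericPoint_specializes _) fun h' =>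
    hne ((genericPoint_specializes (f.asFiber x)).antisymm h').symm.eq
  have h0 : Order.coheight (f.asFiber x) ≠ 0 := fun h' =>
    not_le_of_gt hlt ((Order.coheight_eq_zero.1 h') hlt.le)
  exact_mod_cast Order.one_le_iff_pos.mpr (pos_iff_ne_zero.mpr h0)

theorem resTrdeg_generic [GeometricallyIrreducible f] {x : X} (hx : FlatFun.IsGenericPtOfFibre f x) :
    Dual3.resTrdeg f x = (d : Cardinal) := by
  haveI : Smooth f := SmoothOfRelativeDimension.smooth d f
  obtain ⟨t, ht, -⟩ := Groth.FibreDim.exists_relTrdeg_eq_height f x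
  have h4 : Dual3.resTrdeg f x = t := ht
  have e := Groth.AlgSp3.fibreDimAt_eq_fibreStalkDim_add f x
  rw [Groth.FibreDim.fibreDimAt_eq_of_smoothOfRelativeDimension d f x, h4,
    ringKrullDim_fibre_stalk_generic f hx, map_natCast, zero_add] at e
  rw [h4]
  norm_cast at e ⊢
  exact e.symm

theorem resTrdeg_lt_of_not_generic [GeometricallyIrreducible f] {x : X}
    (hx : ¬ FlatFun.IsGenericPtOfFibre f x) : Dual3.resTrdeg f x < (d : Cardinal) := by
  haveI : Smooth f := SmoothOfRelativeDimension.smooth d f
  obtain ⟨t, ht, -⟩ := Groth.FibreDim.exists_relTrdeg_eq_height f x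
  have h4 : Dual3.resTrdeg f x = t := ht
  have e := Groth.AlgSp3.fibreDimAt_eq_fibreStalkDim_add f x
  rw [Groth.FibreDim.fibreDimAt_eq_of_smoothOfRelativeDimension d f x, h4, map_natCast] at e
  rw [h4]
  have h1 := one_le_ringKrullDim_fibre_stalk f hx
  generalize ringKrullDim ((f.fiber (f x)).presheaf.stalk (f.asFiber x)) = a at h1 e
  cases a with
  | bot => simp at h1
  | coe a =>
    cases a with
    | top =>
      exfalso
      have e' : ((d : ℕ∞) : WithBot ℕ∞) = (((⊤ : ℕ∞) + (t : ℕ∞) : ℕ∞) : WithBot ℕ∞) := by exact_mod_cast e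
      rw [top_add, WithBot.coe_inj] at e'
      exact ENat.natCast_ne_top d e'
    | coe a =>
      norm_cast at h1 e ⊢
      omega

/-- A finitely presented module flat over the base is free at a fibre-generic point. -/
theorem free_stalk_generic {f : X ⟶ T} [Smooth f] [GeometricallyIrreducible f] (F : X.Modules) [F.IsQuasicoherent]
    (hF : CohB1.IsFP F) {x : X} (hx : FlatFun.IsGenericPtOfFibre f x)
    (hfl : FlatMod.IsFlatOverAt f F x) : Module.Free (X.presheaf.stalk x) (F.presheaf.stalk x) := by
  haveI : IsReduced (f.fiber (f x)) := by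
    haveI hs : Smooth (pullback.snd f (T.fromSpecResidueField (f x))) :=
      MorphismProperty.pullback_snd _ _ inferInstance
    exact @Groth.AlgGrp1.isReduced_of_smooth (T.residueField (f x)) _ (f.fiber (f x))
      (pullback.snd f (T.fromSpecResidueField (f x))) hs
  have hfield := Groth.VarietyBC.AffineNhd.isField_stalk (η := f.asFiber x) (asFiber_isMax f hx)
  obtain ⟨h1, h2⟩ := Groth.FlatMor2.FibCrit.fiber_stalk_of_eq f (f x) (f.asFiber x) x (f.fiberι_asFiber x)
  letI : Algebra (T.presheaf.stalk (f x)) (X.presheaf.stalk x) := (f.stalkMap x).hom.toAlgebra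
  letI : Module (T.presheaf.stalk (f x)) (F.presheaf.stalk x) := FlatMod.moduleStalkOver f F x
  haveI : IsScalarTower (T.presheaf.stalk (f x)) (X.presheaf.stalk x) (F.presheaf.stalk x) :=
    IsScalarTower.of_algebraMap_smul fun _ _ => rfl
  haveI : IsLocalHom (algebraMap (T.presheaf.stalk (f x)) (X.presheaf.stalk x)) :=
    inferInstanceAs (IsLocalHom (f.stalkMap x).hom)
  haveI := finitePresentation_stalk F hF x
  haveI : Module.Flat (T.presheaf.stalk (f x)) (F.presheaf.stalk x) := hfl
  apply free_of_flat_of_free_fibre (A := T.presheaf.stalk (f x))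
  have hq : IsField (X.presheaf.stalk x ⧸
      (maximalIdeal (T.presheaf.stalk (f x))).map (f.stalkMap x).hom) :=
    ((Ideal.quotEquivOfEq h2.symm).trans (RingHom.quotientKerEquivOfSurjective h1)).toMulEquiv.isField hfield
  letI := hq.toField
  exact Module.Free.of_divisionRing _ _

end Groth.Flatmor4

namespace Groth.Flatmor4

/-- A module with a stalk basis is flat over the base of a flat morphism. -/
theorem isFlatOverAt_of_hasStalkBasis {X T : Scheme.{u}} (f : X ⟶ T) [Flat f] (F : X.Modules) {p : ℕ}
    {x : X} (h : HasStalkBasis F p x) : FlatMod.IsFlatOverAt f F x := by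
  obtain ⟨b⟩ := h
  haveI : Module.Free (X.presheaf.stalk x) (F.presheaf.stalk x) := Module.Free.of_basis b
  letI : Algebra (T.presheaf.stalk (f x)) (X.presheaf.stalk x) := (f.stalkMap x).hom.toAlgebra
  letI : Module (T.presheaf.stalk (f x)) (F.presheaf.stalk x) := FlatMod.moduleStalkOver f F x
  haveI : IsScalarTower (T.presheaf.stalk (f x)) (X.presheaf.stalk x) (F.presheaf.stalk x) :=
    IsScalarTower.of_algebraMap_smul fun _ _ => rfl
  haveI : Module.Flat (T.presheaf.stalk (f x)) (X.presheaf.stalk x) := Flat.stalkMap f x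
  exact Module.Flat.trans (T.presheaf.stalk (f x)) (X.presheaf.stalk x) (F.presheaf.stalk x)

end Groth.Flatmor4
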