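import Groth.Agent.FibreDim.OpenFibre
import Groth.Agent.FibreDim.Equidim
import Groth.Agent.FlatMor2.FibCrit.FP

/-!
Transcendence degrees of residue fields along generizations: for flat morphisms locally of finite
presentation the fibre dimension at a generization is at least the height of a point in its fibre,
and over a valuation ring the height itself can only increase.
-/

set_option autoImplicit false
set_option linter.style.haveILetI false

universe u

open CategoryTheory AlgebraicGeometry MvPolynomial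

namespace Groth.Flatmor4

section Algebra

variable {R A K L : Type u} [CommRing R] [CommRing A] [Algebra R A] [Field K] [Field L]
  [Algebra K L] (χ : R →+* K) (ψ : A →+* L)

theorem ker_comp_algebraMap (hcomp : ∀ r, algebraMap K L (χ r) = ψ (algebraMap R A r)) :
    (RingHom.ker ψ).comap (algebraMap R A) = RingHom.ker χ := by
  ext r
  simp only [Ideal.mem_comap, RingHom.mem_ker]
  rw [← hcomp, map_eq_zero]

theorem comp_aeval_eq (hcomp : ∀ r, algebraMap K L (χ r) = ψ (algebraMap R A r)) {n : ℕ}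
    (v : Fin n → A) : ψ.comp (aeval (R := R) v).toRingHom =
      (aeval (R := K) (ψ ∘ v)).toRingHom.comp (MvPolynomial.map χ) :=
  MvPolynomial.ringHom_ext (fun r => by simp [hcomp]) fun i => by simp

/-- Algebraic independence in the residue field, read in the polynomial ring over the base. -/
theorem algebraicIndependent_iff_ker_eq (hcomp : ∀ r, algebraMap K L (χ r) = ψ (algebraMap R A r))
    (hK : ∀ w, ∃ a b, χ b ≠ 0 ∧ w = χ a / χ b) {n : ℕ} (v : Fin n → A) :
    AlgebraicIndependent K (ψ ∘ v) ↔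
      (RingHom.ker ψ).comap (aeval (R := R) v).toRingHom = (RingHom.ker χ).map C := by
  rw [RingHom.comap_ker, comp_aeval_eq χ ψ hcomp, ← MvPolynomial.ker_map]
  refine ⟨fun h => RingHom.ker_comp_of_injective _ h, fun h => ?_⟩
  rw [algebraicIndependent_iff]
  intro G hG
  obtain ⟨c, hc, F, hF⟩ : ∃ c, χ c ≠ 0 ∧ ∃ F, MvPolynomial.map χ F = C (χ c) * G := by
    clear hG
    induction G using MvPolynomial.induction_on' with
    | monomial m a =>
      obtain ⟨a, b, hb, rfl⟩ := hK a
      exact ⟨b, hb, monomial m a, by rw [map_monomial, C_mul_monomial, mul_div_cancel₀ _ hb]⟩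
    | add G₁ G₂ h₁ h₂ =>
      obtain ⟨c₁, hc₁, F₁, hF₁⟩ := h₁
      obtain ⟨c₂, hc₂, F₂, hF₂⟩ := h₂
      refine ⟨c₁ * c₂, by rw [map_mul]; exact mul_ne_zero hc₁ hc₂, C c₂ * F₁ + C c₁ * F₂, ?_⟩
      simp only [map_add, map_mul, map_C, hF₁, hF₂]
      ring
  have hmem : MvPolynomial.map χ F = 0 := by
    rw [← RingHom.mem_ker, ← h, RingHom.mem_ker, RingHom.comp_apply, hF]
    show aeval (ψ ∘ v) (C (χ c) * G) = 0
    rw [map_mul, hG, mul_zero]
  rw [hF, mul_eq_zero, C_eq_zero] at hmem
  exact hmem.resolve_left hc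

/-- A transcendence basis of a field of fractions can be taken from the ring. -/
theorem exists_algebraicIndependent (hL : ∀ w, ∃ a b, ψ b ≠ 0 ∧ w = ψ a / ψ b) {n : ℕ}
    (hn : Algebra.trdeg K L = n) : ∃ v : Fin n → A, AlgebraicIndependent K (ψ ∘ v) := by
  haveI : Algebra.IsAlgebraic (Algebra.adjoin K (Set.range ψ)) L := ⟨fun w => by
    obtain ⟨a, b, -, rfl⟩ := hL w
    have h : ∀ c, IsAlgebraic (Algebra.adjoin K (Set.range ψ)) (ψ c) := fun c =>
      isAlgebraic_algebraMap
        (⟨ψ c, Algebra.subset_adjoin ⟨c, rfl⟩⟩ : Algebra.adjoin K (Set.range ψ))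
    rw [div_eq_mul_inv]
    exact (h a).mul (h b).inv⟩
  obtain ⟨t, ht, hb⟩ := exists_isTranscendenceBasis_subset (R := K) (Set.range ψ)
  have hcard : Cardinal.mk t = n := by rw [hb.cardinalMk_eq_trdeg, hn]
  obtain ⟨e⟩ := Cardinal.mk_eq_nat_iff.mp hcard
  choose v hv using fun i => ht (e.symm i).2
  refine ⟨v, ?_⟩
  have : ψ ∘ v = (Subtype.val : t → L) ∘ e.symm := funext hv
  rw [this]
  exact hb.1.comp _ e.symm.injective

/-- `p[X]` is prime. -/
theorem isPrime_map_C {n : ℕ} (p : Ideal R) [p.IsPrime] :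
    (p.map (C : R →+* MvPolynomial (Fin n) R)).IsPrime := by
  rw [show p.map (C : R →+* MvPolynomial (Fin n) R) =
    RingHom.ker (MvPolynomial.map (Ideal.Quotient.mk p)) by rw [ker_map, Ideal.mk_ker]]
  exact RingHom.ker_isPrime _

/-- A flat algebra is flat over a polynomial ring at a prime lying over the generic point of the
fibre of the affine space. -/
theorem flat_mvPolynomial_atPrime [Module.Flat R A] [Algebra.FinitePresentation R A] {n : ℕ}
    (v : Fin n → A) (q : Ideal A) [q.IsPrime]
    (hq : q.comap (aeval (R := R) v).toRingHom = (q.comap (algebraMap R A)).map C) :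
    letI := (aeval (R := R) v).toRingHom.toAlgebra
    Module.Flat (MvPolynomial (Fin n) R) (Localization.AtPrime q) := by
  letI := (aeval (R := R) v).toRingHom.toAlgebra
  haveI : IsScalarTower R (MvPolynomial (Fin n) R) A :=
    IsScalarTower.of_algebraMap_eq fun r => ((aeval (R := R) v).commutes r).symm
  let Br := Localization.AtPrime (q.under (MvPolynomial (Fin n) R))
  let Cq := Localization.AtPrime q
  let σ : Br →+* Cq := Localization.localRingHom _ q (algebraMap (MvPolynomial (Fin n) R) A) rfl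
  letI : Algebra Br Cq := σ.toAlgebra
  haveI : IsScalarTower (MvPolynomial (Fin n) R) Br Cq := IsScalarTower.of_algebraMap_eq fun b => by
    rw [IsScalarTower.algebraMap_apply (MvPolynomial (Fin n) R) A Cq]
    exact (Localization.localRingHom_to_map _ q (algebraMap (MvPolynomial (Fin n) R) A) rfl b).symm
  haveI : Module.Flat A Cq := IsLocalization.flat Cq q.primeCompl
  haveI : Module.Flat R Cq := Module.Flat.trans R A Cq
  let J := (q.under R).map (algebraMap R Br)
  have hJ : J = IsLocalRing.maximalIdeal Br := by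
    rw [← Localization.AtPrime.map_eq_maximalIdeal]
    show (q.under R).map (algebraMap R Br) = _
    rw [IsScalarTower.algebraMap_eq R (MvPolynomial (Fin n) R) Br, ← Ideal.map_map]
    congr 1
    exact hq.symm
  haveI : J.IsMaximal := hJ ▸ IsLocalRing.maximalIdeal.isMaximal Br
  letI : Field (Br ⧸ J) := Ideal.Quotient.field J
  exact (FlatMor2.FibCrit.fp_criterion (A := R) (B := MvPolynomial (Fin n) R) (C := A) (M := A) q
    (Br := Br) (Cq := Cq) (Mq := Cq) (Algebra.linearMap A Cq) Module.Flat.of_free).2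

/-- A generization of a prime over the generic point of the fibre of the affine space has a
generization over the generic point of the fibre of the affine space. -/
theorem exists_prime_le_of_flat {n : ℕ} (v : Fin n → A) (q : Ideal A) [q.IsPrime]
    (hflat : letI := (aeval (R := R) v).toRingHom.toAlgebra
      Module.Flat (MvPolynomial (Fin n) R) (Localization.AtPrime q))
    (q' : Ideal A) [q'.IsPrime] (hle : q' ≤ q) :
    ∃ q'' : Ideal A, q''.IsPrime ∧ q'' ≤ q' ∧
      q''.comap (aeval (R := R) v).toRingHom = (q''.comap (algebraMap R A)).map C := by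
  letI := (aeval (R := R) v).toRingHom.toAlgebra
  haveI : Module.Flat (MvPolynomial (Fin n) R) (Localization.AtPrime q) := hflat
  haveI : IsScalarTower R (MvPolynomial (Fin n) R) A :=
    IsScalarTower.of_algebraMap_eq fun r => ((aeval (R := R) v).commutes r).symm
  let Cq := Localization.AtPrime q
  have hdisj : Disjoint (q.primeCompl : Set A) q' :=
    Set.disjoint_left.mpr fun a ha ha' => ha (hle ha')
  haveI hQ : (q'.map (algebraMap A Cq)).IsPrime :=
    IsLocalization.isPrime_of_isPrime_disjoint q.primeCompl Cq q' inferInstance hdisj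
  have hQc : (q'.map (algebraMap A Cq)).comap (algebraMap A Cq) = q' :=
    IsLocalization.under_map_of_isPrime_disjoint q.primeCompl Cq inferInstance hdisj
  haveI := isPrime_map_C (n := n) (q'.comap (algebraMap R A))
  have hP : (q'.comap (algebraMap R A)).map C ≤
      (q'.map (algebraMap A Cq)).under (MvPolynomial (Fin n) R) := by
    rw [Ideal.map_le_iff_le_comap]
    intro r hr
    show algebraMap (MvPolynomial (Fin n) R) Cq (C r) ∈ q'.map (algebraMap A Cq)
    rw [IsScalarTower.algebraMap_apply (MvPolynomial (Fin n) R) A Cq]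
    refine Ideal.mem_map_of_mem _ ?_
    show aeval v (C r) ∈ q'
    rw [aeval_C]
    exact hr
  obtain ⟨P, hPle, hPp, hPo⟩ := Ideal.exists_ideal_le_liesOver_of_le
    (R := MvPolynomial (Fin n) R) (Q := q'.map (algebraMap A Cq)) hP
  refine ⟨P.comap (algebraMap A Cq), Ideal.IsPrime.comap _, hQc ▸ Ideal.comap_mono hPle, ?_⟩
  have h1 : (P.comap (algebraMap A Cq)).comap (aeval (R := R) v).toRingHom =
      (q'.comap (algebraMap R A)).map C := by
    rw [hPo.over, Ideal.comap_comap]
    rfl
  rw [h1]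
  congr 1
  ext r
  have h2 : (P.comap (algebraMap A Cq)).comap (algebraMap R A) =
      ((P.comap (algebraMap A Cq)).comap (aeval (R := R) v).toRingHom).comap C := by
    ext a
    simp [← IsScalarTower.algebraMap_apply]
  rw [h2, h1]
  simp only [Ideal.mem_comap, mem_map_C_iff]
  refine ⟨fun hr m => ?_, fun h => by simpa using h 0⟩
  rw [coeff_C]
  split_ifs
  · exact hr
  · simp

/-- A generization of a prime over the generic point of the fibre of the affine space has a
generization over the generic point of the fibre of the affine space. -/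
theorem exists_prime_le_comap_eq [Module.Flat R A] [Algebra.FinitePresentation R A] {n : ℕ}
    (v : Fin n → A) (q : Ideal A) [q.IsPrime]
    (hq : q.comap (aeval (R := R) v).toRingHom = (q.comap (algebraMap R A)).map C)
    (q' : Ideal A) [q'.IsPrime] (hle : q' ≤ q) :
    ∃ q'' : Ideal A, q''.IsPrime ∧ q'' ≤ q' ∧
      q''.comap (aeval (R := R) v).toRingHom = (q''.comap (algebraMap R A)).map C :=
  exists_prime_le_of_flat v q (flat_mvPolynomial_atPrime v q hq) q' hle

/-- Over a valuation ring the primes of the polynomial ring below `p[X]` are of the same shape. -/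
theorem le_map_C_of_valuation [IsDomain R] (htot : ∀ a b : R, a ∣ b ∨ b ∣ a) {n : ℕ} (p : Ideal R)
    (hp : p ≠ ⊤) (r : Ideal (MvPolynomial (Fin n) R)) [r.IsPrime] (hr : r ≤ p.map C) :
    r ≤ (r.comap C).map C := by
  classical
  intro F hF
  by_cases hF0 : F = 0
  · rw [hF0]; exact zero_mem _
  obtain ⟨m₀, hm₀, hdvd⟩ : ∃ m₀ ∈ F.support, ∀ m ∈ F.support, coeff m₀ F ∣ coeff m F := by
    have hne : F.support.Nonempty := by
      rwa [Finset.nonempty_iff_ne_empty, ne_eq, support_eq_empty]
    generalize F.support = σ at hne ⊢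
    induction hne using Finset.Nonempty.cons_induction with
    | singleton a => exact ⟨a, by simp, fun m hm => by simp_all⟩
    | cons a s ha hs ih =>
      obtain ⟨m₀, hm₀, hd⟩ := ih
      rcases htot (coeff a F) (coeff m₀ F) with h | h
      · refine ⟨a, Finset.mem_cons_self a s, fun m hm => ?_⟩
        rcases Finset.mem_cons.mp hm with rfl | hm
        exacts [dvd_rfl, h.trans (hd m hm)]
      · refine ⟨m₀, Finset.mem_cons_of_mem hm₀, fun m hm => ?_⟩
        rcases Finset.mem_cons.mp hm with rfl | hm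
        exacts [h, hd m hm]
  obtain ⟨G, hG⟩ := (C_dvd_iff_dvd_coeff (coeff m₀ F) F).mpr fun m => by
    by_cases hm : m ∈ F.support
    · exact hdvd m hm
    · rw [notMem_support_iff.mp hm]; exact dvd_zero _
  have hc := congrArg (coeff m₀) hG
  rw [coeff_C_mul] at hc
  have h1 : coeff m₀ G = 1 :=
    mul_left_cancel₀ (mem_support_iff.mp hm₀) (hc.symm.trans (mul_one _).symm)
  have hGr : G ∉ r := fun h => hp ((Ideal.eq_top_iff_one p).mpr (h1 ▸ mem_map_C_iff.mp (hr h) m₀))
  have hCr : C (coeff m₀ F) ∈ r := by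
    rw [hG] at hF
    exact (Ideal.IsPrime.mem_or_mem ‹_› hF).resolve_right hGr
  rw [hG]
  exact Ideal.mul_mem_right _ _ (Ideal.mem_map_of_mem C hCr)

end Algebra

section Scheme

variable {X Y : Scheme.{u}} (f : X ⟶ Y) [LocallyOfFiniteType f]

omit [LocallyOfFiniteType f] in
theorem evaluation_appLE {U : Y.Opens} {V : X.Opens} (e : V ≤ f ⁻¹ᵁ U) {z : X} (hz : z ∈ V)
    (a : Γ(Y, U)) :
    f.residueFieldMap z (Y.evaluation U (f z) (e hz) a) =
      X.evaluation V z hz (f.appLE U V e a) := by
  refine (Scheme.evaluation_naturality_apply f z _ a).trans ?_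
  simp only [Scheme.evaluation, Scheme.Hom.appLE, CommRingCat.comp_apply]
  congr 1
  exact (X.presheaf.germ_res_apply (homOfLE e) z hz _).symm

theorem exists_comap_aeval_eq {U : Y.Opens} (hU : IsAffineOpen U) {V : X.Opens}
    (hV : IsAffineOpen V) (e : V ≤ f ⁻¹ᵁ U) {x : X} (hx : x ∈ V) :
    letI := (f.appLE U V e).hom.toAlgebra
    ∃ (n : ℕ) (v : Fin n → Γ(X, V)), Order.height (f.asFiber x) = n ∧
      (hV.primeIdealOf ⟨x, hx⟩).asIdeal.comap (aeval (R := Γ(Y, U)) v).toRingHom =
        ((hV.primeIdealOf ⟨x, hx⟩).asIdeal.comap (algebraMap Γ(Y, U) Γ(X, V))).map C := by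
  letI := (f.appLE U V e).hom.toAlgebra
  letI := (f.residueFieldMap x).hom.toAlgebra
  obtain ⟨n, ht, hh⟩ := FibreDim.exists_relTrdeg_eq_height f x
  obtain ⟨v, hv⟩ := exists_algebraicIndependent (K := Y.residueField (f x))
    (X.evaluation V x hx).hom (Variety2.Dim.exists_evaluation_eq_div hV hx) ht
  have hcomp := fun a => evaluation_appLE f e hx a
  refine ⟨n, v, hh, ?_⟩
  rw [← FibreDim.ker_evaluation hV hx,
    ker_comp_algebraMap (Y.evaluation U (f x) (e hx)).hom _ hcomp]
  exact (algebraicIndependent_iff_ker_eq _ _ hcomp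
    (Variety2.Dim.exists_evaluation_eq_div hU (e hx)) v).mp hv

theorem natCast_le_height_asFiber {U : Y.Opens} (hU : IsAffineOpen U) {V : X.Opens}
    (hV : IsAffineOpen V) (e : V ≤ f ⁻¹ᵁ U) {z : X} (hz : z ∈ V) {n : ℕ} (v : Fin n → Γ(X, V))
    (h : letI := (f.appLE U V e).hom.toAlgebra
      (hV.primeIdealOf ⟨z, hz⟩).asIdeal.comap (aeval (R := Γ(Y, U)) v).toRingHom =
        ((hV.primeIdealOf ⟨z, hz⟩).asIdeal.comap (algebraMap Γ(Y, U) Γ(X, V))).map C) :
    (n : ℕ∞) ≤ Order.height (f.asFiber z) := by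
  letI := (f.appLE U V e).hom.toAlgebra
  letI := (f.residueFieldMap z).hom.toAlgebra
  obtain ⟨t, ht, hh⟩ := FibreDim.exists_relTrdeg_eq_height f z
  have hcomp := fun a => evaluation_appLE f e hz a
  rw [← FibreDim.ker_evaluation hV hz,
    ker_comp_algebraMap (Y.evaluation U (f z) (e hz)).hom _ hcomp] at h
  have hi := (algebraicIndependent_iff_ker_eq _ _ hcomp
    (Variety2.Dim.exists_evaluation_eq_div hU (e hz)) v).mpr h
  have hle := hi.lift_cardinalMk_le_trdeg
  rw [show Algebra.trdeg (Y.residueField (f z)) (X.residueField z) = t from ht] at hle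
  rw [hh]
  simpa using hle

theorem height_asFiber_le_fibreDimAt (z : X) :
    ((Order.height (f.asFiber z) : ℕ∞) : WithBot ℕ∞) ≤ FlatMor.fibreDimAt f z := by
  obtain ⟨t, e, ht, -, -, hfd⟩ := FibreDim.exists_fibre_quantities f z
  rw [ht, hfd]
  exact_mod_cast Nat.le_add_right t e

/-- For a flat morphism locally of finite presentation, the fibre dimension at a generization is
at least the height of the point in its fibre. -/
theorem height_asFiber_le_fibreDimAt_of_specializes {X Y : Scheme.{u}} (f : X ⟶ Y) [Flat f]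
    [LocallyOfFinitePresentation f] {x x' : X} (hsp : x' ⤳ x) :
    ((Order.height (f.asFiber x) : ℕ∞) : WithBot ℕ∞) ≤ FlatMor.fibreDimAt f x' := by
  obtain ⟨U, hU, hxU, -⟩ := exists_isAffineOpen_mem_and_subset (U := ⊤) (Set.mem_univ (f x))
  obtain ⟨V, hV, hxV, hVU⟩ := exists_isAffineOpen_mem_and_subset (U := f ⁻¹ᵁ U) hxU
  have e : V ≤ f ⁻¹ᵁ U := hVU
  letI := (f.appLE U V e).hom.toAlgebra
  haveI : Module.Flat Γ(Y, U) Γ(X, V) := f.flat_appLE hU hV e
  haveI : Algebra.FinitePresentation Γ(Y, U) Γ(X, V) := f.finitePresentation_appLE hU hV e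
  have hx' : x' ∈ V := hsp.mem_open V.isOpen hxV
  obtain ⟨n, v, hn, hq⟩ := exists_comap_aeval_eq f hU hV e hxV
  have hle : (hV.primeIdealOf ⟨x', hx'⟩).asIdeal ≤ (hV.primeIdealOf ⟨x, hxV⟩).asIdeal :=
    (PrimeSpectrum.le_iff_specializes _ _).2 (hV.fromSpec.isEmbedding.toIsInducing.specializes_iff.1
      (by rw [hV.fromSpec_primeIdealOf, hV.fromSpec_primeIdealOf]; exact hsp))
  obtain ⟨P, hPp, hPle, hP⟩ := exists_prime_le_comap_eq v _ hq _ hle
  let z := hV.fromSpec ⟨P, hPp⟩
  have hzV : z ∈ V := hV.range_fromSpec.le ⟨_, rfl⟩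
  have hzP : hV.primeIdealOf ⟨z, hzV⟩ = ⟨P, hPp⟩ :=
    hV.fromSpec.isEmbedding.injective (hV.fromSpec_primeIdealOf _)
  have hzx : z ⤳ x' := by
    have h := ((PrimeSpectrum.le_iff_specializes ⟨P, hPp⟩ _).1 hPle).map hV.fromSpec.continuous
    rwa [hV.fromSpec_primeIdealOf ⟨x', hx'⟩] at h
  have hnz := natCast_le_height_asFiber f hU hV e hzV v (by rw [hzP]; exact hP)
  rw [hn]
  exact (WithBot.coe_le_coe.mpr hnz).trans ((height_asFiber_le_fibreDimAt f z).trans
    (FibreDim.fibreDimAt_le_of_specializes f hzx))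

/-- Over a valuation ring the height in the fibre does not drop under generization. -/
theorem height_asFiber_le_of_specializes_of_valuation {R : Type u} [CommRing R] [IsDomain R]
    [ValuationRing R] {X : Scheme.{u}} (φ : X ⟶ Spec (CommRingCat.of R)) [LocallyOfFiniteType φ]
    {x x' : X} (hsp : x' ⤳ x) : Order.height (φ.asFiber x) ≤ Order.height (φ.asFiber x') := by
  obtain ⟨V, hV, hxV, -⟩ := exists_isAffineOpen_mem_and_subset (U := ⊤) (Set.mem_univ x)
  have e : V ≤ φ ⁻¹ᵁ (⊤ : (Spec (CommRingCat.of R)).Opens) := by simp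
  letI := (φ.appLE ⊤ V e).hom.toAlgebra
  let ε : R ≃+* Γ(Spec (CommRingCat.of R), ⊤) :=
    (Scheme.ΓSpecIso (CommRingCat.of R)).symm.commRingCatIsoToRingEquiv
  haveI : IsDomain Γ(Spec (CommRingCat.of R), ⊤) := ε.symm.toMulEquiv.isDomain
  have htot : ∀ a b : Γ(Spec (CommRingCat.of R), ⊤), a ∣ b ∨ b ∣ a := fun a b => by
    obtain ⟨a, rfl⟩ := ε.surjective a
    obtain ⟨b, rfl⟩ := ε.surjective b
    exact (ValuationRing.dvd_total a b).imp (map_dvd ε) (map_dvd ε)
  have hx' : x' ∈ V := hsp.mem_open V.isOpen hxV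
  obtain ⟨n, v, hn, hq⟩ := exists_comap_aeval_eq φ (isAffineOpen_top _) hV e hxV
  rw [hn]
  refine natCast_le_height_asFiber φ (isAffineOpen_top _) hV e hx' v ?_
  have hle : (hV.primeIdealOf ⟨x', hx'⟩).asIdeal ≤ (hV.primeIdealOf ⟨x, hxV⟩).asIdeal :=
    (PrimeSpectrum.le_iff_specializes _ _).2 (hV.fromSpec.isEmbedding.toIsInducing.specializes_iff.1
      (by rw [hV.fromSpec_primeIdealOf, hV.fromSpec_primeIdealOf]; exact hsp))
  refine le_antisymm ?_ (Ideal.map_le_iff_le_comap.mpr fun r hr => ?_)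
  · refine (le_map_C_of_valuation htot _ (Ideal.IsPrime.ne_top (Ideal.IsPrime.comap _)) _
      ((Ideal.comap_mono hle).trans hq.le)).trans (le_of_eq ?_)
    rw [Ideal.comap_comap]
    congr 2
    ext a
    simp
  · simpa [Ideal.mem_comap] using hr

end Scheme

end Groth.Flatmor4
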