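import Mathlib

/-!
Weil restriction of an affine algebra along a finite free algebra: the representing algebra of
`A ↦ Alg_R(B, A ⊗ C)`.
-/

set_option autoImplicit false

universe u

open TensorProduct

namespace Groth.Flatmor4.WeilAlg

variable {R : Type u} [CommRing R] {C : Type u} [CommRing C] [Algebra R C] {ι : Type u} (b : Module.Basis ι R C)

/-- Coordinates commute with base change. -/
theorem repr_map {A A' : Type u} [CommRing A] [Algebra R A] [CommRing A'] [Algebra R A'] (h : A →ₐ[R] A')
    (z : A ⊗[R] C) (i : ι) :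
    (Algebra.TensorProduct.basis A' b).repr (Algebra.TensorProduct.map h (AlgHom.id R C) z) i =
      h ((Algebra.TensorProduct.basis A b).repr z i) := by
  induction z using TensorProduct.induction_on with
  | zero => simp
  | tmul a c => simp
  | add z z' hz hz' => simp only [map_add, Finsupp.add_apply, hz, hz']

variable (R) (B : Type u) [CommRing B] [Algebra R B] [Fintype ι]

/-- The universal element before imposing the relations. -/
noncomputable def pre (x : B) : MvPolynomial (B × ι) R ⊗[R] C :=
  ∑ i, MvPolynomial.X (x, i) ⊗ₜ b i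

/-- The relations saying that the universal element is an algebra map. -/
def defects : Set (MvPolynomial (B × ι) R ⊗[R] C) :=
  (Set.range fun p : B × B => pre R b B (p.1 + p.2) - (pre R b B p.1 + pre R b B p.2)) ∪
  (Set.range fun p : B × B => pre R b B (p.1 * p.2) - pre R b B p.1 * pre R b B p.2) ∪
  (Set.range fun r : R => pre R b B (algebraMap R B r) - algebraMap R _ r)

/-- The ideal of coordinates of the relations. -/
noncomputable def relIdeal : Ideal (MvPolynomial (B × ι) R) :=
  Ideal.span {a | ∃ z ∈ defects R b B, ∃ i, (Algebra.TensorProduct.basis _ b).repr z i = a}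

/-- The representing algebra. -/
abbrev Ring : Type u := MvPolynomial (B × ι) R ⧸ relIdeal R b B

/-- Evaluation of the pre-universal element. -/
theorem map_pre {A : Type u} [CommRing A] [Algebra R A] (h : MvPolynomial (B × ι) R →ₐ[R] A) (x : B) :
    Algebra.TensorProduct.map h (AlgHom.id R C) (pre R b B x) = ∑ i, h (MvPolynomial.X (x, i)) ⊗ₜ b i := by
  simp [pre, map_sum]

theorem map_defect_eq_zero {z : MvPolynomial (B × ι) R ⊗[R] C} (hz : z ∈ defects R b B) :
    Algebra.TensorProduct.map (Ideal.Quotient.mkₐ R (relIdeal R b B)) (AlgHom.id R C) z = 0 := by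
  refine (Algebra.TensorProduct.basis _ b).repr.map_eq_zero_iff.mp (Finsupp.ext fun i => ?_)
  rw [repr_map, Finsupp.zero_apply, Ideal.Quotient.mkₐ_eq_mk, Ideal.Quotient.eq_zero_iff_mem]
  exact Ideal.subset_span ⟨z, hz, i, rfl⟩

/-- The universal algebra map. -/
noncomputable def univ : B →ₐ[R] Ring R b B ⊗[R] C :=
  let m := Algebra.TensorProduct.map (Ideal.Quotient.mkₐ R (relIdeal R b B)) (AlgHom.id R C)
  have ha : ∀ x y, m (pre R b B (x + y)) = m (pre R b B x) + m (pre R b B y) := fun x y => by
    rw [← map_add, ← sub_eq_zero, ← map_sub]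
    exact map_defect_eq_zero R b B (Or.inl (Or.inl ⟨(x, y), rfl⟩))
  have hm : ∀ x y, m (pre R b B (x * y)) = m (pre R b B x) * m (pre R b B y) := fun x y => by
    rw [← map_mul, ← sub_eq_zero, ← map_sub]
    exact map_defect_eq_zero R b B (Or.inl (Or.inr ⟨(x, y), rfl⟩))
  have hc : ∀ r, m (pre R b B (algebraMap R B r)) = algebraMap R _ r := fun r => by
    rw [← m.commutes r, ← sub_eq_zero, ← map_sub]
    exact map_defect_eq_zero R b B (Or.inr ⟨r, rfl⟩)
  { toFun := fun x => m (pre R b B x)
    map_zero' := by simpa using hc 0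
    map_one' := ((congrArg (fun y => m (pre R b B y)) (map_one (algebraMap R B)).symm).trans (hc 1)).trans (map_one _)
    map_add' := ha
    map_mul' := hm
    commutes' := hc }

theorem univ_apply (x : B) : univ R b B x =
    Algebra.TensorProduct.map (Ideal.Quotient.mkₐ R (relIdeal R b B)) (AlgHom.id R C) (pre R b B x) := rfl

theorem repr_univ {A : Type u} [CommRing A] [Algebra R A] (h : Ring R b B →ₐ[R] A) (x : B) (i : ι) :
    (Algebra.TensorProduct.basis A b).repr (Algebra.TensorProduct.map h (AlgHom.id R C) (univ R b B x)) i =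
      h (Ideal.Quotient.mk _ (MvPolynomial.X (x, i))) := by
  classical
  rw [repr_map, univ_apply, repr_map, pre, map_sum, Finsupp.finsetSum_apply]
  simp [Finsupp.single_apply]

/-- The universal property. -/
theorem bijective_univ (A : Type u) [CommRing A] [Algebra R A] :
    Function.Bijective fun h : Ring R b B →ₐ[R] A =>
      (Algebra.TensorProduct.map h (AlgHom.id R C)).comp (univ R b B) := by
  classical
  constructor
  · intro h h' e
    refine Ideal.Quotient.algHom_ext R (MvPolynomial.algHom_ext fun p => ?_)
    obtain ⟨x, i⟩ := p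
    have := congrArg (fun v : B →ₐ[R] A ⊗[R] C => (Algebra.TensorProduct.basis A b).repr (v x) i) e
    simpa [repr_univ] using this
  · intro v
    let h₀ : MvPolynomial (B × ι) R →ₐ[R] A :=
      MvPolynomial.aeval fun p => (Algebra.TensorProduct.basis A b).repr (v p.1) p.2
    have hv : ∀ x, Algebra.TensorProduct.map h₀ (AlgHom.id R C) (pre R b B x) = v x := fun x => by
      rw [map_pre]
      conv_rhs => rw [← (Algebra.TensorProduct.basis A b).sum_repr (v x)]
      refine Finset.sum_congr rfl fun i _ => ?_
      simp [h₀, TensorProduct.smul_tmul']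
    have hI : ∀ a ∈ relIdeal R b B, h₀ a = 0 := by
      intro a ha
      refine RingHom.mem_ker.mp ((Ideal.span_le (I := RingHom.ker h₀)).mpr ?_ ha)
      rintro _ ⟨z, hz, i, rfl⟩
      have hz0 : Algebra.TensorProduct.map h₀ (AlgHom.id R C) z = 0 := by
        rcases hz with (⟨p, rfl⟩ | ⟨p, rfl⟩) | ⟨r, rfl⟩
        · simp only [map_sub, map_add, hv, sub_self]
        · simp only [map_sub, map_mul, hv, sub_self]
        · simp only [map_sub, hv, AlgHom.commutes, sub_self]
      show h₀ _ = 0
      rw [← repr_map, hz0]
      simp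
    refine ⟨Ideal.Quotient.liftₐ _ h₀ hI, AlgHom.ext fun x => ?_⟩
    refine (Algebra.TensorProduct.basis A b).repr.injective (Finsupp.ext fun i => ?_)
    rw [AlgHom.comp_apply, repr_univ, Ideal.Quotient.liftₐ_apply, Ideal.Quotient.lift_mk]
    simp [h₀]

end Groth.Flatmor4.WeilAlg
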