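import Groth.Agent.Flatmor4.MorSRep
import Groth.Agent.Flatmor4.WeilAlg

/-!
`morS g f` for affine schemes with `g` finite free is representable by an affine scheme.
-/

set_option autoImplicit false
set_option linter.style.haveILetI false
set_option backward.isDefEq.respectTransparency.types false

universe u

open CategoryTheory CategoryTheory.Limits AlgebraicGeometry Opposite TensorProduct

namespace Groth.Flatmor4

theorem isoSpec_inv_appTop (Y : Scheme.{u}) [IsAffine Y] :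
    Y.isoSpec.inv.appTop = (Scheme.ΓSpecIso Γ(Y, ⊤)).inv := by
  have h := congrArg Scheme.Hom.appTop Y.toSpecΓ_isoSpec_inv
  rw [Scheme.Hom.comp_appTop, Scheme.toSpecΓ_appTop, Scheme.Hom.id_appTop] at h
  exact (Iso.comp_hom_eq_id _).mp h

theorem exists_hom_appTop_eq {X Y : Scheme.{u}} [IsAffine Y] (χ : Γ(Y, ⊤) ⟶ Γ(X, ⊤)) :
    ∃ h : X ⟶ Y, h.appTop = χ := by
  refine ⟨X.toSpecΓ ≫ Spec.map χ ≫ Y.isoSpec.inv, ?_⟩
  rw [Scheme.Hom.comp_appTop, Scheme.Hom.comp_appTop]
  simp [isoSpec_inv_appTop, Scheme.toSpecΓ_appTop, Scheme.ΓSpecIso_naturality]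

variable {Z X S : Scheme.{u}} (g : Z ⟶ S) (f : X ⟶ S) [IsAffine Z] [IsAffine X] [IsAffine S]

/-- The structure map of global sections of an affine scheme over `S`. -/
abbrev algTop {Y : Scheme.{u}} (h : Y ⟶ S) : Algebra Γ(S, ⊤) Γ(Y, ⊤) := h.appTop.hom.toAlgebra

/-- Comparison of `Γ(T) ⊗ Γ(Z)` with the global sections of `T ×_S Z`. -/
noncomputable def sectCmp (T : Over S) :
    letI := algTop T.hom; letI := algTop g; letI := algTop (pullback.snd T.hom g ≫ g)
    Γ(T.left, ⊤) ⊗[Γ(S, ⊤)] Γ(Z, ⊤) →ₐ[Γ(S, ⊤)] Γ(pullback T.hom g, ⊤) :=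
  letI := algTop T.hom; letI := algTop g; letI := algTop (pullback.snd T.hom g ≫ g)
  Algebra.TensorProduct.lift
    { toRingHom := (pullback.fst T.hom g).appTop.hom
      commutes' := fun r => congr($((Scheme.Hom.comp_appTop _ _).symm.trans
        ((congrArg Scheme.Hom.appTop (pullback.condition (f := T.hom) (g := g))))) r) }
    { toRingHom := (pullback.snd T.hom g).appTop.hom
      commutes' := fun r => congr($((Scheme.Hom.comp_appTop (pullback.snd T.hom g) g).symm) r) }
    (fun _ _ => Commute.all _ _)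

theorem sectCmp_tmul (T : Over S) (a : Γ(T.left, ⊤)) (c : Γ(Z, ⊤)) :
    letI := algTop T.hom; letI := algTop g; letI := algTop (pullback.snd T.hom g ≫ g)
    sectCmp g T (a ⊗ₜ c) = (pullback.fst T.hom g).appTop a * (pullback.snd T.hom g).appTop c := rfl

theorem bijective_sectCmp (T : Over S) [IsAffine T.left] :
    letI := algTop T.hom; letI := algTop g; letI := algTop (pullback.snd T.hom g ≫ g)
    Function.Bijective (sectCmp g T) := by
  let := algTop T.hom
  let := algTop g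
  let := algTop (pullback.snd T.hom g ≫ g)
  let : Algebra Γ(T.left, ⊤) Γ(pullback T.hom g, ⊤) := (pullback.fst T.hom g).appTop.hom.toAlgebra
  let : Algebra Γ(Z, ⊤) Γ(pullback T.hom g, ⊤) := (pullback.snd T.hom g).appTop.hom.toAlgebra
  have : IsScalarTower Γ(S, ⊤) Γ(T.left, ⊤) Γ(pullback T.hom g, ⊤) :=
    .of_algebraMap_eq fun r => congr($((congrArg Scheme.Hom.appTop
      (pullback.condition (f := T.hom) (g := g)).symm).trans (Scheme.Hom.comp_appTop _ _)) r)
  have : IsScalarTower Γ(S, ⊤) Γ(Z, ⊤) Γ(pullback T.hom g, ⊤) :=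
    .of_algebraMap_eq fun r => congr($(Scheme.Hom.comp_appTop (pullback.snd T.hom g) g) r)
  have h : Algebra.IsPushout Γ(S, ⊤) Γ(T.left, ⊤) Γ(Z, ⊤) Γ(pullback T.hom g, ⊤) :=
    CommRingCat.isPushout_iff_isPushout.mp (isPushout_appTop_of_isPullback (IsPullback.of_hasPullback T.hom g))
  have e : ⇑(sectCmp g T) = ⇑(Algebra.IsPushout.equiv Γ(S, ⊤) Γ(T.left, ⊤) Γ(Z, ⊤) Γ(pullback T.hom g, ⊤)) := by
    ext z
    induction z using TensorProduct.induction_on with
    | zero => simp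
    | tmul a c => rw [sectCmp_tmul, Algebra.IsPushout.equiv_tmul]; rfl
    | add z z' hz hz' => simp only [map_add, hz, hz']
  rw [e]
  exact AlgEquiv.bijective _

/-- `morS g f` is represented by an affine scheme. -/
theorem exists_isAffine_representableBy_morS
    (hfree : letI := g.appTop.hom.toAlgebra; Module.Finite Γ(S, ⊤) Γ(Z, ⊤) ∧ Module.Free Γ(S, ⊤) Γ(Z, ⊤)) :
    ∃ W : Over S, IsAffine W.left ∧ Nonempty ((Flatn.morS g f).RepresentableBy W) := by
  classical
  let := algTop g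
  let := algTop f
  haveI : Module.Finite Γ(S, ⊤) Γ(Z, ⊤) := hfree.1
  haveI : Module.Free Γ(S, ⊤) Γ(Z, ⊤) := hfree.2
  let b := Module.Free.chooseBasis Γ(S, ⊤) Γ(Z, ⊤)
  let P := WeilAlg.Ring Γ(S, ⊤) b Γ(X, ⊤)
  let W : Over S := Over.mk (Spec.map (CommRingCat.ofHom (algebraMap Γ(S, ⊤) P)) ≫ S.isoSpec.inv)
  let := algTop W.hom
  have hσ : ∀ r, W.hom.appTop r = (Scheme.ΓSpecIso (CommRingCat.of P)).inv (algebraMap Γ(S, ⊤) P r) := by
    intro r
    have e : W.hom.appTop = CommRingCat.ofHom (algebraMap Γ(S, ⊤) P) ≫ (Scheme.ΓSpecIso (CommRingCat.of P)).inv := by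
      show (Spec.map (CommRingCat.ofHom (algebraMap Γ(S, ⊤) P)) ≫ S.isoSpec.inv).appTop = _
      rw [Scheme.Hom.comp_appTop, isoSpec_inv_appTop]
      exact (Scheme.ΓSpecIso_inv_naturality _).symm
    exact congr($e r)
  let eW : P →ₐ[Γ(S, ⊤)] Γ(W.left, ⊤) :=
    { toRingHom := (Scheme.ΓSpecIso (CommRingCat.of P)).inv.hom
      commutes' := fun r => (hσ r).symm }
  have heW : Function.Bijective eW :=
    (ConcreteCategory.bijective_of_isIso (Scheme.ΓSpecIso (CommRingCat.of P)).inv)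
  let v : Γ(X, ⊤) →ₐ[Γ(S, ⊤)] Γ(W.left, ⊤) ⊗[Γ(S, ⊤)] Γ(Z, ⊤) :=
    (Algebra.TensorProduct.map eW (AlgHom.id _ _)).comp (WeilAlg.univ Γ(S, ⊤) b Γ(X, ⊤))
  let := algTop (pullback.snd W.hom g ≫ g)
  obtain ⟨u₀, hu₀⟩ := exists_hom_appTop_eq (X := pullback W.hom g) (Y := X)
    (CommRingCat.ofHom ((sectCmp g W).comp v).toRingHom)
  have hu₀' : u₀ ≫ f = pullback.snd W.hom g ≫ g := by
    apply ext_of_isAffine
    rw [Scheme.Hom.comp_appTop, hu₀]
    ext r
    exact ((sectCmp g W).comp v).commutes r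
  let u : (Flatn.morS g f).obj (op W) :=
    (Over.homMk u₀ hu₀' : (Over.map g).obj ((Over.pullback g).obj W) ⟶ Over.mk f)
  haveI hW : IsAffine W.left := inferInstanceAs (IsAffine (Spec _))
  have hcomp : ∀ {A : Type u} [CommRing A] [Algebra Γ(S, ⊤) A] (χ : Γ(W.left, ⊤) →ₐ[Γ(S, ⊤)] A),
      Algebra.TensorProduct.map (χ.comp eW) (AlgHom.id Γ(S, ⊤) Γ(Z, ⊤)) =
        (Algebra.TensorProduct.map χ (AlgHom.id _ _)).comp (Algebra.TensorProduct.map eW (AlgHom.id _ _)) :=
    fun χ => by rw [← Algebra.TensorProduct.map_comp, AlgHom.id_comp]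
  refine ⟨W, hW, nonempty_representableBy_morS_of_affine W u fun T hT => ?_⟩
  haveI := hT
  let := algTop T.hom
  let := algTop (pullback.snd T.hom g ≫ g)
  let toAlg : (T ⟶ W) → (Γ(W.left, ⊤) →ₐ[Γ(S, ⊤)] Γ(T.left, ⊤)) := fun φ =>
    { toRingHom := φ.left.appTop.hom
      commutes' := fun r => congr($((Scheme.Hom.comp_appTop φ.left W.hom).symm.trans
        (congrArg Scheme.Hom.appTop (Over.w φ))) r) }
  -- the element of `morS` attached to a morphism, in coordinates
  have key : ∀ φ : T ⟶ W, ((Flatn.morS g f).map φ.op u :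
      (Over.map g).obj ((Over.pullback g).obj T) ⟶ Over.mk f).left.appTop.hom =
      ((sectCmp g T).comp ((Algebra.TensorProduct.map (toAlg φ) (AlgHom.id _ _)).comp v)).toRingHom := by
    intro φ
    rw [morS_map_left]
    show (bcZ g φ ≫ u₀).appTop.hom = _
    rw [Scheme.Hom.comp_appTop, hu₀]
    ext x
    show (bcZ g φ).appTop (sectCmp g W (v x)) =
      sectCmp g T (Algebra.TensorProduct.map (toAlg φ) (AlgHom.id _ _) (v x))
    induction v x using TensorProduct.induction_on with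
    | zero => simp
    | tmul a c =>
      rw [Algebra.TensorProduct.map_tmul, sectCmp_tmul, sectCmp_tmul, map_mul]
      refine congrArg₂ (· * ·) ?_ ?_
      · exact congr($((Scheme.Hom.comp_appTop _ _).symm.trans
          ((congrArg Scheme.Hom.appTop (bcZ_fst (g := g) φ)).trans (Scheme.Hom.comp_appTop _ _))) a)
      · exact congr($((Scheme.Hom.comp_appTop _ _).symm.trans
          (congrArg Scheme.Hom.appTop (bcZ_snd (g := g) φ))) c)
    | add z z' hz hz' => simp only [map_add, hz, hz']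
  have hbij := bijective_sectCmp g T
  constructor
  · intro φ ψ e
    have e2 : ((sectCmp g T).comp ((Algebra.TensorProduct.map (toAlg φ) (AlgHom.id _ _)).comp v)).toRingHom =
        ((sectCmp g T).comp ((Algebra.TensorProduct.map (toAlg ψ) (AlgHom.id _ _)).comp v)).toRingHom := by
      rw [← key φ, ← key ψ]
      exact congrArg (fun a : (Over.map g).obj ((Over.pullback g).obj T) ⟶ Over.mk f => a.left.appTop.hom) e
    have e3 : (toAlg φ).comp eW = (toAlg ψ).comp eW := by
      refine (WeilAlg.bijective_univ Γ(S, ⊤) b Γ(X, ⊤) Γ(T.left, ⊤)).1 (AlgHom.ext fun x => ?_)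
      have h1 := hbij.1 (congr($e2 x))
      show Algebra.TensorProduct.map ((toAlg φ).comp eW) (AlgHom.id _ _) _ =
        Algebra.TensorProduct.map ((toAlg ψ).comp eW) (AlgHom.id _ _) _
      rw [hcomp, hcomp]
      exact h1
    refine Over.OverMorphism.ext (ext_of_isAffine ?_)
    ext y
    obtain ⟨p, rfl⟩ := heW.2 y
    exact congr($e3 p)
  · intro a
    let a₀ : pullback T.hom g ⟶ X := (a : (Over.map g).obj ((Over.pullback g).obj T) ⟶ Over.mk f).left
    have ha₀ : a₀ ≫ f = pullback.snd T.hom g ≫ g :=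
      Over.w (a : (Over.map g).obj ((Over.pullback g).obj T) ⟶ Over.mk f)
    let eT := AlgEquiv.ofBijective (sectCmp g T) hbij
    let α : Γ(X, ⊤) →ₐ[Γ(S, ⊤)] Γ(pullback T.hom g, ⊤) :=
      { toRingHom := a₀.appTop.hom
        commutes' := fun r => congr($((Scheme.Hom.comp_appTop a₀ f).symm.trans
          (congrArg Scheme.Hom.appTop ha₀)) r) }
    obtain ⟨h, hh⟩ := (WeilAlg.bijective_univ Γ(S, ⊤) b Γ(X, ⊤) Γ(T.left, ⊤)).2 (eT.symm.toAlgHom.comp α)
    let eW' := AlgEquiv.ofBijective eW heW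
    let h' := h.comp eW'.symm.toAlgHom
    obtain ⟨φ₀, hφ₀⟩ := exists_hom_appTop_eq (X := T.left) (Y := W.left) (CommRingCat.ofHom h'.toRingHom)
    have hφ₀' : φ₀ ≫ W.hom = T.hom := by
      apply ext_of_isAffine
      rw [Scheme.Hom.comp_appTop, hφ₀]
      ext r
      exact h'.commutes r
    haveI : IsAffine (Over.mk f).left := ‹IsAffine X›
    refine ⟨Over.homMk φ₀ hφ₀', morS_ext _ _ (ext_of_isAffine (CommRingCat.hom_ext ?_))⟩
    rw [key]
    have e1 : toAlg (Over.homMk φ₀ hφ₀') = h' := AlgHom.ext fun y => congr($hφ₀ y)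
    rw [e1]
    ext x
    show sectCmp g T (Algebra.TensorProduct.map h' (AlgHom.id _ _)
      (Algebra.TensorProduct.map eW (AlgHom.id _ _) (WeilAlg.univ Γ(S, ⊤) b Γ(X, ⊤) x))) = α x
    refine (congrArg (sectCmp g T) (congr($((hcomp h').symm) _))).trans ?_
    have e2 : h'.comp eW = h := AlgHom.ext fun p => congrArg h (eW'.symm_apply_apply p)
    refine (congrArg (fun χ : P →ₐ[Γ(S, ⊤)] Γ(T.left, ⊤) => sectCmp g T (Algebra.TensorProduct.map χ
      (AlgHom.id _ _) (WeilAlg.univ Γ(S, ⊤) b Γ(X, ⊤) x))) e2).trans ?_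
    exact (congrArg (sectCmp g T) (congr($hh x))).trans (eT.apply_symm_apply (α x))

end Groth.Flatmor4
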