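import Mathlib
import Groth.Prelude.Def_Flatn

/-!
Representability of `morS g f` can be tested on affine schemes, given a universal element.
-/

set_option autoImplicit false
set_option linter.style.haveILetI false
set_option backward.isDefEq.respectTransparency.types false

universe u

open CategoryTheory CategoryTheory.Limits AlgebraicGeometry Opposite

namespace Groth.Flatmor4

variable {Z X S : Scheme.{u}} {g : Z ⟶ S} {f : X ⟶ S}

/-- The base change map of `T ×_S Z` along a morphism over `S`. -/
noncomputable def bcZ (g : Z ⟶ S) {T T' : Over S} (φ : T' ⟶ T) : pullback T'.hom g ⟶ pullback T.hom g :=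
  pullback.lift (pullback.fst T'.hom g ≫ φ.left) (pullback.snd T'.hom g)
    (((Category.assoc _ _ _).trans (congrArg _ (Over.w φ))).trans pullback.condition)

theorem bcZ_fst {T T' : Over S} (φ : T' ⟶ T) :
    bcZ g φ ≫ pullback.fst T.hom g = pullback.fst T'.hom g ≫ φ.left := pullback.lift_fst _ _ _

theorem bcZ_snd {T T' : Over S} (φ : T' ⟶ T) :
    bcZ g φ ≫ pullback.snd T.hom g = pullback.snd T'.hom g := pullback.lift_snd _ _ _

theorem morS_map_left {T T' : Over S} (φ : T' ⟶ T) (a : (Flatn.morS g f).obj (op T)) :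
    ((Flatn.morS g f).map φ.op a : (Over.map g).obj ((Over.pullback g).obj T') ⟶ Over.mk f).left =
      bcZ g φ ≫ (a : (Over.map g).obj ((Over.pullback g).obj T) ⟶ Over.mk f).left := rfl

theorem morS_ext {T : Over S} (a a' : (Flatn.morS g f).obj (op T))
    (h : (a : (Over.map g).obj ((Over.pullback g).obj T) ⟶ Over.mk f).left =
      (a' : (Over.map g).obj ((Over.pullback g).obj T) ⟶ Over.mk f).left) : a = a' :=
  Over.OverMorphism.ext h

/-- A universal element for affine schemes is universal. -/
theorem nonempty_representableBy_morS_of_affine (W : Over S) (u : (Flatn.morS g f).obj (op W))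
    (hu : ∀ T : Over S, IsAffine T.left →
      Function.Bijective fun φ : T ⟶ W => (Flatn.morS g f).map φ.op u) :
    Nonempty ((Flatn.morS g f).RepresentableBy W) := by
  let R : ∀ T : Over S, (T ⟶ W) → (Flatn.morS g f).obj (op T) := fun T φ => (Flatn.morS g f).map φ.op u
  have hR : ∀ {T T' : Over S} (m : T' ⟶ T) (φ : T ⟶ W),
      R T' (m ≫ φ) = (Flatn.morS g f).map m.op (R T φ) := fun m φ => by
    simp only [R, op_comp, Functor.map_comp]
    rfl
  have hinj : ∀ T, Function.Injective (R T) := by
    intro T φ ψ e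
    refine Over.OverMorphism.ext (T.left.affineCover.hom_ext _ _ fun i => ?_)
    let m : Over.mk (T.left.affineCover.f i ≫ T.hom) ⟶ T := Over.homMk (T.left.affineCover.f i) rfl
    have : m ≫ φ = m ≫ ψ := (hu _ (inferInstanceAs (IsAffine (T.left.affineCover.X i)))).1 (by
      show R _ _ = R _ _
      rw [hR, hR, e])
    exact congrArg CommaMorphism.left this
  have hsurj : ∀ T, Function.Surjective (R T) := by
    intro T a
    let 𝒰 := T.left.affineCover
    let Ti : 𝒰.I₀ → Over S := fun i => Over.mk (𝒰.f i ≫ T.hom)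
    let m : ∀ i, Ti i ⟶ T := fun i => Over.homMk (𝒰.f i) rfl
    choose φ hφ using fun i => (hu (Ti i) (inferInstanceAs (IsAffine (𝒰.X i)))).2
      ((Flatn.morS g f).map (m i).op a)
    have hcompat : ∀ i j, pullback.fst (𝒰.f i) (𝒰.f j) ≫ (φ i).left =
        pullback.snd (𝒰.f i) (𝒰.f j) ≫ (φ j).left := by
      intro i j
      let Tij : Over S := Over.mk (pullback.fst (𝒰.f i) (𝒰.f j) ≫ (Ti i).hom)
      let pi : Tij ⟶ Ti i := Over.homMk (pullback.fst (𝒰.f i) (𝒰.f j)) rfl
      let pj : Tij ⟶ Ti j := Over.homMk (pullback.snd (𝒰.f i) (𝒰.f j))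
        ((Category.assoc _ _ _).symm.trans ((congrArg (· ≫ T.hom) pullback.condition.symm).trans
          (Category.assoc _ _ _)))
      have e : pi ≫ m i = pj ≫ m j := Over.OverMorphism.ext pullback.condition
      have : pi ≫ φ i = pj ≫ φ j := hinj _ (by
        rw [hR, hR]
        show (Flatn.morS g f).map pi.op ((fun φ : Ti i ⟶ W => (Flatn.morS g f).map φ.op u) (φ i)) =
          (Flatn.morS g f).map pj.op ((fun φ : Ti j ⟶ W => (Flatn.morS g f).map φ.op u) (φ j))
        rw [hφ i, hφ j]
        have h1 := congrArg (fun n : Tij ⟶ T => (Flatn.morS g f).map n.op a) e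
        simp only [op_comp, Functor.map_comp] at h1
        exact h1)
      exact congrArg CommaMorphism.left this
    let ψ : T ⟶ W := Over.homMk (𝒰.glueMorphisms (fun i => (φ i).left) hcompat) (𝒰.hom_ext _ _ fun i => by
      rw [𝒰.ι_glueMorphisms_assoc]
      exact Over.w (φ i))
    refine ⟨ψ, morS_ext _ _ (Scheme.Cover.hom_ext (𝒰.pullback₁ (pullback.fst T.hom g)) _ _ fun i => ?_)⟩
    let c : pullback (pullback.fst T.hom g) (𝒰.f i) ⟶ pullback (Ti i).hom g :=
      pullback.lift (pullback.snd _ _) (pullback.fst _ _ ≫ pullback.snd T.hom g) (by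
        show pullback.snd _ _ ≫ 𝒰.f i ≫ T.hom = _
        rw [← Category.assoc, ← pullback.condition, Category.assoc, pullback.condition, Category.assoc])
    have hc : c ≫ bcZ g (m i) = pullback.fst (pullback.fst T.hom g) (𝒰.f i) := by
      refine pullback.hom_ext ?_ ?_
      · rw [Category.assoc, bcZ_fst, ← Category.assoc, pullback.lift_fst]
        exact pullback.condition.symm
      · rw [Category.assoc, bcZ_snd, pullback.lift_snd]
    have hmψ : m i ≫ ψ = φ i := Over.OverMorphism.ext (𝒰.ι_glueMorphisms _ _ i)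
    have e : (Flatn.morS g f).map (m i).op (R T ψ) = (Flatn.morS g f).map (m i).op a := by
      rw [← hR, hmψ]
      exact hφ i
    have e' := congrArg (fun b : (Over.map g).obj ((Over.pullback g).obj (Ti i)) ⟶ Over.mk f => c ≫ b.left) e
    simp only [morS_map_left] at e'
    rw [← Category.assoc, ← Category.assoc, hc] at e'
    exact e'
  exact ⟨{ homEquiv := fun {T} => Equiv.ofBijective (R T) ⟨hinj T, hsurj T⟩
           homEquiv_comp := fun m φ => hR m φ }⟩

end Groth.Flatmor4
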