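import Groth.Agent.Flatmor4.OverRep
import Groth.Agent.Flatmor4.MorSRep
import Groth.Agent.HilbPts.Count
import Groth.Prelude.Def_Mor2
import Groth.Agent.S7194

/-!
Representability of `morS g f` by gluing the functors of morphisms into affine opens.
-/

set_option autoImplicit false
set_option linter.style.haveILetI false
set_option linter.unusedSimpArgs false
set_option backward.isDefEq.respectTransparency.types false

universe u

open CategoryTheory CategoryTheory.Limits AlgebraicGeometry Opposite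

noncomputable section

namespace Groth.Flatmor4.MorSGlue

variable {Z X S : Scheme.{u}} {g : Z ⟶ S} {f : X ⟶ S}

theorem isPullback_bcZ {T T' : Over S} (φ : T' ⟶ T) :
    IsPullback (bcZ g φ) (pullback.fst T'.hom g) (pullback.fst T.hom g) φ.left := by
  refine IsPullback.of_right ?_ (bcZ_fst φ) (IsPullback.of_hasPullback T.hom g).flip
  rw [bcZ_snd, Over.w φ]
  exact (IsPullback.of_hasPullback T'.hom g).flip

open OverRep in
theorem isSheafCover_morS {T : Over S} (𝒰 : Scheme.OpenCover.{u} T.left) :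
    IsSheafCover (Flatn.morS g f) 𝒰 := by
  intro a ha
  haveI hopen : ∀ i, IsOpenImmersion (bcZ g (pieceHom T 𝒰 i)) := fun i =>
    MorphismProperty.of_isPullback (isPullback_bcZ (g := g) (pieceHom T 𝒰 i)).flip
      (inferInstanceAs (IsOpenImmersion (𝒰.f i)))
  let 𝒱 : Scheme.OpenCover.{u} (pullback T.hom g) := Scheme.Cover.mkOfCovers 𝒰.I₀
    (fun i => pullback (piece T 𝒰 i).hom g) (fun i => bcZ g (pieceHom T 𝒰 i)) (fun z => by
      obtain ⟨i, y, hy⟩ := 𝒰.exists_eq (pullback.fst T.hom g z)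
      obtain ⟨w, hw, -⟩ := Scheme.exists_preimage_of_isPullback (isPullback_bcZ (g := g) (pieceHom T 𝒰 i))
        z y hy.symm
      exact ⟨i, w, hw⟩) hopen
  have hcompat : ∀ i j : 𝒰.I₀, pullback.fst (bcZ g (pieceHom T 𝒰 i)) (bcZ g (pieceHom T 𝒰 j)) ≫
      (a i : (Over.map g).obj ((Over.pullback g).obj (piece T 𝒰 i)) ⟶ Over.mk f).left =
      pullback.snd (bcZ g (pieceHom T 𝒰 i)) (bcZ g (pieceHom T 𝒰 j)) ≫
      (a j : (Over.map g).obj ((Over.pullback g).obj (piece T 𝒰 j)) ⟶ Over.mk f).left := by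
    intro i j
    let W : Over S := Over.mk (pullback.fst (𝒰.f i) (𝒰.f j) ≫ 𝒰.f i ≫ T.hom)
    let p : W ⟶ piece T 𝒰 i := Over.homMk (pullback.fst _ _) rfl
    let q : W ⟶ piece T 𝒰 j := Over.homMk (pullback.snd _ _)
      (show _ ≫ 𝒰.f j ≫ T.hom = _ ≫ 𝒰.f i ≫ T.hom from pullback.condition_assoc _ |>.symm)
    have e := congrArg (fun b : (Over.map g).obj ((Over.pullback g).obj W) ⟶ Over.mk f => b.left)
      (ha i j W p q (Over.OverMorphism.ext pullback.condition))
    simp only [res, morS_map_left] at e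
    have hw : pullback.fst (bcZ g (pieceHom T 𝒰 i)) (bcZ g (pieceHom T 𝒰 j)) ≫ bcZ g (pieceHom T 𝒰 i) =
        pullback.snd (bcZ g (pieceHom T 𝒰 i)) (bcZ g (pieceHom T 𝒰 j)) ≫ bcZ g (pieceHom T 𝒰 j) := pullback.condition
    have h1 : (pullback.fst (bcZ g (pieceHom T 𝒰 i)) (bcZ g (pieceHom T 𝒰 j)) ≫ pullback.fst (piece T 𝒰 i).hom g) ≫ 𝒰.f i =
        (pullback.snd (bcZ g (pieceHom T 𝒰 i)) (bcZ g (pieceHom T 𝒰 j)) ≫ pullback.fst (piece T 𝒰 j).hom g) ≫ 𝒰.f j := by
      have := congrArg (· ≫ pullback.fst T.hom g) hw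
      simp only [Category.assoc, bcZ_fst] at this
      simpa using this
    let z : pullback (bcZ g (pieceHom T 𝒰 i)) (bcZ g (pieceHom T 𝒰 j)) ⟶ pullback W.hom g :=
      pullback.lift (pullback.lift _ _ h1) (pullback.fst _ _ ≫ pullback.snd (piece T 𝒰 i).hom g) (by
        show pullback.lift _ _ h1 ≫ pullback.fst _ _ ≫ 𝒰.f i ≫ T.hom = _
        rw [pullback.lift_fst_assoc, Category.assoc, Category.assoc]
        exact congrArg _ pullback.condition)
    have hp : z ≫ bcZ g p = pullback.fst (bcZ g (pieceHom T 𝒰 i)) (bcZ g (pieceHom T 𝒰 j)) := by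
      refine pullback.hom_ext ?_ ?_
      · rw [Category.assoc, bcZ_fst, pullback.lift_fst_assoc]
        exact pullback.lift_fst _ _ _
      · rw [Category.assoc, bcZ_snd, pullback.lift_snd]
    have hq : z ≫ bcZ g q = pullback.snd (bcZ g (pieceHom T 𝒰 i)) (bcZ g (pieceHom T 𝒰 j)) := by
      refine pullback.hom_ext ?_ ?_
      · rw [Category.assoc, bcZ_fst, pullback.lift_fst_assoc]
        exact pullback.lift_snd _ _ _
      · rw [Category.assoc, bcZ_snd, pullback.lift_snd]
        have := congrArg (· ≫ pullback.snd T.hom g) hw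
        simp only [Category.assoc, bcZ_snd] at this
        exact this
    rw [← hp, ← hq, Category.assoc, Category.assoc, e]
  let b₀ := Scheme.Cover.glueMorphisms 𝒱
    (fun i => (a i : (Over.map g).obj ((Over.pullback g).obj (piece T 𝒰 i)) ⟶ Over.mk f).left) hcompat
  refine ⟨(Over.homMk b₀ (Scheme.Cover.hom_ext 𝒱 _ _ fun i => ?_) :
    (Over.map g).obj ((Over.pullback g).obj T) ⟶ Over.mk f), fun i => morS_ext _ _ ?_, fun b' hb' => ?_⟩
  · show 𝒱.f i ≫ b₀ ≫ f = bcZ g (pieceHom T 𝒰 i) ≫ pullback.snd T.hom g ≫ g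
    rw [Scheme.Cover.ι_glueMorphisms_assoc, ← Category.assoc, bcZ_snd]
    exact Over.w (a i : (Over.map g).obj ((Over.pullback g).obj (piece T 𝒰 i)) ⟶ Over.mk f)
  · rw [morS_map_left]
    exact Scheme.Cover.ι_glueMorphisms 𝒱 _ hcompat i
  · refine morS_ext _ _ (Scheme.Cover.hom_ext 𝒱 _ _ fun i => ?_)
    refine (morS_map_left (pieceHom T 𝒰 i) b').symm.trans ?_
    rw [show (Flatn.morS g f).map (pieceHom T 𝒰 i).op b' = a i from hb' i]
    exact (Scheme.Cover.ι_glueMorphisms 𝒱 _ hcompat i).symm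

section Chart

variable (g) {V U : Scheme.{u}} (ι : V ⟶ S) (f' : U ⟶ V) (j : U ⟶ X)

/-- `A ×_V (Z ×_S V) ⟶ A ×_S Z`. -/
abbrev toS {A : Scheme.{u}} (r : A ⟶ V) (t : A ⟶ S) (h : r ≫ ι = t) :
    pullback r (pullback.snd g ι) ⟶ pullback t g :=
  pullback.lift (pullback.fst _ _) (pullback.snd _ _ ≫ pullback.fst g ι)
    (by rw [← h, Category.assoc, pullback.condition (f := g), pullback.condition_assoc])

/-- `A ×_S Z ⟶ A ×_V (Z ×_S V)`. -/
abbrev toV {A : Scheme.{u}} (r : A ⟶ V) (t : A ⟶ S) (h : r ≫ ι = t) :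
    pullback t g ⟶ pullback r (pullback.snd g ι) :=
  pullback.lift (pullback.fst _ _) (pullback.lift (pullback.snd _ _) (pullback.fst _ _ ≫ r)
    (by rw [Category.assoc, h, pullback.condition])) (by rw [pullback.lift_snd])

theorem toV_toS {A : Scheme.{u}} (r : A ⟶ V) (t : A ⟶ S) (h : r ≫ ι = t) :
    toV g ι r t h ≫ toS g ι r t h = 𝟙 _ := by
  apply pullback.hom_ext <;> simp only [toV, toS, Category.assoc, Category.id_comp, pullback.lift_fst, pullback.lift_snd, pullback.lift_fst_assoc, pullback.lift_snd_assoc]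

theorem toS_toV {A : Scheme.{u}} (r : A ⟶ V) (t : A ⟶ S) (h : r ≫ ι = t) [Mono ι] :
    toS g ι r t h ≫ toV g ι r t h = 𝟙 _ := by
  apply pullback.hom_ext
  · simp only [toV, toS, Category.assoc, Category.id_comp, pullback.lift_fst, pullback.lift_snd, pullback.lift_fst_assoc, pullback.lift_snd_assoc]
  · apply pullback.hom_ext <;> simp only [toV, toS, Category.assoc, Category.id_comp, pullback.lift_fst, pullback.lift_snd, pullback.lift_fst_assoc, pullback.lift_snd_assoc, pullback.condition]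

/-- A chart: morphisms into an open of `X` over an open of `S`. -/
theorem exists_universal_chart [IsOpenImmersion ι] [IsOpenImmersion j] (hj : f' ≫ ι = j ≫ f)
    (W : Over V) (e : (Flatn.morS (pullback.snd g ι) f').RepresentableBy W) :
    ∃ ξ : (Over.map g).obj ((Over.pullback g).obj (Over.mk (W.hom ≫ ι))) ⟶ Over.mk f,
      Set.range ξ.left ⊆ Set.range j ∧
      ∀ (T : Over S) (a : (Over.map g).obj ((Over.pullback g).obj T) ⟶ Over.mk f),
        Set.range T.hom ⊆ Set.range ι → Set.range a.left ⊆ Set.range j →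
          ∃! t : T ⟶ Over.mk (W.hom ≫ ι), bcZ g t ≫ ξ.left = a.left := by
  let g' := pullback.snd g ι
  let u : (Over.map g').obj ((Over.pullback g').obj W) ⟶ Over.mk f' := e.homEquiv (𝟙 W)
  have hu : u.left ≫ f' = pullback.snd W.hom g' ≫ g' := Over.w u
  let ξ : (Over.map g).obj ((Over.pullback g).obj (Over.mk (W.hom ≫ ι))) ⟶ Over.mk f :=
    Over.homMk (toV g ι W.hom (W.hom ≫ ι) rfl ≫ u.left ≫ j) (by
      show (_ ≫ u.left ≫ j) ≫ f = pullback.snd (W.hom ≫ ι) g ≫ g
      rw [Category.assoc, Category.assoc, ← hj, ← Category.assoc u.left, hu, Category.assoc,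
        ← pullback.condition (f := g), pullback.lift_snd_assoc, pullback.lift_fst_assoc])
  refine ⟨ξ, ?_, fun T a hT ha => ?_⟩
  · rintro _ ⟨z, rfl⟩
    exact ⟨u.left (toV g ι W.hom (W.hom ≫ ι) rfl z), rfl⟩
  let r : T.left ⟶ V := IsOpenImmersion.lift ι T.hom hT
  have hr : r ≫ ι = T.hom := IsOpenImmersion.lift_fac _ _ _
  let R : Over V := Over.mk r
  let s := toS g ι r T.hom hr
  let a' := IsOpenImmersion.lift j a.left ha
  have ha' : a' ≫ j = a.left := IsOpenImmersion.lift_fac _ _ _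
  let b : (Over.map g').obj ((Over.pullback g').obj R) ⟶ Over.mk f' := Over.homMk (s ≫ a') (by
    show (s ≫ a') ≫ f' = pullback.snd r g' ≫ g'
    rw [← cancel_mono ι, Category.assoc, Category.assoc, hj, ← Category.assoc a', ha',
      show a.left ≫ f = pullback.snd T.hom g ≫ g from Over.w a, pullback.lift_snd_assoc, Category.assoc,
      Category.assoc, pullback.condition (f := g)])
  have key : ∀ (w : R ⟶ W) (t : T ⟶ Over.mk (W.hom ≫ ι)), t.left = w.left →
      (bcZ g t ≫ ξ.left = a.left ↔ e.homEquiv w = b) := by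
    intro w t htw
    have hbc : s ≫ bcZ g t ≫ toV g ι W.hom (W.hom ≫ ι) rfl = bcZ g' w := by
      refine pullback.hom_ext ?_ (pullback.hom_ext ?_ ?_)
      · simp only [Category.assoc, pullback.lift_fst]
        erw [pullback.lift_fst]
        rw [pullback.lift_fst_assoc, htw]
        exact (bcZ_fst w).symm
      · simp only [Category.assoc, pullback.lift_snd, pullback.lift_fst]
        erw [bcZ_snd, pullback.lift_snd]
        rw [reassoc_of% (bcZ_snd (g := g') w)]
        rfl
      · simp only [Category.assoc, pullback.lift_snd]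
        erw [pullback.lift_fst_assoc]
        rw [Category.assoc]
        simp only [s, toS]
        rw [pullback.lift_fst_assoc, htw, Over.w w]
        exact (pullback.condition (f := R.hom) (g := g')).trans
          ((congrArg (· ≫ g') (bcZ_snd (g := g') w)).symm.trans (Category.assoc _ _ _))
    have hew : (e.homEquiv w : (Over.map g').obj ((Over.pullback g').obj R) ⟶ Over.mk f').left =
        bcZ g' w ≫ u.left := by
      rw [e.homEquiv_eq w, morS_map_left]
    constructor
    · intro h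
      refine morS_ext _ _ ((cancel_mono j).mp ?_)
      rw [hew, ← hbc, Category.assoc, Category.assoc, Category.assoc]
      show s ≫ bcZ g t ≫ ξ.left = (s ≫ a') ≫ j
      rw [h, Category.assoc, ha']
    · intro h
      have h' : s ≫ bcZ g t ≫ ξ.left = s ≫ a.left := by
        have := congrArg (fun c : (Over.map g').obj ((Over.pullback g').obj R) ⟶ Over.mk f' => c.left ≫ j) h
        simp only [hew] at this
        rw [← hbc] at this
        simp only [Category.assoc] at this
        rw [show ξ.left = toV g ι W.hom (W.hom ≫ ι) rfl ≫ u.left ≫ j from rfl]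
        refine this.trans ?_
        show (s ≫ a') ≫ j = _
        rw [Category.assoc, ha']
      have h'' := congrArg (toV g ι r T.hom hr ≫ ·) h'
      simp only [← Category.assoc] at h''
      rw [toV_toS] at h''
      simpa using h''
  let w : R ⟶ W := e.homEquiv.symm b
  refine ⟨Over.homMk w.left ((Category.assoc _ _ _).symm.trans ((congrArg (· ≫ ι) (Over.w w)).trans hr)),
    (key w _ rfl).2 (e.homEquiv.apply_symm_apply b), fun t ht => ?_⟩
  let w' : R ⟶ W := Over.homMk t.left ((cancel_mono ι).mp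
    ((Category.assoc _ _ _).trans ((Over.w t).trans hr.symm)))
  refine Over.OverMorphism.ext ?_
  show w'.left = w.left
  rw [show w = w' from e.homEquiv.symm_apply_eq.2 ((key w' t rfl).1 ht).symm]

end Chart

/-- The locus where a relative morphism lands in an open over an open of the base. -/
def loc [IsFinite g] (V : S.Opens) (U : X.Opens) {T : Over S}
    (a : (Over.map g).obj ((Over.pullback g).obj T) ⟶ Over.mk f) : T.left.Opens :=
  (T.hom ⁻¹ᵁ V) ⊓ ⟨(pullback.fst T.hom g '' ((a.left ⁻¹ᵁ U : (pullback T.hom g).Opens) : Set _)ᶜ)ᶜ,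
    ((pullback.fst T.hom g).isClosedMap _ (a.left ⁻¹ᵁ U).isOpen.isClosed_compl).isOpen_compl⟩

theorem mem_loc_iff [IsFinite g] (V : S.Opens) (U : X.Opens) {T : Over S}
    (a : (Over.map g).obj ((Over.pullback g).obj T) ⟶ Over.mk f) (t : T.left) :
    t ∈ loc V U a ↔ T.hom t ∈ V ∧ ∀ z, pullback.fst T.hom g z = t → a.left z ∈ U := by
  show _ ∧ _ ↔ _
  refine and_congr Iff.rfl ⟨fun h z hz => ?_, fun h => ?_⟩
  · by_contra hz'
    exact h ⟨z, hz', hz⟩
  · rintro ⟨z, hz', hz⟩
    exact hz' (h z hz)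

theorem exists_affine_piece [IsFinite g]
    (hAF : ∀ (s : S) (d : ℕ) (x : Fin d → ↥X), (∀ k, f (x k) = s) → ∃ U : X.Opens, IsAffineOpen U ∧ ∀ k, x k ∈ U)
    {T : Over S} (a : (Over.map g).obj ((Over.pullback g).obj T) ⟶ Over.mk f) (t : T.left) :
    ∃ (V : S.Opens) (U : X.Opens), IsAffineOpen V ∧ IsAffineOpen U ∧ U ≤ f ⁻¹ᵁ V ∧ t ∈ loc V U a := by
  obtain ⟨_, ⟨V, hV, rfl⟩, htV, -⟩ :=
    S.isBasis_affineOpens.exists_subset_of_mem_open (Set.mem_univ (T.hom t)) isOpen_univ
  let F : Set X := a.left '' (pullback.fst T.hom g ⁻¹' {t})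
  have hF : F.Finite := ((pullback.fst T.hom g).finite_preimage_singleton t).image _
  have hFs : ∀ x ∈ F, f x = T.hom t := by
    rintro _ ⟨z, hz, rfl⟩
    rw [← Scheme.Hom.comp_apply, show a.left ≫ f = pullback.snd T.hom g ≫ g from Over.w a,
      ← pullback.condition, Scheme.Hom.comp_apply]
    exact congrArg T.hom hz
  obtain ⟨d, x, hx⟩ := hF.fin_embedding
  obtain ⟨U', hU', hxU'⟩ := hAF (T.hom t) d x fun k => hFs _ (hx ▸ ⟨k, rfl⟩)
  obtain ⟨U, hU, hUle, hFU⟩ := Groth.HilbPts.exists_affine_le_of_finite hU' (f ⁻¹ᵁ V) hF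
    (fun y hy => by obtain ⟨k, rfl⟩ := hx ▸ hy; exact hxU' k)
    (fun y hy => by show f y ∈ V; rw [hFs y hy]; exact htV)
  exact ⟨V, U, hV, hU, hUle, (mem_loc_iff V U a t).2 ⟨htV, fun z hz => hFU ⟨z, hz, rfl⟩⟩⟩

theorem isRepresentable_morS_of_points_in_affine (hg : Mor2.IsFinLocFree g)
    (hAF : ∀ (s : S) (d : ℕ) (x : Fin d → ↥X), (∀ k, f (x k) = s) → ∃ U : X.Opens, IsAffineOpen U ∧ ∀ k, x k ∈ U) :
    (Flatn.morS g f).IsRepresentable := by
  haveI : IsFinite g := hg.1
  let I := {p : S.Opens × X.Opens // IsAffineOpen p.1 ∧ IsAffineOpen p.2 ∧ p.2 ≤ f ⁻¹ᵁ p.1}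
  have hchart : ∀ p : I, ∃ (H : Over S) (ξ : (Over.map g).obj ((Over.pullback g).obj H) ⟶ Over.mk f),
      (Set.range H.hom ⊆ p.1.1 ∧ Set.range ξ.left ⊆ (p.1.2 : Set X)) ∧
      ∀ (T : Over S) (a : (Over.map g).obj ((Over.pullback g).obj T) ⟶ Over.mk f),
        Set.range T.hom ⊆ p.1.1 → Set.range a.left ⊆ (p.1.2 : Set X) →
          ∃! t : T ⟶ H, bcZ g t ≫ ξ.left = a.left := by
    rintro ⟨⟨V, U⟩, hV, hU, hle⟩
    haveI : IsAffine U.toScheme := hU
    haveI : IsAffine V.toScheme := hV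
    haveI : Flat g := hg.2.1
    haveI : LocallyOfFinitePresentation g := hg.2.2
    obtain ⟨W, -, ⟨e⟩⟩ := Groth.Agent.S7194.result (pullback.snd g V.ι) (f.resLE V U hle)
      ⟨inferInstance, inferInstance, inferInstance⟩
    obtain ⟨ξ, hξ, hu⟩ := exists_universal_chart g V.ι (f.resLE V U hle) U.ι
      (Scheme.Hom.resLE_comp_ι f hle) W e
    refine ⟨Over.mk (W.hom ≫ V.ι), ξ, ⟨?_, hξ.trans (Scheme.Opens.range_ι U).subset⟩, fun T a h1 h2 => ?_⟩
    · rintro _ ⟨w, rfl⟩
      exact (Scheme.Opens.range_ι V).subset ⟨W.hom w, rfl⟩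
    · exact hu T a (h1.trans (Scheme.Opens.range_ι V).symm.subset) (h2.trans (Scheme.Opens.range_ι U).symm.subset)
  choose H ξ hξ hu using hchart
  have htop : ∀ (p : I) {T : Over S} (a : (Over.map g).obj ((Over.pullback g).obj T) ⟶ Over.mk f),
      loc p.1.1 p.1.2 a = ⊤ ↔ Set.range T.hom ⊆ p.1.1 ∧ Set.range a.left ⊆ (p.1.2 : Set X) := by
    intro p T a
    simp only [← top_le_iff, SetLike.le_def, TopologicalSpace.Opens.mem_top, forall_const, mem_loc_iff,
      Set.range_subset_iff, forall_and, SetLike.mem_coe]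
    exact and_congr Iff.rfl ⟨fun h z => h _ z rfl, fun h t z _ => h z⟩
  refine OverRep.Atlas.representable (F := Flatn.morS g f)
    { ι := I
      H := H
      Z := ξ
      loc := fun p T a => loc p.1.1 p.1.2 a
      loc_map := fun p T T' φ a => TopologicalSpace.Opens.ext (Set.ext fun t => ?_)
      loc_self := fun p => (htop p _).2 (hξ p)
      univ := fun p T a ha => ?_
      cover := fun T a t => ?_ } fun T 𝒰 => isSheafCover_morS 𝒰
  · show t ∈ loc _ _ (OverRep.res (Flatn.morS g f) φ a : (Over.map g).obj ((Over.pullback g).obj T') ⟶ Over.mk f) ↔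
      φ.left t ∈ loc p.1.1 p.1.2 a
    have hTt : T'.hom t = T.hom (φ.left t) :=
      (congrArg (fun m : T'.left ⟶ S => m t) (Over.w φ).symm).trans (Scheme.Hom.comp_apply _ _ _)
    rw [mem_loc_iff, mem_loc_iff]
    simp only [Opposite.unop_op]
    rw [hTt]
    refine and_congr Iff.rfl ⟨fun h w hw => ?_, fun h z hz => ?_⟩
    · obtain ⟨z, hz1, hz2⟩ := Scheme.exists_preimage_of_isPullback (isPullback_bcZ (g := g) φ) w t hw
      have := h z hz2
      rw [OverRep.res, morS_map_left, Scheme.Hom.comp_apply, hz1] at this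
      exact this
    · rw [OverRep.res, morS_map_left, Scheme.Hom.comp_apply]
      refine h _ ?_
      rw [← Scheme.Hom.comp_apply, bcZ_fst, Scheme.Hom.comp_apply, hz]
  · obtain ⟨t, ht, huniq⟩ := hu p T a ((htop p a).1 ha).1 ((htop p a).1 ha).2
    exact ⟨t, morS_ext _ _ ((morS_map_left t _).trans ht),
      fun t' ht' => huniq t' ((morS_map_left t' _).symm.trans (congrArg
        (fun b : (Over.map g).obj ((Over.pullback g).obj T) ⟶ Over.mk f => b.left) ht'))⟩
  · obtain ⟨V, U, hV, hU, hle, ht⟩ := exists_affine_piece hAF a t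
    exact ⟨⟨(V, U), hV, hU, hle⟩, ht⟩

end Groth.Flatmor4.MorSGlue
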