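import Mathlib.RingTheory.Smooth.Kaehler
import Mathlib.RingTheory.Smooth.Basic
import Mathlib.RingTheory.Etale.Kaehler
import Mathlib.RingTheory.FiniteType
import Mathlib.RingTheory.Localization.Submodule
import Mathlib.RingTheory.EssentialFiniteness
import Mathlib.RingTheory.LocalRing.ResidueField.Basic
import Mathlib.RingTheory.Kaehler.Basic
import Mathlib.RingTheory.Nakayama

/-!
Existence of a function with non-zero differential at a point with separable residue field.
-/

set_option autoImplicit false
set_option linter.style.haveILetI false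

universe u

open TensorProduct KaehlerDifferential IsLocalRing

namespace Groth.Flatmor4

theorem exists_d_ne_zero {A O : Type u} [CommRing A] [CommRing O] [IsLocalRing A] [IsLocalRing O]
    [Algebra A O] [IsLocalHom (algebraMap A O)] [Algebra.FormallySmooth A O]
    [Algebra.EssFiniteType A O]
    [Algebra.FormallySmooth (ResidueField A) (ResidueField O)]
    (hne : (maximalIdeal A).map (algebraMap A O) ≠ maximalIdeal O) :
    ∃ h ∈ maximalIdeal O, (1 : ResidueField O) ⊗ₜ[O] D A O h ≠ 0 := by
  by_contra H
  push Not at H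
  let k := ResidueField A
  let κ := ResidueField O
  let B := k ⊗[A] O
  letI : Algebra O B := Algebra.TensorProduct.includeRight.toRingHom.toAlgebra
  haveI : IsScalarTower A O B :=
    .of_algebraMap_eq fun a => (Algebra.TensorProduct.includeRight.commutes a).symm
  have hsurj : Function.Surjective (algebraMap O B) := by
    intro z
    induction z using TensorProduct.induction_on with
    | zero => exact ⟨0, map_zero _⟩
    | add x y hx hy =>
      obtain ⟨x, rfl⟩ := hx
      obtain ⟨y, rfl⟩ := hy
      exact ⟨x + y, map_add _ _ _⟩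
    | tmul c o =>
      obtain ⟨a, rfl⟩ := IsLocalRing.residue_surjective c
      refine ⟨a • o, ?_⟩
      change (1 : k) ⊗ₜ[A] (a • o) = _
      rw [← TensorProduct.smul_tmul, Algebra.smul_def, mul_one]
      rfl
  let π : B →ₐ[k] κ := Algebra.TensorProduct.lift (Algebra.ofId k κ)
    (IsScalarTower.toAlgHom A O κ) fun _ _ => Commute.all _ _
  have hπ : ∀ o, π (algebraMap O B o) = residue O o := fun o => by
    change π ((1 : k) ⊗ₜ o) = _
    rw [Algebra.TensorProduct.lift_tmul, map_one, one_mul]
    rfl
  letI : Algebra B κ := π.toRingHom.toAlgebra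
  haveI : IsScalarTower k B κ := .of_algebraMap_eq' π.comp_algebraMap.symm
  haveI : IsScalarTower O B κ := .of_algebraMap_eq fun o => (hπ o).symm
  haveI : SMulCommClass k O B :=
    ⟨fun c o b => by simp only [Algebra.smul_def]; ring⟩
  have hπsurj : Function.Surjective (algebraMap B κ) := fun c => by
    obtain ⟨o, rfl⟩ := IsLocalRing.residue_surjective c
    exact ⟨algebraMap O B o, hπ o⟩
  obtain ⟨l, hl⟩ := (Algebra.FormallySmooth.iff_split_injection (R := k) (P := B) hπsurj).mp
    inferInstance
  let δ : Ω[O⁄A] →ₗ[O] Ω[B⁄k] := KaehlerDifferential.map A k O B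
  let Φ : κ ⊗[O] Ω[O⁄A] →ₗ[κ] κ ⊗[B] Ω[B⁄k] :=
    LinearMap.liftBaseChange κ (((TensorProduct.mk B κ Ω[B⁄k] 1).restrictScalars O).comp δ)
  let M : Ideal B := RingHom.ker (algebraMap B κ)
  have hM : ∀ o ∈ maximalIdeal O, algebraMap O B o ∈ M * M := by
    intro o ho
    have hoM : algebraMap O B o ∈ M := by
      change π (algebraMap O B o) = 0
      rw [hπ]
      exact (residue_eq_zero_iff _).mpr ho
    have h1 : kerCotangentToTensor k B κ (Ideal.toCotangent _ ⟨_, hoM⟩) = 0 := by
      rw [kerCotangentToTensor_toCotangent]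
      have h2 := congrArg Φ (H o ho)
      rw [map_zero, LinearMap.liftBaseChange_tmul, one_smul] at h2
      simpa [δ, KaehlerDifferential.map_D] using h2
    have h3 := congrArg l h1
    rw [map_zero, ← LinearMap.comp_apply, hl, LinearMap.id_apply, Ideal.toCotangent_eq_zero,
      pow_two] at h3
    exact h3
  have hle : M ≤ M * M := fun b hb => by
    obtain ⟨o, rfl⟩ := hsurj b
    refine hM o ((residue_eq_zero_iff _).mp ?_)
    rw [← hπ]
    exact hb
  haveI : Algebra.EssFiniteType k B := inferInstance
  haveI : IsNoetherianRing B := Algebra.EssFiniteType.isNoetherianRing k B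
  have hjac : M ≤ Ideal.jacobson ⊥ := by
    intro b hb
    obtain ⟨o, rfl⟩ := hsurj b
    have ho : o ∈ maximalIdeal O := (residue_eq_zero_iff _).mp (by rw [← hπ]; exact hb)
    rw [Ideal.mem_jacobson_bot]
    intro y
    obtain ⟨y, rfl⟩ := hsurj y
    rw [← map_mul, ← map_one (algebraMap O B), ← map_add]
    refine IsUnit.map _ ?_
    by_contra hu
    have := sub_mem ((mem_maximalIdeal _).mpr hu) (Ideal.mul_mem_right y _ ho)
    rw [add_sub_cancel_left] at this
    exact (maximalIdeal.isMaximal O).ne_top ((Ideal.eq_top_iff_one _).mpr this)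
  have hbot : M = ⊥ := Submodule.eq_bot_of_le_smul_of_le_jacobson_bot M M (IsNoetherian.noetherian M) hle hjac
  apply hne
  refine le_antisymm (Ideal.map_le_iff_le_comap.mpr fun a ha => ?_) fun o ho => ?_
  · exact fun hu => ha ((isUnit_map_iff (algebraMap A O) a).mp hu)
  · let J := (maximalIdeal A).map (algebraMap A O)
    let q : B →ₐ[A] O ⧸ J := Algebra.TensorProduct.lift
      ⟨Ideal.quotientMap J (algebraMap A O) Ideal.le_comap_map, fun _ => rfl⟩
      (Ideal.Quotient.mkₐ A J) fun _ _ => Commute.all _ _
    have h0 : algebraMap O B o = 0 := by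
      have : algebraMap O B o ∈ M := by
        change π _ = 0
        rw [hπ]
        exact (residue_eq_zero_iff _).mpr ho
      rwa [hbot, Ideal.mem_bot] at this
    have h1 : q ((1 : k) ⊗ₜ o) = 0 := by
      rw [show ((1 : k) ⊗ₜ[A] o : B) = algebraMap O B o from rfl, h0, map_zero]
    rw [Algebra.TensorProduct.lift_tmul, map_one, one_mul] at h1
    exact Ideal.Quotient.eq_zero_iff_mem.mp h1

end Groth.Flatmor4
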