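import Groth.Agent.Flatmor4.SmoothDivisor
import Groth.Agent.Flatmor4.SeparableDifferential
import Mathlib.AlgebraicGeometry.Fiber
import Mathlib.AlgebraicGeometry.Properties
import Mathlib.AlgebraicGeometry.Morphisms.Smooth
import Mathlib.AlgebraicGeometry.ResidueField

/-!
Smooth effective Cartier divisors through a point.
-/

set_option autoImplicit false
set_option linter.style.haveILetI false

universe u

open AlgebraicGeometry CategoryTheory TopologicalSpace TensorProduct KaehlerDifferential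

namespace Groth.Flatmor4

/-- Smoothness on sections over affines inside a smooth open. -/
theorem smooth_appLE_of_smooth {X S : Scheme.{u}} (f : X ⟶ S) (W : X.Opens)
    (hW : Smooth (W.ι ≫ f)) {U : X.Opens} {V : S.Opens} (hU : IsAffineOpen U)
    (hV : IsAffineOpen V) (hUW : U ≤ W) (e : U ≤ f ⁻¹ᵁ V) : (f.appLE V U e).hom.Smooth := by
  haveI := hW
  haveI : Smooth (U.ι ≫ f) := by
    rw [← X.homOfLE_ι hUW, Category.assoc]; infer_instance
  haveI : IsAffine (U : Scheme.{u}) := hU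
  have hle : (⊤ : (U : Scheme.{u}).Opens) ≤ (U.ι ≫ f) ⁻¹ᵁ V := fun y _ => e y.2
  have h1 := (U.ι ≫ f).smooth_appLE hV (isAffineOpen_top _) hle
  have h2 : (U.ι ≫ f).appLE V ⊤ hle = f.appLE V U e ≫ U.topIso.inv := by
    rw [← Scheme.Hom.appLE_comp_appLE U.ι f V U ⊤ e (fun y _ => y.2)]
    congr 1
    simp [Scheme.Opens.ι_appLE, Scheme.Opens.topIso]
    rfl
  rw [h2, CommRingCat.hom_comp] at h1
  exact (RingHom.Smooth.propertyIsLocal.respectsIso.cancel_right_isIso (f.appLE V U e) U.topIso.inv).mp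
    h1

/-- A germ with non-zero differential at the point cuts out a smooth divisor nearby. -/
theorem exists_smooth_divisor {X S : Scheme.{u}} (f : X ⟶ S) (x : X)
    (W : X.Opens) (hxW : x ∈ W) (hW : Smooth (W.ι ≫ f))
    (h : ↑(X.presheaf.stalk x)) (hm : h ∈ IsLocalRing.maximalIdeal ↑(X.presheaf.stalk x))
    (hd : letI := (f.stalkMap x).hom.toAlgebra
      (1 : IsLocalRing.ResidueField ↑(X.presheaf.stalk x)) ⊗ₜ[↑(X.presheaf.stalk x)]
          (KaehlerDifferential.D ↑(S.presheaf.stalk (f x)) ↑(X.presheaf.stalk x) h) ≠ 0) :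
    ∃ (U : X.Opens) (hU : IsAffineOpen U) (hx : x ∈ U) (h' : Γ(X, U)),
      X.presheaf.germ U x hx h' = h ∧ h' ∈ nonZeroDivisors Γ(X, U) ∧
      Smooth (Spec.map (CommRingCat.ofHom (Ideal.Quotient.mk (Ideal.span {h'}))) ≫ hU.fromSpec ≫ f) := by
  obtain ⟨U₀, hxU₀, h₀, rfl⟩ := X.presheaf.exists_germ_eq h
  obtain ⟨_, ⟨V, hV, rfl⟩, hxV, -⟩ :=
    S.isBasis_affineOpens.exists_subset_of_mem_open (Set.mem_univ (f x)) isOpen_univ
  obtain ⟨_, ⟨U : X.Opens, hU, rfl⟩, hxU, hUle⟩ := X.isBasis_affineOpens.exists_subset_of_mem_open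
    (show x ∈ (U₀ ⊓ W ⊓ f ⁻¹ᵁ V : X.Opens) from ⟨⟨hxU₀, hxW⟩, hxV⟩) (U₀ ⊓ W ⊓ f ⁻¹ᵁ V).isOpen
  have hUU₀ : U ≤ U₀ := fun y hy => (hUle hy).1.1
  have hUW : U ≤ W := fun y hy => (hUle hy).1.2
  have e : U ≤ f ⁻¹ᵁ V := fun y hy => (hUle hy).2
  let h₁ : Γ(X, U) := X.presheaf.map (homOfLE hUU₀).op h₀
  have hgerm : X.presheaf.germ U x hxU h₁ = X.presheaf.germ U₀ x hxU₀ h₀ :=
    X.presheaf.germ_res_apply (homOfLE hUU₀) x hxU h₀
  have hsm := smooth_appLE_of_smooth f W hW hU hV hUW e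
  letI := (f.appLE V U e).hom.toAlgebra
  haveI : Algebra.Smooth Γ(S, V) Γ(X, U) := hsm
  let p := (hU.primeIdealOf ⟨x, hxU⟩).asIdeal
  -- compare differentials
  have hd₁ : (1 : p.ResidueField) ⊗ₜ[Γ(X, U)] D Γ(S, V) Γ(X, U) h₁ ≠ 0 := by
    intro h0
    apply hd
    letI := (f.stalkMap x).hom.toAlgebra
    letI := TopCat.Presheaf.algebra_section_stalk X.presheaf ⟨x, hxU⟩
    letI := TopCat.Presheaf.algebra_section_stalk S.presheaf ⟨f x, hxV⟩
    letI : Algebra Γ(S, V) (X.presheaf.stalk x) :=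
      ((X.presheaf.germ U x hxU).hom.comp (f.appLE V U e).hom).toAlgebra
    haveI : IsScalarTower Γ(S, V) Γ(X, U) (X.presheaf.stalk x) := .of_algebraMap_eq' rfl
    haveI : IsScalarTower Γ(S, V) (S.presheaf.stalk (f x)) (X.presheaf.stalk x) :=
      .of_algebraMap_eq fun r => by
        change X.presheaf.germ U x hxU (f.appLE V U e r) = f.stalkMap x (S.presheaf.germ V (f x) hxV r)
        rw [Scheme.Hom.germ_stalkMap_apply]
        exact X.presheaf.germ_res_apply (homOfLE e) x hxU _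
    haveI : SMulCommClass (S.presheaf.stalk (f x)) Γ(X, U) (X.presheaf.stalk x) :=
      ⟨fun a b c => by simp only [Algebra.smul_def]; ring⟩
    haveI : IsLocalization.AtPrime (X.presheaf.stalk x) p := hU.isLocalization_stalk ⟨x, hxU⟩
    let K := IsLocalRing.ResidueField (X.presheaf.stalk x)
    let π : Γ(X, U) →ₐ[Γ(X, U)] K := IsScalarTower.toAlgHom _ _ _
    have h1 : p ≤ RingHom.ker π := fun a ha => by
      have : algebraMap Γ(X, U) (X.presheaf.stalk x) a ∈ IsLocalRing.maximalIdeal _ :=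
        (IsLocalization.AtPrime.to_map_mem_maximal_iff (X.presheaf.stalk x) p a).mpr ha
      exact (IsLocalRing.residue_eq_zero_iff _).mpr this
    have h2 : p.primeCompl ≤ (IsUnit.submonoid K).comap π := fun a ha =>
      (IsLocalization.map_units (X.presheaf.stalk x) (⟨a, ha⟩ : p.primeCompl)).map
        (IsLocalRing.residue (X.presheaf.stalk x))
    let ρ : p.ResidueField →ₐ[Γ(X, U)] K := Ideal.ResidueField.liftₐ p π h1 h2
    let δ : Ω[Γ(X, U)⁄Γ(S, V)] →ₗ[Γ(X, U)] Ω[X.presheaf.stalk x⁄S.presheaf.stalk (f x)] :=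
      KaehlerDifferential.map Γ(S, V) (S.presheaf.stalk (f x)) Γ(X, U) (X.presheaf.stalk x)
    let Φ := (TensorProduct.mapOfCompatibleSMul (X.presheaf.stalk x) Γ(X, U) Γ(X, U) K
      Ω[X.presheaf.stalk x⁄S.presheaf.stalk (f x)]).comp (TensorProduct.map ρ.toLinearMap δ)
    have := congrArg Φ h0
    simp only [Φ, δ, LinearMap.comp_apply, TensorProduct.map_tmul, map_zero,
      AlgHom.toLinearMap_apply, map_one, TensorProduct.mapOfCompatibleSMul_tmul,
      KaehlerDifferential.map_D] at this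
    rwa [show algebraMap Γ(X, U) (X.presheaf.stalk x) h₁ = X.presheaf.germ U₀ x hxU₀ h₀ from hgerm]
      at this
  obtain ⟨g, hg, H⟩ := exists_smooth_quotient p h₁ hd₁
  -- the basic open
  letI : Algebra Γ(S, V) Γ(X, X.basicOpen g) :=
    (f.appLE V (X.basicOpen g) ((X.basicOpen_le g).trans e)).hom.toAlgebra
  haveI : IsScalarTower Γ(S, V) Γ(X, U) Γ(X, X.basicOpen g) := .of_algebraMap_eq' (by
    change _ = RingHom.comp (X.presheaf.map (homOfLE (X.basicOpen_le g)).op).hom (f.appLE V U e).hom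
    rw [← CommRingCat.hom_comp, Scheme.Hom.appLE_map]
    rfl)
  haveI := hU.isLocalization_basicOpen g
  obtain ⟨hreg, hsmq⟩ := H Γ(X, X.basicOpen g)
  have hxg : x ∈ X.basicOpen g := by
    letI := TopCat.Presheaf.algebra_section_stalk X.presheaf ⟨x, hxU⟩
    haveI : IsLocalization.AtPrime (X.presheaf.stalk x) p := by
      exact hU.isLocalization_stalk ⟨x, hxU⟩
    rw [Scheme.mem_basicOpen X g x hxU]
    exact IsLocalization.map_units (X.presheaf.stalk x) (⟨g, hg⟩ : p.primeCompl)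
  refine ⟨X.basicOpen g, hU.basicOpen g, hxg, algebraMap Γ(X, U) Γ(X, X.basicOpen g) h₁, ?_, ?_, ?_⟩
  · exact (X.presheaf.germ_res_apply (homOfLE (X.basicOpen_le g)) x hxg h₁).trans hgerm
  · exact mem_nonZeroDivisors_iff_right.mpr fun z hz =>
      hreg (((mul_comm _ z).trans hz).trans (mul_zero _).symm)
  · have e' : X.basicOpen g ≤ f ⁻¹ᵁ V := (X.basicOpen_le g).trans e
    rw [← IsAffineOpen.SpecMap_appLE_fromSpec f hV (hU.basicOpen g) e', ← Category.assoc,
      ← Spec.map_comp]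
    haveI : Smooth (Spec.map (f.appLE V (X.basicOpen g) e' ≫ CommRingCat.ofHom (Ideal.Quotient.mk
        (Ideal.span {algebraMap Γ(X, U) Γ(X, X.basicOpen g) h₁})))) := by
      rw [HasRingHomProperty.Spec_iff (P := @Smooth)]
      exact RingHom.smooth_algebraMap.mpr hsmq
    infer_instance

/-- The stalk at a point of a smooth open is formally smooth and essentially of finite type. -/
theorem stalk_formallySmooth {X S : Scheme.{u}} (f : X ⟶ S) (x : X)
    (W : X.Opens) (hxW : x ∈ W) (hW : Smooth (W.ι ≫ f)) :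
    letI := (f.stalkMap x).hom.toAlgebra
    Algebra.FormallySmooth (S.presheaf.stalk (f x)) (X.presheaf.stalk x) ∧
      Algebra.EssFiniteType (S.presheaf.stalk (f x)) (X.presheaf.stalk x) := by
  obtain ⟨_, ⟨V, hV, rfl⟩, hxV, -⟩ :=
    S.isBasis_affineOpens.exists_subset_of_mem_open (Set.mem_univ (f x)) isOpen_univ
  obtain ⟨_, ⟨U : X.Opens, hU, rfl⟩, hxU, hUle⟩ := X.isBasis_affineOpens.exists_subset_of_mem_open
    (show x ∈ (W ⊓ f ⁻¹ᵁ V : X.Opens) from ⟨hxW, hxV⟩) (W ⊓ f ⁻¹ᵁ V).isOpen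
  have hUW : U ≤ W := fun y hy => (hUle hy).1
  have e : U ≤ f ⁻¹ᵁ V := fun y hy => (hUle hy).2
  letI := (f.appLE V U e).hom.toAlgebra
  haveI : Algebra.Smooth Γ(S, V) Γ(X, U) := smooth_appLE_of_smooth f W hW hU hV hUW e
  letI := (f.stalkMap x).hom.toAlgebra
  letI := TopCat.Presheaf.algebra_section_stalk X.presheaf ⟨x, hxU⟩
  letI := TopCat.Presheaf.algebra_section_stalk S.presheaf ⟨f x, hxV⟩
  letI : Algebra Γ(S, V) (X.presheaf.stalk x) :=
    ((X.presheaf.germ U x hxU).hom.comp (f.appLE V U e).hom).toAlgebra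
  haveI : IsScalarTower Γ(S, V) Γ(X, U) (X.presheaf.stalk x) := .of_algebraMap_eq' rfl
  haveI : IsScalarTower Γ(S, V) (S.presheaf.stalk (f x)) (X.presheaf.stalk x) :=
    .of_algebraMap_eq fun r => by
      change X.presheaf.germ U x hxU (f.appLE V U e r) = f.stalkMap x (S.presheaf.germ V (f x) hxV r)
      rw [Scheme.Hom.germ_stalkMap_apply]
      exact X.presheaf.germ_res_apply (homOfLE e) x hxU _
  let p := (hU.primeIdealOf ⟨x, hxU⟩).asIdeal
  haveI : IsLocalization.AtPrime (X.presheaf.stalk x) p := hU.isLocalization_stalk ⟨x, hxU⟩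
  haveI : IsLocalization.AtPrime (S.presheaf.stalk (f x)) (hV.primeIdealOf ⟨f x, hxV⟩).asIdeal :=
    hV.isLocalization_stalk ⟨f x, hxV⟩
  haveI : Algebra.FormallySmooth Γ(X, U) (X.presheaf.stalk x) :=
    Algebra.FormallySmooth.of_isLocalization p.primeCompl
  haveI : Algebra.FormallySmooth Γ(S, V) (X.presheaf.stalk x) :=
    Algebra.FormallySmooth.comp Γ(S, V) Γ(X, U) (X.presheaf.stalk x)
  refine ⟨Algebra.FormallySmooth.localization_base (R := Γ(S, V))
    (hV.primeIdealOf ⟨f x, hxV⟩).asIdeal.primeCompl, ?_⟩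
  haveI : Algebra.EssFiniteType Γ(X, U) (X.presheaf.stalk x) :=
    Algebra.EssFiniteType.of_isLocalization _ p.primeCompl
  haveI : Algebra.EssFiniteType Γ(S, V) (X.presheaf.stalk x) :=
    Algebra.EssFiniteType.comp Γ(S, V) Γ(X, U) (X.presheaf.stalk x)
  exact Algebra.EssFiniteType.of_comp Γ(S, V) (S.presheaf.stalk (f x)) (X.presheaf.stalk x)

/-- A point which is closed scheme-theoretically in its fibre has field fibre stalk. -/
theorem maximalIdeal_fiber_eq_bot {X S : Scheme.{u}} (f : X ⟶ S) {s : S} (z : f.fiber s)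
    (h : (IsLocalRing.maximalIdeal (S.presheaf.stalk (f (f.fiberι s z)))).map
        (f.stalkMap (f.fiberι s z)).hom =
      IsLocalRing.maximalIdeal (X.presheaf.stalk (f.fiberι s z))) :
    IsLocalRing.maximalIdeal ((f.fiber s).presheaf.stalk z) = ⊥ := by
  let ι := f.fiberι s
  let t := f.fiberToSpecResidueField s
  let j := S.fromSpecResidueField s
  rw [eq_bot_iff]
  intro y hy
  obtain ⟨o, rfl⟩ := ι.stalkMap_surjective z y
  have ho : o ∈ IsLocalRing.maximalIdeal (X.presheaf.stalk (ι z)) :=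
    fun hu => hy (hu.map (ι.stalkMap z).hom)
  rw [← h] at ho
  have hle : (IsLocalRing.maximalIdeal (S.presheaf.stalk (f (ι z)))).map (f.stalkMap (ι z)).hom ≤
      RingHom.ker (ι.stalkMap z).hom := by
    rw [Ideal.map_le_iff_le_comap]
    intro a ha
    rw [Ideal.mem_comap, RingHom.mem_ker]
    have e1 : (ι.stalkMap z).hom ((f.stalkMap (ι z)).hom a) = (ι ≫ f).stalkMap z a := by
      rw [Scheme.Hom.stalkMap_comp]; rfl
    have hfield : IsField ((Spec (S.residueField s)).presheaf.stalk (t z)) := by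
      refine isField_stalk_of_closure_mem_irreducibleComponents _ _ ?_
      haveI : Subsingleton (Spec (S.residueField s)) :=
        inferInstanceAs (Subsingleton (PrimeSpectrum _))
      have : closure {t z} = (Set.univ : Set (Spec (S.residueField s))) :=
        Set.eq_univ_of_forall fun w => subset_closure (Subsingleton.elim w (t z))
      rw [this]
      exact ⟨IrreducibleSpace.isIrreducible_univ _, fun _ _ _ => Set.subset_univ _⟩
    have hkey : ∀ c, ¬IsUnit c → (t ≫ j).stalkMap z c = 0 := by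
      intro c hc
      rw [Scheme.Hom.stalkMap_comp]
      change (t.stalkMap z).hom ((j.stalkMap (t z)).hom c) = 0
      have : (j.stalkMap (t z)).hom c = 0 := by
        by_contra hne
        letI := hfield.toField
        exact hc (isUnit_of_map_unit (j.stalkMap (t z)).hom _ (isUnit_iff_ne_zero.mpr hne))
      rw [this, map_zero]
    rw [e1, Scheme.Hom.stalkMap_congr_hom _ (t ≫ j) (f.fiber_fac s) z]
    refine hkey _ fun hu => ha ?_
    have hloc : ∀ {A B : CommRingCat.{u}} (φ : A ≅ B) (c : A), IsUnit (φ.hom.hom c) → IsUnit c :=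
      fun φ c hc => (MulEquiv.isUnit_map φ.commRingCatIsoToRingEquiv).mp hc
    exact hloc _ a hu
  exact hle ho

end Groth.Flatmor4
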