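import Groth.Agent.Flatmor4.StageZero
import Groth.Agent.Flatmor4.FreeFibreGen
import Groth.Agent.Flatmor4.FreeFibre
import Groth.Agent.PropsBasic.LocFree

/-!
A stalk basis of a finitely presented module on a limit of schemes comes from a stage.
-/

set_option autoImplicit false
set_option linter.style.haveILetI false

universe u

open CategoryTheory CategoryTheory.Limits AlgebraicGeometry TensorProduct Groth.QCohMod IsLocalRing

namespace Groth.Flatmor4

/-- There is a basis of the stalk at `x` with `p` elements. -/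
abbrev HasStalkBasis {X : Scheme.{u}} (F : X.Modules) (p : ℕ) (x : X) : Prop :=
  Nonempty (Module.Basis (Fin p) (X.presheaf.stalk x) (F.presheaf.stalk x))

section Algebra

variable {A B : Type u} [CommRing A] [CommRing B] [Algebra A B] {J : Type u}
  (Bj : J → Type u) [∀ j, CommRing (Bj j)] [∀ j, Algebra A (Bj j)] (ρ : ∀ j, Bj j →ₐ[A] B)

/-- A basis of the extension to a filtered union of local rings comes from a stage. -/
theorem exists_stage_basis [Nonempty J] [IsLocalRing A] [IsLocalRing B] [IsLocalHom (algebraMap A B)]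
    (hdir : ∀ j j', ∃ (k : J) (τ : Bj j →ₐ[A] Bj k) (τ' : Bj j' →ₐ[A] Bj k),
      (ρ k).comp τ = ρ j ∧ (ρ k).comp τ' = ρ j')
    (hsurj : ∀ b : B, ∃ (j : J) (b' : Bj j), ρ j b' = b)
    (hkill : ∀ (j : J) (b : Bj j), ρ j b = 0 →
      ∃ (k : J) (τ : Bj j →ₐ[A] Bj k), (ρ k).comp τ = ρ j ∧ τ b = 0)
    {M : Type u} [AddCommGroup M] [Module A M] [Module.FinitePresentation A M] {p : ℕ}
    (b : Module.Basis (Fin p) B (B ⊗[A] M)) :
    ∃ j, Nonempty (Module.Basis (Fin p) (Bj j) (Bj j ⊗[A] M)) := by
  classical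
  let c := Module.finBasis (ResidueField A) (ResidueField A ⊗[A] M)
  have hd : Module.finrank (ResidueField A) (ResidueField A ⊗[A] M) = p := by
    have h1 : Module.finrank (ResidueField B) (ResidueField B ⊗[ResidueField A] (ResidueField A ⊗[A] M)) =
        Module.finrank (ResidueField A) (ResidueField A ⊗[A] M) := Module.finrank_baseChange
    rw [← h1, ((AlgebraTensorModule.cancelBaseChange A (ResidueField A) (ResidueField B) (ResidueField B) M).trans
        (AlgebraTensorModule.cancelBaseChange A B (ResidueField B) (ResidueField B) M).symm).finrank_eq,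
      Module.finrank_eq_card_basis (b.baseChange (ResidueField B)), Fintype.card_fin]
  let c' := c.reindex (finCongr hd)
  choose m hm using fun i => TensorProduct.mk_surjective A M (ResidueField A) Ideal.Quotient.mk_surjective (c' i)
  have hspan := IsLocalRing.span_eq_top_of_tmul_eq_basis m c' hm
  let φ := Fintype.linearCombination A m
  have hs : Function.Surjective φ := by
    rw [← LinearMap.range_eq_top, Fintype.range_linearCombination, hspan]
  have hker : (LinearMap.ker φ).FG := Module.FinitePresentation.fg_ker φ hs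
  obtain ⟨S, hS⟩ := hker
  have hinj : Function.Injective (φ.baseChange B) := by
    let e : B ⊗[A] (Fin p → A) ≃ₗ[B] (Fin p → B) := TensorProduct.piScalarRight A B B (Fin p)
    let ψ : (Fin p → B) →ₗ[B] (Fin p → B) :=
      b.equivFun.toLinearMap ∘ₗ (φ.baseChange B) ∘ₗ e.symm.toLinearMap
    have h1 := OrzechProperty.injective_of_surjective_endomorphism ψ
      (b.equivFun.surjective.comp ((LinearMap.lTensor_surjective B hs).comp e.symm.surjective))
    intro x y hxy
    refine e.injective (h1 ?_)
    show b.equivFun (φ.baseChange B (e.symm (e x))) = b.equivFun (φ.baseChange B (e.symm (e y)))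
    rw [e.symm_apply_apply, e.symm_apply_apply]
    exact congrArg b.equivFun hxy
  obtain ⟨j, hj⟩ := exists_stage_tmul_eq_zero Bj ρ hdir hsurj hkill S fun k hk => by
    refine hinj ?_
    rw [map_zero, LinearMap.baseChange_tmul, show φ k = 0 from hS.le (Submodule.subset_span hk),
      TensorProduct.tmul_zero]
  refine ⟨j, ?_⟩
  have hex : Function.Exact (LinearMap.lTensor (Bj j) (LinearMap.ker φ).subtype) (φ.lTensor (Bj j)) :=
    lTensor_exact (M := LinearMap.ker φ) (f := (LinearMap.ker φ).subtype) (Bj j)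
      (LinearMap.exact_subtype_ker_map φ) hs
  have hzero : ∀ k ∈ LinearMap.ker φ, (1 : Bj j) ⊗ₜ[A] k = 0 := by
    intro k hk
    rw [← hS] at hk
    induction hk using Submodule.span_induction with
    | mem k hk => exact hj k hk
    | zero => exact TensorProduct.tmul_zero _ _
    | add a b _ _ ha hb => rw [TensorProduct.tmul_add, ha, hb, add_zero]
    | smul r a _ ha => rw [TensorProduct.tmul_smul, ha, smul_zero]
  have hbij : Function.Bijective (φ.baseChange (Bj j)) := by
    refine ⟨(injective_iff_map_eq_zero _).mpr fun x hx => ?_, LinearMap.lTensor_surjective _ hs⟩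
    obtain ⟨y, rfl⟩ := (hex x).mp hx
    induction y using TensorProduct.induction_on with
    | zero => exact map_zero _
    | tmul a k =>
      rw [LinearMap.lTensor_tmul, show a = a • (1 : Bj j) by rw [smul_eq_mul, mul_one],
        ← TensorProduct.smul_tmul', Submodule.subtype_apply, hzero k.1 k.2, smul_zero]
    | add a a' ha ha' =>
      rw [map_add]
      have h1 := ha (by rw [LinearMap.baseChange_eq_ltensor, hex.apply_apply_eq_zero])
      have h2 := ha' (by rw [LinearMap.baseChange_eq_ltensor, hex.apply_apply_eq_zero])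
      rw [h1, h2, add_zero]
  exact ⟨((Pi.basisFun A (Fin p)).baseChange (Bj j)).map (LinearEquiv.ofBijective _ hbij)⟩

end Algebra

section Scheme

theorem hasStalkBasis_pullback {X Y : Scheme.{u}} (a : Y ⟶ X) (F : X.Modules) {p : ℕ} (y : Y)
    (h : HasStalkBasis F p (a y)) : HasStalkBasis ((Scheme.Modules.pullback a).obj F) p y := by
  letI := stalkAlg a y
  obtain ⟨b⟩ := h
  exact ⟨(b.baseChange (Y.presheaf.stalk y)).map (pullStalkEquiv a F y)⟩

theorem hasStalkBasis_congr {X : Scheme.{u}} {F G : X.Modules} (e : F ≅ G) {p : ℕ} (x : X)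
    (h : HasStalkBasis F p x) : HasStalkBasis G p x := by
  obtain ⟨b⟩ := h
  exact ⟨b.map (LinearEquiv.ofBijective (stalkLin e.hom x)
    (ConcreteCategory.bijective_of_isIso ((stalk x).map e.hom)))⟩

/-- Composite of inverse images, on stalk bases. -/
theorem hasStalkBasis_pullback_comp {X Y Z : Scheme.{u}} (a : Z ⟶ Y) (r : Y ⟶ X) (q : Z ⟶ X)
    (hq : a ≫ r = q) (F : X.Modules) {p : ℕ} (z : Z)
    (h : HasStalkBasis ((Scheme.Modules.pullback r).obj F) p (a z)) :
    HasStalkBasis ((Scheme.Modules.pullback q).obj F) p z := by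
  subst hq
  exact hasStalkBasis_congr ((Scheme.Modules.pullbackComp a r).app F) z (hasStalkBasis_pullback a _ z h)

/-- A finitely presented module is free of rank `p` near a point with a stalk basis of size `p`. -/
theorem isFreeOfRankNear_of_hasStalkBasis {X : Scheme.{u}} (F : X.Modules) [F.IsQuasicoherent]
    (hF : CohB1.IsFP F) {p : ℕ} (x : X) (h : HasStalkBasis F p x) :
    FlatFun.IsFreeOfRankNear F p x := by
  obtain ⟨b⟩ := h
  obtain ⟨D, n, hx, hD⟩ := Groth.PropsBasic.LocFree.exists_free_nhd F hF x (Module.Free.of_basis b)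
  obtain ⟨b'⟩ := nonempty_stalkBasis (F := F) (p := n) (x := x) ⟨D, hx, hD⟩
  obtain rfl : n = p := by simpa using Fintype.card_congr (b'.indexEquiv b)
  exact ⟨D, hx, hD⟩

variable {I : Type u} [SmallCategory I] [IsCofiltered I] (D : I ⥤ Scheme.{u})
  [∀ (i j : I) (φ : i ⟶ j), IsAffineHom (D.map φ)] (c : Cone D) (hc : IsLimit c)

include hc in
/-- A stalk basis at a point of the limit comes from a stage. -/
theorem exists_stage_hasStalkBasis {i : I} (F : (D.obj i).Modules) [F.IsQuasicoherent]
    (hF : CohB1.IsFP F) {p : ℕ} (z : c.pt)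
    (h : HasStalkBasis ((Scheme.Modules.pullback (c.π.app i)).obj F) p z) :
    ∃ (j : I) (φ : j ⟶ i), HasStalkBasis ((Scheme.Modules.pullback (D.map φ)).obj F) p (c.π.app j z) := by
  let x := c.π.app i z
  obtain ⟨b⟩ := h
  let πi : c.pt ⟶ D.obj i := c.π.app i
  letI algB : Algebra ((D.obj i).presheaf.stalk x) (c.pt.presheaf.stalk z) := stalkAlg πi z
  let bz : Module.Basis (Fin p) (c.pt.presheaf.stalk z)
      (((Scheme.Modules.pullback πi).obj F).presheaf.stalk z) := b
  let b₁ : Module.Basis (Fin p) (c.pt.presheaf.stalk z)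
      (c.pt.presheaf.stalk z ⊗[(D.obj i).presheaf.stalk x] F.presheaf.stalk x) :=
    bz.map (pullStalkEquiv πi F z).symm
  haveI : IsLocalHom (algebraMap ((D.obj i).presheaf.stalk x) (c.pt.presheaf.stalk z)) :=
    inferInstanceAs (IsLocalHom ((c.π.app i).stalkMap z).hom)
  let Bj := fun k : Over i => (D.obj k.left).presheaf.stalk (c.π.app k.left z)
  have hx : ∀ k : Over i, D.map k.hom (c.π.app k.left z) = x := fun k =>
    Groth.Limits.π_map_apply D c k.hom z
  letI algj : ∀ k, Algebra ((D.obj i).presheaf.stalk x) (Bj k) := fun k =>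
    (stalkTo (D.map k.hom) _ x (hx k)).toAlgebra
  let ρ : ∀ k : Over i, Bj k →ₐ[(D.obj i).presheaf.stalk x] c.pt.presheaf.stalk z := fun k =>
    { stalkTo (c.π.app k.left) z _ rfl with
      commutes' := fun a => (stalkTo_comp _ _ (c.π.app i) (c.w k.hom) z _ x rfl (hx k) rfl a).trans
        congr($(stalkTo_self (c.π.app i) z) a) }
  have hρ : ∀ (k : Over i) (b : Bj k), ρ k b = (c.π.app k.left).stalkMap z b := fun k b =>
    congr($(stalkTo_self (c.π.app k.left) z) b)
  let τ : ∀ {k l : Over i} (m : l ⟶ k), Bj k →ₐ[(D.obj i).presheaf.stalk x] Bj l := fun {k l} m =>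
    { stalkTo (D.map m.left) _ _ (Groth.Limits.π_map_apply D c m.left z) with
      commutes' := fun a => stalkTo_comp _ _ (D.map l.hom) (by rw [← D.map_comp, Over.w m]) _ _ x
        (Groth.Limits.π_map_apply D c m.left z) (hx k) (hx l) a }
  have hτ : ∀ {k l : Over i} (m : l ⟶ k), (ρ l).comp (τ m) = ρ k := by
    intro k l m
    refine AlgHom.ext fun b => ?_
    exact stalkTo_comp _ _ (c.π.app k.left) (c.w m.left) z _ _ rfl
      (Groth.Limits.π_map_apply D c m.left z) rfl b
  haveI : Nonempty (Over i) := ⟨Over.mk (𝟙 i)⟩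
  haveI := finitePresentation_stalk F hF x
  obtain ⟨k, hk⟩ := exists_stage_basis (fun k => (Bj k : Type u)) ρ
    (fun k k' => ⟨_, τ (IsCofiltered.minToLeft k k'), τ (IsCofiltered.minToRight k k'), hτ _, hτ _⟩)
    (fun b => by
      obtain ⟨j, φ, b', hb'⟩ := Groth.Limits.exists_stalkMap_eq D c hc i z b
      exact ⟨Over.mk φ, b', (hρ (Over.mk φ) b').trans hb'⟩)
    (fun k b hb => by
      obtain ⟨j, φ, hj⟩ := Groth.Limits.exists_stalkMap_eq_zero D c hc z b ((hρ k b).symm.trans hb)
      refine ⟨Over.mk (φ ≫ k.hom), τ (Over.homMk φ rfl), hτ _, ?_⟩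
      refine Eq.trans ?_ hj
      rfl)
    b₁
  have key : ∀ (w : D.obj i) (e : D.map k.hom (c.π.app k.left z) = w),
      letI := (stalkTo (D.map k.hom) _ w e).toAlgebra
      Nonempty (Module.Basis (Fin p) ((D.obj k.left).presheaf.stalk (c.π.app k.left z))
        ((D.obj k.left).presheaf.stalk (c.π.app k.left z) ⊗[(D.obj i).presheaf.stalk w] F.presheaf.stalk w)) →
      HasStalkBasis ((Scheme.Modules.pullback (D.map k.hom)).obj F) p (c.π.app k.left z) := by
    rintro w rfl
    rw [show (stalkTo (D.map k.hom) (c.π.app k.left z) _ rfl).toAlgebra =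
      stalkAlg (D.map k.hom) (c.π.app k.left z) by rw [stalkTo_self]]
    rintro ⟨bk⟩
    letI := stalkAlg (D.map k.hom) (c.π.app k.left z)
    exact ⟨bk.map (pullStalkEquiv _ F _)⟩
  exact ⟨k.left, k.hom, key x (hx k) hk⟩

end Scheme

end Groth.Flatmor4
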