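import Groth.Agent.Flatmor4.StageZero
import Groth.Agent.PropsBasic.LocFree
import Groth.Prelude.Def_FlatFun

/-!
Flattening functors of conditions on the projection to `X` are limit preserving once the condition
descends along limits of quasi-compact schemes.
-/

set_option autoImplicit false
set_option linter.style.haveILetI false

universe u

open CategoryTheory CategoryTheory.Limits AlgebraicGeometry Opposite

namespace Groth.Flatmor4

/-- A condition on `r : Y ⟶ X` stable under composition and descending along limits gives a limit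
preserving functor. -/
theorem isLimitPreserving_genPSp_of_stages {X S : Scheme.{u}} (f : X ⟶ S) [QuasiCompact f]
    (Q : ∀ {Y : Scheme.{u}}, (Y ⟶ X) → Prop)
    (hst : ∀ {Y Y' : Scheme.{u}} (a : Y' ⟶ Y) (r : Y ⟶ X), Q r → Q (a ≫ r))
    (hlim : ∀ {J : Type u} [SmallCategory J] [IsCofiltered J] (E : J ⥤ Scheme.{u})
      [∀ (i j : J) (φ : i ⟶ j), IsAffineHom (E.map φ)] [∀ i, CompactSpace (E.obj i)] (C : Cone E),
      IsLimit C → ∀ (i : J) (r : E.obj i ⟶ X), Q (C.π.app i ≫ r) →
        ∃ (j : J) (φ : j ⟶ i), Q (E.map φ ≫ r)) :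
    AlgSp.IsLimitPreserving (FlatFun.genPSp S (fun T => Q (pullback.fst f T.hom))) := by
  intro I _ _ D c hc hD hT
  refine ⟨Types.FilteredColimit.isColimitOf _ _ (fun x => ?_) (fun i j a b _ => ?_)⟩
  · obtain ⟨T₀, g, hT₀⟩ := x.down.down
    have hpt : Q (pullback.fst f c.pt.hom) := by
      have := hst (PicF.XTmap f (show c.pt ⟶ T₀ from g)) _ hT₀
      rwa [FGA.XTmap_fst f] at this
    let i₀ : I := IsCofiltered.nonempty.some
    have : ∀ (i j : I) (φ : i ⟶ j), IsAffineHom ((D ⋙ Over.forget S).map φ) := fun i j φ => by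
      haveI : IsAffine ((D ⋙ Over.forget S).obj i) := hD i
      haveI : IsAffine ((D ⋙ Over.forget S).obj j) := hD j
      infer_instance
    let D' := D ⋙ Over.forget S
    haveI : CompactSpace (D'.obj i₀) := by
      haveI : IsAffine (D'.obj i₀) := hD i₀
      infer_instance
    let c' := (Over.forget S).mapCone c
    let X₀ := pullback f (D.obj i₀).hom
    let x₀ : X₀ ⟶ D'.obj i₀ := pullback.snd f (D.obj i₀).hom
    let q₀ : X₀ ⟶ X := pullback.fst f (D.obj i₀).hom
    haveI : QuasiCompact x₀ := MorphismProperty.pullback_snd _ _ inferInstance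
    haveI : CompactSpace X₀ := QuasiCompact.compactSpace_of_compactSpace x₀
    have (k : Over i₀) : CompactSpace ((Groth.Limits.stages D' x₀).obj k) :=
      Groth.Limits.compactSpace_stage D' x₀ k.hom
    let C := Groth.Limits.stagesCone D' x₀ (c := c')
    let k₀ : Over i₀ := Over.mk (𝟙 i₀)
    let r₀ : (Groth.Limits.stages D' x₀).obj k₀ ⟶ X := pullback.fst x₀ (D'.map (𝟙 i₀)) ≫ q₀
    let ψ : C.pt ⟶ PicF.XT f c.pt :=
      pullback.lift (pullback.fst x₀ (c'.π.app i₀) ≫ q₀) (pullback.snd x₀ (c'.π.app i₀))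
        (by
          refine (Category.assoc _ _ _).trans ((congrArg _ pullback.condition).trans ?_)
          refine (Category.assoc _ _ _).symm.trans ((congrArg (· ≫ _) pullback.condition).trans ?_)
          exact (Category.assoc _ _ _).trans (congrArg _ (Over.w (c.π.app i₀))))
    have hψ : ψ ≫ pullback.fst f c.pt.hom = C.π.app k₀ ≫ r₀ := by
      have e1 : C.π.app k₀ ≫ pullback.fst x₀ (D'.map (𝟙 i₀)) = pullback.fst x₀ (c'.π.app i₀) :=
        pullback.lift_fst _ _ _
      rw [pullback.lift_fst, reassoc_of% e1]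
    obtain ⟨j, m, hj⟩ := hlim (Groth.Limits.stages D' x₀) C (Groth.Limits.isLimitStagesCone D' x₀ hc)
      k₀ r₀ (hψ ▸ hst ψ _ hpt)
    let v : PicF.XT f (D.obj j.left) ⟶ pullback x₀ (D'.map j.hom) :=
      pullback.lift (PicF.XTmap f (D.map j.hom)) (PicF.XTproj f (D.obj j.left)) (pullback.lift_snd _ _ _)
    have hv : v ≫ (Groth.Limits.stages D' x₀).map m ≫ r₀ = pullback.fst f (D.obj j.left).hom := by
      have e1 : (Groth.Limits.stages D' x₀).map m ≫ pullback.fst x₀ (D'.map (𝟙 i₀)) =
          pullback.fst x₀ (D'.map j.hom) := pullback.lift_fst _ _ _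
      show v ≫ (Groth.Limits.stages D' x₀).map m ≫ pullback.fst x₀ (D'.map (𝟙 i₀)) ≫ q₀ = _
      refine (congrArg (v ≫ ·) ((Category.assoc _ _ _).symm.trans (congrArg (· ≫ q₀) e1))).trans ?_
      rw [pullback.lift_fst_assoc]
      exact FGA.XTmap_fst f (D.map j.hom)
    have hj' : Q (pullback.fst f (D.obj j.left).hom) := hv ▸ hst v _ hj
    exact ⟨op j.left, ⟨⟨D.obj j.left, 𝟙 _, hj'⟩⟩,
      @Subsingleton.elim _ (FlatFun.genPSp_subsingleton _ _ _) _ _⟩
  · exact ⟨op (IsCofiltered.min i.unop j.unop), (IsCofiltered.minToLeft _ _).op,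
      (IsCofiltered.minToRight _ _).op, @Subsingleton.elim _ (FlatFun.genPSp_subsingleton _ _ _) _ _⟩

section Maps

open Scheme.Modules (pullbackComp)

variable {X Y Z : Scheme.{u}} (a : Z ⟶ Y) (r : Y ⟶ X) {F G : X.Modules} (u : F ⟶ G)

theorem map_pullback_comp_eq_zero_iff :
    (Scheme.Modules.pullback (a ≫ r)).map u = 0 ↔
      (Scheme.Modules.pullback a).map ((Scheme.Modules.pullback r).map u) = 0 := by
  have h := (pullbackComp a r).hom.naturality u
  constructor
  · intro h0
    rw [h0, comp_zero] at h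
    exact (cancel_mono ((pullbackComp a r).hom.app G)).mp (h.trans zero_comp.symm)
  · intro h0
    have h' : (Scheme.Modules.pullback a).map ((Scheme.Modules.pullback r).map u) ≫
        (pullbackComp a r).hom.app G =
        (pullbackComp a r).hom.app F ≫ (Scheme.Modules.pullback (a ≫ r)).map u := h
    rw [h0, zero_comp] at h'
    exact (cancel_epi ((pullbackComp a r).hom.app F)).mp (h'.symm.trans comp_zero.symm)

theorem isIso_map_pullback_comp_iff :
    IsIso ((Scheme.Modules.pullback (a ≫ r)).map u) ↔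
      IsIso ((Scheme.Modules.pullback a).map ((Scheme.Modules.pullback r).map u)) :=
  (NatIso.isIso_map_iff (pullbackComp a r) u).symm

theorem epi_map_pullback_comp_iff :
    Epi ((Scheme.Modules.pullback (a ≫ r)).map u) ↔
      Epi ((Scheme.Modules.pullback a).map ((Scheme.Modules.pullback r).map u)) :=
  ((MorphismProperty.epimorphisms Z.Modules).arrow_mk_iso_iff
    (Arrow.isoMk ((pullbackComp a r).app F) ((pullbackComp a r).app G)
      ((pullbackComp a r).hom.naturality u).symm)).symm

end Maps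

/-- Vanishing of a map with source of finite type descends along limits. -/
theorem exists_stage_pullback_eq_zero {X : Scheme.{u}} {F G : X.Modules} [F.IsQuasicoherent]
    [G.IsQuasicoherent] (hF : CohB1.IsFT F) (u : F ⟶ G) {J : Type u} [SmallCategory J] [IsCofiltered J]
    (E : J ⥤ Scheme.{u}) [∀ (i j : J) (φ : i ⟶ j), IsAffineHom (E.map φ)]
    [∀ i, CompactSpace (E.obj i)] (C : Cone E) (hC : IsLimit C) (i : J) (r : E.obj i ⟶ X)
    (h : (Scheme.Modules.pullback (C.π.app i ≫ r)).map u = 0) :
    ∃ (j : J) (φ : j ⟶ i), (Scheme.Modules.pullback (E.map φ ≫ r)).map u = 0 := by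
  obtain ⟨j, φ, hj⟩ := exists_stage_map_eq_zero E C hC (Groth.QCohMod.isFT_pullback r F hF)
    ((Scheme.Modules.pullback r).map u) ((map_pullback_comp_eq_zero_iff _ r u).mp h)
  exact ⟨j, φ, (map_pullback_comp_eq_zero_iff _ r u).mpr hj⟩

/-- Being an epimorphism descends along limits when the target is of finite type. -/
theorem exists_stage_pullback_epi {X : Scheme.{u}} {F G : X.Modules} [F.IsQuasicoherent]
    [G.IsQuasicoherent] (hG : CohB1.IsFT G) (u : F ⟶ G) {J : Type u} [SmallCategory J] [IsCofiltered J]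
    (E : J ⥤ Scheme.{u}) [∀ (i j : J) (φ : i ⟶ j), IsAffineHom (E.map φ)]
    [∀ i, CompactSpace (E.obj i)] (C : Cone E) (hC : IsLimit C) (i : J) (r : E.obj i ⟶ X)
    (h : Epi ((Scheme.Modules.pullback (C.π.app i ≫ r)).map u)) :
    ∃ (j : J) (φ : j ⟶ i), Epi ((Scheme.Modules.pullback (E.map φ ≫ r)).map u) := by
  have hzero : (Scheme.Modules.pullback (C.π.app i ≫ r)).map (cokernel.π u) = 0 := by
    rw [← cancel_epi ((Scheme.Modules.pullback (C.π.app i ≫ r)).map u), comp_zero, ← Functor.map_comp,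
      cokernel.condition, Functor.map_zero]
  obtain ⟨j, φ, hj⟩ := exists_stage_pullback_eq_zero hG (cokernel.π u) E C hC i r hzero
  refine ⟨j, φ, Preadditive.epi_of_cokernel_zero ?_⟩
  rw [← cancel_mono (PreservesCokernel.iso (Scheme.Modules.pullback (E.map φ ≫ r)) u).inv, zero_comp,
    ← PreservesCokernel.π_iso_hom (Scheme.Modules.pullback (E.map φ ≫ r)) u, Category.assoc,
    Iso.hom_inv_id, Category.comp_id, hj]

end Groth.Flatmor4

namespace Groth.Flatmor4

/-- An epimorphism whose kernel dies under pullback becomes an isomorphism. -/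
theorem isIso_pullback_of_kernel_eq_zero {X Y : Scheme.{u}} (a : Y ⟶ X) {F G : X.Modules} (v : F ⟶ G)
    [Epi v] (h : (Scheme.Modules.pullback a).map (kernel.ι v) = 0) :
    IsIso ((Scheme.Modules.pullback a).map v) := by
  let hc := Abelian.epiIsCokernelOfKernel (KernelFork.ofι (kernel.ι v) (kernel.condition v)) (kernelIsKernel v)
  let hm := CokernelCofork.mapIsColimit _ hc (Scheme.Modules.pullback a)
  obtain ⟨s, hs⟩ := CokernelCofork.IsColimit.desc' hm (𝟙 ((Scheme.Modules.pullback a).obj F))
    ((Category.comp_id _).trans h)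
  have hs' : (Scheme.Modules.pullback a).map v ≫ s = 𝟙 ((Scheme.Modules.pullback a).obj F) := hs
  haveI : Mono ((Scheme.Modules.pullback a).map v) := mono_of_mono_fac hs'
  exact isIso_of_mono_of_epi _

/-- Being an isomorphism descends along limits, for a finite type source and a finitely presented
target. -/
theorem exists_stage_pullback_isIso {X : Scheme.{u}} {F G : X.Modules} [F.IsQuasicoherent]
    [G.IsQuasicoherent] (hF : CohB1.IsFT F) (hG : CohB1.IsFP G) (u : F ⟶ G) {J : Type u}
    [SmallCategory J] [IsCofiltered J] (E : J ⥤ Scheme.{u})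
    [∀ (i j : J) (φ : i ⟶ j), IsAffineHom (E.map φ)] [∀ i, CompactSpace (E.obj i)] (C : Cone E)
    (hC : IsLimit C) (i : J) (r : E.obj i ⟶ X)
    (h : IsIso ((Scheme.Modules.pullback (C.π.app i ≫ r)).map u)) :
    ∃ (j : J) (φ : j ⟶ i), IsIso ((Scheme.Modules.pullback (E.map φ ≫ r)).map u) := by
  haveI := h
  obtain ⟨j, φ, hj⟩ := exists_stage_pullback_epi (Groth.PropsBasic.LocFree.isFT_of_isFP G hG) u E C hC i r
    inferInstance
  let r' := E.map φ ≫ r
  let v := (Scheme.Modules.pullback r').map u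
  haveI : Epi v := hj
  have hK : CohB1.IsFT (kernel v) :=
    isFT_kernel_of_epi v (Groth.QCohMod.isFT_pullback r' F hF) (Groth.QCohMod.isFP_pullback r' G hG)
  haveI : (kernel v).IsQuasicoherent := Groth.QCohMod.isQCoh_kernel v
  haveI : IsIso ((Scheme.Modules.pullback (C.π.app j)).map v) :=
    (isIso_map_pullback_comp_iff (C.π.app j) r' u).mp (by
      rwa [show C.π.app j ≫ r' = C.π.app i ≫ r by rw [← Category.assoc, C.w]])
  have h0 : (Scheme.Modules.pullback (C.π.app j)).map (kernel.ι v) = 0 := by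
    rw [← cancel_mono ((Scheme.Modules.pullback (C.π.app j)).map v), zero_comp, ← Functor.map_comp,
      kernel.condition, Functor.map_zero]
  obtain ⟨l, ψ, hl⟩ := exists_stage_map_eq_zero E C hC hK (kernel.ι v) h0
  refine ⟨l, ψ ≫ φ, ?_⟩
  rw [Functor.map_comp, Category.assoc]
  exact (isIso_map_pullback_comp_iff (E.map ψ) r' u).mpr (isIso_pullback_of_kernel_eq_zero _ v hl)

end Groth.Flatmor4
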