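import Groth.Agent.Flatmor4.UnivOpenTest
import Groth.Agent.Limits.PointwiseDescent

/-!
Universal openness of quasi-finite morphisms descends along limits.
-/

set_option autoImplicit false
set_option linter.style.haveILetI false
set_option backward.isDefEq.respectTransparency false
set_option backward.defeqAttrib.useBackward true

universe u

open CategoryTheory Limits AlgebraicGeometry Topology

namespace Groth.Flatmor4

open Groth.Limits

theorem universallyOpen_of_cover {X Y : Scheme.{u}} {ι : Type*} (f : X ⟶ Y) {W : ι → Scheme.{u}}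
    (k : ∀ i, W i ⟶ X) [∀ i, IsOpenImmersion (k i)] (hk : ∀ x, ∃ i, x ∈ Set.range (k i))
    (h : ∀ i, UniversallyOpen (k i ≫ f)) : UniversallyOpen f := by
  refine (IsZariskiLocalAtSource.iff_of_iSup_eq_top (P := @UniversallyOpen)
    (fun i => (k i).opensRange) ?_).mpr fun i => ?_
  · refine top_le_iff.mp fun x _ => TopologicalSpace.Opens.mem_iSup.mpr ?_
    exact hk x
  · have he : Set.range ⇑(k i).opensRange.ι = Set.range ⇑(k i) := Scheme.Opens.range_ι _
    rw [← IsOpenImmersion.isoOfRangeEq_hom_fac (k i).opensRange.ι (k i) he, Category.assoc]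
    haveI := h i
    infer_instance

variable {I : Type u} [Category.{u} I] [IsCofiltered I] (D : I ⥤ Scheme.{u})
  [∀ (i j : I) (m : i ⟶ j), IsAffineHom (D.map m)] {c : Cone D} (hc : IsLimit c)
  {i₀ : I} {X₀ Y₀ X Y : Scheme.{u}} {f₀ : X₀ ⟶ Y₀} {g₀ : Y₀ ⟶ D.obj i₀} {f : X ⟶ Y}
  {g : Y ⟶ c.pt} {qY : Y ⟶ Y₀} {qX : X ⟶ X₀} (hY : IsPullback qY g g₀ (c.π.app i₀))
  (hX : IsPullback qX f f₀ qY)

/-- The comparison of stages of a base change. -/
noncomputable abbrev stageMap (g₀ : Y₀ ⟶ D.obj i₀) {j k : Over i₀} (ψ : k ⟶ j) :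
    pullback (D.map k.hom) g₀ ⟶ pullback (D.map j.hom) g₀ :=
  pullback.lift (pullback.fst _ _ ≫ D.map ψ.left) (pullback.snd _ _)
    (by rw [Category.assoc, ← D.map_comp, Over.w]; exact pullback.condition)

omit [IsCofiltered I] [∀ (i j : I) (m : i ⟶ j), IsAffineHom (D.map m)] in
/-- A property stable under base change passes to later stages. -/
theorem stage_of_hom (P : MorphismProperty Scheme.{u}) [P.IsStableUnderBaseChange]
    {W : Scheme.{u}} (w : W ⟶ Y₀) (g₀ : Y₀ ⟶ D.obj i₀) {j k : Over i₀} (ψ : k ⟶ j)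
    (h : P (pullback.snd w (pullback.snd (D.map j.hom) g₀))) :
    P (pullback.snd w (pullback.snd (D.map k.hom) g₀)) := by
  have hm : stageMap D g₀ ψ ≫ pullback.snd (D.map j.hom) g₀ = pullback.snd (D.map k.hom) g₀ :=
    pullback.lift_snd _ _ _
  have hsq : IsPullback (pullback.lift (pullback.fst w (pullback.snd (D.map k.hom) g₀))
      (pullback.snd w (pullback.snd (D.map k.hom) g₀) ≫ stageMap D g₀ ψ)
      (by rw [Category.assoc, hm]; exact pullback.condition))
      (pullback.snd w (pullback.snd (D.map k.hom) g₀)) (pullback.snd w (pullback.snd (D.map j.hom) g₀))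
      (stageMap D g₀ ψ) := by
    refine IsPullback.of_right ?_ (pullback.lift_snd _ _ _) (IsPullback.of_hasPullback w _)
    rw [pullback.lift_fst, hm]
    exact IsPullback.of_hasPullback _ _
  exact MorphismProperty.of_isPullback hsq h

include hc hY hX in
theorem exists_universallyOpen_stage_test [CompactSpace Y₀] {W P : Scheme.{u}} (k : W ⟶ X₀)
    [IsOpenImmersion k] (π : P ⟶ Y₀) [CompactSpace P] {E : Set P} (hE : IsConstructible E)
    (htest : ∀ (Y' : Scheme.{u}) (v : Y' ⟶ Y₀),
      UniversallyOpen (pullback.snd (k ≫ f₀) v) ↔ IsOpen (⇑(pullback.fst π v) ⁻¹' E))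
    [UniversallyOpen f] :
    ∃ j : Over i₀, UniversallyOpen (pullback.snd (k ≫ f₀) (pullback.snd (D.map j.hom) g₀)) := by
  let a := π ≫ g₀
  let Ed := pullbackDiagram D i₀ a
  let k₀ : Over i₀ := Over.mk (𝟙 i₀)
  have : CompactSpace (Ed.obj k₀) := by
    have : IsIso (pullback.snd (D.map k₀.hom) a) := pullback_snd_iso_of_left_iso (D.map (𝟙 i₀)) a
    exact QuasiCompact.compactSpace_of_compactSpace (pullback.snd (D.map k₀.hom) a)
  let Z : Set (Ed.obj k₀) := ⇑(pullback.snd (D.map k₀.hom) a) ⁻¹' E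
  have hZ : IsConstructible Z := Scheme.Hom.isConstructible_preimage _ hE
  -- openness over the limit
  haveI : UniversallyOpen (pullback.snd (k ≫ f₀) qY) := by
    have h1 := (IsPullback.of_hasPullback k qX).paste_vert hX
    rw [← h1.isoPullback_inv_snd]
    infer_instance
  have hopen : IsOpen (⇑(pullback.fst π qY) ⁻¹' E) := (htest _ qY).mp inferInstance
  have hlim : IsPullback (pullback.fst π qY) (pullback.snd π qY ≫ g) a (c.π.app i₀) :=
    (IsPullback.of_hasPullback π qY).paste_vert hY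
  obtain ⟨j, φ, hj⟩ := exists_isOpen_preimage Ed (pullbackCone D i₀ a c)
    (isLimitPullbackCone D i₀ a hc) hZ (by
      have e1 : (pullbackCone D i₀ a c).π.app k₀ ≫ pullback.snd (D.map k₀.hom) a =
          hlim.flip.isoPullback.inv ≫ pullback.fst π qY := by
        rw [show (pullbackCone D i₀ a c).π.app k₀ ≫ pullback.snd (D.map k₀.hom) a =
          pullback.snd (c.π.app i₀) a from pullback.lift_snd _ _ _]
        exact hlim.flip.isoPullback_inv_snd.symm
      show IsOpen (⇑((pullbackCone D i₀ a c).π.app k₀ ≫ pullback.snd (D.map k₀.hom) a) ⁻¹' E)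
      rw [e1]
      exact hopen.preimage (Scheme.Hom.continuous _))
  refine ⟨j, (htest _ _).mpr ?_⟩
  have hst : IsPullback (pullback.fst π (pullback.snd (D.map j.hom) g₀))
      (pullback.snd π (pullback.snd (D.map j.hom) g₀) ≫ pullback.fst (D.map j.hom) g₀) a (D.map j.hom) :=
    (IsPullback.of_hasPullback π _).paste_vert (IsPullback.of_hasPullback (D.map j.hom) g₀).flip
  have e2 : hst.flip.isoPullback.hom ≫ Ed.map φ ≫ pullback.snd (D.map k₀.hom) a =
      pullback.fst π (pullback.snd (D.map j.hom) g₀) := by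
    rw [show Ed.map φ ≫ pullback.snd (D.map k₀.hom) a = pullback.snd (D.map j.hom) a from
      pullback.lift_snd _ _ _]
    exact hst.flip.isoPullback_hom_snd
  rw [← e2]
  exact hj.preimage (Scheme.Hom.continuous hst.flip.isoPullback.hom)

include hc hY hX in
theorem exists_universallyOpen_stage [CompactSpace X₀] [CompactSpace Y₀]
    [LocallyOfFinitePresentation f₀] [LocallyQuasiFinite f₀] [UniversallyOpen f] :
    ∃ j : Over i₀, UniversallyOpen (pullback.snd f₀ (pullback.snd (D.map j.hom) g₀)) := by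
  classical
  choose W P k π E hk hx hP hE htest using exists_universallyOpen_test f₀
  haveI := hk
  haveI := hP
  choose j hj using fun x => exists_universallyOpen_stage_test D hc hY hX (k x) (π x) (hE x) (htest x)
  obtain ⟨s, hs⟩ := isCompact_univ.elim_finite_subcover (fun x : X₀ => Set.range (k x))
    (fun x => (k x).isOpenEmbedding.isOpen_range)
    (fun x _ => Set.mem_iUnion.mpr ⟨x, hx x⟩)
  obtain ⟨l, hl⟩ := IsCofiltered.inf_objs_exists (s.image j)
  refine ⟨l, ?_⟩
  set pY := pullback.snd (D.map l.hom) g₀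
  let e : ∀ x, pullback (k x ≫ f₀) pY ⟶ pullback f₀ pY := fun x =>
    pullback.lift (pullback.fst _ _ ≫ k x) (pullback.snd _ _) (by rw [Category.assoc]; exact pullback.condition)
  have he : ∀ x, IsPullback (e x) (pullback.fst (k x ≫ f₀) pY) (pullback.fst f₀ pY) (k x) := fun x => by
    have hr : IsPullback (pullback.snd (k x ≫ f₀) pY) (pullback.fst (k x ≫ f₀) pY) pY (k x ≫ f₀) :=
      (IsPullback.of_hasPullback _ _).flip
    refine IsPullback.of_right ?_ (pullback.lift_fst _ _ _) (IsPullback.of_hasPullback f₀ pY).flip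
    rw [pullback.lift_snd]
    exact hr
  haveI : ∀ x, IsOpenImmersion (e x) := fun x => MorphismProperty.of_isPullback (he x).flip (hk x)
  refine universallyOpen_of_cover (ι := s) (pullback.snd f₀ pY) (fun x => e x) (fun z => ?_)
    fun x => ?_
  · obtain ⟨x, hxs, hzx⟩ := Set.mem_iUnion₂.mp (hs (Set.mem_univ (pullback.fst f₀ pY z)))
    obtain ⟨w, hw⟩ := hzx
    obtain ⟨q, hq, -⟩ := Scheme.Pullback.exists_preimage_pullback z w hw.symm
    refine ⟨⟨x, hxs⟩, (he x).isoPullback.inv q, ?_⟩
    rw [← Scheme.Hom.comp_apply, (he x).isoPullback_inv_fst]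
    exact hq
  · rw [pullback.lift_snd]
    obtain ⟨ψ⟩ := hl (Finset.mem_image_of_mem j x.2)
    exact stage_of_hom D @UniversallyOpen (k x.1 ≫ f₀) g₀ ψ (hj x.1)

include hc hY hX in
theorem exists_locallyQuasiFinite_universallyOpen_stage [CompactSpace X₀] [QuasiSeparatedSpace X₀]
    [CompactSpace Y₀] [LocallyOfFinitePresentation f₀]
    [LocallyQuasiFinite f] [UniversallyOpen f] :
    ∃ (i : I) (φ : i ⟶ i₀) (Xi Yi : Scheme.{u}) (fi : Xi ⟶ Yi) (gi : Yi ⟶ D.obj i) (pY : Yi ⟶ Y₀)
      (pX : Xi ⟶ X₀), IsPullback pY gi g₀ (D.map φ) ∧ IsPullback pX fi f₀ pY ∧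
      LocallyQuasiFinite fi ∧ LocallyOfFiniteType fi ∧ UniversallyOpen fi := by
  obtain ⟨j, hj⟩ := exists_locallyQuasiFinite_stage hc hY hX
  let g₁ := pullback.fst (D.map j.hom) g₀
  let p₁ := pullback.snd (D.map j.hom) g₀
  haveI : IsAffineHom p₁ := MorphismProperty.pullback_snd _ _ inferInstance
  haveI : CompactSpace (pullback (D.map j.hom) g₀ : Scheme.{u}) :=
    QuasiCompact.compactSpace_of_compactSpace p₁
  haveI : IsAffineHom (pullback.fst f₀ p₁) := MorphismProperty.pullback_fst _ _ inferInstance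
  haveI : CompactSpace (pullback f₀ p₁ : Scheme.{u}) :=
    QuasiCompact.compactSpace_of_compactSpace (pullback.fst f₀ p₁)
  have hp₁ : IsPullback p₁ g₁ g₀ (D.map j.hom) := (IsPullback.of_hasPullback _ _).flip
  let q₁ := hp₁.lift qY (g ≫ c.π.app j.left) (by rw [Category.assoc, c.w]; exact hY.w)
  have hY₁ : IsPullback q₁ g g₁ (c.π.app j.left) := by
    refine IsPullback.of_right ?_ (hp₁.lift_snd _ _ _) hp₁
    rw [hp₁.lift_fst, c.w]
    exact hY
  let r₁ : X ⟶ pullback f₀ p₁ := pullback.lift qX (f ≫ q₁) (by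
    rw [Category.assoc, hp₁.lift_fst]; exact hX.w)
  have hX₁ : IsPullback r₁ f (pullback.snd f₀ p₁) q₁ := by
    refine IsPullback.of_right ?_ (pullback.lift_snd _ _ _) (IsPullback.of_hasPullback f₀ p₁)
    rw [pullback.lift_fst, hp₁.lift_fst]
    exact hX
  obtain ⟨l, hl⟩ := exists_universallyOpen_stage D hc hY₁ hX₁
  refine ⟨l.left, l.hom ≫ j.hom, _, _,
    pullback.snd (pullback.snd f₀ p₁) (pullback.snd (D.map l.hom) g₁),
    pullback.fst (D.map l.hom) g₁, pullback.snd (D.map l.hom) g₁ ≫ p₁,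
    pullback.fst _ _ ≫ pullback.fst f₀ p₁, ?_,
    (IsPullback.of_hasPullback _ _).paste_horiz (IsPullback.of_hasPullback f₀ p₁),
    inferInstance, inferInstance, hl⟩
  rw [D.map_comp]
  exact (IsPullback.of_hasPullback (D.map l.hom) g₁).flip.paste_horiz hp₁

end Groth.Flatmor4
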