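import Groth.Agent.Limits.UnivOpen
import Mathlib.AlgebraicGeometry.Morphisms.QuasiFinite
import Mathlib.RingTheory.ZariskisMainTheorem

/-!
A single test set for universal openness of quasi-finite morphisms.
-/

set_option autoImplicit false
set_option linter.style.haveILetI false
set_option backward.isDefEq.respectTransparency false

universe u

open CategoryTheory Limits AlgebraicGeometry TensorProduct Topology

namespace Groth.Flatmor4

section Algebra

variable {A C : Type u} [CommRing A] [CommRing C] [Algebra A C] {d : ℕ} (c : Fin d → C) (r : C)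

/-- The generic linear form. -/
noncomputable def linearForm : C ⊗[A] MvPolynomial (ULift.{u} (Fin d)) A :=
  ∑ i, c i ⊗ₜ[A] MvPolynomial.X ⟨i⟩

/-- Every element of a base change is, up to a unit, a specialization of the generic linear form. -/
theorem exists_eq_map_linearForm (hr : IsUnit r)
    (hspan : ∀ z : C, ∃ m, r ^ m * z ∈ Submodule.span A (Set.range c))
    (hmul : ∀ z ∈ Submodule.span A (Set.range c), r * z ∈ Submodule.span A (Set.range c))
    {T : Type u} [CommRing T] [Algebra A T] (z : C ⊗[A] T) :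
    ∃ (φ : MvPolynomial (ULift.{u} (Fin d)) A →ₐ[A] T) (w : C ⊗[A] T), IsUnit w ∧
      Algebra.TensorProduct.map (AlgHom.id A C) φ (linearForm (A := A) c) = w * z := by
  obtain ⟨m, hm⟩ : ∃ m, ∀ k, m ≤ k → ∃ t : Fin d → T, ((r ^ k) ⊗ₜ[A] (1 : T)) * z = ∑ i, c i ⊗ₜ t i := by
    induction z using TensorProduct.induction_on with
    | zero => exact ⟨0, fun k _ => ⟨0, by simp⟩⟩
    | tmul x y =>
      obtain ⟨m, hm⟩ := hspan x
      refine ⟨m, fun k hk => ?_⟩
      have hk' : r ^ k * x ∈ Submodule.span A (Set.range c) := by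
        obtain ⟨e, rfl⟩ := Nat.exists_eq_add_of_le hk
        induction e with
        | zero => exact hm
        | succ e ih =>
          rw [← add_assoc, pow_succ', mul_assoc]
          exact hmul _ (ih (Nat.le_add_right _ _))
      obtain ⟨a, ha⟩ := (Submodule.mem_span_range_iff_exists_fun A).mp hk'
      refine ⟨fun i => a i • y, ?_⟩
      rw [Algebra.TensorProduct.tmul_mul_tmul, one_mul, ← ha, sum_tmul]
      exact Finset.sum_congr rfl fun i _ => smul_tmul _ _ _
    | add x y hx hy =>
      obtain ⟨m₁, h₁⟩ := hx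
      obtain ⟨m₂, h₂⟩ := hy
      refine ⟨max m₁ m₂, fun k hk => ?_⟩
      obtain ⟨t₁, ht₁⟩ := h₁ k (le_trans (le_max_left _ _) hk)
      obtain ⟨t₂, ht₂⟩ := h₂ k (le_trans (le_max_right _ _) hk)
      exact ⟨t₁ + t₂, by simp [mul_add, ht₁, ht₂, Finset.sum_add_distrib, tmul_add]⟩
  obtain ⟨t, ht⟩ := hm m le_rfl
  refine ⟨MvPolynomial.aeval fun i => t i.down, (r ^ m) ⊗ₜ[A] (1 : T),
    (hr.pow m).map (Algebra.TensorProduct.includeLeft (R := A) (S := A) (A := C) (B := T)), ?_⟩
  rw [ht, linearForm, map_sum]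
  simp

end Algebra

section Scheme

variable {A C : CommRingCat.{u}} [Algebra A C] {d : ℕ} (c : Fin d → C) {Y : Scheme.{u}}
  (j : Spec A ⟶ Y)

/-- The affine space on which openness is tested. -/
noncomputable abbrev testBase : Spec (CommRingCat.of (MvPolynomial (ULift.{u} (Fin d)) A)) ⟶ Y :=
  Spec.map (CommRingCat.ofHom (algebraMap A (MvPolynomial (ULift.{u} (Fin d)) A))) ≫ j

/-- The test set: the image of the nonvanishing locus of the generic linear form. -/
def testSet : Set (Spec (CommRingCat.of (MvPolynomial (ULift.{u} (Fin d)) A))) :=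
  ⇑(Spec.map (CommRingCat.ofHom (Algebra.TensorProduct.includeRight.toRingHom :
      MvPolynomial (ULift.{u} (Fin d)) A →+* C ⊗[A] MvPolynomial (ULift.{u} (Fin d)) A))) ''
    (PrimeSpectrum.basicOpen (linearForm (A := A) c) :
      Set (PrimeSpectrum (C ⊗[A] MvPolynomial (ULift.{u} (Fin d)) A)))

theorem isConstructible_testSet [Algebra.FinitePresentation A C] :
    IsConstructible (testSet (A := A) c) :=
  PrimeSpectrum.isConstructible_comap_image
    (RingHom.finitePresentation_algebraMap.mpr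
      (inferInstance : Algebra.FinitePresentation (MvPolynomial (ULift.{u} (Fin d)) A)
        (MvPolynomial (ULift.{u} (Fin d)) A ⊗[A] C)) |> fun h => by
      have e : (Algebra.TensorProduct.includeRight.toRingHom :
          MvPolynomial (ULift.{u} (Fin d)) A →+* C ⊗[A] MvPolynomial (ULift.{u} (Fin d)) A) =
          (Algebra.TensorProduct.comm A (MvPolynomial (ULift.{u} (Fin d)) A) C).toRingEquiv.toRingHom.comp
            (algebraMap (MvPolynomial (ULift.{u} (Fin d)) A)
              (MvPolynomial (ULift.{u} (Fin d)) A ⊗[A] C)) := by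
        ext x <;> simp
      rw [e]
      exact RingHom.FinitePresentation.comp (RingHom.FinitePresentation.of_bijective
        (AlgEquiv.bijective _)) h)
    PrimeSpectrum.isConstructible_basicOpen

theorem universallyOpen_of_isOpen_preimage [IsOpenImmersion j] {r : C} (hr : IsUnit r)
    (hspan : ∀ z : C, ∃ m, r ^ m * z ∈ Submodule.span A (Set.range c))
    (hmul : ∀ z ∈ Submodule.span A (Set.range c), r * z ∈ Submodule.span A (Set.range c))
    {Y' : Scheme.{u}} (v : Y' ⟶ Y)
    (h : IsOpen (⇑(pullback.fst (testBase (d := d) j) v) ⁻¹' testSet (A := A) c)) :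
    UniversallyOpen (pullback.snd (Spec.map (CommRingCat.ofHom (algebraMap A C)) ≫ j) v) := by
  set w := Spec.map (CommRingCat.ofHom (algebraMap A C)) ≫ j
  rw [Groth.Limits.universallyOpen_iff_pullback_snd]
  intro T a
  suffices hs : IsOpenMap ⇑(pullback.snd w (a ≫ v)) by
    rw [← pullbackLeftPullbackSndIso_hom_snd w v a, Scheme.Hom.comp_base, TopCat.coe_comp]
    exact hs.comp (pullbackLeftPullbackSndIso w v a).hom.isOpenEmbedding.isOpenMap
  intro Ω hΩ
  refine isOpen_iff_forall_mem_open.mpr ?_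
  rintro _ ⟨z, hz, rfl⟩
  have hzT : pullback.snd w (a ≫ v) z ∈ (a ≫ v) ⁻¹ᵁ j.opensRange := by
    show (a ≫ v) (pullback.snd w (a ≫ v) z) ∈ Set.range j
    rw [← Scheme.Hom.comp_apply, ← pullback.condition, Scheme.Hom.comp_apply]
    exact ⟨_, rfl⟩
  obtain ⟨T', hT', hzT', hT'le⟩ := exists_isAffineOpen_mem_and_subset hzT
  let B := Γ(T, T')
  let κ : Spec B ⟶ T := hT'.fromSpec
  have hr' : Set.range ⇑(κ ≫ a ≫ v) ⊆ Set.range ⇑j := by
    rintro _ ⟨b, rfl⟩
    exact hT'le (hT'.range_fromSpec.le ⟨b, rfl⟩)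
  let β := IsOpenImmersion.lift j (κ ≫ a ≫ v) hr'
  letI : Algebra A B := (Spec.preimage β).hom.toAlgebra
  have hβ : Spec.map (CommRingCat.ofHom (algebraMap A B)) ≫ j = κ ≫ a ≫ v := by
    rw [show CommRingCat.ofHom (algebraMap A B) = Spec.preimage β from rfl, Spec.map_preimage]
    exact IsOpenImmersion.lift_fac _ _ _
  have hB := isPullback_SpecMap_of_isPushout _ _ _ _ (CommRingCat.isPushout_tensorProduct A C B)
  have hB' := Groth.Limits.isPullback_comp_mono hB j
  rw [hβ] at hB'
  let snd' : Spec (CommRingCat.of (C ⊗[A] B)) ⟶ Spec B := Spec.map (CommRingCat.ofHom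
    (Algebra.TensorProduct.includeRight.toRingHom : B →+* C ⊗[A] B))
  change IsPullback _ snd' w (κ ≫ a ≫ v) at hB'
  let q : Spec (CommRingCat.of (C ⊗[A] B)) ⟶ pullback w (a ≫ v) :=
    pullback.lift (Spec.map (CommRingCat.ofHom (Algebra.TensorProduct.includeLeftRingHom :
      C →+* C ⊗[A] B))) (snd' ≫ κ) (by rw [Category.assoc]; exact hB'.w)
  have hq : IsPullback q snd' (pullback.snd w (a ≫ v)) κ := by
    refine IsPullback.of_right ?_ (pullback.lift_snd _ _ _) (IsPullback.of_hasPullback w (a ≫ v))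
    rw [pullback.lift_fst]
    exact hB'
  obtain ⟨b, hb, hbz⟩ : ∃ b, q b = z ∧ snd' b = snd' b := by
    obtain ⟨y, hy⟩ : pullback.snd w (a ≫ v) z ∈ Set.range κ := by
      rw [hT'.range_fromSpec]; exact hzT'
    obtain ⟨b, hb₁, -⟩ := Scheme.Pullback.exists_preimage_pullback z y hy.symm
    exact ⟨hq.isoPullback.inv b, by rw [← Scheme.Hom.comp_apply, hq.isoPullback_inv_fst, hb₁], rfl⟩
  obtain ⟨_, ⟨e, rfl⟩, hbe, heΩ⟩ := PrimeSpectrum.isTopologicalBasis_basic_opens.exists_subset_of_mem_open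
    (show b ∈ ⇑q ⁻¹' Ω by rw [Set.mem_preimage, hb]; exact hz) (hΩ.preimage q.continuous)
  obtain ⟨φ, u, hu, hφ⟩ := exists_eq_map_linearForm c r hr hspan hmul e
  let R := CommRingCat.of (MvPolynomial (ULift.{u} (Fin d)) A)
  let ψ : R ⟶ B := CommRingCat.ofHom φ.toRingHom
  let m : CommRingCat.of (C ⊗[A] R) ⟶ CommRingCat.of (C ⊗[A] B) :=
    CommRingCat.ofHom (Algebra.TensorProduct.map (AlgHom.id A C) φ).toRingHom
  have hR := isPullback_SpecMap_of_isPushout _ _ _ _ (CommRingCat.isPushout_tensorProduct A C R)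
  have e₂ : Spec.map ψ ≫ Spec.map (CommRingCat.ofHom (algebraMap A R)) =
      Spec.map (CommRingCat.ofHom (algebraMap A B)) := by
    rw [← Spec.map_comp]
    congr 1
    ext x
    exact φ.commutes x
  have hsq : IsPullback (Spec.map m) snd'
      (Spec.map (CommRingCat.ofHom (Algebra.TensorProduct.includeRight.toRingHom :
        R →+* C ⊗[A] R))) (Spec.map ψ) := by
    refine IsPullback.of_right ?_ ?_ hR
    · have e₁ : Spec.map m ≫ Spec.map (CommRingCat.ofHom
          (Algebra.TensorProduct.includeLeftRingHom : C →+* C ⊗[A] R)) =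
          Spec.map (CommRingCat.ofHom (Algebra.TensorProduct.includeLeftRingHom : C →+* C ⊗[A] B)) := by
        rw [← Spec.map_comp]
        congr 1
        ext x
        simp [m]
      rw [e₁, e₂]
      exact hB
    · rw [← Spec.map_comp, ← Spec.map_comp]
      congr 1
  let θ : Spec B ⟶ pullback (testBase (d := d) j) v := pullback.lift (Spec.map ψ) (κ ≫ a) (by
    rw [Category.assoc, ← hβ, ← e₂, Category.assoc])
  have himg : ⇑snd' '' (PrimeSpectrum.basicOpen e : Set (PrimeSpectrum (C ⊗[A] B))) =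
      ⇑θ ⁻¹' (⇑(pullback.fst (testBase (d := d) j) v) ⁻¹' testSet (A := A) c) := by
    rw [← Set.preimage_comp, ← TopCat.coe_comp, ← Scheme.Hom.comp_base, pullback.lift_fst, testSet,
      ← Groth.Limits.image_preimage_of_isPullback hsq]
    congr 1
    ext p
    show e ∉ p.asIdeal ↔ Algebra.TensorProduct.map (AlgHom.id A C) φ (linearForm (A := A) c) ∉ p.asIdeal
    rw [hφ, not_iff_not]
    exact ⟨fun h => p.asIdeal.mul_mem_left u h, fun h => (p.isPrime.mem_or_mem h).resolve_left
      fun hm => p.isPrime.ne_top (p.asIdeal.eq_top_of_isUnit_mem hm hu)⟩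
  refine ⟨⇑κ '' (⇑snd' '' (PrimeSpectrum.basicOpen e : Set (PrimeSpectrum (C ⊗[A] B)))), ?_,
    κ.isOpenEmbedding.isOpenMap _ (by rw [himg]; exact h.preimage θ.continuous), ?_⟩
  · rintro _ ⟨_, ⟨p, hp, rfl⟩, rfl⟩
    refine ⟨q p, heΩ hp, ?_⟩
    rw [← Scheme.Hom.comp_apply, hq.w, Scheme.Hom.comp_apply]
  · refine ⟨snd' b, ⟨b, hbe, rfl⟩, ?_⟩
    rw [← Scheme.Hom.comp_apply, ← hq.w, Scheme.Hom.comp_apply, hb]

theorem isOpen_preimage_of_universallyOpen {Y' : Scheme.{u}} (v : Y' ⟶ Y) [Mono j]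
    [UniversallyOpen (pullback.snd (Spec.map (CommRingCat.ofHom (algebraMap A C)) ≫ j) v)] :
    IsOpen (⇑(pullback.fst (testBase (d := d) j) v) ⁻¹' testSet (A := A) c) := by
  let R := CommRingCat.of (MvPolynomial (ULift.{u} (Fin d)) A)
  set w := Spec.map (CommRingCat.ofHom (algebraMap A C)) ≫ j
  let π := testBase (A := A) (d := d) j
  let p : Spec (CommRingCat.of (C ⊗[A] R)) ⟶ Spec R := Spec.map (CommRingCat.ofHom
    (Algebra.TensorProduct.includeRight.toRingHom : R →+* C ⊗[A] R))
  have hR : IsPullback _ p w π := Groth.Limits.isPullback_comp_mono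
    (isPullback_SpecMap_of_isPushout _ _ _ _ (CommRingCat.isPushout_tensorProduct A C R)) j
  have hsq := IsPullback.of_hasPullback p (pullback.fst π v)
  have h1 := hsq.paste_horiz hR
  rw [pullback.condition] at h1
  have h2 : IsPullback (pullback.lift (pullback.fst p (pullback.fst π v) ≫ Spec.map (CommRingCat.ofHom
      (Algebra.TensorProduct.includeLeftRingHom : C →+* C ⊗[A] R)))
      (pullback.snd p (pullback.fst π v) ≫ pullback.snd π v)
      (by simpa only [Category.assoc] using h1.w)) (pullback.snd p (pullback.fst π v))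
      (pullback.snd w v) (pullback.snd π v) := by
    refine IsPullback.of_right ?_ (pullback.lift_snd _ _ _) (IsPullback.of_hasPullback w v)
    rw [pullback.lift_fst]
    exact h1
  haveI : UniversallyOpen (pullback.snd p (pullback.fst π v)) :=
    MorphismProperty.of_isPullback h2 ‹_›
  show IsOpen (⇑(pullback.fst π v) ⁻¹' (⇑p '' _))
  rw [← Groth.Limits.image_preimage_of_isPullback hsq]
  exact (pullback.snd p (pullback.fst π v)).isOpenMap _
    ((PrimeSpectrum.basicOpen (linearForm (A := A) c)).isOpen.preimage (Scheme.Hom.continuous _))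

end Scheme

/-- Near every point a quasi-finite morphism has a single test set for universal openness. -/
theorem exists_universallyOpen_test {X Y : Scheme.{u}} (f : X ⟶ Y) [LocallyOfFinitePresentation f]
    [LocallyQuasiFinite f] (x : X) :
    ∃ (W P : Scheme.{u}) (k : W ⟶ X) (π : P ⟶ Y) (E : Set P), IsOpenImmersion k ∧
      x ∈ Set.range k ∧ CompactSpace P ∧ IsConstructible E ∧
      ∀ (Y' : Scheme.{u}) (v : Y' ⟶ Y), UniversallyOpen (pullback.snd (k ≫ f) v) ↔
        IsOpen (⇑(pullback.fst π v) ⁻¹' E) := by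
  obtain ⟨U, hU, hxU, -⟩ := exists_isAffineOpen_mem_and_subset (U := ⊤) (Set.mem_univ (f x))
  obtain ⟨V, hV, hxV, hVU⟩ := exists_isAffineOpen_mem_and_subset (U := f ⁻¹ᵁ U) hxU
  have e : V ≤ f ⁻¹ᵁ U := hVU
  letI := (f.appLE U V e).hom.toAlgebra
  haveI : Algebra.FinitePresentation Γ(Y, U) Γ(X, V) := f.finitePresentation_appLE hU hV e
  haveI : Algebra.QuasiFinite Γ(Y, U) Γ(X, V) := LocallyQuasiFinite.quasiFinite_appLE (f := f) hU hV e
  let p := (hV.primeIdealOf ⟨x, hxV⟩).asIdeal
  obtain ⟨S', hS', r, hrp, hbij⟩ :=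
    Algebra.QuasiFiniteAt.exists_fg_and_exists_notMem_and_awayMap_bijective (R := Γ(Y, U)) p
  obtain ⟨d, s, hs⟩ := Submodule.fg_iff_exists_fin_generating_family.mp hS'
  let A : CommRingCat.{u} := Γ(Y, U)
  let C : CommRingCat.{u} := CommRingCat.of (Localization.Away (r : Γ(X, V)))
  letI : Algebra A C := inferInstanceAs (Algebra Γ(Y, U) (Localization.Away (r : Γ(X, V))))
  haveI : Algebra.FinitePresentation A C :=
    inferInstanceAs (Algebra.FinitePresentation Γ(Y, U) (Localization.Away (r : Γ(X, V))))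
  let ι : Γ(X, V) →ₐ[Γ(Y, U)] Localization.Away (r : Γ(X, V)) := IsScalarTower.toAlgHom _ _ _
  let c : Fin d → C := fun i => ι (s i)
  have hspanc : ∀ z, z ∈ Submodule.span A (Set.range c) ↔ ∃ y : S', ι y = z := by
    intro z
    have he : Submodule.span A (Set.range c) = S'.toSubmodule.map ι.toLinearMap := by
      rw [← hs, Submodule.map_span, ← Set.range_comp]
      rfl
    rw [he]
    exact ⟨fun ⟨y, hy, hyz⟩ => ⟨⟨y, hy⟩, hyz⟩, fun ⟨y, hyz⟩ => ⟨y, y.2, hyz⟩⟩
  have hr : IsUnit (ι r) := IsLocalization.Away.algebraMap_isUnit (r : Γ(X, V))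
  have hspan : ∀ z : C, ∃ m, ι r ^ m * z ∈ Submodule.span A (Set.range c) := by
    intro z
    obtain ⟨w, rfl⟩ := hbij.surjective z
    obtain ⟨n, y, hy⟩ := IsLocalization.Away.surj r w
    refine ⟨n, (hspanc _).mpr ⟨y, ?_⟩⟩
    have h2 := congrArg (Localization.awayMap S'.val.toRingHom r) hy
    rw [map_mul, map_pow] at h2
    simp only [Localization.awayMap, IsLocalization.Away.map, IsLocalization.map_eq] at h2
    rw [mul_comm]
    exact h2.symm
  have hmul : ∀ z ∈ Submodule.span A (Set.range c), ι r * z ∈ Submodule.span A (Set.range c) := by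
    intro z hz
    obtain ⟨y, rfl⟩ := (hspanc z).mp hz
    exact (hspanc _).mpr ⟨r * y, map_mul ι _ _⟩
  let k : Spec C ⟶ X := Spec.map (CommRingCat.ofHom (algebraMap Γ(X, V) C)) ≫ hV.fromSpec
  haveI : IsOpenImmersion k := inferInstance
  have hk : k ≫ f = Spec.map (CommRingCat.ofHom (algebraMap A C)) ≫ hU.fromSpec := by
    rw [Category.assoc, ← hU.SpecMap_appLE_fromSpec f hV e, ← Category.assoc, ← Spec.map_comp]
    rfl
  have hxk : x ∈ Set.range k := by
    have hx' : hV.primeIdealOf ⟨x, hxV⟩ ∈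
        Set.range (PrimeSpectrum.comap (algebraMap Γ(X, V) C)) := by
      rw [PrimeSpectrum.localization_away_comap_range C (r : Γ(X, V))]
      exact hrp
    obtain ⟨y, hy⟩ := hx'
    exact ⟨y, (congrArg hV.fromSpec hy).trans (hV.fromSpec_primeIdealOf _)⟩
  refine ⟨_, _, k, testBase (A := A) (d := d) hU.fromSpec, testSet (A := A) c, inferInstance, hxk,
    inferInstance, isConstructible_testSet c, fun Y' v => ?_⟩
  rw [hk]
  exact ⟨fun _ => isOpen_preimage_of_universallyOpen c _ v,
    fun h => universallyOpen_of_isOpen_preimage c _ hr hspan hmul v h⟩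

end Groth.Flatmor4
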