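import Groth.Agent.Flatmor4.QuasiFiniteSplit
import Groth.Agent.S1482
import Groth.Agent.S9778
import Groth.Agent.EtaleBase.Rigidity
import Mathlib.AlgebraicGeometry.Morphisms.FlatMono

/-!
Unramified and etale points: after an etale neighbourhood the pieces become closed immersions
(resp. isomorphisms).
-/

set_option autoImplicit false

universe u

open CategoryTheory CategoryTheory.Limits AlgebraicGeometry

namespace Groth.Flatmor4

variable {X S U V : Scheme.{u}}

/-- Transport of pure inseparability along isomorphisms of field extensions. -/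
theorem isPurelyInseparable_of_equiv {F E F' E' : Type u} [Field F] [Field E] [Field F'] [Field E']
    [Algebra F E] [Algebra F' E'] (a : F ≃+* F') (b : E ≃+* E')
    (h : ∀ x, b (algebraMap F E x) = algebraMap F' E' (a x)) [IsPurelyInseparable F' E'] :
    IsPurelyInseparable F E := by
  obtain ⟨q, _⟩ := ExpChar.exists F
  have : ExpChar F' q := expChar_of_injective_ringHom (f := a.toRingHom) a.injective q
  rw [isPurelyInseparable_iff_pow_mem F q]
  intro x
  obtain ⟨n, y, hy⟩ := IsPurelyInseparable.pow_mem F' q (b x)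
  exact ⟨n, a.symm y, b.injective (by rw [h, a.apply_symm_apply, hy, map_pow])⟩

theorem formallyUnramified_comp {W : Scheme.{u}} (a : W ⟶ V) [IsOpenImmersion a] (b : V ⟶ U)
    (hb : FormallyUnramified b) : FormallyUnramified (a ≫ b) :=
  have : Etale a := inferInstance
  MorphismProperty.comp_mem _ _ _ inferInstance hb

theorem residueFieldMap_bijective (q : V ⟶ U) [FormallyUnramified q] [LocallyOfFiniteType q] (v : V)
    (h : letI := (q.residueFieldMap v).hom.toAlgebra
      IsPurelyInseparable ↑(U.residueField (q v)) ↑(V.residueField v)) :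
    Function.Bijective (q.residueFieldMap v) := by
  let := (q.residueFieldMap v).hom.toAlgebra
  refine ⟨(q.residueFieldMap v).hom.injective, ?_⟩
  exact IsPurelyInseparable.surjective_algebraMap_of_isSeparable
    ↑(U.residueField (q v)) ↑(V.residueField v)

/-- A finite unramified morphism with a single, trivially extended point over `u` is a closed
immersion over a neighbourhood of `u`. -/
theorem exists_open_isClosedImmersion (q : V ⟶ U) [IsFinite q] [FormallyUnramified q] (v : V)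
    (hb : Function.Bijective (q.residueFieldMap v)) (huniq : ∀ w, q w = q v → w = v) :
    ∃ U' : U.Opens, q v ∈ U' ∧ IsClosedImmersion (q ∣_ U') := by
  let p : pullback q q ⟶ U := pullback.fst q q ≫ q
  have hC : IsClosed (Set.range (pullback.diagonal q))ᶜ :=
    ((pullback.diagonal q).isOpenEmbedding.isOpen_range).isClosed_compl
  have : IsFinite p := inferInstance
  let U' : U.Opens := ⟨(p '' (Set.range (pullback.diagonal q))ᶜ)ᶜ, (p.isClosedMap _ hC).isOpen_compl⟩
  refine ⟨U', ?_, ?_⟩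
  · rintro ⟨w, hw, hwu⟩
    have h1 : pullback.fst q q w = v := huniq _ (by simpa [p] using hwu)
    have h2 : pullback.snd q q w = v := huniq _ (by
      rw [← Scheme.Hom.comp_apply, ← pullback.condition]; exact hwu)
    refine hw ⟨v, eq_of_residueFieldMap_bijective ?_ ?_ ?_⟩
    · rw [← Scheme.Hom.comp_apply, pullback.diagonal_fst, h1]; rfl
    · rw [← Scheme.Hom.comp_apply, pullback.diagonal_snd, h2]; rfl
    · have e : pullback.snd q q (pullback.diagonal q v) = v := by
        rw [← Scheme.Hom.comp_apply, pullback.diagonal_snd]; rfl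
      exact e.symm ▸ hb
  · rw [IsClosedImmersion.iff_isFinite_and_mono]
    have hfin : IsFinite (q ∣_ U') := inferInstance
    refine ⟨hfin, ?_⟩
    rw [← pullback.isIso_diagonal_iff]
    let q' := q ∣_ U'
    let j : pullback q' q' ⟶ pullback q q :=
      pullback.map _ _ _ _ (q ⁻¹ᵁ U').ι (q ⁻¹ᵁ U').ι U'.ι
        (morphismRestrict_ι q U') (morphismRestrict_ι q U')
    have : FormallyUnramified q' :=
      MorphismProperty.of_isPullback (isPullback_morphismRestrict q U').flip ‹_›
    have : IsFinite q' := hfin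
    have : IsOpenImmersion (pullback.diagonal q') := inferInstance
    have : Surjective (pullback.diagonal q') := by
      refine ⟨fun w => ?_⟩
      have hp : p (j w) ∈ U' := by
        have : p (j w) = U'.ι ((pullback.fst q' q' ≫ q') w) := by
          have e : j ≫ p = (pullback.fst q' q' ≫ q') ≫ U'.ι := by
            simp only [p, j, pullback.lift_fst_assoc, Category.assoc, q']
            rw [morphismRestrict_ι]
          exact congr($e w)
        rw [this]
        exact ((pullback.fst q' q' ≫ q') w).2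
      obtain ⟨y, hy⟩ : j w ∈ Set.range (pullback.diagonal q) := by
        by_contra h
        exact hp ⟨j w, h, rfl⟩
      have e1 : j ≫ pullback.fst q q = pullback.fst q' q' ≫ (q ⁻¹ᵁ U').ι := pullback.lift_fst _ _ _
      have hy1 : (q ⁻¹ᵁ U').ι (pullback.fst q' q' w) = y := by
        rw [← Scheme.Hom.comp_apply, ← e1, Scheme.Hom.comp_apply, ← hy, ← Scheme.Hom.comp_apply,
          pullback.diagonal_fst]
        rfl
      have e2 : pullback.diagonal q' ≫ j = (q ⁻¹ᵁ U').ι ≫ pullback.diagonal q := by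
        apply pullback.hom_ext
        · rw [Category.assoc, e1, pullback.diagonal_fst_assoc]; simp
        · have e1' : j ≫ pullback.snd q q = pullback.snd q' q' ≫ (q ⁻¹ᵁ U').ι :=
            pullback.lift_snd _ _ _
          rw [Category.assoc, e1', pullback.diagonal_snd_assoc]; simp
      refine ⟨pullback.fst q' q' w, j.isOpenEmbedding.injective ?_⟩
      rw [← hy, ← hy1]
      exact congr($e2 _)
    exact (isIso_iff_isOpenImmersion_and_surjective _).mpr ⟨inferInstance, inferInstance⟩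

theorem isClosedImmersion_of_factor (q : V ⟶ U) {U₀ : U.Opens} [IsClosedImmersion (q ∣_ U₀)]
    {P T : Scheme.{u}} {top : P ⟶ V} {l : P ⟶ T} {a : T ⟶ U} (h : IsPullback top l q a)
    (b : T ⟶ U₀) (hb : b ≫ U₀.ι = a) : IsClosedImmersion l := by
  subst hb
  have hq := (isPullback_morphismRestrict q U₀).flip
  let t : P ⟶ (q ⁻¹ᵁ U₀ : V.Opens) := hq.lift top (l ≫ b) (by rw [Category.assoc]; exact h.w)
  have h' : IsPullback t l (q ∣_ U₀) b :=
    .of_right (h₁₂ := (q ⁻¹ᵁ U₀).ι) (by rwa [hq.lift_fst]) (hq.lift_snd _ _ _) hq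
  exact MorphismProperty.of_isPullback h' ‹_›

/-- Shrink the neighbourhood so that the pieces become closed immersions, resp. isomorphisms. -/
theorem exists_shrink (f : X ⟶ S) (g : U ⟶ S) (u : U) {K : Type} [Finite K]
    (V : K → (pullback f g).Opens) (v : K → ↑(pullback f g)) (hv : ∀ k, v k ∈ V k)
    (hfin : ∀ k, IsFinite ((V k).ι ≫ pullback.snd f g))
    (hunr : ∀ k, FormallyUnramified ((V k).ι ≫ pullback.snd f g))
    (hu : ∀ k, pullback.snd f g (v k) = u)
    (huniq : ∀ k w, w ∈ V k → pullback.snd f g w = u → w = v k)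
    (hpi : ∀ k, letI := ((pullback.snd f g).residueFieldMap (v k)).hom.toAlgebra
      IsPurelyInseparable ↑(U.residueField (pullback.snd f g (v k)))
        ↑((pullback f g).residueField (v k))) :
    ∃ (U' : U.Opens) (u' : U'), U'.ι u' = u ∧
      (∀ k, IsClosedImmersion (((pullback.map f (U'.ι ≫ g) f g (𝟙 X) U'.ι (𝟙 S)
          (by simp) (by simp)) ⁻¹ᵁ V k).ι ≫ pullback.snd f (U'.ι ≫ g))) ∧
      ((∀ k, Etale ((V k).ι ≫ pullback.snd f g)) →
        ∀ k, IsIso (((pullback.map f (U'.ι ≫ g) f g (𝟙 X) U'.ι (𝟙 S)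
          (by simp) (by simp)) ⁻¹ᵁ V k).ι ≫ pullback.snd f (U'.ι ≫ g))) := by
  cases nonempty_fintype K
  classical
  have hb : ∀ k, Function.Bijective
      (((V k).ι ≫ pullback.snd f g).residueFieldMap ⟨v k, hv k⟩) := by
    intro k
    have := hunr k
    have := hfin k
    refine residueFieldMap_bijective _ _ ?_
    have := hpi k
    let := ((pullback.snd f g).residueFieldMap (v k)).hom.toAlgebra
    let := (((V k).ι ≫ pullback.snd f g).residueFieldMap ⟨v k, hv k⟩).hom.toAlgebra
    let b : ↑((pullback f g).residueField (v k)) ≃+* ↑((V k : Scheme.{u}).residueField ⟨v k, hv k⟩) :=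
      RingEquiv.ofBijective ((V k).ι.residueFieldMap ⟨v k, hv k⟩).hom
        (ConcreteCategory.bijective_of_isIso _)
    exact isPurelyInseparable_of_equiv (RingEquiv.refl ↑(U.residueField (pullback.snd f g (v k))))
      b.symm (fun r => b.symm_apply_eq.mpr (ConcreteCategory.congr_hom
        (Scheme.residueFieldMap_comp (V k).ι (pullback.snd f g) ⟨v k, hv k⟩) r))
  have hq : ∀ k, ∀ w, ((V k).ι ≫ pullback.snd f g) w =
      ((V k).ι ≫ pullback.snd f g) ⟨v k, hv k⟩ → w = ⟨v k, hv k⟩ := fun k w hw =>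
    Subtype.ext (huniq k w.1 w.2 (hw.trans (hu k)))
  have hUk : ∀ k, ∃ O : U.Opens, u ∈ O ∧ IsClosedImmersion (((V k).ι ≫ pullback.snd f g) ∣_ O) := by
    intro k
    have := hfin k
    have := hunr k
    obtain ⟨O, hO, hO'⟩ := exists_open_isClosedImmersion _ _ (hb k) (hq k)
    exact ⟨O, (hu k) ▸ hO, hO'⟩
  choose O hO hOc using hUk
  let R : K → U.Opens := fun k =>
    if h : IsOpen (Set.range ((V k).ι ≫ pullback.snd f g)) then ⟨_, h⟩ else ⊤
  let U' : U.Opens := Finset.univ.inf (fun k => O k ⊓ R k)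
  have huU' : u ∈ U' := by
    have : ∀ k, u ∈ O k ⊓ R k := fun k => by
      refine ⟨hO k, ?_⟩
      simp only [R]
      split
      · exact ⟨⟨v k, hv k⟩, hu k⟩
      · trivial
    suffices ∀ t : Finset K, u ∈ t.inf (fun k => O k ⊓ R k) from this _
    intro t
    induction t using Finset.induction with
    | empty => exact trivial
    | @insert a t _ ih => rw [Finset.inf_insert]; exact ⟨this a, ih⟩
  have hle : ∀ k, U' ≤ O k ⊓ R k := fun k => Finset.inf_le (Finset.mem_univ k)
  let σ := pullback.map f (U'.ι ≫ g) f g (𝟙 X) U'.ι (𝟙 S) (by simp) (by simp)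
  have hσ : IsPullback σ (pullback.snd f (U'.ι ≫ g)) (pullback.snd f g) U'.ι := by
    refine .of_right (t := IsPullback.of_hasPullback f g) ?_ (pullback.lift_snd _ _ _)
    simp only [σ, pullback.lift_fst, Category.comp_id]
    exact IsPullback.of_hasPullback f _
  have hsq : ∀ k, IsPullback (σ ∣_ V k) ((σ ⁻¹ᵁ V k).ι ≫ pullback.snd f (U'.ι ≫ g))
      ((V k).ι ≫ pullback.snd f g) U'.ι := fun k =>
    (isPullback_morphismRestrict σ (V k)).paste_vert hσ
  have hcl : ∀ k, IsClosedImmersion ((σ ⁻¹ᵁ V k).ι ≫ pullback.snd f (U'.ι ≫ g)) := fun k =>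
    have := hOc k
    isClosedImmersion_of_factor _ (hsq k) (U.homOfLE ((hle k).trans inf_le_left))
      (Scheme.homOfLE_ι _ _)
  refine ⟨U', ⟨u, huU'⟩, rfl, hcl, fun het k => ?_⟩
  have := het k
  have := hcl k
  have hee : Etale ((σ ⁻¹ᵁ V k).ι ≫ pullback.snd f (U'.ι ≫ g)) :=
    MorphismProperty.of_isPullback (hsq k) (het k)
  have : IsOpenImmersion ((σ ⁻¹ᵁ V k).ι ≫ pullback.snd f (U'.ι ≫ g)) := .of_flat_of_mono _
  have : Surjective ((σ ⁻¹ᵁ V k).ι ≫ pullback.snd f (U'.ι ≫ g)) := by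
    refine ⟨fun y => ?_⟩
    have hy : U'.ι y ∈ R k := (hle k y.2).2
    have hR : IsOpen (Set.range ((V k).ι ≫ pullback.snd f g)) :=
      ((V k).ι ≫ pullback.snd f g).isOpenMap.isOpen_range
    simp only [R, dif_pos hR] at hy
    obtain ⟨z, hz⟩ := hy
    obtain ⟨w, -, hw⟩ := Scheme.Pullback.exists_preimage_pullback
      (f := (V k).ι ≫ pullback.snd f g) (g := U'.ι) z y hz
    refine ⟨(hsq k).isoPullback.inv w, ?_⟩
    rw [← Scheme.Hom.comp_apply, (hsq k).isoPullback_inv_snd, hw]
  exact (isIso_iff_isOpenImmersion_and_surjective _).mpr ⟨inferInstance, inferInstance⟩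

/-- The initial data for unramified points, on the whole of `X`. -/
theorem exists_split_unramified_data (f : X ⟶ S) (s : S) {ι : Type} [Finite ι] (x : ι → X)
    (hinj : Function.Injective x) (hs : ∀ i, f (x i) = s)
    (hx : ∀ i, ∃ W : X.Opens, x i ∈ W ∧ LocallyOfFiniteType (W.ι ≫ f) ∧
      FormallyUnramified (W.ι ≫ f)) :
    ∃ (U : Scheme.{u}) (g : U ⟶ S) (u : U), Etale g ∧ g u = s ∧
      ∃ (K : Type) (_ : Finite K) (lab : K → ι) (V : K → (pullback f g).Opens)
        (v : K → ↑(pullback f g)),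
        (∀ k, v k ∈ V k) ∧ (∀ k, IsFinite ((V k).ι ≫ pullback.snd f g)) ∧
        (∀ k, FormallyUnramified ((V k).ι ≫ pullback.snd f g)) ∧
        (∀ k, pullback.snd f g (v k) = u) ∧
        (∀ k w, w ∈ V k → pullback.snd f g w = u → w = v k) ∧
        (∀ k, letI := ((pullback.snd f g).residueFieldMap (v k)).hom.toAlgebra
          IsPurelyInseparable ↑(U.residueField (pullback.snd f g (v k)))
            ↑((pullback f g).residueField (v k))) ∧
        (∀ k, pullback.fst f g (v k) = x (lab k)) ∧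
        Function.Injective v ∧
        (∀ (w : ↑(pullback f g)) (i : ι), pullback.snd f g w = u → pullback.fst f g w = x i →
          ∃ k, lab k = i ∧ w = v k) ∧
        (IsSeparated f → Pairwise (Function.onFun Disjoint V)) ∧
        ((∀ i, ∃ W : X.Opens, x i ∈ W ∧ Etale (W.ι ≫ f)) →
          ∃ Z : X.Opens, Etale (Z.ι ≫ f) ∧ ∀ k, V k ≤ pullback.fst f g ⁻¹ᵁ Z) := by
  classical
  let good : (i : ι) → X.Opens → Prop := fun i W => x i ∈ W ∧ LocallyOfFiniteType (W.ι ≫ f) ∧
    FormallyUnramified (W.ι ≫ f) ∧ ((∀ i, ∃ W : X.Opens, x i ∈ W ∧ Etale (W.ι ≫ f)) → Etale (W.ι ≫ f))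
  have hgood : ∀ i, ∃ W, good i W := by
    intro i
    by_cases he : ∀ i, ∃ W : X.Opens, x i ∈ W ∧ Etale (W.ι ≫ f)
    · obtain ⟨W, hW, hW'⟩ := he i
      exact ⟨W, hW, inferInstance, inferInstance, fun _ => hW'⟩
    · obtain ⟨W, hW, h1, h2⟩ := hx i
      exact ⟨W, hW, h1, h2, fun h => absurd h he⟩
  choose W hxW hWl hWu hWe using hgood
  let X' : X.Opens := ⨆ i, W i
  have hcov : ⨆ i, X'.ι ⁻¹ᵁ W i = ⊤ := by
    rw [eq_top_iff]
    intro z _
    obtain ⟨i, hi⟩ := TopologicalSpace.Opens.mem_iSup.mp z.2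
    exact TopologicalSpace.Opens.mem_iSup.mpr ⟨i, hi⟩
  let f' := X'.ι ≫ f
  have heq : ∀ i, (X'.ι ⁻¹ᵁ W i).ι ≫ f' = (X'.ι ∣_ W i) ≫ (W i).ι ≫ f := fun i => by
    rw [morphismRestrict_ι_assoc]
  have hl : LocallyOfFiniteType f' := by
    rw [IsZariskiLocalAtSource.iff_of_iSup_eq_top (P := @LocallyOfFiniteType) _ hcov]
    intro i
    rw [heq]
    have := hWl i
    infer_instance
  have hu' : FormallyUnramified f' := by
    rw [IsZariskiLocalAtSource.iff_of_iSup_eq_top (P := @FormallyUnramified) _ hcov]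
    intro i
    rw [heq]
    exact formallyUnramified_comp _ _ (hWu i)
  let x' : ι → X' := fun i => ⟨x i, TopologicalSpace.Opens.mem_iSup.mpr ⟨i, hxW i⟩⟩
  have hinj' : Function.Injective x' := fun i j h => hinj congr(($h).1)
  have hs' : ∀ i, f' (x' i) = s := hs
  have : LocallyQuasiFinite f' := inferInstance
  have hx' : ∀ i, f'.QuasiFiniteAt (x' i) := fun i => f'.quasiFiniteAt _
  obtain ⟨U, g, u, hg, hgu, J, hJ, V, v, h1, h2, h3, hsep⟩ :
      ∃ (U : Scheme.{u}) (g : U ⟶ S) (u : U), Etale g ∧ g u = s ∧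
      ∃ (J : ι → Type) (_ : ∀ i, Finite (J i)) (V : ∀ i, J i → (pullback f' g).Opens)
        (v : ∀ i, J i → ↑(pullback f' g)),
        (∀ i j, v i j ∈ V i j ∧ IsFinite ((V i j).ι ≫ pullback.snd f' g) ∧
          pullback.snd f' g (v i j) = u ∧
          (∀ w : ↑(pullback f' g), w ∈ V i j → pullback.snd f' g w = u → w = v i j) ∧
          (letI := ((pullback.snd f' g).residueFieldMap (v i j)).hom.toAlgebra
           IsPurelyInseparable ↑(U.residueField (pullback.snd f' g (v i j)))
             ↑((pullback f' g).residueField (v i j))) ∧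
          pullback.fst f' g (v i j) = x' i) ∧
        (∀ i j i' j', v i j = v i' j' → i = i' ∧ HEq j j') ∧
        (∀ (w : ↑(pullback f' g)) (i : ι), pullback.snd f' g w = u → pullback.fst f' g w = x' i →
          ∃ j, w = v i j) ∧
        (IsSeparated f' → ∀ i j i' j',
          ((V i j : Set ↑(pullback f' g)) ∩ (V i' j')).Nonempty → i = i' ∧ HEq j j') := by
    by_cases hsep : IsSeparated f'
    · obtain ⟨U, g, u, hg, hgu, J, hJ, V, v, -, hd, h1, h3⟩ :=
        Groth.Agent.S9778.result f' s x' hinj' hs' hx'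
      refine ⟨U, g, u, hg, hgu, J, hJ, V, v, h1, fun i j i' j' h => ?_, fun w i hwu hwx => ?_,
        fun _ => hd⟩
      · exact hd i j i' j' ⟨v i j, (h1 i j).1, h ▸ (h1 i' j').1⟩
      · obtain ⟨j, hj⟩ := h3 w i hwu hwx
        exact ⟨j, (h1 i j).2.2.2.1 w hj hwu⟩
    · obtain ⟨U, g, u, hg, hgu, J, hJ, V, v, h1, h2, h3⟩ :=
        Groth.Agent.S1482.result f' s x' hinj' hs' hx'
      exact ⟨U, g, u, hg, hgu, J, hJ, V, v, fun i j => ⟨(h1 i j).1, (h1 i j).2.1, (h1 i j).2.2.1,
        (h1 i j).2.2.2.1, (h1 i j).2.2.2.2.1.2, (h1 i j).2.2.2.2.2⟩, h2, h3, fun h => absurd h hsep⟩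
  let ρ : pullback f' g ⟶ pullback f g :=
    pullback.map f' g f g X'.ι (𝟙 U) (𝟙 S) (by simp [f']) (by simp)
  have hρsnd : ρ ≫ pullback.snd f g = pullback.snd f' g :=
    (pullback.lift_snd _ _ _).trans (Category.comp_id _)
  have hρfst : ρ ≫ pullback.fst f g = pullback.fst f' g ≫ X'.ι := pullback.lift_fst _ _ _
  have hρs : ∀ w, pullback.snd f g (ρ w) = pullback.snd f' g w := fun w => by
    rw [← Scheme.Hom.comp_apply, hρsnd]
  have hρf : ∀ w, pullback.fst f g (ρ w) = X'.ι (pullback.fst f' g w) := fun w => by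
    rw [← Scheme.Hom.comp_apply, hρfst, Scheme.Hom.comp_apply]
  obtain ⟨n, ⟨e⟩⟩ := Finite.exists_equiv_fin (Σ i, J i)
  refine ⟨U, g, u, hg, hgu, Fin n, inferInstance, fun k => (e.symm k).1,
    fun k => ρ ''ᵁ V (e.symm k).1 (e.symm k).2, fun k => ρ (v (e.symm k).1 (e.symm k).2),
    fun k => ⟨_, (h1 _ _).1, rfl⟩, fun k => ?_, fun k => ?_, fun k => (hρs _).trans (h1 _ _).2.2.1,
    fun k w hw hwu => ?_, fun k => ?_, fun k => ?_, fun k k' hk => ?_, fun w i hwu hwx => ?_,
    fun hs k k' hk => ?_, fun he => ?_⟩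
  · have := (h1 (e.symm k).1 (e.symm k).2).2.1
    have e1 : (ρ ''ᵁ V (e.symm k).1 (e.symm k).2).ι ≫ pullback.snd f g =
        (ρ.isoImage _).inv ≫ (V (e.symm k).1 (e.symm k).2).ι ≫ pullback.snd f' g := by
      rw [← hρsnd, Scheme.Hom.isoImage_inv_ι_assoc]
    rw [e1]
    infer_instance
  · have e1 : (ρ ''ᵁ V (e.symm k).1 (e.symm k).2).ι ≫ pullback.snd f g =
        (ρ.isoImage _).inv ≫ (V (e.symm k).1 (e.symm k).2).ι ≫ pullback.snd f' g := by
      rw [← hρsnd, Scheme.Hom.isoImage_inv_ι_assoc]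
    rw [e1]
    exact formallyUnramified_comp _ _ (formallyUnramified_comp _ _
      (MorphismProperty.pullback_snd _ _ hu'))
  · obtain ⟨z, hz, rfl⟩ := hw
    exact congrArg ρ ((h1 _ _).2.2.2.1 z hz ((hρs z).symm.trans hwu))
  · -- residue fields
    set w := v (e.symm k).1 (e.symm k).2
    have hp := (h1 (e.symm k).1 (e.symm k).2).2.2.2.2.1
    have hr : IsIso (ρ.residueFieldMap w) := inferInstance
    let := ((pullback.snd f g).residueFieldMap (ρ w)).hom.toAlgebra
    let a := (U.residueFieldCongr (hρs w)).hom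
    let c := (pullback.snd f' g).residueFieldMap w
    let _ := c.hom.toAlgebra
    have hc : (pullback.snd f g).residueFieldMap (ρ w) ≫ ρ.residueFieldMap w = a ≫ c := by
      rw [← Scheme.residueFieldMap_comp, Scheme.Hom.residueFieldMap_congr hρsnd]
      rfl
    have hp' : IsPurelyInseparable ↑(U.residueField (pullback.snd f' g w))
        ↑((pullback f' g).residueField w) := hp
    exact isPurelyInseparable_of_equiv
      (RingEquiv.ofBijective a.hom (ConcreteCategory.bijective_of_isIso a))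
      (RingEquiv.ofBijective (ρ.residueFieldMap w).hom (ConcreteCategory.bijective_of_isIso _))
      (fun r => ConcreteCategory.congr_hom hc r)
  · rw [hρf, (h1 _ _).2.2.2.2.2]; rfl
  · have := h2 _ _ _ _ (ρ.isOpenEmbedding.injective hk)
    exact e.symm.injective (Sigma.ext this.1 this.2)
  · have hwX : pullback.fst f g w ∈ X' := by
      rw [hwx]; exact (x' i).2
    have hmem : w ∈ Set.range ρ := by
      rw [Scheme.Pullback.range_map]
      exact ⟨⟨⟨_, hwX⟩, rfl⟩, ⟨_, rfl⟩⟩
    obtain ⟨z, rfl⟩ := hmem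
    obtain ⟨j, rfl⟩ := h3 z i ((hρs z).symm.trans hwu) (Subtype.ext ((hρf z).symm.trans hwx))
    refine ⟨e ⟨i, j⟩, ?_, ?_⟩
    · simp
    · exact congrArg (fun p : Σ i, J i => ρ (v p.1 p.2)) (e.symm_apply_apply ⟨i, j⟩).symm
  · have : IsSeparated f' := inferInstance
    rw [Function.onFun, disjoint_iff, ← le_bot_iff]
    rintro _ ⟨⟨z, hz, rfl⟩, z', hz', hzz⟩
    rw [ρ.isOpenEmbedding.injective hzz] at hz'
    have := hsep this _ _ _ _ ⟨z, hz, hz'⟩
    exact hk (e.symm.injective (Sigma.ext this.1 this.2))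
  · refine ⟨X', ?_, fun k => ?_⟩
    · rw [IsZariskiLocalAtSource.iff_of_iSup_eq_top (P := @Etale) _ hcov]
      intro i
      rw [heq]
      have := hWe i he
      infer_instance
    · rintro _ ⟨z, -, rfl⟩
      show pullback.fst f g (ρ z) ∈ X'
      rw [hρf]
      exact (pullback.fst f' g z).2

/-- The combined statement. -/
theorem exists_split_unramified (f : X ⟶ S) (s : S) {ι : Type} [Finite ι] (x : ι → X)
    (hinj : Function.Injective x) (hs : ∀ i, f (x i) = s)
    (hx : ∀ i, ∃ W : X.Opens, x i ∈ W ∧ LocallyOfFiniteType (W.ι ≫ f) ∧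
      FormallyUnramified (W.ι ≫ f)) :
    ∃ (U : Scheme.{u}) (g : U ⟶ S) (u : U), Etale g ∧ g u = s ∧
      ∃ (K : Type) (_ : Finite K) (lab : K → ι) (V : K → (pullback f g).Opens),
        (∀ k, IsClosedImmersion ((V k).ι ≫ pullback.snd f g) ∧
          ∃ w : ↑(pullback f g), w ∈ V k ∧ pullback.snd f g w = u) ∧
        (∀ (k k' : K) (w : ↑(pullback f g)), w ∈ V k → w ∈ V k' → pullback.snd f g w = u → k = k') ∧
        (∀ (w : ↑(pullback f g)) (i : ι), pullback.snd f g w = u → pullback.fst f g w = x i →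
          ∃ k, lab k = i ∧ w ∈ V k) ∧
        (IsSeparated f → Pairwise (Function.onFun Disjoint V)) ∧
        ((∀ i, ∃ W : X.Opens, x i ∈ W ∧ Etale (W.ι ≫ f)) →
          ∀ k, IsIso ((V k).ι ≫ pullback.snd f g)) := by
  obtain ⟨U, g, u, hg, hgu, K, hK, lab, V, v, hv, hfin, hunr, hu, huniq, hpi, hlab, hvinj, hcov,
    hsep, het⟩ := exists_split_unramified_data f s x hinj hs hx
  obtain ⟨U', u', hu', hcl, hiso⟩ := exists_shrink f g u V v hv hfin hunr hu huniq hpi
  let σ := pullback.map f (U'.ι ≫ g) f g (𝟙 X) U'.ι (𝟙 S) (by simp) (by simp)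
  have hσf : σ ≫ pullback.fst f g = pullback.fst f (U'.ι ≫ g) :=
    (pullback.lift_fst _ _ _).trans (Category.comp_id _)
  have hσs : σ ≫ pullback.snd f g = pullback.snd f (U'.ι ≫ g) ≫ U'.ι := pullback.lift_snd _ _ _
  have hσf' : ∀ w, pullback.fst f g (σ w) = pullback.fst f (U'.ι ≫ g) w := fun w => by
    rw [← Scheme.Hom.comp_apply, hσf]
  have hσs' : ∀ w, pullback.snd f g (σ w) = U'.ι (pullback.snd f (U'.ι ≫ g) w) := fun w => by
    rw [← Scheme.Hom.comp_apply, hσs, Scheme.Hom.comp_apply]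
  have huni : ∀ k w, σ w ∈ V k → pullback.snd f (U'.ι ≫ g) w = u' → σ w = v k := fun k w hw hwu =>
    huniq k _ hw (by rw [hσs', hwu, hu'])
  refine ⟨U', U'.ι ≫ g, u', inferInstance, by rw [Scheme.Hom.comp_apply, hu', hgu], K, hK, lab,
    fun k => σ ⁻¹ᵁ V k, fun k => ⟨hcl k, ?_⟩, fun k k' w hw hw' hwu => ?_, fun w i hwu hwx => ?_,
    fun h k k' hk => ?_, fun h k => ?_⟩
  · obtain ⟨w, hw⟩ : v k ∈ Set.range σ := by
      rw [Scheme.Pullback.range_map]
      exact ⟨⟨_, rfl⟩, ⟨u', hu'.trans (hu k).symm⟩⟩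
    exact ⟨w, show σ w ∈ V k from hw.symm ▸ hv k,
      U'.ι.isOpenEmbedding.injective (by rw [← hσs', hw, hu, hu'])⟩
  · exact hvinj ((huni k w hw hwu).symm.trans (huni k' w hw' hwu))
  · obtain ⟨k, hk, hwk⟩ := hcov (σ w) i (by rw [hσs', hwu, hu']) (by rw [hσf', hwx])
    exact ⟨k, hk, show σ w ∈ V k from hwk ▸ hv k⟩
  · have := hsep h hk
    rw [Function.onFun, disjoint_iff, ← le_bot_iff] at this ⊢
    rintro w ⟨hw, hw'⟩
    exact this (x := σ w) ⟨hw, hw'⟩
  · obtain ⟨Z, hZ, hVZ⟩ := het h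
    refine hiso (fun j => ?_) k
    let W := pullback.fst f g ⁻¹ᵁ Z
    have hW : Etale (W.ι ≫ pullback.snd f g) :=
      MorphismProperty.of_isPullback
        ((isPullback_morphismRestrict (pullback.fst f g) Z).paste_vert
          (IsPullback.of_hasPullback f g)) hZ
    rw [← Scheme.homOfLE_ι _ (hVZ j), Category.assoc]
    infer_instance

end Groth.Flatmor4
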