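import Mathlib
import Groth.Agent.EGA43Flat.Nilpotent
import Groth.Agent.EGA43Valuative.DominatingDVR
import Groth.Agent.FlatMorOne.FlatnessCriteria
import Groth.Agent.Matlis.Duality

/-!
The valuative criterion of flatness over a complete Noetherian local ring: a module finite over
an algebra is flat at the primes over the closed point as soon as it becomes flat over discrete
valuation rings and over a finite jointly injective family of algebras.
-/

set_option autoImplicit false
set_option linter.style.haveILetI false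

universe u v w

open TensorProduct IsLocalRing

namespace Groth.Flatmor4

open Groth.FlatMorOne

section BaseChange

variable {C S : Type u} [CommRing C] [CommRing S] [Algebra C S]
  {X : Type u} [AddCommGroup X] [Module C X] [Module S X] [IsScalarTower C S X]

/-- Flatness after base change is inherited by localizations over a target algebra. -/
theorem flat_baseChange_localizedModule (T : Submonoid S) (D : Type u) [CommRing D] [Algebra C D]
    [Module.Flat D (D ⊗[C] X)] : Module.Flat D (D ⊗[C] LocalizedModule T X) := by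
  rw [Module.Flat.iff_rTensor_injective']
  intro J
  rw [rTensor_baseChange_injective_iff, ← LinearMap.lTensor_inj_iff_rTensor_inj]
  apply lTensor_localizedModule_injective
  rw [LinearMap.lTensor_inj_iff_rTensor_inj, ← rTensor_baseChange_injective_iff (T := D)]
  exact Module.Flat.rTensor_preserves_injective_linearMap _ Subtype.val_injective

/-- Flatness modulo an ideal passes to a bigger ideal. -/
theorem flat_quotient_of_le {I J : Ideal C} (hIJ : I ≤ J) [Module.Flat (C ⧸ I) ((C ⧸ I) ⊗[C] X)] :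
    Module.Flat (C ⧸ J) ((C ⧸ J) ⊗[C] X) := by
  letI : Algebra (C ⧸ I) (C ⧸ J) := (Ideal.Quotient.factor hIJ).toAlgebra
  haveI : IsScalarTower C (C ⧸ I) (C ⧸ J) := IsScalarTower.of_algebraMap_eq fun _ => rfl
  exact Module.Flat.of_linearEquiv
    (AlgebraTensorModule.cancelBaseChange C (C ⧸ I) (C ⧸ J) (C ⧸ J) X).symm

end BaseChange

section Descent

variable {C : Type u} [CommRing C] [IsLocalRing C] {X : Type u} [AddCommGroup X] [Module C X]

/-- Flatness modulo an open ideal is detected by a finite jointly injective family. -/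
theorem flat_quotient_of_family {I : Ideal C} {k : ℕ} (hk : maximalIdeal C ^ k ≤ I)
    (hI : I ≤ maximalIdeal C)
    {ι : Type w} [Finite ι] (D : ι → Type u) [∀ i, CommRing (D i)] [∀ i, Algebra C (D i)]
    (hker : ∀ c : C, c ∈ I ↔ ∀ i, algebraMap C (D i) c = 0)
    [∀ i, Module.Flat (D i) (D i ⊗[C] X)] : Module.Flat (C ⧸ I) ((C ⧸ I) ⊗[C] X) := by
  letI alg : ∀ i, Algebra (C ⧸ I) (D i) := fun i =>
    (Ideal.Quotient.lift I (algebraMap C (D i)) fun c hc => (hker c).mp hc i).toAlgebra
  haveI : ∀ i, IsScalarTower C (C ⧸ I) (D i) := fun i =>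
    IsScalarTower.of_algebraMap_eq fun _ => rfl
  let I' : Ideal (C ⧸ I) := (maximalIdeal C).map (Ideal.Quotient.mk I)
  have hnil : IsNilpotent I' := ⟨k, by
    rw [Ideal.zero_eq_bot, ← Ideal.map_pow, eq_bot_iff, Ideal.map_le_iff_le_comap,
      ← RingHom.ker_eq_comap_bot, Ideal.mk_ker]
    exact hk⟩
  haveI : I'.IsMaximal := by
    refine Ideal.IsMaximal.map_of_surjective_of_ker_le Ideal.Quotient.mk_surjective ?_
    rwa [Ideal.mk_ker]
  letI : Field ((C ⧸ I) ⧸ I') := Ideal.Quotient.field I'
  haveI : ∀ i, Module.Flat (D i) (D i ⊗[C ⧸ I] ((C ⧸ I) ⊗[C] X)) := fun i =>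
    Module.Flat.of_linearEquiv (AlgebraTensorModule.cancelBaseChange C (C ⧸ I) (D i) (D i) X)
  exact Groth.EGA43Flat.flat_of_flat_quotient_of_finite_family hnil D fun a ha => by
    obtain ⟨c, rfl⟩ := Ideal.Quotient.mk_surjective a
    rw [Ideal.Quotient.eq_zero_iff_mem, hker]
    exact ha

/-- Flatness modulo an open ideal which is the kernel of an algebra with flat base change. -/
theorem flat_quotient_of_single {I : Ideal C} {k : ℕ} (hk : maximalIdeal C ^ k ≤ I)
    (hI : I ≤ maximalIdeal C) (D : Type u) [CommRing D] [Algebra C D]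
    (hker : ∀ c : C, c ∈ I ↔ algebraMap C D c = 0) [Module.Flat D (D ⊗[C] X)] :
    Module.Flat (C ⧸ I) ((C ⧸ I) ⊗[C] X) :=
  flat_quotient_of_family hk hI (fun _ : Unit => D) fun c =>
    (hker c).trans ⟨fun h _ => h, fun h => h ()⟩

end Descent

section Complete

variable {C : Type u} [CommRing C] [IsLocalRing C] [IsNoetherianRing C]
  [IsAdicComplete (maximalIdeal C) C]

/-- Chevalley's lemma for a directed family of open ideals. -/
theorem exists_mem_le_sup_pow (F : Set (Ideal C)) (hne : F.Nonempty)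
    (hdir : DirectedOn (fun a b : Ideal C => b ≤ a) F)
    (hop : ∀ I ∈ F, ∃ j, maximalIdeal C ^ j ≤ I) (k : ℕ) :
    ∃ I ∈ F, I ≤ sInf F ⊔ maximalIdeal C ^ k := by
  set m := maximalIdeal C with hm
  have key : ∀ l : ℕ, ∃ I ∈ F, ∀ J ∈ F, I ⊔ m ^ l ≤ J ⊔ m ^ l := by
    intro l
    haveI : IsArtinian C (C ⧸ m ^ l) :=
      (isFiniteLength_iff_isNoetherian_isArtinian.1 (GrothMatlis.isFiniteLength_quotient_pow l)).2
    let img : Set (Submodule C (C ⧸ m ^ l)) := (fun I => Submodule.map (m ^ l).mkQ I) '' F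
    obtain ⟨_, ⟨I, hI, rfl⟩, hmin⟩ := IsArtinian.set_has_minimal img (hne.image _)
    refine ⟨I, hI, fun J hJ => ?_⟩
    obtain ⟨K, hK, hKI, hKJ⟩ := hdir I hI J hJ
    have h1 : Submodule.map (m ^ l).mkQ K = Submodule.map (m ^ l).mkQ I :=
      eq_of_le_of_not_lt (Submodule.map_mono hKI) (hmin _ ⟨K, hK, rfl⟩)
    have h2 : K ⊔ m ^ l = I ⊔ m ^ l := by
      have := congrArg (Submodule.comap (m ^ l).mkQ) h1
      rw [Submodule.comap_map_mkQ, Submodule.comap_map_mkQ] at this
      rw [sup_comm, this, sup_comm]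
    rw [← h2]
    exact sup_le_sup_right hKJ _
  choose I hI hmin using key
  refine ⟨I k, hI k, fun x hx => ?_⟩
  have step : ∀ l, ∀ y ∈ I l ⊔ m ^ l, ∃ z ∈ I (l + 1) ⊔ m ^ (l + 1), z - y ∈ m ^ l := by
    intro l y hy
    obtain ⟨f, hf, e, he, rfl⟩ := Submodule.mem_sup.1 (hmin l _ (hI (l + 1)) hy)
    exact ⟨f, Submodule.mem_sup_left hf, by simpa using neg_mem he⟩
  choose next hnext hdiff using step
  let s : ∀ j, ↥(I (k + j) ⊔ m ^ (k + j)) := fun j => Nat.rec ⟨x, Submodule.mem_sup_left hx⟩
    (fun j y => ⟨next (k + j) y.1 y.2, hnext _ _ y.2⟩) j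
  have hs : ∀ j, (s (j + 1)).1 - (s j).1 ∈ m ^ (k + j) := fun j => hdiff (k + j) (s j).1 (s j).2
  have hcau : ∀ a b, a ≤ b → (s b).1 - (s a).1 ∈ m ^ (k + a) := by
    intro a b hab
    induction b, hab using Nat.le_induction with
    | base => simp
    | succ b hab ih =>
      rw [← sub_add_sub_cancel (s (b + 1)).1 (s b).1 (s a).1]
      exact add_mem (Ideal.pow_le_pow_right (by omega) (hs b)) ih
  obtain ⟨y, hy⟩ := IsPrecomplete.prec (inferInstance : IsPrecomplete m C)
    (f := fun j => (s j).1) (fun {a b} hab => by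
      rw [SModEq.sub_mem, smul_eq_mul, Ideal.mul_top, ← neg_mem_iff, neg_sub]
      exact Ideal.pow_le_pow_right (by omega) (hcau a b hab))
  have hy' : ∀ j, (s j).1 - y ∈ m ^ j := fun j => by
    have := hy j
    rwa [SModEq.sub_mem, smul_eq_mul, Ideal.mul_top] at this
  have hyN : y ∈ sInf F := by
    rw [Submodule.mem_sInf]
    intro J hJ
    obtain ⟨j, hj⟩ := hop J hJ
    have h2 : (s j).1 ∈ J ⊔ m ^ (k + j) := hmin (k + j) J hJ (s j).2
    rw [sup_eq_left.mpr ((Ideal.pow_le_pow_right (by omega)).trans hj)] at h2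
    rw [show y = (s j).1 - ((s j).1 - y) by ring]
    exact sub_mem h2 (hj (hy' j))
  have h3 : y - x ∈ m ^ k := by
    have h4 : (s k).1 - x ∈ m ^ k := hcau 0 k (Nat.zero_le k)
    rw [show y - x = ((s k).1 - x) - ((s k).1 - y) by ring]
    exact sub_mem h4 (hy' k)
  rw [show x = y - (y - x) by ring]
  exact sub_mem (Submodule.mem_sup_left hyN) (Submodule.mem_sup_right h3)

variable {X : Type u} [AddCommGroup X] [Module C X]

/-- Some open ideal with flat quotient is contained in the nilradical plus a power of the maximal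
ideal. -/
theorem flat_quotient_nilradical_sup_pow
    (h : ∀ (R : Type u) [CommRing R] [IsDomain R] [IsDiscreteValuationRing R] [Algebra C R]
      [IsLocalHom (algebraMap C R)], Module.Flat R (R ⊗[C] X)) (k : ℕ) :
    Module.Flat (C ⧸ (nilradical C ⊔ maximalIdeal C ^ k))
      ((C ⧸ (nilradical C ⊔ maximalIdeal C ^ k)) ⊗[C] X) := by
  classical
  let m := maximalIdeal C
  let F : Set (Ideal C) :=
    {I | I ≤ m ∧ (∃ j, m ^ j ≤ I) ∧ Module.Flat (C ⧸ I) ((C ⧸ I) ⊗[C] X)}
  have hne : F.Nonempty :=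
    ⟨m, le_rfl, ⟨1, (pow_one m).le⟩, by letI := Ideal.Quotient.field m; infer_instance⟩
  have hdir : DirectedOn (fun a b : Ideal C => b ≤ a) F := by
    rintro I ⟨hI, ⟨a, ha⟩, hfI⟩ J ⟨hJ, ⟨b, hb⟩, hfJ⟩
    refine ⟨I ⊓ J, ⟨inf_le_left.trans hI, ⟨max a b, le_inf
      ((Ideal.pow_le_pow_right (le_max_left a b)).trans ha)
      ((Ideal.pow_le_pow_right (le_max_right a b)).trans hb)⟩, ?_⟩, inf_le_left, inf_le_right⟩
    let D : Bool → Type u := fun t => C ⧸ (bif t then I else J)
    haveI : ∀ t, Module.Flat (D t) (D t ⊗[C] X) := fun t => by cases t <;> assumption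
    refine flat_quotient_of_family (k := max a b) (le_inf
      ((Ideal.pow_le_pow_right (le_max_left a b)).trans ha)
      ((Ideal.pow_le_pow_right (le_max_right a b)).trans hb)) (inf_le_left.trans hI) D fun c => ?_
    constructor
    · rintro ⟨h1, h2⟩ (_ | _)
      · exact Ideal.Quotient.eq_zero_iff_mem.mpr h2
      · exact Ideal.Quotient.eq_zero_iff_mem.mpr h1
    · intro hc
      exact ⟨Ideal.Quotient.eq_zero_iff_mem.mp (hc true), Ideal.Quotient.eq_zero_iff_mem.mp (hc false)⟩
  have hN : sInf F ≤ nilradical C := by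
    intro x hx
    rw [nilradical_eq_sInf, Submodule.mem_sInf]
    intro P hP
    haveI : Ideal.IsPrime P := hP
    by_contra hxP
    haveI : IsLocalRing (C ⧸ P) := .of_surjective' _ Ideal.Quotient.mk_surjective
    obtain ⟨R, _, _, _, φ, hinj, hloc⟩ : ∃ (R : Type u) (_ : CommRing R) (_ : IsDomain R)
        (_ : IsDiscreteValuationRing R) (φ : C ⧸ P →+* R), Function.Injective φ ∧ IsLocalHom φ := by
      by_cases hfld : IsField (C ⧸ P)
      · letI := hfld.toField
        exact ⟨PowerSeries (C ⧸ P), inferInstance, inferInstance, inferInstance, PowerSeries.C,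
          RingHom.injective _, ⟨fun a ha => by
            have := ha.map (PowerSeries.constantCoeff (R := C ⧸ P))
            rwa [PowerSeries.constantCoeff_C] at this⟩⟩
      · exact Groth.EGA43Val.exists_dvr_dominating (C ⧸ P) hfld
    letI : Algebra C R := (φ.comp (Ideal.Quotient.mk P)).toAlgebra
    haveI := hloc
    haveI : IsLocalHom (Ideal.Quotient.mk P) := .of_surjective _ Ideal.Quotient.mk_surjective
    haveI : IsLocalHom (algebraMap C R) :=
      inferInstanceAs (IsLocalHom (φ.comp (Ideal.Quotient.mk P)))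
    haveI := h R
    have hx0 : algebraMap C R x ≠ 0 := fun e =>
      hxP (Ideal.Quotient.eq_zero_iff_mem.mp (hinj (e.trans (map_zero φ).symm)))
    obtain ⟨j, hj⟩ : ∃ j, algebraMap C R x ∉ maximalIdeal R ^ j := by
      by_contra hall
      push Not at hall
      have h0 : algebraMap C R x ∈ ⨅ j, maximalIdeal R ^ j := Ideal.mem_iInf.mpr hall
      rw [Ideal.iInf_pow_eq_bot_of_isLocalRing _ (maximalIdeal.isMaximal R).ne_top] at h0
      exact hx0 h0
    let I : Ideal C := (maximalIdeal R ^ (j + 1)).comap (algebraMap C R)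
    have hIm : I ≤ m := fun c hc =>
      (IsLocalRing.maximalIdeal_comap (algebraMap C R)).le
        (Ideal.comap_mono (Ideal.pow_le_self j.succ_ne_zero) hc)
    have hmI : m ^ (j + 1) ≤ I := by
      rw [← Ideal.map_le_iff_le_comap, Ideal.map_pow]
      exact Ideal.pow_right_mono (Ideal.map_le_iff_le_comap.mpr
        (IsLocalRing.maximalIdeal_comap (algebraMap C R)).ge) _
    have hIF : I ∈ F := by
      refine ⟨hIm, ⟨j + 1, hmI⟩, ?_⟩
      haveI : Module.Flat (R ⧸ maximalIdeal R ^ (j + 1)) ((R ⧸ maximalIdeal R ^ (j + 1)) ⊗[C] X) :=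
        Module.Flat.of_linearEquiv (AlgebraTensorModule.cancelBaseChange C R
          (R ⧸ maximalIdeal R ^ (j + 1)) (R ⧸ maximalIdeal R ^ (j + 1)) X).symm
      exact flat_quotient_of_single hmI hIm (R ⧸ maximalIdeal R ^ (j + 1))
        fun c => (Ideal.Quotient.eq_zero_iff_mem (I := maximalIdeal R ^ (j + 1))).symm
    exact hj (Ideal.pow_le_pow_right j.le_succ (Submodule.mem_sInf.mp hx I hIF))
  obtain ⟨I, ⟨-, -, hfl⟩, hI⟩ := exists_mem_le_sup_pow F hne hdir (fun I hI => hI.2.1) k
  exact flat_quotient_of_le (hI.trans (sup_le_sup_right hN _))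

/-- The valuative criterion over a complete Noetherian local ring. -/
theorem flat_localizedModule_of_dvr {S : Type u} [CommRing S] [IsNoetherianRing S] [Algebra C S]
    [Module S X] [IsScalarTower C S X] [Module.Finite S X]
    (h : ∀ (R : Type u) [CommRing R] [IsDomain R] [IsDiscreteValuationRing R] [Algebra C R]
      [IsLocalHom (algebraMap C R)], Module.Flat R (R ⊗[C] X))
    {ι : Type w} [Finite ι] (D : ι → Type u) [∀ i, CommRing (D i)] [∀ i, Algebra C (D i)]
    (hD : ∀ c : C, (∀ i, algebraMap C (D i) c = 0) → c = 0)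
    [∀ i, Module.Flat (D i) (D i ⊗[C] X)]
    (q : Ideal S) [q.IsPrime] (hq : (maximalIdeal C).map (algebraMap C S) ≤ q) :
    Module.Flat C (LocalizedModule q.primeCompl X) := by
  let T := Localization.AtPrime q
  let Y := LocalizedModule q.primeCompl X
  let N := nilradical C
  haveI : ∀ i, Module.Flat (D i) (D i ⊗[C] Y) := fun i =>
    flat_baseChange_localizedModule q.primeCompl (D i)
  let J : Ideal T := N.map (algebraMap C T)
  let Z := Y ⧸ (J • ⊤ : Submodule T Y)
  letI : Algebra (C ⧸ N) (T ⧸ J) :=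
    (Ideal.quotientMap J (algebraMap C T) Ideal.le_comap_map).toAlgebra
  haveI : IsScalarTower C (C ⧸ N) (T ⧸ J) := IsScalarTower.of_algebraMap_eq fun _ => rfl
  letI : Module (C ⧸ N) Z := Module.compHom Z (algebraMap (C ⧸ N) (T ⧸ J))
  haveI : IsScalarTower (C ⧸ N) (T ⧸ J) Z := IsScalarTower.of_algebraMap_smul fun _ _ => rfl
  haveI : IsScalarTower C (C ⧸ N) Z := IsScalarTower.of_algebraMap_smul fun c z => by
    show (Ideal.Quotient.mk J (algebraMap C T c)) • z = c • z
    obtain ⟨y, rfl⟩ := Submodule.Quotient.mk_surjective _ z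
    exact congrArg Submodule.Quotient.mk (algebraMap_smul T c y)
  let e : (C ⧸ N) ⊗[C] Y ≃ₗ[C] Z :=
    (TensorProduct.quotTensorEquivQuotSMul Y N).trans
      ((Submodule.quotEquivOfEq _ ((J • ⊤ : Submodule T Y).restrictScalars C)
        (by rw [Ideal.smul_restrictScalars, Submodule.restrictScalars_top])).trans
        (Submodule.Quotient.restrictScalarsEquiv C (J • ⊤ : Submodule T Y)))
  let e' : (C ⧸ N) ⊗[C] Y ≃ₗ[C ⧸ N] Z :=
    e.extendScalarsOfSurjective Ideal.Quotient.mk_surjective
  haveI : Module.Finite (T ⧸ J) Z := Module.Finite.of_restrictScalars_finite T (T ⧸ J) Z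
  haveI : Module.Flat (C ⧸ N) Z := by
    refine flat_of_forall_flat_mod_pow (S := T ⧸ J)
      ((maximalIdeal C).map (Ideal.Quotient.mk N)) ?_ fun k _ K _ => ?_
    · haveI : Nontrivial (T ⧸ J) := Ideal.Quotient.nontrivial_iff.mpr (fun hJ => by
        have : J ≤ maximalIdeal T := by
          refine (Ideal.map_mono ?_).trans (map_le_maximalIdeal_of_le q hq)
          exact le_maximalIdeal (by simp [N, nilradical, Ideal.radical_eq_top])
        exact (maximalIdeal.isMaximal T).ne_top (top_unique (hJ ▸ this)))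
      haveI : IsLocalRing (T ⧸ J) := .of_surjective' _ Ideal.Quotient.mk_surjective
      haveI : IsLocalHom (Ideal.Quotient.mk J) := .of_surjective _ Ideal.Quotient.mk_surjective
      rw [IsLocalRing.jacobson_eq_maximalIdeal _ bot_ne_top, Ideal.map_map, RingHom.algebraMap_toAlgebra,
        Ideal.quotientMap_comp_mk, ← Ideal.map_map, Ideal.map_le_iff_le_comap,
        IsLocalRing.maximalIdeal_comap]
      exact map_le_maximalIdeal_of_le q hq
    · haveI : Module.Flat (C ⧸ (N ⊔ maximalIdeal C ^ k))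
          ((C ⧸ (N ⊔ maximalIdeal C ^ k)) ⊗[C] X) := flat_quotient_nilradical_sup_pow h k
      haveI : Module.Flat ((C ⧸ N) ⧸ (maximalIdeal C).map (Ideal.Quotient.mk N) ^ k)
          (((C ⧸ N) ⧸ (maximalIdeal C).map (Ideal.Quotient.mk N) ^ k) ⊗[C ⧸ N] Z) := by
        haveI : Module.Flat (C ⧸ (N ⊔ maximalIdeal C ^ k))
            ((C ⧸ (N ⊔ maximalIdeal C ^ k)) ⊗[C] Y) :=
          flat_baseChange_localizedModule q.primeCompl _
        have hflat := Groth.EGA43Flat.flat_quotient_quotient (M := Y) (N ⊔ maximalIdeal C ^ k) N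
          inferInstance
        have hmap : (N ⊔ maximalIdeal C ^ k).map (Ideal.Quotient.mk N) =
            (maximalIdeal C).map (Ideal.Quotient.mk N) ^ k := by
          rw [Ideal.map_sup, Ideal.map_quotient_self, bot_sup_eq, Ideal.map_pow]
        rw [hmap] at hflat
        exact Module.Flat.of_linearEquiv (TensorProduct.AlgebraTensorModule.congr
          (LinearEquiv.refl _ _) e').symm
      exact injective_lTensor_of_flat_quotient _ K
  haveI : Module.Flat (C ⧸ N) ((C ⧸ N) ⊗[C] Y) := Module.Flat.of_linearEquiv e'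
  exact Groth.EGA43Flat.flat_of_flat_quotient_of_finite_family
    ((IsNoetherianRing.isNilpotent_nilradical C)) D hD
where
  map_le_maximalIdeal_of_le {C S : Type u} [CommRing C] [CommRing S] [Algebra C S] {I : Ideal C}
      (q : Ideal S) [q.IsPrime] (hq : I.map (algebraMap C S) ≤ q) :
      I.map (algebraMap C (Localization.AtPrime q)) ≤ maximalIdeal (Localization.AtPrime q) := by
    rw [IsScalarTower.algebraMap_eq C S (Localization.AtPrime q), ← Ideal.map_map]
    refine (Ideal.map_mono hq).trans ?_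
    rw [Localization.AtPrime.map_eq_maximalIdeal]

end Complete

end Groth.Flatmor4
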