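import Mathlib
import Groth.Agent.FlatMor2.WeaklyEtaleStalk
import Groth.Agent.Ega4Algebra1.FlatDescent
import Groth.Agent.Hensel1.EtaleTransfer
import Groth.Agent.S0427
import Groth.Agent.S2748
import Groth.Agent.S0754

/-!
A local ring weakly étale over a normal local domain is a normal domain.
-/

set_option autoImplicit false
set_option linter.style.haveILetI false

universe u

open IsLocalRing TensorProduct

namespace Groth.Flatmor4

theorem isNormal_of_weaklyEtale (A B : Type u) [CommRing A] [IsLocalRing A] [IsDomain A] [IsIntegrallyClosed A]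
    [CommRing B] [IsLocalRing B] [Algebra A B] [IsLocalHom (algebraMap A B)] [Algebra.WeaklyEtale A B] :
    IsDomain B ∧ IsIntegrallyClosed B := by
  obtain ⟨T, _, _, _, _, hT⟩ := Groth.Hensel1.exists_isStrictHenselization A
  obtain ⟨hdT, hiT⟩ := (Groth.Agent.S2748.result A T).mpr ⟨inferInstance, inferInstance⟩
  haveI := hdT
  haveI := hiT
  haveI : HenselianLocalRing T := hT.henselian
  haveI : IsSepClosed (ResidueField T) := hT.isSepClosure.sep_closed
  haveI : Module.Flat A T := (Groth.Hensel1.hensModel_of_isStrictHenselization (R := A) (S := T)).some.flat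
  let s : T ⊗[A] B →ₐ[A] (ResidueField T ⊗[ResidueField A] ResidueField B) := Algebra.TensorProduct.lift
    (((Algebra.TensorProduct.includeLeft (R := ResidueField A) (S := ResidueField A) (A := ResidueField T)
      (B := ResidueField B)).restrictScalars A).comp (IsScalarTower.toAlgHom A T (ResidueField T)))
    (((Algebra.TensorProduct.includeRight (R := ResidueField A) (A := ResidueField T)
      (B := ResidueField B)).restrictScalars A).comp (IsScalarTower.toAlgHom A B (ResidueField B)))
    (fun _ _ => Commute.all _ _)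
  obtain ⟨⟨P, hP⟩⟩ := (inferInstance : Nonempty (PrimeSpectrum (ResidueField T ⊗[ResidueField A] ResidueField B)))
  let Q : Ideal (T ⊗[A] B) := P.comap s.toRingHom
  haveI : Q.IsPrime := Ideal.comap_isPrime _ _
  let C := Localization.AtPrime Q
  have hmT : ∀ t ∈ maximalIdeal T, t ⊗ₜ[A] (1 : B) ∈ Q := fun t ht => by
    show s (t ⊗ₜ 1) ∈ P
    rw [Algebra.TensorProduct.lift_tmul, map_one, mul_one]
    show residue T t ⊗ₜ[ResidueField A] (1 : ResidueField B) ∈ P
    rw [(residue_eq_zero_iff t).2 ht, TensorProduct.zero_tmul]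
    exact zero_mem _
  have hmB : ∀ b ∈ maximalIdeal B, (1 : T) ⊗ₜ[A] b ∈ Q := fun b hb => by
    show s (1 ⊗ₜ b) ∈ P
    rw [Algebra.TensorProduct.lift_tmul, map_one, one_mul]
    show (1 : ResidueField T) ⊗ₜ[ResidueField A] residue B b ∈ P
    rw [(residue_eq_zero_iff b).2 hb, TensorProduct.tmul_zero]
    exact zero_mem _
  haveI : Algebra.WeaklyEtale (T ⊗[A] B) C := Groth.FlatMor2.weaklyEtale_localization Q.primeCompl
  haveI : Algebra.WeaklyEtale T C := Algebra.WeaklyEtale.trans T (T ⊗[A] B) C
  haveI : IsLocalHom (algebraMap T C) := by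
    refine ⟨fun t ht => by_contra fun htu => ?_⟩
    rw [IsScalarTower.algebraMap_apply T (T ⊗[A] B) C] at ht
    exact (IsLocalization.AtPrime.isUnit_to_map_iff C Q _).1 ht (hmT t htu)
  have hbij := Groth.Agent.S0427.result (A := T) (B := C)
  let e : T ≃+* C := RingEquiv.ofBijective (algebraMap T C) hbij
  haveI : IsDomain C := e.symm.toMulEquiv.isDomain
  haveI : IsIntegrallyClosed C := IsIntegrallyClosed.of_equiv e
  let : Algebra B C := ((algebraMap (T ⊗[A] B) C).comp
    (Algebra.TensorProduct.includeRight (R := A) (A := T) (B := B)).toRingHom).toAlgebra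
  haveI : Module.Flat B C := by
    rw [← RingHom.flat_algebraMap_iff]
    refine RingHom.Flat.comp ?_ (RingHom.flat_algebraMap_iff.mpr (IsLocalization.flat C Q.primeCompl))
    have h : Module.Flat B (B ⊗[A] T) := inferInstance
    rw [← RingHom.flat_algebraMap_iff] at h
    exact h.comp (RingHom.Flat.of_bijective (Algebra.TensorProduct.comm A B T).bijective)
  haveI : IsLocalHom (algebraMap B C) := by
    refine ⟨fun b hb => by_contra fun hbu => ?_⟩
    exact (IsLocalization.AtPrime.isUnit_to_map_iff C Q _).1 hb (hmB b hbu)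
  haveI : Module.FaithfullyFlat B C := Module.FaithfullyFlat.of_flat_of_isLocalHom
  exact ⟨Groth.Ega4Algebra1.isDomain_of_faithfullyFlat B C,
    Groth.Ega4Algebra1.isIntegrallyClosed_of_faithfullyFlat B C⟩

end Groth.Flatmor4
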